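import Mathlib.Data.Nat.Notation
import Mathlib.Data.Int.Notation

/-!
Seven automorphisms of the Leech lattice for the generators of the Suzuki group, the word of the central element
and two commutators.
-/

set_option autoImplicit false
set_option maxRecDepth 100000

namespace Cfsg.Agent.Lie.SuzukiMult

/-- a generator -/
def genMat0 : List (List (ℕ × ℤ)) × List (List (ℕ × ℤ)) :=
  ([[(0, 4), (1, 2), (1, 4), (2, (-2)), (5, 2), (0, (-2)), (2, 2), (1, (-2)), (2, (-2)), (0, 2)],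
      [(1, 4), (0, (-2)), (4, (-2)), (5, (-2)), (0, (-2)), (1, (-4)), (0, 2), (1, (-2)), (2, 2), (0, (-2))],
      [(0, 2), (0, (-2)), (1, 2), (0, (-2)), (0, (-2)), (0, 2), (1, 2), (0, (-2)), (0, 2), (0, 2), (0, (-2)), (2, 2), (0, (-2)), (1, (-2)), (1, (-2)), (0, 2)],
      [(2, 2), (0, 4), (2, (-4)), (0, 2), (5, 2), (0, 2), (2, 2), (1, (-2)), (2, 2), (0, (-2))],
      [(0, 4), (1, (-2)), (1, 4), (2, 2), (5, (-2)), (0, 2), (2, (-2)), (1, 2), (2, 2), (0, (-2))],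
      [(2, (-2)), (2, 4), (1, 2), (5, (-2)), (0, 2), (2, 2), (1, (-2)), (1, 4), (0, (-2)), (0, 2)],
      [(2, 2), (0, (-4)), (2, 4), (0, 2), (5, 2), (0, 2), (2, 2), (1, (-2)), (2, 2), (0, (-2))],
      [(0, (-2)), (0, (-2)), (1, 2), (0, 2), (0, 2), (0, 2), (1, (-2)), (0, (-2)), (0, 2), (0, (-2)), (0, (-2)), (2, 2), (0, (-2)), (1, 2), (1, 2), (0, (-2))],
      [(2, 2), (4, (-2)), (0, 4), (2, (-4)), (1, (-2)), (0, 2), (2, (-2)), (1, (-2)), (2, (-2)), (0, (-2))],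
      [(2, (-2)), (4, (-2)), (1, 4), (0, 4), (2, 2), (0, 2), (2, (-2)), (1, (-2)), (2, 2), (0, 2)],
      [(2, 2), (4, 2), (1, 4), (0, 4), (2, (-2)), (0, (-2)), (2, 2), (1, 2), (2, (-2)), (0, (-2))],
      [(2, 2), (4, (-2)), (0, (-4)), (2, 4), (1, (-2)), (0, 2), (2, (-2)), (1, (-2)), (2, (-2)), (0, (-2))],
      [(2, (-2)), (4, (-2)), (4, 4), (0, 2), (0, 2), (0, 4), (1, 2), (1, 2), (2, (-2)), (0, (-2))],
      [(0, 2), (0, (-2)), (1, 2), (0, (-2)), (0, (-2)), (0, 2), (1, (-2)), (0, 2), (0, (-2)), (0, (-2)), (0, 2), (2, (-2)), (0, (-2)), (1, 2), (1, 2), (0, 2)],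
      [(0, (-2)), (0, (-2)), (1, 2), (0, 2), (0, 2), (0, 2), (1, 2), (0, 2), (0, (-2)), (0, 2), (0, 2), (2, (-2)), (0, (-2)), (1, (-2)), (1, (-2)), (0, (-2))],
      [(2, 2), (4, 2), (4, 4), (0, (-2)), (0, (-2)), (0, 4), (1, (-2)), (1, (-2)), (2, 2), (0, 2)],
      [(1, (-4)), (0, (-2)), (4, (-2)), (5, (-2)), (0, (-2)), (1, 4), (0, 2), (1, (-2)), (2, 2), (0, (-2))],
      [(0, 2), (0, 2), (1, 2), (0, (-2)), (0, 2), (0, 2), (1, (-2)), (0, (-2)), (0, 2), (0, (-2)), (0, 2), (2, (-2)), (0, 2), (1, (-2)), (1, (-2)), (0, (-2))],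
      [(2, (-2)), (4, 2), (5, 2), (0, (-2)), (2, (-2)), (0, 4), (0, (-2)), (0, (-4)), (1, (-2)), (0, (-2))],
      [(0, (-2)), (0, (-2)), (1, (-2)), (0, 2), (0, (-2)), (0, (-2)), (1, (-2)), (0, (-2)), (0, 2), (0, (-2)), (0, 2), (2, (-2)), (0, (-2)), (1, (-2)), (1, (-2)), (0, 2)],
      [(2, (-2)), (4, 2), (5, 2), (0, (-2)), (2, (-2)), (0, (-4)), (0, (-2)), (0, 4), (1, (-2)), (0, (-2))],
      [(2, 2), (2, 4), (1, (-2)), (5, 2), (0, (-2)), (2, (-2)), (1, 2), (1, 4), (0, 2), (0, (-2))],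
      [(0, (-2)), (0, 2), (1, 2), (0, 2), (0, (-2)), (0, 2), (1, (-2)), (0, 2), (0, (-2)), (0, (-2)), (0, (-2)), (2, 2), (0, 2), (1, (-2)), (1, (-2)), (0, 2)],
      [(0, 2), (0, (-2)), (1, (-2)), (0, (-2)), (0, 2), (0, (-2)), (1, (-2)), (0, 2), (0, (-2)), (0, (-2)), (0, (-2)), (2, 2), (0, (-2)), (1, (-2)), (1, (-2)), (0, (-2))]],
     [[(0, 4), (1, 2), (1, 4), (2, (-2)), (5, 2), (0, (-2)), (2, 2), (1, (-2)), (2, (-2)), (0, 2)],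
      [(1, 4), (0, (-2)), (4, (-2)), (5, (-2)), (0, (-2)), (1, (-4)), (0, 2), (1, (-2)), (2, 2), (0, (-2))],
      [(0, 2), (0, (-2)), (1, 2), (0, (-2)), (0, (-2)), (0, 2), (1, 2), (0, (-2)), (0, 2), (0, 2), (0, (-2)), (2, 2), (0, (-2)), (1, (-2)), (1, (-2)), (0, 2)],
      [(2, 2), (0, 4), (2, (-4)), (0, 2), (5, 2), (0, 2), (2, 2), (1, (-2)), (2, 2), (0, (-2))],
      [(0, 4), (1, (-2)), (1, 4), (2, 2), (5, (-2)), (0, 2), (2, (-2)), (1, 2), (2, 2), (0, (-2))],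
      [(2, (-2)), (2, 4), (1, 2), (5, (-2)), (0, 2), (2, 2), (1, (-2)), (1, 4), (0, (-2)), (0, 2)],
      [(2, 2), (0, (-4)), (2, 4), (0, 2), (5, 2), (0, 2), (2, 2), (1, (-2)), (2, 2), (0, (-2))],
      [(0, (-2)), (0, (-2)), (1, 2), (0, 2), (0, 2), (0, 2), (1, (-2)), (0, (-2)), (0, 2), (0, (-2)), (0, (-2)), (2, 2), (0, (-2)), (1, 2), (1, 2), (0, (-2))],
      [(2, 2), (4, (-2)), (0, 4), (2, (-4)), (1, (-2)), (0, 2), (2, (-2)), (1, (-2)), (2, (-2)), (0, (-2))],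
      [(2, (-2)), (4, (-2)), (1, 4), (0, 4), (2, 2), (0, 2), (2, (-2)), (1, (-2)), (2, 2), (0, 2)],
      [(2, 2), (4, 2), (1, 4), (0, 4), (2, (-2)), (0, (-2)), (2, 2), (1, 2), (2, (-2)), (0, (-2))],
      [(2, 2), (4, (-2)), (0, (-4)), (2, 4), (1, (-2)), (0, 2), (2, (-2)), (1, (-2)), (2, (-2)), (0, (-2))],
      [(2, (-2)), (4, (-2)), (4, 4), (0, 2), (0, 2), (0, 4), (1, 2), (1, 2), (2, (-2)), (0, (-2))],
      [(0, 2), (0, (-2)), (1, 2), (0, (-2)), (0, (-2)), (0, 2), (1, (-2)), (0, 2), (0, (-2)), (0, (-2)), (0, 2), (2, (-2)), (0, (-2)), (1, 2), (1, 2), (0, 2)],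
      [(0, (-2)), (0, (-2)), (1, 2), (0, 2), (0, 2), (0, 2), (1, 2), (0, 2), (0, (-2)), (0, 2), (0, 2), (2, (-2)), (0, (-2)), (1, (-2)), (1, (-2)), (0, (-2))],
      [(2, 2), (4, 2), (4, 4), (0, (-2)), (0, (-2)), (0, 4), (1, (-2)), (1, (-2)), (2, 2), (0, 2)],
      [(1, (-4)), (0, (-2)), (4, (-2)), (5, (-2)), (0, (-2)), (1, 4), (0, 2), (1, (-2)), (2, 2), (0, (-2))],
      [(0, 2), (0, 2), (1, 2), (0, (-2)), (0, 2), (0, 2), (1, (-2)), (0, (-2)), (0, 2), (0, (-2)), (0, 2), (2, (-2)), (0, 2), (1, (-2)), (1, (-2)), (0, (-2))],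
      [(2, (-2)), (4, 2), (5, 2), (0, (-2)), (2, (-2)), (0, 4), (0, (-2)), (0, (-4)), (1, (-2)), (0, (-2))],
      [(0, (-2)), (0, (-2)), (1, (-2)), (0, 2), (0, (-2)), (0, (-2)), (1, (-2)), (0, (-2)), (0, 2), (0, (-2)), (0, 2), (2, (-2)), (0, (-2)), (1, (-2)), (1, (-2)), (0, 2)],
      [(2, (-2)), (4, 2), (5, 2), (0, (-2)), (2, (-2)), (0, (-4)), (0, (-2)), (0, 4), (1, (-2)), (0, (-2))],
      [(2, 2), (2, 4), (1, (-2)), (5, 2), (0, (-2)), (2, (-2)), (1, 2), (1, 4), (0, 2), (0, (-2))],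
      [(0, (-2)), (0, 2), (1, 2), (0, 2), (0, (-2)), (0, 2), (1, (-2)), (0, 2), (0, (-2)), (0, (-2)), (0, (-2)), (2, 2), (0, 2), (1, (-2)), (1, (-2)), (0, 2)],
      [(0, 2), (0, (-2)), (1, (-2)), (0, (-2)), (0, 2), (0, (-2)), (1, (-2)), (0, 2), (0, (-2)), (0, (-2)), (0, (-2)), (2, 2), (0, (-2)), (1, (-2)), (1, (-2)), (0, (-2))]])

/-- a generator -/
def genMat1 : List (List (ℕ × ℤ)) × List (List (ℕ × ℤ)) :=
  ([[(1, (-2)), (2, 2), (0, 2), (0, 2), (0, 2), (0, (-2)), (0, (-2)), (1, 2), (0, 2), (0, (-2)), (0, (-2)), (0, (-2)), (0, 2), (0, (-2)), (2, 2), (0, (-2))],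
      [(0, (-2)), (0, 4), (0, (-2)), (0, (-2)), (6, (-2)), (7, 2), (0, (-2)), (1, (-4)), (0, 2), (0, (-2))],
      [(1, (-2)), (2, (-2)), (0, 2), (0, 2), (0, 2), (0, (-2)), (0, 2), (1, (-2)), (0, (-2)), (0, (-2)), (0, 2), (0, 2), (0, (-2)), (0, 2), (2, 2), (0, (-2))],
      [(1, (-2)), (2, (-2)), (0, (-2)), (0, (-2)), (0, (-2)), (0, 2), (0, (-2)), (1, (-2)), (0, 2), (0, (-2)), (0, 2), (0, (-2)), (0, (-2)), (0, (-2)), (2, 2), (0, (-2))],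
      [(0, 2), (1, (-2)), (0, (-2)), (0, 4), (5, 2), (3, 4), (3, (-2)), (0, (-2)), (2, 2), (0, 2)],
      [(0, 2), (1, 2), (0, (-2)), (1, 4), (2, 4), (1, 2), (7, 2), (0, (-2)), (2, (-2)), (0, (-2))],
      [(0, 2), (1, 2), (0, (-2)), (2, 4), (0, (-4)), (2, (-2)), (7, 2), (0, 2), (2, 2), (0, 2)],
      [(0, 2), (1, 2), (0, (-2)), (2, (-4)), (0, 4), (2, (-2)), (7, 2), (0, 2), (2, 2), (0, 2)],
      [(0, (-2)), (1, (-2)), (0, 2), (1, 4), (2, 4), (1, (-2)), (7, (-2)), (0, 2), (2, 2), (0, 2)],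
      [(0, (-2)), (1, 2), (0, (-2)), (5, 4), (0, (-2)), (6, (-4)), (0, (-2)), (0, (-2)), (2, (-2)), (0, 2)],
      [(1, (-2)), (2, 2), (0, 2), (0, (-2)), (0, (-2)), (0, (-2)), (0, (-2)), (1, (-2)), (0, (-2)), (0, 2), (0, (-2)), (0, 2), (0, (-2)), (0, (-2)), (2, (-2)), (0, (-2))],
      [(0, 2), (1, (-2)), (0, (-2)), (6, (-2)), (0, 4), (4, (-4)), (1, (-2)), (0, 2), (2, (-2)), (0, (-2))],
      [(0, 2), (1, (-2)), (0, 2), (6, (-2)), (1, 4), (2, 4), (2, 2), (0, (-2)), (2, (-2)), (0, 2)],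
      [(0, (-2)), (1, (-2)), (0, (-2)), (6, 2), (2, 4), (4, 2), (0, 2), (0, 4), (1, (-2)), (0, 2)],
      [(0, (-2)), (1, 2), (0, 2), (0, 4), (5, (-2)), (3, 4), (3, 2), (0, 2), (2, (-2)), (0, (-2))],
      [(0, (-2)), (1, 2), (0, (-2)), (6, 2), (1, 4), (2, 4), (2, (-2)), (0, 2), (2, 2), (0, (-2))],
      [(0, 2), (1, (-2)), (0, (-2)), (6, (-2)), (0, (-4)), (4, 4), (1, (-2)), (0, 2), (2, (-2)), (0, (-2))],
      [(0, (-2)), (1, 2), (0, (-2)), (5, (-4)), (0, (-2)), (6, 4), (0, (-2)), (0, (-2)), (2, (-2)), (0, 2)],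
      [(1, 2), (2, (-2)), (0, 2), (0, 2), (0, 2), (0, (-2)), (0, (-2)), (1, (-2)), (0, 2), (0, 2), (0, 2), (0, (-2)), (0, (-2)), (0, (-2)), (2, (-2)), (0, 2)],
      [(1, (-2)), (2, (-2)), (0, (-2)), (0, 2), (0, 2), (0, 2), (0, (-2)), (1, 2), (0, (-2)), (0, 2), (0, 2), (0, 2), (0, 2), (0, (-2)), (2, (-2)), (0, (-2))],
      [(0, 2), (1, 2), (0, 2), (6, (-2)), (2, 4), (4, (-2)), (0, (-2)), (0, 4), (1, 2), (0, (-2))],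
      [(0, (-2)), (0, (-4)), (0, (-2)), (0, (-2)), (6, (-2)), (7, 2), (0, (-2)), (1, 4), (0, 2), (0, (-2))],
      [(1, 2), (2, 2), (0, (-2)), (0, 2), (0, 2), (0, 2), (0, (-2)), (1, (-2)), (0, (-2)), (0, (-2)), (0, (-2)), (0, 2), (0, (-2)), (0, (-2)), (2, 2), (0, 2)],
      [(1, (-2)), (2, 2), (0, (-2)), (0, 2), (0, 2), (0, 2), (0, 2), (1, (-2)), (0, 2), (0, 2), (0, (-2)), (0, (-2)), (0, (-2)), (0, 2), (2, (-2)), (0, (-2))]],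
     [[(1, (-2)), (2, 2), (0, 2), (0, 2), (0, 2), (0, (-2)), (0, (-2)), (1, 2), (0, 2), (0, (-2)), (0, (-2)), (0, (-2)), (0, 2), (0, (-2)), (2, 2), (0, (-2))],
      [(0, (-2)), (0, 4), (0, (-2)), (0, (-2)), (6, (-2)), (7, 2), (0, (-2)), (1, (-4)), (0, 2), (0, (-2))],
      [(1, (-2)), (2, (-2)), (0, 2), (0, 2), (0, 2), (0, (-2)), (0, 2), (1, (-2)), (0, (-2)), (0, (-2)), (0, 2), (0, 2), (0, (-2)), (0, 2), (2, 2), (0, (-2))],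
      [(1, (-2)), (2, (-2)), (0, (-2)), (0, (-2)), (0, (-2)), (0, 2), (0, (-2)), (1, (-2)), (0, 2), (0, (-2)), (0, 2), (0, (-2)), (0, (-2)), (0, (-2)), (2, 2), (0, (-2))],
      [(0, 2), (1, (-2)), (0, (-2)), (0, 4), (5, 2), (3, 4), (3, (-2)), (0, (-2)), (2, 2), (0, 2)],
      [(0, 2), (1, 2), (0, (-2)), (1, 4), (2, 4), (1, 2), (7, 2), (0, (-2)), (2, (-2)), (0, (-2))],
      [(0, 2), (1, 2), (0, (-2)), (2, 4), (0, (-4)), (2, (-2)), (7, 2), (0, 2), (2, 2), (0, 2)],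
      [(0, 2), (1, 2), (0, (-2)), (2, (-4)), (0, 4), (2, (-2)), (7, 2), (0, 2), (2, 2), (0, 2)],
      [(0, (-2)), (1, (-2)), (0, 2), (1, 4), (2, 4), (1, (-2)), (7, (-2)), (0, 2), (2, 2), (0, 2)],
      [(0, (-2)), (1, 2), (0, (-2)), (5, 4), (0, (-2)), (6, (-4)), (0, (-2)), (0, (-2)), (2, (-2)), (0, 2)],
      [(1, (-2)), (2, 2), (0, 2), (0, (-2)), (0, (-2)), (0, (-2)), (0, (-2)), (1, (-2)), (0, (-2)), (0, 2), (0, (-2)), (0, 2), (0, (-2)), (0, (-2)), (2, (-2)), (0, (-2))],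
      [(0, 2), (1, (-2)), (0, (-2)), (6, (-2)), (0, 4), (4, (-4)), (1, (-2)), (0, 2), (2, (-2)), (0, (-2))],
      [(0, 2), (1, (-2)), (0, 2), (6, (-2)), (1, 4), (2, 4), (2, 2), (0, (-2)), (2, (-2)), (0, 2)],
      [(0, (-2)), (1, (-2)), (0, (-2)), (6, 2), (2, 4), (4, 2), (0, 2), (0, 4), (1, (-2)), (0, 2)],
      [(0, (-2)), (1, 2), (0, 2), (0, 4), (5, (-2)), (3, 4), (3, 2), (0, 2), (2, (-2)), (0, (-2))],
      [(0, (-2)), (1, 2), (0, (-2)), (6, 2), (1, 4), (2, 4), (2, (-2)), (0, 2), (2, 2), (0, (-2))],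
      [(0, 2), (1, (-2)), (0, (-2)), (6, (-2)), (0, (-4)), (4, 4), (1, (-2)), (0, 2), (2, (-2)), (0, (-2))],
      [(0, (-2)), (1, 2), (0, (-2)), (5, (-4)), (0, (-2)), (6, 4), (0, (-2)), (0, (-2)), (2, (-2)), (0, 2)],
      [(1, 2), (2, (-2)), (0, 2), (0, 2), (0, 2), (0, (-2)), (0, (-2)), (1, (-2)), (0, 2), (0, 2), (0, 2), (0, (-2)), (0, (-2)), (0, (-2)), (2, (-2)), (0, 2)],
      [(1, (-2)), (2, (-2)), (0, (-2)), (0, 2), (0, 2), (0, 2), (0, (-2)), (1, 2), (0, (-2)), (0, 2), (0, 2), (0, 2), (0, 2), (0, (-2)), (2, (-2)), (0, (-2))],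
      [(0, 2), (1, 2), (0, 2), (6, (-2)), (2, 4), (4, (-2)), (0, (-2)), (0, 4), (1, 2), (0, (-2))],
      [(0, (-2)), (0, (-4)), (0, (-2)), (0, (-2)), (6, (-2)), (7, 2), (0, (-2)), (1, 4), (0, 2), (0, (-2))],
      [(1, 2), (2, 2), (0, (-2)), (0, 2), (0, 2), (0, 2), (0, (-2)), (1, (-2)), (0, (-2)), (0, (-2)), (0, (-2)), (0, 2), (0, (-2)), (0, (-2)), (2, 2), (0, 2)],
      [(1, (-2)), (2, 2), (0, (-2)), (0, 2), (0, 2), (0, 2), (0, 2), (1, (-2)), (0, 2), (0, 2), (0, (-2)), (0, (-2)), (0, (-2)), (0, 2), (2, (-2)), (0, (-2))]])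

/-- a generator -/
def genMat2 : List (List (ℕ × ℤ)) × List (List (ℕ × ℤ)) :=
  ([[(0, 4), (0, 2), (1, 2), (0, (-2)), (4, (-2)), (1, 2), (0, 2), (5, 2), (2, 2), (1, (-4))],
      [(0, 2), (1, 2), (2, (-2)), (0, (-2)), (0, (-2)), (0, 2), (1, (-2)), (2, 2), (0, 2), (0, (-2)), (0, 2), (0, (-2)), (1, 2), (0, (-2)), (1, (-2)), (0, 2)],
      [(1, 2), (0, 4), (0, (-2)), (0, 2), (3, (-4)), (0, 2), (1, 2), (0, 2), (5, 2), (2, (-2))],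
      [(0, 2), (1, (-2)), (2, 2), (0, 2), (0, (-2)), (0, (-2)), (1, 2), (2, (-2)), (0, (-2)), (0, (-2)), (0, 2), (0, 2), (1, 2), (0, (-2)), (1, (-2)), (0, 2)],
      [(0, (-2)), (1, 2), (2, (-2)), (0, 2), (0, (-2)), (0, 2), (1, 2), (2, 2), (0, (-2)), (0, (-2)), (0, 2), (0, 2), (1, (-2)), (0, 2), (1, (-2)), (0, (-2))],
      [(1, (-2)), (1, 2), (0, (-2)), (0, 4), (3, 2), (1, (-2)), (0, 2), (0, 4), (4, 2), (2, (-2))],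
      [(1, (-2)), (1, 2), (0, 2), (1, 4), (2, 2), (1, 2), (0, (-2)), (4, (-4)), (0, 2), (2, 2)],
      [(1, (-2)), (1, (-2)), (0, (-2)), (2, 4), (1, 2), (1, 2), (0, 2), (3, 4), (1, (-2)), (2, 2)],
      [(1, 2), (0, (-4)), (0, (-2)), (0, 2), (3, 4), (0, 2), (1, 2), (0, 2), (5, 2), (2, (-2))],
      [(0, (-2)), (1, 2), (2, 2), (0, 2), (0, 2), (0, 2), (1, (-2)), (2, (-2)), (0, 2), (0, (-2)), (0, (-2)), (0, 2), (1, 2), (0, (-2)), (1, (-2)), (0, (-2))],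
      [(1, (-2)), (1, 2), (0, 2), (4, (-2)), (0, 4), (0, 2), (0, 2), (1, 4), (3, (-2)), (2, (-2))],
      [(0, 2), (1, 2), (2, (-2)), (0, 2), (0, 2), (0, 2), (1, 2), (2, 2), (0, (-2)), (0, 2), (0, (-2)), (0, 2), (1, 2), (0, (-2)), (1, 2), (0, 2)],
      [(0, 2), (1, 2), (2, 2), (0, (-2)), (0, 2), (0, 2), (1, 2), (2, (-2)), (0, (-2)), (0, (-2)), (0, (-2)), (0, (-2)), (1, (-2)), (0, 2), (1, (-2)), (0, 2)],
      [(1, 2), (1, (-2)), (0, 2), (0, 4), (3, (-2)), (1, 2), (0, (-2)), (0, 4), (4, (-2)), (2, 2)],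
      [(1, 2), (1, (-2)), (0, (-2)), (4, 2), (0, 4), (0, (-2)), (0, (-2)), (1, 4), (3, 2), (2, 2)],
      [(1, (-2)), (1, (-2)), (0, (-2)), (4, (-2)), (1, 2), (0, (-2)), (2, 4), (2, 2), (2, (-2)), (0, (-4))],
      [(1, 2), (1, 2), (0, 2), (2, 4), (1, (-2)), (1, (-2)), (0, (-2)), (3, 4), (1, 2), (2, (-2))],
      [(1, (-2)), (1, 2), (0, 2), (1, (-4)), (2, 2), (1, 2), (0, (-2)), (4, 4), (0, 2), (2, 2)],
      [(0, 2), (1, 2), (2, 2), (0, 2), (0, (-2)), (0, 2), (1, (-2)), (2, (-2)), (0, 2), (0, 2), (0, 2), (0, 2), (1, (-2)), (0, 2), (1, 2), (0, 2)],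
      [(1, 2), (1, 2), (0, (-2)), (4, 2), (1, 2), (0, (-2)), (5, (-2)), (0, 4), (0, 4), (0, (-2))],
      [(1, (-2)), (1, (-2)), (0, 2), (4, (-2)), (1, (-2)), (0, 2), (5, 2), (0, 4), (0, 4), (0, 2)],
      [(0, 2), (1, (-2)), (2, (-2)), (0, 2), (0, 2), (0, (-2)), (1, (-2)), (2, 2), (0, 2), (0, (-2)), (0, (-2)), (0, 2), (1, (-2)), (0, 2), (1, (-2)), (0, 2)],
      [(1, (-2)), (1, (-2)), (0, (-2)), (4, (-2)), (1, 2), (0, (-2)), (2, (-4)), (2, 2), (2, (-2)), (0, 4)],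
      [(0, (-4)), (0, 2), (1, 2), (0, (-2)), (4, (-2)), (1, 2), (0, 2), (5, 2), (2, 2), (1, 4)]],
     [[(0, 4), (0, 2), (1, 2), (0, (-2)), (4, (-2)), (1, 2), (0, 2), (5, 2), (2, 2), (1, (-4))],
      [(0, 2), (1, 2), (2, (-2)), (0, (-2)), (0, (-2)), (0, 2), (1, (-2)), (2, 2), (0, 2), (0, (-2)), (0, 2), (0, (-2)), (1, 2), (0, (-2)), (1, (-2)), (0, 2)],
      [(1, 2), (0, 4), (0, (-2)), (0, 2), (3, (-4)), (0, 2), (1, 2), (0, 2), (5, 2), (2, (-2))],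
      [(0, 2), (1, (-2)), (2, 2), (0, 2), (0, (-2)), (0, (-2)), (1, 2), (2, (-2)), (0, (-2)), (0, (-2)), (0, 2), (0, 2), (1, 2), (0, (-2)), (1, (-2)), (0, 2)],
      [(0, (-2)), (1, 2), (2, (-2)), (0, 2), (0, (-2)), (0, 2), (1, 2), (2, 2), (0, (-2)), (0, (-2)), (0, 2), (0, 2), (1, (-2)), (0, 2), (1, (-2)), (0, (-2))],
      [(1, (-2)), (1, 2), (0, (-2)), (0, 4), (3, 2), (1, (-2)), (0, 2), (0, 4), (4, 2), (2, (-2))],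
      [(1, (-2)), (1, 2), (0, 2), (1, 4), (2, 2), (1, 2), (0, (-2)), (4, (-4)), (0, 2), (2, 2)],
      [(1, (-2)), (1, (-2)), (0, (-2)), (2, 4), (1, 2), (1, 2), (0, 2), (3, 4), (1, (-2)), (2, 2)],
      [(1, 2), (0, (-4)), (0, (-2)), (0, 2), (3, 4), (0, 2), (1, 2), (0, 2), (5, 2), (2, (-2))],
      [(0, (-2)), (1, 2), (2, 2), (0, 2), (0, 2), (0, 2), (1, (-2)), (2, (-2)), (0, 2), (0, (-2)), (0, (-2)), (0, 2), (1, 2), (0, (-2)), (1, (-2)), (0, (-2))],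
      [(1, (-2)), (1, 2), (0, 2), (4, (-2)), (0, 4), (0, 2), (0, 2), (1, 4), (3, (-2)), (2, (-2))],
      [(0, 2), (1, 2), (2, (-2)), (0, 2), (0, 2), (0, 2), (1, 2), (2, 2), (0, (-2)), (0, 2), (0, (-2)), (0, 2), (1, 2), (0, (-2)), (1, 2), (0, 2)],
      [(0, 2), (1, 2), (2, 2), (0, (-2)), (0, 2), (0, 2), (1, 2), (2, (-2)), (0, (-2)), (0, (-2)), (0, (-2)), (0, (-2)), (1, (-2)), (0, 2), (1, (-2)), (0, 2)],
      [(1, 2), (1, (-2)), (0, 2), (0, 4), (3, (-2)), (1, 2), (0, (-2)), (0, 4), (4, (-2)), (2, 2)],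
      [(1, 2), (1, (-2)), (0, (-2)), (4, 2), (0, 4), (0, (-2)), (0, (-2)), (1, 4), (3, 2), (2, 2)],
      [(1, (-2)), (1, (-2)), (0, (-2)), (4, (-2)), (1, 2), (0, (-2)), (2, 4), (2, 2), (2, (-2)), (0, (-4))],
      [(1, 2), (1, 2), (0, 2), (2, 4), (1, (-2)), (1, (-2)), (0, (-2)), (3, 4), (1, 2), (2, (-2))],
      [(1, (-2)), (1, 2), (0, 2), (1, (-4)), (2, 2), (1, 2), (0, (-2)), (4, 4), (0, 2), (2, 2)],
      [(0, 2), (1, 2), (2, 2), (0, 2), (0, (-2)), (0, 2), (1, (-2)), (2, (-2)), (0, 2), (0, 2), (0, 2), (0, 2), (1, (-2)), (0, 2), (1, 2), (0, 2)],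
      [(1, 2), (1, 2), (0, (-2)), (4, 2), (1, 2), (0, (-2)), (5, (-2)), (0, 4), (0, 4), (0, (-2))],
      [(1, (-2)), (1, (-2)), (0, 2), (4, (-2)), (1, (-2)), (0, 2), (5, 2), (0, 4), (0, 4), (0, 2)],
      [(0, 2), (1, (-2)), (2, (-2)), (0, 2), (0, 2), (0, (-2)), (1, (-2)), (2, 2), (0, 2), (0, (-2)), (0, (-2)), (0, 2), (1, (-2)), (0, 2), (1, (-2)), (0, 2)],
      [(1, (-2)), (1, (-2)), (0, (-2)), (4, (-2)), (1, 2), (0, (-2)), (2, (-4)), (2, 2), (2, (-2)), (0, 4)],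
      [(0, (-4)), (0, 2), (1, 2), (0, (-2)), (4, (-2)), (1, 2), (0, 2), (5, 2), (2, 2), (1, 4)]])

/-- a generator -/
def genMat3 : List (List (ℕ × ℤ)) × List (List (ℕ × ℤ)) :=
  ([[(3, (-2)), (2, 2), (0, 2), (1, (-2)), (0, (-2)), (1, (-2)), (0, 2), (1, 2), (1, (-2)), (0, (-2)), (1, (-2)), (1, 2), (0, 4)],
      [(3, 2), (1, 4), (0, 2), (0, (-2)), (1, (-2)), (0, (-2)), (1, (-2)), (0, 2), (1, (-2)), (1, 2), (0, 2), (1, (-2)), (1, (-2))],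
      [(3, 2), (2, (-2)), (0, (-2)), (1, (-2)), (0, (-2)), (1, (-2)), (0, (-2)), (1, 2), (1, (-2)), (0, 2), (0, 4), (0, 2), (1, 2)],
      [(0, 2), (0, (-2)), (0, (-2)), (1, 2), (0, (-2)), (2, 2), (1, (-4)), (0, 2), (2, (-2)), (1, 2), (2, (-2)), (1, (-2)), (1, (-2))],
      [(3, (-2)), (2, 2), (0, (-2)), (1, 2), (0, (-2)), (0, (-4)), (0, 2), (0, (-2)), (1, 2), (1, 2), (0, 2), (1, (-2)), (1, 2)],
      [(1, (-4)), (1, 2), (2, 2), (0, 2), (1, (-2)), (0, 2), (1, 2), (0, 2), (1, 2), (1, 2), (0, 2), (1, 2), (1, 2)],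
      [(0, (-2)), (0, (-2)), (0, 2), (1, (-2)), (0, (-2)), (2, 2), (2, 2), (2, (-2)), (1, (-2)), (2, 2), (0, (-4)), (0, 2), (1, (-2))],
      [(0, (-2)), (0, 2), (0, 2), (1, 2), (0, (-2)), (2, 2), (2, (-2)), (1, 4), (0, 2), (1, 2), (2, 2), (1, (-2)), (1, (-2))],
      [(3, (-2)), (2, (-2)), (0, (-2)), (1, (-2)), (0, (-2)), (1, 2), (0, 2), (1, 2), (1, 2), (0, (-2)), (1, 2), (0, 4), (0, (-2))],
      [(0, 2), (0, 2), (0, 2), (1, (-2)), (0, 2), (2, 2), (2, 2), (2, 2), (0, 4), (0, (-2)), (2, (-2)), (1, (-2)), (1, (-2))],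
      [(0, 2), (0, 2), (0, 2), (0, 4), (0, 2), (0, (-2)), (2, 2), (2, (-2)), (2, (-2)), (1, (-2)), (2, (-2)), (1, 2), (1, 2)],
      [(3, (-2)), (0, 4), (1, (-2)), (0, 2), (1, (-2)), (0, 2), (1, (-2)), (0, (-2)), (1, 2), (1, 2), (0, 2), (1, (-2)), (1, (-2))],
      [(0, 2), (0, 2), (0, 2), (1, (-2)), (0, (-2)), (2, (-2)), (2, 2), (2, (-2)), (1, 2), (0, 4), (1, 2), (1, (-2)), (1, 2)],
      [(0, (-2)), (0, (-2)), (0, 2), (1, 2), (0, (-2)), (1, (-4)), (0, (-2)), (2, 2), (2, 2), (1, (-2)), (2, (-2)), (1, (-2)), (1, 2)],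
      [(3, 2), (2, 2), (0, (-2)), (1, (-2)), (0, 2), (1, 2), (0, (-2)), (1, 2), (0, 4), (0, (-2)), (0, (-2)), (1, (-2)), (1, (-2))],
      [(0, (-2)), (0, 2), (0, (-2)), (1, (-2)), (0, (-2)), (2, (-2)), (0, (-4)), (1, (-2)), (2, (-2)), (1, (-2)), (2, (-2)), (1, (-2)), (1, (-2))],
      [(3, (-2)), (2, 2), (0, (-2)), (1, 2), (0, 2), (1, (-2)), (0, 2), (0, (-4)), (0, 2), (1, (-2)), (0, 2), (1, 2), (1, (-2))],
      [(0, 2), (0, (-2)), (0, 2), (1, (-2)), (0, (-2)), (2, (-2)), (2, (-2)), (0, (-4)), (1, 2), (1, 2), (2, (-2)), (1, 2), (1, (-2))],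
      [(0, 2), (0, (-2)), (0, (-2)), (1, (-2)), (0, (-2)), (2, 2), (2, (-2)), (2, 2), (1, (-2)), (2, 2), (1, (-2)), (0, (-4)), (0, 2)],
      [(2, (-4)), (0, 2), (2, (-2)), (0, (-2)), (1, 2), (0, 2), (1, (-2)), (0, 2), (1, 2), (1, 2), (0, (-2)), (1, (-2)), (1, 2)],
      [(0, 2), (0, 2), (0, (-2)), (1, 2), (0, (-2)), (0, 4), (1, (-2)), (2, 2), (2, 2), (1, (-2)), (2, 2), (1, 2), (1, (-2))],
      [(3, 2), (2, (-2)), (0, 2), (0, (-4)), (0, 2), (0, (-2)), (1, 2), (0, 2), (1, 2), (1, (-2)), (0, 2), (1, (-2)), (1, (-2))],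
      [(0, (-2)), (0, 2), (0, (-2)), (1, (-2)), (0, (-2)), (2, 2), (2, 2), (2, 2), (1, 2), (1, 4), (0, (-2)), (1, 2), (1, 2)],
      [(0, (-4)), (2, 2), (2, 2), (0, 2), (1, 2), (0, (-2)), (1, (-2)), (0, (-2)), (1, 2), (1, 2), (0, (-2)), (1, 2), (1, (-2))]],
     [[(3, 2), (2, (-2)), (0, (-2)), (1, 2), (0, 2), (1, 2), (0, (-2)), (1, (-2)), (1, 2), (0, 2), (1, 2), (1, (-2)), (0, (-4))],
      [(3, (-2)), (1, (-4)), (0, (-2)), (0, 2), (1, 2), (0, 2), (1, 2), (0, (-2)), (1, 2), (1, (-2)), (0, (-2)), (1, 2), (1, 2)],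
      [(3, (-2)), (2, 2), (0, 2), (1, 2), (0, 2), (1, 2), (0, 2), (1, (-2)), (1, 2), (0, (-2)), (0, (-4)), (0, (-2)), (1, (-2))],
      [(0, (-2)), (0, 2), (0, 2), (1, (-2)), (0, 2), (2, (-2)), (1, 4), (0, (-2)), (2, 2), (1, (-2)), (2, 2), (1, 2), (1, 2)],
      [(3, 2), (2, (-2)), (0, 2), (1, (-2)), (0, 2), (0, 4), (0, (-2)), (0, 2), (1, (-2)), (1, (-2)), (0, (-2)), (1, 2), (1, (-2))],
      [(1, 4), (1, (-2)), (2, (-2)), (0, (-2)), (1, 2), (0, (-2)), (1, (-2)), (0, (-2)), (1, (-2)), (1, (-2)), (0, (-2)), (1, (-2)), (1, (-2))],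
      [(0, 2), (0, 2), (0, (-2)), (1, 2), (0, 2), (2, (-2)), (2, (-2)), (2, 2), (1, 2), (2, (-2)), (0, 4), (0, (-2)), (1, 2)],
      [(0, 2), (0, (-2)), (0, (-2)), (1, (-2)), (0, 2), (2, (-2)), (2, 2), (1, (-4)), (0, (-2)), (1, (-2)), (2, (-2)), (1, 2), (1, 2)],
      [(3, 2), (2, 2), (0, 2), (1, 2), (0, 2), (1, (-2)), (0, (-2)), (1, (-2)), (1, (-2)), (0, 2), (1, (-2)), (0, (-4)), (0, 2)],
      [(0, (-2)), (0, (-2)), (0, (-2)), (1, 2), (0, (-2)), (2, (-2)), (2, (-2)), (2, (-2)), (0, (-4)), (0, 2), (2, 2), (1, 2), (1, 2)],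
      [(0, (-2)), (0, (-2)), (0, (-2)), (0, (-4)), (0, (-2)), (0, 2), (2, (-2)), (2, 2), (2, 2), (1, 2), (2, 2), (1, (-2)), (1, (-2))],
      [(3, 2), (0, (-4)), (1, 2), (0, (-2)), (1, 2), (0, (-2)), (1, 2), (0, 2), (1, (-2)), (1, (-2)), (0, (-2)), (1, 2), (1, 2)],
      [(0, (-2)), (0, (-2)), (0, (-2)), (1, 2), (0, 2), (2, 2), (2, (-2)), (2, 2), (1, (-2)), (0, (-4)), (1, (-2)), (1, 2), (1, (-2))],
      [(0, 2), (0, 2), (0, (-2)), (1, (-2)), (0, 2), (1, 4), (0, 2), (2, (-2)), (2, (-2)), (1, 2), (2, 2), (1, 2), (1, (-2))],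
      [(3, (-2)), (2, (-2)), (0, 2), (1, 2), (0, (-2)), (1, (-2)), (0, 2), (1, (-2)), (0, (-4)), (0, 2), (0, 2), (1, 2), (1, 2)],
      [(0, 2), (0, (-2)), (0, 2), (1, 2), (0, 2), (2, 2), (0, 4), (1, 2), (2, 2), (1, 2), (2, 2), (1, 2), (1, 2)],
      [(3, 2), (2, (-2)), (0, 2), (1, (-2)), (0, (-2)), (1, 2), (0, (-2)), (0, 4), (0, (-2)), (1, 2), (0, (-2)), (1, (-2)), (1, 2)],
      [(0, (-2)), (0, 2), (0, (-2)), (1, 2), (0, 2), (2, 2), (2, 2), (0, 4), (1, (-2)), (1, (-2)), (2, 2), (1, (-2)), (1, 2)],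
      [(0, (-2)), (0, 2), (0, 2), (1, 2), (0, 2), (2, (-2)), (2, 2), (2, (-2)), (1, 2), (2, (-2)), (1, 2), (0, 4), (0, (-2))],
      [(2, 4), (0, (-2)), (2, 2), (0, 2), (1, (-2)), (0, (-2)), (1, 2), (0, (-2)), (1, (-2)), (1, (-2)), (0, 2), (1, 2), (1, (-2))],
      [(0, (-2)), (0, (-2)), (0, 2), (1, (-2)), (0, 2), (0, (-4)), (1, 2), (2, (-2)), (2, (-2)), (1, 2), (2, (-2)), (1, (-2)), (1, 2)],
      [(3, (-2)), (2, 2), (0, (-2)), (0, 4), (0, (-2)), (0, 2), (1, (-2)), (0, (-2)), (1, (-2)), (1, 2), (0, (-2)), (1, 2), (1, 2)],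
      [(0, 2), (0, (-2)), (0, 2), (1, 2), (0, 2), (2, (-2)), (2, (-2)), (2, (-2)), (1, (-2)), (1, (-4)), (0, 2), (1, (-2)), (1, (-2))],
      [(0, 4), (2, (-2)), (2, (-2)), (0, (-2)), (1, (-2)), (0, 2), (1, 2), (0, 2), (1, (-2)), (1, (-2)), (0, 2), (1, (-2)), (1, 2)]])

/-- a generator -/
def genMat4 : List (List (ℕ × ℤ)) × List (List (ℕ × ℤ)) :=
  ([[(1, (-2)), (0, 2), (0, (-2)), (2, (-2)), (0, (-2)), (0, 2), (0, 2), (0, 2), (1, 2), (1, 2), (2, (-2)), (0, 2), (1, 2), (0, (-2)), (0, (-2)), (0, (-2))],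
      [(0, 2), (2, (-4)), (0, 2), (0, (-2)), (5, (-2)), (1, (-2)), (1, 2), (0, 2), (1, (-4)), (0, (-2))],
      [(0, (-2)), (3, 2), (0, (-2)), (0, 4), (4, (-2)), (1, 2), (1, (-2)), (0, (-2)), (2, (-2)), (2, (-4))],
      [(0, 2), (0, 4), (2, (-2)), (0, (-2)), (4, 4), (0, (-2)), (1, 2), (1, 2), (0, (-2)), (2, 2)],
      [(1, (-2)), (0, (-2)), (0, 2), (2, (-2)), (0, 2), (0, 2), (0, 2), (0, 2), (1, (-2)), (1, (-2)), (2, (-2)), (0, (-2)), (1, 2), (0, 2), (0, (-2)), (0, 2)],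
      [(1, 2), (0, 2), (0, 2), (2, (-2)), (0, (-2)), (0, 2), (0, 2), (0, (-2)), (1, (-2)), (1, 2), (2, 2), (0, (-2)), (1, (-2)), (0, (-2)), (0, (-2)), (0, 2)],
      [(0, 2), (1, (-4)), (1, 2), (0, 2), (5, (-2)), (1, 2), (0, 4), (0, (-2)), (0, 2), (2, 2)],
      [(0, 2), (3, (-2)), (0, 2), (2, (-4)), (0, 4), (1, (-2)), (1, (-2)), (1, (-2)), (0, (-2)), (2, (-2))],
      [(0, (-2)), (3, (-2)), (0, (-2)), (1, 4), (3, (-2)), (1, (-2)), (1, (-2)), (0, 2), (2, 2), (1, (-4))],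
      [(0, (-2)), (3, (-2)), (0, (-2)), (1, (-4)), (3, (-2)), (1, (-2)), (1, (-2)), (0, 2), (2, 2), (1, 4)],
      [(0, (-2)), (2, (-4)), (0, (-2)), (0, 2), (5, 2), (1, 2), (1, (-2)), (0, (-2)), (1, (-4)), (0, 2)],
      [(1, 2), (0, 2), (0, 2), (2, 2), (0, 2), (0, 2), (0, 2), (0, (-2)), (1, 2), (1, 2), (2, (-2)), (0, (-2)), (1, 2), (0, 2), (0, 2), (0, (-2))],
      [(0, (-2)), (3, 2), (0, 2), (5, (-2)), (1, (-2)), (1, 2), (0, (-2)), (0, (-4)), (1, 2), (0, (-4))],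
      [(1, 2), (0, (-2)), (0, (-2)), (2, (-2)), (0, 2), (0, 2), (0, 2), (0, (-2)), (1, 2), (1, (-2)), (2, 2), (0, 2), (1, (-2)), (0, 2), (0, (-2)), (0, (-2))],
      [(0, (-2)), (3, 2), (0, (-2)), (0, (-4)), (4, (-2)), (1, 2), (1, (-2)), (0, (-2)), (2, (-2)), (2, 4)],
      [(1, (-2)), (0, 2), (0, (-2)), (2, 2), (0, 2), (0, 2), (0, 2), (0, 2), (1, (-2)), (1, 2), (2, 2), (0, 2), (1, (-2)), (0, 2), (0, 2), (0, 2)],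
      [(1, (-2)), (0, 2), (0, 2), (2, (-2)), (0, 2), (0, (-2)), (0, (-2)), (0, 2), (1, 2), (1, 2), (2, 2), (0, (-2)), (1, (-2)), (0, 2), (0, (-2)), (0, (-2))],
      [(0, 2), (3, 2), (0, (-2)), (5, 2), (0, 4), (0, (-2)), (1, (-2)), (0, (-2)), (2, 2), (3, 4)],
      [(0, (-2)), (0, 4), (2, 2), (0, 2), (4, 4), (0, 2), (1, (-2)), (1, (-2)), (0, 2), (2, (-2))],
      [(1, 2), (0, 2), (0, (-2)), (2, (-2)), (0, 2), (0, (-2)), (0, (-2)), (0, (-2)), (1, (-2)), (1, 2), (2, (-2)), (0, 2), (1, 2), (0, 2), (0, (-2)), (0, 2)],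
      [(0, (-2)), (3, (-2)), (0, 2), (5, (-2)), (0, 4), (0, 2), (1, 2), (0, 2), (2, (-2)), (3, 4)],
      [(0, 2), (3, (-2)), (0, 2), (2, 4), (0, (-4)), (1, (-2)), (1, (-2)), (1, (-2)), (0, (-2)), (2, (-2))],
      [(0, 2), (1, 4), (1, 2), (0, 2), (5, (-2)), (1, 2), (0, (-4)), (0, (-2)), (0, 2), (2, 2)],
      [(0, 2), (3, (-2)), (0, (-2)), (5, 2), (1, 2), (1, (-2)), (0, 2), (0, (-4)), (1, (-2)), (0, (-4))]],
     [[(1, 2), (0, (-2)), (0, 2), (2, 2), (0, 2), (0, (-2)), (0, (-2)), (0, (-2)), (1, (-2)), (1, (-2)), (2, 2), (0, (-2)), (1, (-2)), (0, 2), (0, 2), (0, 2)],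
      [(0, (-2)), (2, 4), (0, (-2)), (0, 2), (5, 2), (1, 2), (1, (-2)), (0, (-2)), (1, 4), (0, 2)],
      [(0, 2), (3, (-2)), (0, 2), (0, (-4)), (4, 2), (1, (-2)), (1, 2), (0, 2), (2, 2), (2, 4)],
      [(0, (-2)), (0, (-4)), (2, 2), (0, 2), (4, (-4)), (0, 2), (1, (-2)), (1, (-2)), (0, 2), (2, (-2))],
      [(1, 2), (0, 2), (0, (-2)), (2, 2), (0, (-2)), (0, (-2)), (0, (-2)), (0, (-2)), (1, 2), (1, 2), (2, 2), (0, 2), (1, (-2)), (0, (-2)), (0, 2), (0, (-2))],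
      [(1, (-2)), (0, (-2)), (0, (-2)), (2, 2), (0, 2), (0, (-2)), (0, (-2)), (0, 2), (1, 2), (1, (-2)), (2, (-2)), (0, 2), (1, 2), (0, 2), (0, 2), (0, (-2))],
      [(0, (-2)), (1, 4), (1, (-2)), (0, (-2)), (5, 2), (1, (-2)), (0, (-4)), (0, 2), (0, (-2)), (2, (-2))],
      [(0, (-2)), (3, 2), (0, (-2)), (2, 4), (0, (-4)), (1, 2), (1, 2), (1, 2), (0, 2), (2, 2)],
      [(0, 2), (3, 2), (0, 2), (1, (-4)), (3, 2), (1, 2), (1, 2), (0, (-2)), (2, (-2)), (1, 4)],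
      [(0, 2), (3, 2), (0, 2), (1, 4), (3, 2), (1, 2), (1, 2), (0, (-2)), (2, (-2)), (1, (-4))],
      [(0, 2), (2, 4), (0, 2), (0, (-2)), (5, (-2)), (1, (-2)), (1, 2), (0, 2), (1, 4), (0, (-2))],
      [(1, (-2)), (0, (-2)), (0, (-2)), (2, (-2)), (0, (-2)), (0, (-2)), (0, (-2)), (0, 2), (1, (-2)), (1, (-2)), (2, 2), (0, 2), (1, (-2)), (0, (-2)), (0, (-2)), (0, 2)],
      [(0, 2), (3, (-2)), (0, (-2)), (5, 2), (1, 2), (1, (-2)), (0, 2), (0, 4), (1, (-2)), (0, 4)],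
      [(1, (-2)), (0, 2), (0, 2), (2, 2), (0, (-2)), (0, (-2)), (0, (-2)), (0, 2), (1, (-2)), (1, 2), (2, (-2)), (0, (-2)), (1, 2), (0, (-2)), (0, 2), (0, 2)],
      [(0, 2), (3, (-2)), (0, 2), (0, 4), (4, 2), (1, (-2)), (1, 2), (0, 2), (2, 2), (2, (-4))],
      [(1, 2), (0, (-2)), (0, 2), (2, (-2)), (0, (-2)), (0, (-2)), (0, (-2)), (0, (-2)), (1, 2), (1, (-2)), (2, (-2)), (0, (-2)), (1, 2), (0, (-2)), (0, (-2)), (0, (-2))],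
      [(1, 2), (0, (-2)), (0, (-2)), (2, 2), (0, (-2)), (0, 2), (0, 2), (0, (-2)), (1, (-2)), (1, (-2)), (2, (-2)), (0, 2), (1, 2), (0, (-2)), (0, 2), (0, 2)],
      [(0, (-2)), (3, (-2)), (0, 2), (5, (-2)), (0, (-4)), (0, 2), (1, 2), (0, 2), (2, (-2)), (3, (-4))],
      [(0, 2), (0, (-4)), (2, (-2)), (0, (-2)), (4, (-4)), (0, (-2)), (1, 2), (1, 2), (0, (-2)), (2, 2)],
      [(1, (-2)), (0, (-2)), (0, 2), (2, 2), (0, (-2)), (0, 2), (0, 2), (0, 2), (1, 2), (1, (-2)), (2, 2), (0, (-2)), (1, (-2)), (0, (-2)), (0, 2), (0, (-2))],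
      [(0, 2), (3, 2), (0, (-2)), (5, 2), (0, (-4)), (0, (-2)), (1, (-2)), (0, (-2)), (2, 2), (3, (-4))],
      [(0, (-2)), (3, 2), (0, (-2)), (2, (-4)), (0, 4), (1, 2), (1, 2), (1, 2), (0, 2), (2, 2)],
      [(0, (-2)), (1, (-4)), (1, (-2)), (0, (-2)), (5, 2), (1, (-2)), (0, 4), (0, 2), (0, (-2)), (2, (-2))],
      [(0, (-2)), (3, 2), (0, 2), (5, (-2)), (1, (-2)), (1, 2), (0, (-2)), (0, 4), (1, 2), (0, 4)]])

/-- a generator -/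
def genMat5 : List (List (ℕ × ℤ)) × List (List (ℕ × ℤ)) :=
  ([[(0, 4), (2, 2), (0, (-2)), (0, 2), (4, (-2)), (0, 2), (0, 2), (1, 4), (1, (-2)), (3, (-2))],
      [(1, 4), (1, (-2)), (0, (-2)), (0, 2), (4, 2), (0, 2), (0, 2), (3, 2), (3, 2), (1, (-4))],
      [(2, 4), (0, (-2)), (0, 2), (0, 2), (4, (-2)), (0, (-2)), (0, 2), (3, 2), (1, 4), (1, (-2))],
      [(0, 2), (0, (-2)), (0, (-2)), (3, 2), (0, (-2)), (0, (-2)), (0, 2), (3, 2), (0, (-2)), (0, (-2)), (1, (-2)), (0, 2), (0, 2), (1, 2), (0, (-2)), (0, 2)],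
      [(0, (-2)), (0, (-2)), (0, 2), (3, 2), (0, (-2)), (0, 2), (0, 2), (3, 2), (0, 2), (0, (-2)), (1, 2), (0, (-2)), (0, (-2)), (1, (-2)), (0, (-2)), (0, 2)],
      [(0, 2), (0, 2), (0, 2), (3, 2), (0, (-2)), (0, (-2)), (0, (-2)), (3, 2), (0, (-2)), (0, (-2)), (1, 2), (0, (-2)), (0, 2), (1, (-2)), (0, 2), (0, (-2))],
      [(3, 2), (0, 2), (0, 2), (0, 4), (3, 2), (0, 2), (0, (-2)), (0, (-4)), (2, 2), (3, (-2))],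
      [(3, (-2)), (0, (-2)), (0, (-2)), (1, 4), (2, (-2)), (0, 2), (0, (-2)), (2, (-4)), (0, 2), (3, (-2))],
      [(3, (-2)), (0, 2), (0, (-2)), (2, 4), (1, 2), (0, 2), (0, 2), (3, (-2)), (2, 4), (0, (-2))],
      [(3, 2), (0, 2), (0, (-2)), (3, 4), (0, (-2)), (0, 2), (0, 2), (3, 2), (3, 2), (2, (-4))],
      [(0, (-2)), (0, 2), (0, (-2)), (3, 2), (0, (-2)), (0, 2), (0, (-2)), (3, 2), (0, 2), (0, (-2)), (1, (-2)), (0, 2), (0, (-2)), (1, 2), (0, 2), (0, (-2))],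
      [(0, 2), (0, 2), (0, (-2)), (3, 2), (0, 2), (0, 2), (0, 2), (3, 2), (0, (-2)), (0, 2), (1, 2), (0, 2), (0, (-2)), (1, (-2)), (0, 2), (0, 2)],
      [(0, 2), (0, 2), (0, 2), (3, (-2)), (0, (-2)), (0, 2), (0, 2), (3, (-2)), (0, (-2)), (0, (-2)), (1, (-2)), (0, (-2)), (0, (-2)), (1, 2), (0, 2), (0, 2)],
      [(3, 2), (0, 2), (0, 2), (0, (-4)), (3, 2), (0, 2), (0, (-2)), (0, 4), (2, 2), (3, (-2))],
      [(0, 4), (2, (-2)), (0, 2), (0, (-2)), (4, 2), (0, (-2)), (0, (-2)), (1, 4), (1, 2), (3, 2)],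
      [(3, (-2)), (0, (-2)), (0, (-2)), (1, (-4)), (2, (-2)), (0, 2), (0, (-2)), (2, 4), (0, 2), (3, (-2))],
      [(0, (-2)), (0, 2), (0, 2), (3, 2), (0, 2), (0, (-2)), (0, 2), (3, 2), (0, 2), (0, 2), (1, (-2)), (0, (-2)), (0, 2), (1, 2), (0, 2), (0, 2)],
      [(3, (-2)), (0, 2), (0, 2), (4, (-2)), (0, 2), (0, (-2)), (3, (-2)), (0, 4), (2, 2), (0, 4)],
      [(2, 4), (0, 2), (0, (-2)), (0, (-2)), (4, 2), (0, 2), (0, (-2)), (3, (-2)), (1, 4), (1, 2)],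
      [(3, 2), (0, (-2)), (0, 2), (2, 4), (1, (-2)), (0, (-2)), (0, (-2)), (3, 2), (2, 4), (0, 2)],
      [(0, (-2)), (0, 2), (0, (-2)), (3, (-2)), (0, (-2)), (0, (-2)), (0, 2), (3, (-2)), (0, 2), (0, (-2)), (1, 2), (0, 2), (0, 2), (1, (-2)), (0, 2), (0, 2)],
      [(3, 2), (0, (-2)), (0, (-2)), (4, 2), (0, (-2)), (0, 2), (3, 2), (0, 4), (2, (-2)), (0, 4)],
      [(1, (-4)), (1, (-2)), (0, (-2)), (0, 2), (4, 2), (0, 2), (0, 2), (3, 2), (3, 2), (1, 4)],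
      [(3, 2), (0, 2), (0, (-2)), (3, (-4)), (0, (-2)), (0, 2), (0, 2), (3, 2), (3, 2), (2, 4)]],
     [[(0, 4), (2, 2), (0, (-2)), (0, 2), (4, (-2)), (0, 2), (0, 2), (1, 4), (1, (-2)), (3, (-2))],
      [(1, 4), (1, (-2)), (0, (-2)), (0, 2), (4, 2), (0, 2), (0, 2), (3, 2), (3, 2), (1, (-4))],
      [(2, 4), (0, (-2)), (0, 2), (0, 2), (4, (-2)), (0, (-2)), (0, 2), (3, 2), (1, 4), (1, (-2))],
      [(0, 2), (0, (-2)), (0, (-2)), (3, 2), (0, (-2)), (0, (-2)), (0, 2), (3, 2), (0, (-2)), (0, (-2)), (1, (-2)), (0, 2), (0, 2), (1, 2), (0, (-2)), (0, 2)],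
      [(0, (-2)), (0, (-2)), (0, 2), (3, 2), (0, (-2)), (0, 2), (0, 2), (3, 2), (0, 2), (0, (-2)), (1, 2), (0, (-2)), (0, (-2)), (1, (-2)), (0, (-2)), (0, 2)],
      [(0, 2), (0, 2), (0, 2), (3, 2), (0, (-2)), (0, (-2)), (0, (-2)), (3, 2), (0, (-2)), (0, (-2)), (1, 2), (0, (-2)), (0, 2), (1, (-2)), (0, 2), (0, (-2))],
      [(3, 2), (0, 2), (0, 2), (0, 4), (3, 2), (0, 2), (0, (-2)), (0, (-4)), (2, 2), (3, (-2))],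
      [(3, (-2)), (0, (-2)), (0, (-2)), (1, 4), (2, (-2)), (0, 2), (0, (-2)), (2, (-4)), (0, 2), (3, (-2))],
      [(3, (-2)), (0, 2), (0, (-2)), (2, 4), (1, 2), (0, 2), (0, 2), (3, (-2)), (2, 4), (0, (-2))],
      [(3, 2), (0, 2), (0, (-2)), (3, 4), (0, (-2)), (0, 2), (0, 2), (3, 2), (3, 2), (2, (-4))],
      [(0, (-2)), (0, 2), (0, (-2)), (3, 2), (0, (-2)), (0, 2), (0, (-2)), (3, 2), (0, 2), (0, (-2)), (1, (-2)), (0, 2), (0, (-2)), (1, 2), (0, 2), (0, (-2))],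
      [(0, 2), (0, 2), (0, (-2)), (3, 2), (0, 2), (0, 2), (0, 2), (3, 2), (0, (-2)), (0, 2), (1, 2), (0, 2), (0, (-2)), (1, (-2)), (0, 2), (0, 2)],
      [(0, 2), (0, 2), (0, 2), (3, (-2)), (0, (-2)), (0, 2), (0, 2), (3, (-2)), (0, (-2)), (0, (-2)), (1, (-2)), (0, (-2)), (0, (-2)), (1, 2), (0, 2), (0, 2)],
      [(3, 2), (0, 2), (0, 2), (0, (-4)), (3, 2), (0, 2), (0, (-2)), (0, 4), (2, 2), (3, (-2))],
      [(0, 4), (2, (-2)), (0, 2), (0, (-2)), (4, 2), (0, (-2)), (0, (-2)), (1, 4), (1, 2), (3, 2)],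
      [(3, (-2)), (0, (-2)), (0, (-2)), (1, (-4)), (2, (-2)), (0, 2), (0, (-2)), (2, 4), (0, 2), (3, (-2))],
      [(0, (-2)), (0, 2), (0, 2), (3, 2), (0, 2), (0, (-2)), (0, 2), (3, 2), (0, 2), (0, 2), (1, (-2)), (0, (-2)), (0, 2), (1, 2), (0, 2), (0, 2)],
      [(3, (-2)), (0, 2), (0, 2), (4, (-2)), (0, 2), (0, (-2)), (3, (-2)), (0, 4), (2, 2), (0, 4)],
      [(2, 4), (0, 2), (0, (-2)), (0, (-2)), (4, 2), (0, 2), (0, (-2)), (3, (-2)), (1, 4), (1, 2)],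
      [(3, 2), (0, (-2)), (0, 2), (2, 4), (1, (-2)), (0, (-2)), (0, (-2)), (3, 2), (2, 4), (0, 2)],
      [(0, (-2)), (0, 2), (0, (-2)), (3, (-2)), (0, (-2)), (0, (-2)), (0, 2), (3, (-2)), (0, 2), (0, (-2)), (1, 2), (0, 2), (0, 2), (1, (-2)), (0, 2), (0, 2)],
      [(3, 2), (0, (-2)), (0, (-2)), (4, 2), (0, (-2)), (0, 2), (3, 2), (0, 4), (2, (-2)), (0, 4)],
      [(1, (-4)), (1, (-2)), (0, (-2)), (0, 2), (4, 2), (0, 2), (0, 2), (3, 2), (3, 2), (1, 4)],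
      [(3, 2), (0, 2), (0, (-2)), (3, (-4)), (0, (-2)), (0, 2), (0, 2), (3, 2), (3, 2), (2, 4)]])

/-- a generator -/
def genMat6 : List (List (ℕ × ℤ)) × List (List (ℕ × ℤ)) :=
  ([[(2, 2), (0, 2), (0, (-2)), (0, (-2)), (1, 2), (2, 2), (0, 2), (0, (-2)), (0, (-2)), (0, 2), (1, (-2)), (0, (-2)), (1, 2), (0, (-2)), (1, 2), (0, (-2))],
      [(2, 2), (0, (-2)), (0, (-2)), (0, (-2)), (1, (-2)), (2, (-2)), (0, 2), (0, 2), (0, 2), (0, 2), (1, 2), (0, (-2)), (1, 2), (0, (-2)), (1, (-2)), (0, 2)],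
      [(0, 2), (0, 2), (0, 4), (1, 4), (1, (-2)), (1, (-2)), (0, 2), (5, (-2)), (2, 2), (2, (-2))],
      [(0, 2), (0, (-2)), (1, 4), (2, 2), (1, (-2)), (0, 2), (5, 2), (2, (-2)), (2, (-2)), (1, 4)],
      [(0, (-2)), (0, (-2)), (0, 4), (1, 4), (1, 2), (1, 2), (0, (-2)), (5, 2), (2, (-2)), (2, 2)],
      [(0, (-2)), (0, (-2)), (3, 4), (0, (-2)), (1, (-2)), (0, (-2)), (5, (-2)), (2, (-2)), (0, 4), (1, (-2))],
      [(2, (-2)), (0, 2), (0, 2), (0, (-2)), (1, (-2)), (2, 2), (0, 2), (0, 2), (0, (-2)), (0, (-2)), (1, 2), (0, (-2)), (1, 2), (0, 2), (1, (-2)), (0, (-2))],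
      [(0, 2), (0, (-2)), (4, (-2)), (0, 4), (0, 2), (0, 2), (5, (-2)), (0, 4), (1, (-2)), (2, 2)],
      [(2, (-2)), (0, (-2)), (0, 2), (0, (-2)), (1, 2), (2, (-2)), (0, 2), (0, (-2)), (0, 2), (0, (-2)), (1, (-2)), (0, (-2)), (1, 2), (0, 2), (1, 2), (0, 2)],
      [(2, 2), (0, 2), (0, (-2)), (0, (-2)), (1, 2), (2, (-2)), (0, (-2)), (0, 2), (0, 2), (0, (-2)), (1, (-2)), (0, 2), (1, 2), (0, 2), (1, (-2)), (0, (-2))],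
      [(0, 2), (0, (-2)), (4, 2), (1, (-2)), (0, (-2)), (0, 4), (2, 4), (1, (-2)), (2, 2), (2, 2)],
      [(0, 2), (0, 2), (4, 2), (1, 2), (0, (-2)), (1, 4), (3, (-2)), (1, 4), (0, (-2)), (2, (-2))],
      [(0, (-2)), (0, 2), (4, 2), (1, (-2)), (0, 2), (2, 4), (2, (-2)), (2, (-2)), (2, 2), (0, 4)],
      [(0, (-2)), (0, 2), (4, (-2)), (1, 2), (0, 2), (0, 4), (2, 4), (1, 2), (2, (-2)), (2, (-2))],
      [(0, 2), (0, 2), (4, (-2)), (1, (-2)), (0, (-2)), (4, 4), (0, 2), (2, (-2)), (1, 4), (0, 2)],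
      [(2, (-2)), (0, 2), (0, 2), (0, (-2)), (1, (-2)), (2, (-2)), (0, (-2)), (0, (-2)), (0, 2), (0, 2), (1, 2), (0, 2), (1, 2), (0, (-2)), (1, 2), (0, (-2))],
      [(0, (-2)), (0, 2), (4, 2), (0, 4), (0, (-2)), (0, (-2)), (5, 2), (0, 4), (1, 2), (2, (-2))],
      [(0, (-2)), (0, (-2)), (4, (-2)), (1, (-2)), (0, 2), (1, 4), (3, 2), (1, 4), (0, 2), (2, 2)],
      [(2, 2), (0, (-2)), (0, (-2)), (0, (-2)), (1, (-2)), (2, 2), (0, (-2)), (0, (-2)), (0, (-2)), (0, (-2)), (1, 2), (0, 2), (1, 2), (0, 2), (1, 2), (0, 2)],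
      [(0, 2), (0, 2), (3, 4), (0, 2), (1, 2), (0, 2), (5, 2), (2, 2), (0, 4), (1, 2)],
      [(0, (-2)), (0, (-2)), (4, 2), (1, 2), (0, 2), (4, 4), (0, (-2)), (2, 2), (1, 4), (0, (-2))],
      [(2, (-2)), (0, (-2)), (0, 2), (0, (-2)), (1, 2), (2, 2), (0, (-2)), (0, 2), (0, (-2)), (0, 2), (1, (-2)), (0, 2), (1, 2), (0, (-2)), (1, (-2)), (0, 2)],
      [(0, 2), (0, (-2)), (4, (-2)), (1, 2), (0, (-2)), (2, 4), (2, 2), (2, 2), (2, (-2)), (0, 4)],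
      [(0, (-2)), (0, 2), (1, 4), (2, (-2)), (1, 2), (0, (-2)), (5, (-2)), (2, 2), (2, 2), (1, 4)]],
     [[(2, 2), (0, 2), (0, (-2)), (0, (-2)), (1, 2), (2, 2), (0, 2), (0, (-2)), (0, (-2)), (0, 2), (1, (-2)), (0, (-2)), (1, 2), (0, (-2)), (1, 2), (0, (-2))],
      [(2, 2), (0, (-2)), (0, (-2)), (0, (-2)), (1, (-2)), (2, (-2)), (0, 2), (0, 2), (0, 2), (0, 2), (1, 2), (0, (-2)), (1, 2), (0, (-2)), (1, (-2)), (0, 2)],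
      [(0, 2), (0, 2), (0, 4), (1, 4), (1, (-2)), (1, (-2)), (0, 2), (5, (-2)), (2, 2), (2, (-2))],
      [(0, 2), (0, (-2)), (1, 4), (2, 2), (1, (-2)), (0, 2), (5, 2), (2, (-2)), (2, (-2)), (1, 4)],
      [(0, (-2)), (0, (-2)), (0, 4), (1, 4), (1, 2), (1, 2), (0, (-2)), (5, 2), (2, (-2)), (2, 2)],
      [(0, (-2)), (0, (-2)), (3, 4), (0, (-2)), (1, (-2)), (0, (-2)), (5, (-2)), (2, (-2)), (0, 4), (1, (-2))],
      [(2, (-2)), (0, 2), (0, 2), (0, (-2)), (1, (-2)), (2, 2), (0, 2), (0, 2), (0, (-2)), (0, (-2)), (1, 2), (0, (-2)), (1, 2), (0, 2), (1, (-2)), (0, (-2))],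
      [(0, 2), (0, (-2)), (4, (-2)), (0, 4), (0, 2), (0, 2), (5, (-2)), (0, 4), (1, (-2)), (2, 2)],
      [(2, (-2)), (0, (-2)), (0, 2), (0, (-2)), (1, 2), (2, (-2)), (0, 2), (0, (-2)), (0, 2), (0, (-2)), (1, (-2)), (0, (-2)), (1, 2), (0, 2), (1, 2), (0, 2)],
      [(2, 2), (0, 2), (0, (-2)), (0, (-2)), (1, 2), (2, (-2)), (0, (-2)), (0, 2), (0, 2), (0, (-2)), (1, (-2)), (0, 2), (1, 2), (0, 2), (1, (-2)), (0, (-2))],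
      [(0, 2), (0, (-2)), (4, 2), (1, (-2)), (0, (-2)), (0, 4), (2, 4), (1, (-2)), (2, 2), (2, 2)],
      [(0, 2), (0, 2), (4, 2), (1, 2), (0, (-2)), (1, 4), (3, (-2)), (1, 4), (0, (-2)), (2, (-2))],
      [(0, (-2)), (0, 2), (4, 2), (1, (-2)), (0, 2), (2, 4), (2, (-2)), (2, (-2)), (2, 2), (0, 4)],
      [(0, (-2)), (0, 2), (4, (-2)), (1, 2), (0, 2), (0, 4), (2, 4), (1, 2), (2, (-2)), (2, (-2))],
      [(0, 2), (0, 2), (4, (-2)), (1, (-2)), (0, (-2)), (4, 4), (0, 2), (2, (-2)), (1, 4), (0, 2)],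
      [(2, (-2)), (0, 2), (0, 2), (0, (-2)), (1, (-2)), (2, (-2)), (0, (-2)), (0, (-2)), (0, 2), (0, 2), (1, 2), (0, 2), (1, 2), (0, (-2)), (1, 2), (0, (-2))],
      [(0, (-2)), (0, 2), (4, 2), (0, 4), (0, (-2)), (0, (-2)), (5, 2), (0, 4), (1, 2), (2, (-2))],
      [(0, (-2)), (0, (-2)), (4, (-2)), (1, (-2)), (0, 2), (1, 4), (3, 2), (1, 4), (0, 2), (2, 2)],
      [(2, 2), (0, (-2)), (0, (-2)), (0, (-2)), (1, (-2)), (2, 2), (0, (-2)), (0, (-2)), (0, (-2)), (0, (-2)), (1, 2), (0, 2), (1, 2), (0, 2), (1, 2), (0, 2)],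
      [(0, 2), (0, 2), (3, 4), (0, 2), (1, 2), (0, 2), (5, 2), (2, 2), (0, 4), (1, 2)],
      [(0, (-2)), (0, (-2)), (4, 2), (1, 2), (0, 2), (4, 4), (0, (-2)), (2, 2), (1, 4), (0, (-2))],
      [(2, (-2)), (0, (-2)), (0, 2), (0, (-2)), (1, 2), (2, 2), (0, (-2)), (0, 2), (0, (-2)), (0, 2), (1, (-2)), (0, 2), (1, 2), (0, (-2)), (1, (-2)), (0, 2)],
      [(0, 2), (0, (-2)), (4, (-2)), (1, 2), (0, (-2)), (2, 4), (2, 2), (2, 2), (2, (-2)), (0, 4)],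
      [(0, (-2)), (0, 2), (1, 4), (2, (-2)), (1, 2), (0, (-2)), (5, (-2)), (2, 2), (2, 2), (1, 4)]])

/-- the generators -/
def suzW : List (List (List (ℕ × ℤ)) × List (List (ℕ × ℤ))) := [genMat0, genMat1, genMat2, genMat3, genMat4, genMat5, genMat6]

/-- the central element -/
def zWord : List ℕ := [1, 5, 6, 1, 5, 6, 1, 5, 6, 1, 5, 6, 1, 5, 6]

/-- a word -/
def twoCommU : List ℕ := [1, 0, 1, 2, 3, 4, 3, 2, 3, 1, 2, 0, 1, 4, 3, 2, 6, 4, 3, 1, 3, 6, 5, 4, 6, 3, 1, 0, 1, 4, 5, 2, 1, 0, 4, 1, 4, 5, 0, 1, 2, 3, 2, 4, 6, 5, 0, 5, 0, 6, 2, 1, 2, 0, 1, 0, 2, 1, 4, 3, 2, 4, 1, 4, 1, 0, 2, 1, 0, 3, 1, 5, 2, 4, 0, 4, 3, 1, 5, 2, 1, 5, 4, 1, 0, 1, 5, 0, 3, 1, 0]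

/-- a word -/
def twoCommV : List ℕ := [0, 1, 5, 3, 4, 0, 1, 2, 3, 2, 0, 1, 6, 2, 4, 1, 5, 3, 2, 5, 2, 1, 0, 1, 2, 4, 3, 5, 1, 2, 3, 2, 4, 1, 4, 3, 5, 6, 0, 6, 2, 1, 4, 5, 3, 5, 2, 0, 1, 4, 5, 3, 2, 0, 1, 6, 1, 2, 4, 5, 1, 0, 1, 5, 2, 1, 3, 2, 3, 6, 3, 4, 3, 0, 2, 3, 1, 2, 3, 2, 4, 1, 5, 3, 2, 4, 3, 5, 0, 1, 0, 1, 5, 0, 1, 2, 0, 1, 3, 4, 0, 1, 3, 2, 6, 3, 2, 5, 6, 3, 1, 4, 1, 0, 1, 5, 0, 3, 1, 0, 1, 2, 3, 2, 1, 0, 2, 1, 2, 0, 3, 2, 1, 0, 1, 2, 3, 1, 2, 3, 4, 3, 1, 2, 3, 2, 1, 0, 2, 1, 2, 0, 3, 2, 1, 0, 1, 2, 3, 1, 2]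

/-- a word -/
def threeCommU : List ℕ := [1, 2, 0, 1, 6, 5, 3, 1, 2, 3, 4, 1, 2, 3, 2, 1, 6, 3, 5, 1, 4, 0, 1, 4, 3, 0, 4, 1, 4, 5, 1, 3, 6, 2, 0, 5, 3, 6, 4, 1, 6, 2, 3, 2, 0, 5, 6, 1, 3, 2, 3, 6, 1, 4, 1, 2, 5, 3, 5, 6, 2, 4, 2, 1, 3, 0, 2, 5, 1, 2, 5, 2, 3, 2, 1, 2, 0, 1, 4, 0, 1, 5, 6, 5, 6, 5, 0, 3, 2, 1, 3, 5, 1, 2, 1, 2, 1, 0, 1, 5, 0, 3, 1, 0, 6, 3, 2, 4, 3, 5, 2, 6, 1, 3, 1, 2, 3, 2, 1, 0, 2, 1, 2, 0, 3, 2, 1, 0, 1, 2, 3, 1, 2, 4, 0, 1, 5, 0, 1, 0, 1, 3, 2, 0, 1, 5, 0, 1, 0, 2, 3, 2, 1, 0, 2, 1, 2, 0, 3, 2, 1, 0, 1, 2, 3, 1, 2, 3, 4, 3, 1, 2, 3, 2, 1, 0, 2, 1, 2, 0, 3, 2, 1, 0, 1, 2, 3, 1, 2]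

/-- a word -/
def threeCommV : List ℕ := [1, 6, 2, 3, 4, 1, 2, 3, 2, 1, 6, 4, 3, 2, 1, 4, 0, 1, 5, 0, 1, 0, 2, 0, 5, 1, 5, 4, 6, 1, 6, 5, 1, 0, 2, 6, 1, 3, 5, 0, 2, 1, 0, 6, 0, 3, 1, 2, 6, 5, 1, 2, 6, 5, 3, 1, 4, 1, 0, 3, 2, 3, 4]

end Cfsg.Agent.Lie.SuzukiMult
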