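import Cfsg.Agent.Lib.Lie.SuzukiMult.Defs
import Cfsg.Agent.Lib.Lie.SuzukiMult.GensData
import Cfsg.Agent.Lib.Lie.ConwayZeroMult.Pieces

/-!
The checks for the seven automorphisms: matrices, relations modulo the central element, its order and two
commutators.
-/

set_option autoImplicit false
set_option maxRecDepth 100000
set_option Elab.async false

namespace Cfsg.Agent.Lie.SuzukiMult

open Cfsg Cfsg.Agent.Spor CentralRewrite ConwayZeroMult

theorem suz_mats : suzW.all matOK = true := by
  refine mats_of (m := 7) (by decide +kernel) fun i hi => ?_
  interval_cases i <;> decide +kernel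

theorem suz_central : ((List.range 7).all fun j => eqOK suzW (zWord ++ [j]) ([j] ++ zWord)) = true := by
  decide +kernel

theorem suz_rels : (SuzCert.pres.relW.all fun r => (List.range 6).any fun k => eqOK suzW r (CC.powW k zWord)) = true := by
  decide +kernel

theorem suz_zorder : (eqOK suzW (CC.powW 6 zWord) [] && neOK suzW (CC.powW 2 zWord) [] &&
    neOK suzW (CC.powW 3 zWord) [] && neOK suzW zWord []) = true := by decide +kernel

theorem suz_outside : ((List.range 6).all fun k => neOK suzW [0] (CC.powW k zWord)) = true := by decide +kernel

theorem suz_comm : (eqOK suzW (twoCommU ++ twoCommV) (CC.powW 2 zWord ++ (twoCommV ++ twoCommU)) &&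
    eqOK suzW (threeCommU ++ threeCommV) (CC.powW 3 zWord ++ (threeCommV ++ threeCommU))) = true := by
  decide +kernel

end Cfsg.Agent.Lie.SuzukiMult
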