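import Cfsg.Agent.Lib.Lie.SuzukiMult.Defs
import Cfsg.Agent.Lib.Lie.SuzukiMult.CoverChecks
import Cfsg.Agent.Lib.Lie.ConwayZeroMult.Pieces

/-!
The group generated by the seven automorphisms is a perfect central extension of the presented Suzuki group with
kernel of order six.
-/

set_option autoImplicit false
set_option maxRecDepth 100000

namespace Cfsg.Agent.Lie.SuzukiMult

open Cfsg Cfsg.Agent.Spor CentralRewrite ConwayZeroMult
open scoped commutatorElement

theorem commutator_suz : commutator Cfsg.Spor.Suz = ⊤ := by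
  haveI : IsSimpleGroup Cfsg.Spor.Suz := SuzCert.simple
  haveI : Finite Cfsg.Spor.Suz := SuzCert.order.1
  rcases IsSimpleGroup.eq_bot_or_eq_top_of_normal (commutator Cfsg.Spor.Suz) inferInstance with h | h
  · letI : CommGroup Cfsg.Spor.Suz :=
      { (inferInstance : Group Cfsg.Spor.Suz) with
        mul_comm := fun x y => commutatorElement_eq_one_iff_mul_comm.1 (Subgroup.mem_bot.1 (h ▸
          Subgroup.commutator_mem_commutator (Subgroup.mem_top x) (Subgroup.mem_top y))) }
    have hp := IsSimpleGroup.prime_card (α := Cfsg.Spor.Suz)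
    rw [show Nat.card Cfsg.Spor.Suz = 448345497600 from SuzCert.order.2.1] at hp
    exact absurd (hp.eq_one_or_self_of_dvd 2 (by norm_num)) (by norm_num)
  · exact h

set_option maxHeartbeats 1000000 in
theorem exists_cover : ∃ g : ℕ → ↥Co0, Acts suzW g ∧
    Nat.card (Subgroup.closure (g '' Set.Ico 0 7)) = 2690072985600 ∧
    ∃ π : ↥(Subgroup.closure (g '' Set.Ico 0 7)) →* Cfsg.Spor.Suz,
      Cfsg.IsStemExtension π ∧ Nat.card π.ker = 6 ∧ IsCyclic π.ker := by
  haveI := co0_finite
  obtain ⟨g, hg⟩ := exists_gens suz_mats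
  refine ⟨g, hg, ?_⟩
  set Γ := Subgroup.closure (g '' Set.Ico 0 7) with hΓ
  have hmem : ∀ w, below 7 w = true → lval g w ∈ Γ := fun w hw => Γ.list_prod_mem fun y hy => by
    obtain ⟨j, hj, rfl⟩ := List.mem_map.1 hy
    exact Subgroup.subset_closure ⟨j, ⟨Nat.zero_le j, below_spec hw j hj⟩, rfl⟩
  let z : Γ := ⟨lval g zWord, hmem _ (by decide +kernel)⟩
  have hpow : ∀ k, ((z ^ k : Γ) : ↥Co0) = lval g (CC.powW k zWord) := fun k => by rw [lval_powW]; rfl
  have hz : z ∈ Subgroup.center Γ := by
    have hc : ∀ j < 7, lval g zWord * g j = g j * lval g zWord := fun j hj => by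
      have := eq_of_check hg (List.all_eq_true.1 suz_central j (List.mem_range.2 hj))
      rwa [lval_append, lval_append, show lval g [j] = g j by simp [lval]] at this
    refine Subgroup.mem_center_iff.2 fun x => Subtype.ext ?_
    have : ∀ x ∈ Γ, Commute x (lval g zWord) := by
      intro x hx
      induction hx using Subgroup.closure_induction with
      | mem y hy => obtain ⟨j, ⟨-, hj⟩, rfl⟩ := hy; exact (hc j hj).symm
      | one => exact Commute.one_left _
      | mul a b _ _ ha hb => exact ha.mul_left hb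
      | inv a _ ha => exact ha.inv_left
    exact this x x.2
  set Z := Subgroup.zpowers z with hZ
  have hZc : Z ≤ Subgroup.center Γ := Subgroup.zpowers_le.2 hz
  haveI : Z.Normal := ⟨fun x hx a => by
    rw [Subgroup.mem_center_iff.1 (hZc hx) a, mul_inv_cancel_right]; exact hx⟩
  have hzo : orderOf z = 6 := by
    have h := suz_zorder
    simp only [Bool.and_eq_true] at h
    have h6 : z ^ 6 = 1 := Subtype.ext (by rw [hpow, eq_of_check hg h.1.1.1]; rfl)
    have hd := orderOf_dvd_of_pow_eq_one h6
    have n2 : z ^ 2 ≠ 1 := fun e => ne_of_check hg h.1.1.2 (by rw [← hpow, e]; rfl)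
    have n3 : z ^ 3 ≠ 1 := fun e => ne_of_check hg h.1.2 (by rw [← hpow, e]; rfl)
    have n1 : z ≠ 1 := fun e => ne_of_check hg h.2 (congrArg Subtype.val e)
    have hle : orderOf z ≤ 6 := Nat.le_of_dvd (by norm_num) hd
    have hp := pow_orderOf_eq_one z
    interval_cases ho : orderOf z
    · simp at hd
    · exact absurd (by simpa using hp) n1
    · exact absurd hp n2
    · exact absurd hp n3
    · norm_num at hd
    · norm_num at hd
    · rfl
  have hZcard : Nat.card Z = 6 := by rw [hZ, Nat.card_zpowers, hzo]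
  let f : ℕ → Γ ⧸ Z := fun x =>
    if hx : x < 7 then QuotientGroup.mk' Z ⟨g x, Subgroup.subset_closure ⟨x, ⟨Nat.zero_le x, hx⟩, rfl⟩⟩ else 1
  have hw1 : ∀ w ∈ SuzCert.pres.relW, (w.map f).prod = 1 := by
    intro w hw
    have hall := List.all_eq_true.1 suz_rels w hw
    obtain ⟨k, -, hk⟩ := List.any_eq_true.1 hall
    have hb : ∀ j ∈ w, j < 7 := by
      have h := hk
      simp only [eqOK, Bool.and_eq_true] at h
      exact fun j hj => lt_of_lt_of_eq (below_spec h.1.1 j hj) (by decide +kernel)
    have e := eq_of_check hg hk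
    have hlift : (w.map f).prod =
        QuotientGroup.mk' Z ⟨lval g w, hmem w (by simpa [below, List.all_eq_true] using hb)⟩ := by
      have : ∀ v : List ℕ, (hv : ∀ j ∈ v, j < 7) → (v.map f).prod =
          QuotientGroup.mk' Z ⟨lval g v, hmem v (by simpa [below, List.all_eq_true] using hv)⟩ := by
        intro v
        induction v with
        | nil => intro _; rfl
        | cons j v ih =>
          intro hv
          rw [List.map_cons, List.prod_cons, ih fun i hi => hv i (List.mem_cons_of_mem _ hi)]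
          simp only [f, dif_pos (hv j List.mem_cons_self), ← map_mul]
          rfl
      exact this w hb
    rw [hlift, QuotientGroup.mk'_apply, QuotientGroup.eq_one_iff]
    exact ⟨(k : ℤ), Subtype.ext (by
      show ((z ^ (k : ℤ) : Γ) : ↥Co0) = lval g w
      rw [zpow_natCast, hpow, e])⟩
  have hsq : ∀ x, f x * f x = 1 := by
    intro x
    by_cases hx : x < 7
    · have := hw1 [x, x] (by
        simp only [CC.Pres.relW, List.mem_append, List.mem_map, List.mem_range]
        exact Or.inl (Or.inl ⟨x, hx, rfl⟩))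
      simpa using this
    · simp [f, dif_neg hx]
  obtain ⟨φ, hφ⟩ := pres_lift SuzCert.pres_ok f hsq hw1
  have hsurj : Function.Surjective φ := by
    intro q
    obtain ⟨⟨x, hx⟩, rfl⟩ := QuotientGroup.mk'_surjective Z q
    induction hx using Subgroup.closure_induction with
    | mem y hy =>
      obtain ⟨j, ⟨-, hj⟩, rfl⟩ := hy
      exact ⟨SuzCert.pres.gen j, by rw [hφ j hj]; simp [f, hj]⟩
    | one => exact ⟨1, by rw [map_one]; exact (map_one (QuotientGroup.mk' Z)).symm⟩
    | mul a b _ _ ha hb =>
      obtain ⟨u, hu⟩ := ha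
      obtain ⟨v, hv⟩ := hb
      exact ⟨u * v, by rw [map_mul, hu, hv, ← map_mul]; rfl⟩
    | inv a _ ha =>
      obtain ⟨u, hu⟩ := ha
      exact ⟨u⁻¹, by rw [map_inv, hu, ← map_inv]; rfl⟩
  haveI : IsSimpleGroup Cfsg.Spor.Suz := SuzCert.simple
  haveI : IsSimpleGroup SuzCert.pres.Grp := SuzCert.simple
  have hinj : Function.Injective φ := by
    rcases IsSimpleGroup.eq_bot_or_eq_top_of_normal φ.ker inferInstance with h | h
    · exact (MonoidHom.ker_eq_bot_iff φ).1 h
    · exfalso
      have h0 : φ (SuzCert.pres.gen 0) = 1 := MonoidHom.mem_ker.1 (h ▸ Subgroup.mem_top _)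
      rw [hφ 0 (by decide)] at h0
      simp only [f, dif_pos (show 0 < 7 by norm_num), QuotientGroup.mk'_apply, QuotientGroup.eq_one_iff] at h0
      rw [← mem_powers_iff_mem_zpowers] at h0
      obtain ⟨k, hk⟩ := h0
      have hk2 : z ^ (k % 6) = z ^ k := by
        have := pow_mod_orderOf z k
        rwa [hzo] at this
      refine ne_of_check hg (List.all_eq_true.1 suz_outside (k % 6) (List.mem_range.2 (Nat.mod_lt _ (by norm_num)))) ?_
      rw [show lval g [0] = g 0 by simp [lval], ← hpow, hk2]
      exact (congrArg Subtype.val hk).symm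
  let e : Cfsg.Spor.Suz ≃* Γ ⧸ Z := MulEquiv.ofBijective φ ⟨hinj, hsurj⟩
  have hπk : (e.symm.toMonoidHom.comp (QuotientGroup.mk' Z)).ker = Z := by
    ext x; simp [MonoidHom.mem_ker]
  have hperfect : Z ≤ commutator Γ := by
    rw [hZ, Subgroup.zpowers_le]
    have h := suz_comm
    simp only [Bool.and_eq_true] at h
    have key : ∀ (k : ℕ) (U V : List ℕ), below 7 U = true → below 7 V = true →
        eqOK suzW (U ++ V) (CC.powW k zWord ++ (V ++ U)) = true → z ^ k ∈ commutator Γ := by
      intro k U V hU hV hE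
      have e1 := eq_of_check hg hE
      rw [lval_append, lval_append, lval_append] at e1
      have e2 : z ^ k = ⁅(⟨lval g U, hmem U hU⟩ : Γ), ⟨lval g V, hmem V hV⟩⁆ := Subtype.ext (by
        rw [hpow]
        show _ = lval g U * lval g V * (lval g U)⁻¹ * (lval g V)⁻¹
        rw [e1]; group)
      rw [e2, commutator_def]
      exact Subgroup.commutator_mem_commutator (Subgroup.mem_top _) (Subgroup.mem_top _)
    have a2 := key 2 _ _ (by decide +kernel) (by decide +kernel) h.1
    have a3 := key 3 _ _ (by decide +kernel) (by decide +kernel) h.2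
    have : z = z ^ 3 * (z ^ 2)⁻¹ := by group
    rw [this]
    exact mul_mem a3 (inv_mem a2)
  refine ⟨?_, e.symm.toMonoidHom.comp (QuotientGroup.mk' Z),
    ⟨e.symm.surjective.comp (QuotientGroup.mk'_surjective Z), hπk.symm ▸ hZc, hπk.symm ▸ hperfect⟩,
    hπk.symm ▸ hZcard, hπk.symm ▸ inferInstance⟩
  rw [← Subgroup.card_mul_index Z, hZcard, Subgroup.index_eq_card, ← Nat.card_congr e.toEquiv,
    show Nat.card Cfsg.Spor.Suz = 448345497600 from SuzCert.order.2.1]

end Cfsg.Agent.Lie.SuzukiMult
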