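import Cfsg.Agent.Lib.Lie.ConwayZeroMult.Defs
import Cfsg.Agent.Lib.Lie.CoverUniversal
import Cfsg.Agent.Lib.Spor.SuzMain

/-!
Seven lattice automorphisms satisfying the relations of the Suzuki group modulo a central element of order six, and
certificates for subgroups of the group they generate.
-/

set_option autoImplicit false
set_option maxRecDepth 100000

namespace Cfsg.Agent.Lie.SuzukiMult

open Cfsg Cfsg.Agent.Spor CentralRewrite ConwayZeroMult
open scoped commutatorElement

local notation "Zv" => GolayPt → ℤ

variable {α : Type} [DecidableEq α]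

/-- A homomorphism of a presented group from values of the words. -/
theorem pres_lift {Q : CC.Pres α} (hQ : Q.OK) {M : Type} [Group M] (f : ℕ → M) (hsq : ∀ x, f x * f x = 1)
    (hrel : ∀ w ∈ Q.relW, (w.map f).prod = 1) : ∃ φ : Q.Grp →* M, ∀ x < Q.ng, φ (Q.gen x) = f x := by
  refine ⟨PresentedGroup.toGroup (f := f ∘ Q.ix) ?_, fun x hx => ?_⟩
  · intro r hr
    rcases hr with ⟨x, -, y, -, rfl⟩ | hr
    · rw [map_pow, map_mul, FreeGroup.lift_apply_of, FreeGroup.lift_apply_of, Function.comp_apply,
        Function.comp_apply]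
      rcases lt_trichotomy (Q.ix x) (Q.ix y) with hlt | heq | hgt
      · have := hrel _ (show CC.powW (Cfsg.Spor.coxLabel Q.edges (Q.nm (Q.ix x)) (Q.nm (Q.ix y)))
            [Q.ix x, Q.ix y] ∈ Q.relW by
          simp only [CC.Pres.relW, List.mem_append, List.mem_map, List.mem_flatMap, List.mem_range]
          exact Or.inl (Or.inr ⟨_, hQ.ix_lt y, _, hlt, rfl⟩))
        rw [CC.prod_powW, hQ.nm_ix, hQ.nm_ix] at this
        simpa using this
      · rw [heq, hsq, one_pow]
      · have := hrel _ (show CC.powW (Cfsg.Spor.coxLabel Q.edges (Q.nm (Q.ix y)) (Q.nm (Q.ix x)))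
            [Q.ix y, Q.ix x] ∈ Q.relW by
          simp only [CC.Pres.relW, List.mem_append, List.mem_map, List.mem_flatMap, List.mem_range]
          exact Or.inl (Or.inr ⟨_, hQ.ix_lt x, _, hgt, rfl⟩))
        rw [CC.prod_powW, hQ.symm _ (hQ.ix_lt y) _ (hQ.ix_lt x), hQ.nm_ix, hQ.nm_ix] at this
        simp only [List.map_cons, List.map_nil, List.prod_cons, List.prod_nil, mul_one] at this
        have e : f (Q.ix x) * f (Q.ix y) = (f (Q.ix y) * f (Q.ix x))⁻¹ := by
          rw [mul_inv_rev, inv_eq_of_mul_eq_one_left (hsq _), inv_eq_of_mul_eq_one_left (hsq _)]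
        rw [e, inv_pow, this, inv_one]
    · have key := hQ.extra_eq M f hsq
      have hmem : FreeGroup.lift (f ∘ Q.ix) r ∈ Q.extra.map (FreeGroup.lift (f ∘ Q.ix)) :=
        List.mem_map.mpr ⟨r, hr, rfl⟩
      rw [key] at hmem
      obtain ⟨w, hw, e⟩ := List.mem_map.mp hmem
      rw [← e]
      exact hrel w (by simp [CC.Pres.relW, hw])
  · rw [CC.Pres.gen, if_pos hx, PresentedGroup.toGroup.of, Function.comp_apply, hQ.ix_nm x hx]

/-- The rows act as a family of automorphisms. -/
def Acts (W : List (List Row × List Row)) (g : ℕ → ↥Co0) : Prop :=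
  ∀ j < W.length, ∀ v : ↥leechLattice,
    rowOf ((g j • v : ↥leechLattice) : Zv) = mv (W.getD j ([], [])).1 (rowOf (v : Zv))

/-- The letters of a word are below a bound. -/
def below (n : ℕ) (w : List ℕ) : Bool := w.all fun j => Nat.blt j n

theorem below_spec {n : ℕ} {w : List ℕ} (h : below n w = true) : ∀ j ∈ w, j < n := by
  simp only [below, List.all_eq_true, Nat.blt_eq] at h
  exact h

/-- Equal words, checked. -/
def eqOK (W : List (List Row × List Row)) (u w : List ℕ) : Bool :=
  below W.length u && below W.length w && relOK W (u, w)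

/-- Different words, checked. -/
def neOK (W : List (List Row × List Row)) (u w : List ℕ) : Bool :=
  below W.length u && below W.length w && forceL packV (fun v => !(ev W u v == ev W w v))

theorem eq_of_check {W : List (List Row × List Row)} {g : ℕ → ↥Co0} (hg : Acts W g) {u w : List ℕ}
    (h : eqOK W u w = true) : lval g u = lval g w := by
  simp only [eqOK, Bool.and_eq_true] at h
  exact rel_true hg (u := (u, w)) (below_spec h.1.1) (below_spec h.1.2) h.2

theorem pack_mem : leechCheck (vecOf packV) = true := by decide +kernel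

theorem ne_of_check {W : List (List Row × List Row)} {g : ℕ → ↥Co0} (hg : Acts W g) {u w : List ℕ}
    (h : neOK W u w = true) : lval g u ≠ lval g w := by
  simp only [neOK, forceL_eq, Bool.and_eq_true, Bool.not_eq_true', beq_eq_false_iff_ne, ne_eq] at h
  intro e
  refine h.2 ?_
  let P : ↥leechLattice := ⟨vecOf packV, leechCheck_mem pack_mem⟩
  have hP : rowOf (P : Zv) = packV := List.map_congr_left fun k hk => by
    have hk' := List.mem_range.1 hk
    simp [P, vecOf, packV, idx_pt k hk', hk']
  rw [← hP, ← lval_row hg u (below_spec h.1.1) P, ← lval_row hg w (below_spec h.1.2) P, e]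

theorem lval_powW {G : Type*} [Group G] (g : ℕ → G) (k : ℕ) (w : List ℕ) :
    lval g (CC.powW k w) = lval g w ^ k := CC.prod_powW g k w

/-- A matrix is the value of a word. -/
def memOK (W : List (List Row × List Row)) (X : List Row × List Row) (w : List ℕ) : Bool :=
  below W.length w && forceL packV (fun v => mv X.1 v == ev W w v)

theorem rows_getD {W : List (List Row × List Row)} {X : List Row × List Row} {w : List ℕ}
    (hw : ∀ j ∈ w, j < W.length) (v : List ℤ) : ev (W ++ [X]) w v = ev W w v := by
  induction w with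
  | nil => rfl
  | cons j w ih =>
    have hj := hw j List.mem_cons_self
    have ih' := ih fun i hi => hw i (List.mem_cons_of_mem _ hi)
    simp only [ev, List.foldr_cons, forceL_eq] at ih' ⊢
    rw [ih', List.getD_append _ _ _ _ hj]

theorem mem_of_check {W : List (List Row × List Row)} {g : ℕ → ↥Co0} (hg : Acts W g) {X : List Row × List Row}
    {a : ↥Co0} (ha : ∀ v : ↥leechLattice, rowOf ((a • v : ↥leechLattice) : Zv) = mv X.1 (rowOf (v : Zv)))
    {w : List ℕ} (h : memOK W X w = true) : a = lval g w := by
  simp only [memOK, forceL_eq, Bool.and_eq_true, beq_iff_eq] at h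
  have hb := below_spec h.1
  let g' : ℕ → ↥Co0 := fun j => if j = W.length then a else g j
  have hg' : Acts (W ++ [X]) g' := by
    intro j hj v
    rw [List.length_append, List.length_singleton] at hj
    by_cases e : j = W.length
    · subst e
      simp only [g', if_true]
      rw [ha, List.getD_append_right _ _ _ _ le_rfl, Nat.sub_self]
      rfl
    · simp only [g', if_neg e]
      rw [hg j (by omega) v, List.getD_append _ _ _ _ (by omega)]
  have h1 : ∀ j ∈ [W.length], j < (W ++ [X]).length := by simp
  have h2 : ∀ j ∈ w, j < (W ++ [X]).length := fun j hj => by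
    rw [List.length_append, List.length_singleton]; have := hb j hj; omega
  have e := rel_true hg' (u := ([W.length], w)) h1 h2 (by
    simp only [relOK, forceL_eq, beq_iff_eq]
    rw [rows_getD hb, ← h.2]
    simp only [ev, List.foldr_cons, List.foldr_nil, forceL_eq, List.getD_append_right _ _ _ _ le_rfl, Nat.sub_self]
    rfl)
  have e1 : lval g' [W.length] = a := by simp [lval, g']
  have e2 : lval g' w = lval g w := congrArg List.prod (List.map_congr_left fun j hj => by
    have := hb j hj
    simp only [g', if_neg (show j ≠ W.length by omega)])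
  exact e1.symm.trans (e.trans e2)

/-- No stem kernel of prime order over a group generated by the automorphisms. -/
theorem no_kernel_sub {C : Cert} (hC : C.Valid) (hp : C.p.Prime) {W0 : List (List Row × List Row)} {g0 : ℕ → ↥Co0}
    (hg0 : Acts W0 g0) (H : Subgroup ↥Co0) (hH : ∀ j < W0.length, g0 j ∈ H) {N : ℕ} (hN : Nat.card H = N)
    {W : List (List Row × List Row)} (hW : W.all matOK = true) (hlen : C.ng = W.length) {words : List (List ℕ)}
    (hmem : ((List.range W.length).all fun j => memOK W0 (W.getD j ([], [])) (words.getD j [])) = true)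
    (hrel : C.rels.all (relOK W) = true) {ch : List (List ℤ × List (List ℕ))} (hch : chainV W C.n ch [] = true)
    (hsize : C.p ^ C.n ≤ chainProd ch) (hidx : ¬ C.p ∣ N / C.p ^ C.n) {Δ : Type} [Group Δ] [Finite Δ]
    {τ : Δ →* ↥H} (hτ : Cfsg.IsStemExtension τ) (hcard : Nat.card τ.ker = C.p) : False := by
  obtain ⟨g, hg⟩ := exists_gens hW
  obtain ⟨hs, hc, hd⟩ := hτ
  have hnn : C.n ≤ W.length := hlen ▸ hC.nng
  simp only [List.all_eq_true, List.mem_range] at hmem
  have hgH : ∀ j < W.length, g j ∈ H := fun j hj => by
    have h := hmem j hj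
    rw [mem_of_check hg0 (hg j hj) h]
    refine H.list_prod_mem fun y hy => ?_
    obtain ⟨i, hi, rfl⟩ := List.mem_map.1 hy
    simp only [memOK, Bool.and_eq_true] at h
    exact hH i (below_spec h.1 i hi)
  let g' : ℕ → ↥H := fun j => if hj : j < W.length then ⟨g j, hgH j hj⟩ else 1
  have hval : ∀ w : List ℕ, (∀ j ∈ w, j < W.length) → ((lval g' w : ↥H) : ↥Co0) = lval g w := fun w hw => by
    show H.subtype (w.map g').prod = _
    rw [map_list_prod, List.map_map]
    exact congrArg List.prod (List.map_congr_left fun j hj => by simp [g', hw j hj])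
  have hlet := hC.letters
  simp only [List.all_eq_true, Bool.and_eq_true, Nat.blt_eq] at hlet
  refine no_prime hC hp τ hs hc hd hcard g' ?_ ?_ ?_
  · intro u hu
    have h1 : ∀ j ∈ u.1, j < W.length := fun j hj => hlen ▸ (hlet u hu).1 j hj
    have h2 : ∀ j ∈ u.2, j < W.length := fun j hj => hlen ▸ (hlet u hu).2 j hj
    refine Subtype.ext ?_
    rw [hval _ h1, hval _ h2]
    exact rel_true hg h1 h2 (List.all_eq_true.1 hrel u hu)
  · refine hsize.trans ((chain_card hg hnn ch [] hch).trans ?_)
    haveI := co0_finite
    have hmap : (Subgroup.closure (g' '' Set.Ico 0 C.n)).map H.subtype = Subgroup.closure (g '' Set.Ico 0 C.n) := by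
      rw [MonoidHom.map_closure, Set.image_image]
      refine congrArg _ (Set.image_congr fun j hj => ?_)
      simp [g', lt_of_lt_of_le hj.2 hnn]
    rw [Nat.card_congr (Subgroup.equivMapOfInjective _ H.subtype H.subtype_injective).toEquiv, hmap]
    exact (Set.ncard_le_ncard (fun k hk => hk.1) (Set.toFinite _)).trans
      (Nat.card_coe_set_eq (Subgroup.closure (g '' Set.Ico 0 C.n) : Set ↥Co0)).ge
  · rw [hN]; exact hidx

end Cfsg.Agent.Lie.SuzukiMult
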