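import Cfsg.Agent.Lib.Lie.CentralRewrite.Main

/-!
Data for the part at the prime 5 of the multiplier of the sixfold cover of the Suzuki group: matrices,
relations, pairs of derivations and combinations.
-/

set_option autoImplicit false
set_option maxRecDepth 100000

namespace Cfsg.Agent.Lie.SuzukiMult

open CentralRewrite

/-- part of the generators and their transposes -/
def fiveW0 : List (List (List (ℕ × ℤ)) × List (List (ℕ × ℤ))) :=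
  [([[(0, 3), (0, 1), (0, (-1)), (0, 1), (0, (-1)), (0, 1), (0, 3), (0, (-1)), (0, (-1)), (0, (-1)), (0, 1), (0, 1), (0, 1), (0, (-1)), (0, 1), (0, (-3)), (0, 1), (0, 1), (0, (-1)), (0, (-1)), (0, 3), (0, 3), (0, 1), (0, 1)],
      [(0, 1), (0, 3), (0, 1), (0, (-1)), (0, 1), (0, (-1)), (0, 1), (0, 1), (0, (-3)), (0, (-3)), (0, (-1)), (0, (-1)), (0, (-1)), (0, 1), (0, (-1)), (0, (-1)), (0, (-1)), (0, (-1)), (0, (-3)), (0, 1), (0, (-3)), (0, 1), (0, (-1)), (0, (-1))],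
      [(0, 3), (0, 1), (0, (-1)), (0, 1), (0, (-1)), (0, 1), (0, (-1)), (0, (-1)), (0, 3), (0, (-1)), (0, 1), (0, (-3)), (0, 1), (0, (-1)), (0, (-3)), (0, 1), (0, 1), (0, (-3)), (0, (-1)), (0, (-1)), (0, (-1)), (0, (-1)), (0, 1), (0, 1)],
      [(0, (-1)), (0, (-3)), (0, (-1)), (0, 1), (0, (-1)), (0, 1), (0, (-1)), (0, (-1)), (0, (-1)), (0, (-1)), (0, (-3)), (0, (-3)), (0, (-3)), (0, (-1)), (0, 1), (0, (-3)), (0, 1), (0, 1), (0, (-1)), (0, (-1)), (0, (-1)), (0, (-1)), (0, 1), (0, 1)],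
      [(0, 1), (0, 3), (0, 1), (0, 3), (0, 1), (0, (-1)), (0, 1), (0, (-3)), (0, 1), (0, 1), (0, (-1)), (0, (-1)), (0, (-1)), (0, 1), (0, (-1)), (0, (-1)), (0, (-1)), (0, 3), (0, 1), (0, 1), (0, 1), (0, (-3)), (0, (-1)), (0, (-1))],
      [(0, 1), (0, (-1)), (0, (-3)), (0, (-1)), (0, 1), (0, 3), (0, 1), (0, 1), (0, 1), (0, (-3)), (0, (-1)), (0, (-1)), (0, (-1)), (0, 1), (0, (-1)), (0, 3), (0, (-1)), (0, 3), (0, 1), (0, 1), (0, 1), (0, 1), (0, (-1)), (0, (-1))],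
      [(0, (-1)), (0, 1), (0, (-1)), (0, 1), (0, 3), (0, 1), (0, (-1)), (0, (-1)), (0, (-1)), (0, (-1)), (0, 1), (0, 1), (0, 1), (0, (-5)), (0, 1), (0, 1), (0, 1), (0, 1), (0, (-1)), (0, (-1)), (0, (-1)), (0, (-1)), (0, 1), (0, (-3))],
      [(0, 3), (0, 1), (0, (-1)), (0, 1), (0, (-1)), (0, 1), (0, (-1)), (0, 3), (0, (-1)), (0, 3), (0, (-3)), (0, 1), (0, 1), (0, (-1)), (0, 1), (0, 1), (0, 1), (0, 1), (0, (-1)), (0, 3), (0, (-1)), (0, (-1)), (0, 1), (0, 1)],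
      [(0, 1), (0, (-1)), (0, 1), (0, 3), (0, 1), (0, (-1)), (0, (-3)), (0, 1), (0, 1), (0, (-3)), (0, (-1)), (0, 3), (0, (-1)), (0, 1), (0, (-1)), (0, (-1)), (0, 3), (0, (-1)), (0, 1), (0, 1), (0, 1), (0, 1), (0, (-1)), (0, (-1))],
      [(0, (-1)), (0, 1), (0, (-1)), (0, 1), (0, (-1)), (0, (-3)), (0, (-1)), (0, 3), (0, (-1)), (0, (-1)), (0, 1), (0, (-3)), (0, 1), (0, (-1)), (0, 1), (0, 1), (0, 1), (0, 1), (0, (-1)), (0, (-1)), (0, 3), (0, (-1)), (0, (-3)), (0, 1)],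
      [(0, 3), (0, 1), (0, (-1)), (0, (-3)), (0, (-1)), (0, (-3)), (0, (-1)), (0, (-1)), (0, (-1)), (0, (-1)), (0, 1), (0, 1), (0, (-3)), (0, (-1)), (0, 1), (0, 1), (0, 1), (0, 1), (0, 3), (0, (-1)), (0, (-1)), (0, (-1)), (0, 1), (0, 1)],
      [(0, (-1)), (0, 1), (0, (-1)), (0, (-3)), (0, (-1)), (0, 1), (0, (-1)), (0, (-1)), (0, 3), (0, (-1)), (0, 1), (0, 1), (0, 1), (0, (-1)), (0, 1), (0, (-3)), (0, 1), (0, 1), (0, (-1)), (0, 3), (0, (-1)), (0, (-1)), (0, (-3)), (0, 1)],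
      [(0, (-1)), (0, (-3)), (0, (-1)), (0, 1), (0, (-1)), (0, (-3)), (0, 3), (0, (-1)), (0, (-1)), (0, (-1)), (0, 1), (0, 1), (0, 1), (0, (-1)), (0, (-3)), (0, 1), (0, 1), (0, 1), (0, (-1)), (0, 3), (0, (-1)), (0, (-1)), (0, 1), (0, 1)],
      [(0, (-1)), (0, 1), (0, (-1)), (0, 1), (0, 3), (0, 1), (0, (-1)), (0, (-1)), (0, (-1)), (0, (-1)), (0, 1), (0, 1), (0, 1), (0, 3), (0, 1), (0, 1), (0, 1), (0, 1), (0, (-1)), (0, (-1)), (0, (-1)), (0, (-1)), (0, 1), (0, 5)],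
      [(0, (-1)), (0, 1), (0, (-1)), (0, 1), (0, (-1)), (0, 1), (0, (-1)), (0, 3), (0, (-1)), (0, (-1)), (0, 1), (0, 1), (0, 1), (0, (-1)), (0, (-3)), (0, (-3)), (0, (-3)), (0, 1), (0, 3), (0, (-1)), (0, (-1)), (0, (-1)), (0, 1), (0, 1)],
      [(0, (-1)), (0, 1), (0, 3), (0, 1), (0, (-1)), (0, 1), (0, (-1)), (0, (-1)), (0, (-1)), (0, (-1)), (0, 1), (0, (-3)), (0, 1), (0, (-1)), (0, 1), (0, 1), (0, 1), (0, 1), (0, 3), (0, 3), (0, (-1)), (0, 3), (0, 1), (0, 1)],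
      [(0, 1), (0, (-1)), (0, 1), (0, (-1)), (0, 1), (0, (-1)), (0, 1), (0, 1), (0, 1), (0, 1), (0, (-1)), (0, (-1)), (0, 3), (0, 1), (0, (-1)), (0, (-1)), (0, 3), (0, 3), (0, 1), (0, (-3)), (0, (-3)), (0, 1), (0, (-1)), (0, (-1))],
      [(0, (-1)), (0, 1), (0, 3), (0, 1), (0, (-1)), (0, 1), (0, 3), (0, 3), (0, 3), (0, (-1)), (0, 1), (0, 1), (0, (-3)), (0, (-1)), (0, 1), (0, 1), (0, 1), (0, 1), (0, (-1)), (0, (-1)), (0, (-1)), (0, (-1)), (0, 1), (0, 1)],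
      [(0, (-1)), (0, 1), (0, (-1)), (0, 1), (0, (-1)), (0, 1), (0, 3), (0, (-1)), (0, (-1)), (0, (-1)), (0, (-3)), (0, 1), (0, 1), (0, (-1)), (0, 1), (0, 1), (0, 1), (0, (-3)), (0, 3), (0, (-1)), (0, (-1)), (0, (-1)), (0, (-3)), (0, 1)],
      [(0, 1), (0, (-1)), (0, (-3)), (0, 3), (0, 1), (0, (-1)), (0, 1), (0, 1), (0, 1), (0, 1), (0, 3), (0, (-1)), (0, (-1)), (0, 1), (0, 3), (0, (-1)), (0, (-1)), (0, (-1)), (0, 1), (0, 1), (0, (-3)), (0, 1), (0, (-1)), (0, (-1))],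
      [(0, 1), (0, (-1)), (0, 1), (0, (-1)), (0, 5), (0, (-1)), (0, 1), (0, 1), (0, 1), (0, 1), (0, (-1)), (0, (-1)), (0, (-1)), (0, (-3)), (0, (-1)), (0, (-1)), (0, (-1)), (0, (-1)), (0, 1), (0, 1), (0, 1), (0, 1), (0, (-1)), (0, 3)],
      [(0, (-1)), (0, 1), (0, (-1)), (0, 1), (0, (-1)), (0, 1), (0, (-1)), (0, (-1)), (0, (-1)), (0, 3), (0, 1), (0, 1), (0, (-3)), (0, (-1)), (0, (-3)), (0, 1), (0, 1), (0, 1), (0, (-1)), (0, (-1)), (0, (-1)), (0, 3), (0, (-3)), (0, 1)],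
      [(0, (-3)), (0, 3), (0, (-3)), (0, (-1)), (0, 1), (0, (-1)), (0, 1), (0, 1), (0, 1), (0, 1), (0, (-1)), (0, (-1)), (0, (-1)), (0, 1), (0, (-1)), (0, (-1)), (0, 3), (0, (-1)), (0, 1), (0, 1), (0, 1), (0, 1), (0, 3), (0, (-1))],
      [(0, (-1)), (0, 1), (0, (-1)), (0, 1), (0, (-1)), (0, (-3)), (0, (-1)), (0, (-1)), (0, 3), (0, (-1)), (0, (-3)), (0, 1), (0, 1), (0, (-1)), (0, 1), (0, 1), (0, (-3)), (0, 1), (0, (-1)), (0, (-1)), (0, (-1)), (0, 3), (0, 1), (0, 1)]],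
     [[(0, 3), (0, 1), (0, 3), (0, (-1)), (0, 1), (0, 1), (0, (-1)), (0, 3), (0, 1), (0, (-1)), (0, 3), (0, (-1)), (0, (-1)), (0, (-1)), (0, (-1)), (0, (-1)), (0, 1), (0, (-1)), (0, (-1)), (0, 1), (0, 1), (0, (-1)), (0, (-3)), (0, (-1))],
      [(0, 1), (0, 3), (0, 1), (0, (-3)), (0, 3), (0, (-1)), (0, 1), (0, 1), (0, (-1)), (0, 1), (0, 1), (0, 1), (0, (-3)), (0, 1), (0, 1), (0, 1), (0, (-1)), (0, 1), (0, 1), (0, (-1)), (0, (-1)), (0, 1), (0, 3), (0, 1)],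
      [(0, (-1)), (0, 1), (0, (-1)), (0, (-1)), (0, 1), (0, (-3)), (0, (-1)), (0, (-1)), (0, 1), (0, (-1)), (0, (-1)), (0, (-1)), (0, (-1)), (0, (-1)), (0, (-1)), (0, 3), (0, 1), (0, 3), (0, (-1)), (0, (-3)), (0, 1), (0, (-1)), (0, (-3)), (0, (-1))],
      [(0, 1), (0, (-1)), (0, 1), (0, 1), (0, 3), (0, (-1)), (0, 1), (0, 1), (0, 3), (0, 1), (0, (-3)), (0, (-3)), (0, 1), (0, 1), (0, 1), (0, 1), (0, (-1)), (0, 1), (0, 1), (0, 3), (0, (-1)), (0, 1), (0, (-1)), (0, 1)],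
      [(0, (-1)), (0, 1), (0, (-1)), (0, (-1)), (0, 1), (0, 1), (0, 3), (0, (-1)), (0, 1), (0, (-1)), (0, (-1)), (0, (-1)), (0, (-1)), (0, 3), (0, (-1)), (0, (-1)), (0, 1), (0, (-1)), (0, (-1)), (0, 1), (0, 5), (0, (-1)), (0, 1), (0, (-1))],
      [(0, 1), (0, (-1)), (0, 1), (0, 1), (0, (-1)), (0, 3), (0, 1), (0, 1), (0, (-1)), (0, (-3)), (0, (-3)), (0, 1), (0, (-3)), (0, 1), (0, 1), (0, 1), (0, (-1)), (0, 1), (0, 1), (0, (-1)), (0, (-1)), (0, 1), (0, (-1)), (0, (-3))],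
      [(0, 3), (0, 1), (0, (-1)), (0, (-1)), (0, 1), (0, 1), (0, (-1)), (0, (-1)), (0, (-3)), (0, (-1)), (0, (-1)), (0, (-1)), (0, 3), (0, (-1)), (0, (-1)), (0, (-1)), (0, 1), (0, 3), (0, 3), (0, 1), (0, 1), (0, (-1)), (0, 1), (0, (-1))],
      [(0, (-1)), (0, 1), (0, (-1)), (0, (-1)), (0, (-3)), (0, 1), (0, (-1)), (0, 3), (0, 1), (0, 3), (0, (-1)), (0, (-1)), (0, (-1)), (0, (-1)), (0, 3), (0, (-1)), (0, 1), (0, 3), (0, (-1)), (0, 1), (0, 1), (0, (-1)), (0, 1), (0, (-1))],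
      [(0, (-1)), (0, (-3)), (0, 3), (0, (-1)), (0, 1), (0, 1), (0, (-1)), (0, (-1)), (0, 1), (0, (-1)), (0, (-1)), (0, 3), (0, (-1)), (0, (-1)), (0, (-1)), (0, (-1)), (0, 1), (0, 3), (0, (-1)), (0, 1), (0, 1), (0, (-1)), (0, 1), (0, 3)],
      [(0, (-1)), (0, (-3)), (0, (-1)), (0, (-1)), (0, 1), (0, (-3)), (0, (-1)), (0, 3), (0, (-3)), (0, (-1)), (0, (-1)), (0, (-1)), (0, (-1)), (0, (-1)), (0, (-1)), (0, (-1)), (0, 1), (0, (-1)), (0, (-1)), (0, 1), (0, 1), (0, 3), (0, 1), (0, (-1))],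
      [(0, 1), (0, (-1)), (0, 1), (0, (-3)), (0, (-1)), (0, (-1)), (0, 1), (0, (-3)), (0, (-1)), (0, 1), (0, 1), (0, 1), (0, 1), (0, 1), (0, 1), (0, 1), (0, (-1)), (0, 1), (0, (-3)), (0, 3), (0, (-1)), (0, 1), (0, (-1)), (0, (-3))],
      [(0, 1), (0, (-1)), (0, (-3)), (0, (-3)), (0, (-1)), (0, (-1)), (0, 1), (0, 1), (0, 3), (0, (-3)), (0, 1), (0, 1), (0, 1), (0, 1), (0, 1), (0, (-3)), (0, (-1)), (0, 1), (0, 1), (0, (-1)), (0, (-1)), (0, 1), (0, (-1)), (0, 1)],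
      [(0, 1), (0, (-1)), (0, 1), (0, (-3)), (0, (-1)), (0, (-1)), (0, 1), (0, 1), (0, (-1)), (0, 1), (0, (-3)), (0, 1), (0, 1), (0, 1), (0, 1), (0, 1), (0, 3), (0, (-3)), (0, 1), (0, (-1)), (0, (-1)), (0, (-3)), (0, (-1)), (0, 1)],
      [(0, (-1)), (0, 1), (0, (-1)), (0, (-1)), (0, 1), (0, 1), (0, (-5)), (0, (-1)), (0, 1), (0, (-1)), (0, (-1)), (0, (-1)), (0, (-1)), (0, 3), (0, (-1)), (0, (-1)), (0, 1), (0, (-1)), (0, (-1)), (0, 1), (0, (-3)), (0, (-1)), (0, 1), (0, (-1))],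
      [(0, 1), (0, (-1)), (0, (-3)), (0, 1), (0, (-1)), (0, (-1)), (0, 1), (0, 1), (0, (-1)), (0, 1), (0, 1), (0, 1), (0, (-3)), (0, 1), (0, (-3)), (0, 1), (0, (-1)), (0, 1), (0, 1), (0, 3), (0, (-1)), (0, (-3)), (0, (-1)), (0, 1)],
      [(0, (-3)), (0, (-1)), (0, 1), (0, (-3)), (0, (-1)), (0, 3), (0, 1), (0, 1), (0, (-1)), (0, 1), (0, 1), (0, (-3)), (0, 1), (0, 1), (0, (-3)), (0, 1), (0, (-1)), (0, 1), (0, 1), (0, (-1)), (0, (-1)), (0, 1), (0, (-1)), (0, 1)],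
      [(0, 1), (0, (-1)), (0, 1), (0, 1), (0, (-1)), (0, (-1)), (0, 1), (0, 1), (0, 3), (0, 1), (0, 1), (0, 1), (0, 1), (0, 1), (0, (-3)), (0, 1), (0, 3), (0, 1), (0, 1), (0, (-1)), (0, (-1)), (0, 1), (0, 3), (0, (-3))],
      [(0, 1), (0, (-1)), (0, (-3)), (0, 1), (0, 3), (0, 3), (0, 1), (0, 1), (0, (-1)), (0, 1), (0, 1), (0, 1), (0, 1), (0, 1), (0, 1), (0, 1), (0, 3), (0, 1), (0, (-3)), (0, (-1)), (0, (-1)), (0, 1), (0, (-1)), (0, 1)],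
      [(0, (-1)), (0, (-3)), (0, (-1)), (0, (-1)), (0, 1), (0, 1), (0, (-1)), (0, (-1)), (0, 1), (0, (-1)), (0, 3), (0, (-1)), (0, (-1)), (0, (-1)), (0, 3), (0, 3), (0, 1), (0, (-1)), (0, 3), (0, 1), (0, 1), (0, (-1)), (0, 1), (0, (-1))],
      [(0, (-1)), (0, 1), (0, (-1)), (0, (-1)), (0, 1), (0, 1), (0, (-1)), (0, 3), (0, 1), (0, (-1)), (0, (-1)), (0, 3), (0, 3), (0, (-1)), (0, (-1)), (0, 3), (0, (-3)), (0, (-1)), (0, (-1)), (0, 1), (0, 1), (0, (-1)), (0, 1), (0, (-1))],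
      [(0, 3), (0, (-3)), (0, (-1)), (0, (-1)), (0, 1), (0, 1), (0, (-1)), (0, (-1)), (0, 1), (0, 3), (0, (-1)), (0, (-1)), (0, (-1)), (0, (-1)), (0, (-1)), (0, (-1)), (0, (-3)), (0, (-1)), (0, (-1)), (0, (-3)), (0, 1), (0, (-1)), (0, 1), (0, (-1))],
      [(0, 3), (0, 1), (0, (-1)), (0, (-1)), (0, (-3)), (0, 1), (0, (-1)), (0, (-1)), (0, 1), (0, (-1)), (0, (-1)), (0, (-1)), (0, (-1)), (0, (-1)), (0, (-1)), (0, 3), (0, 1), (0, (-1)), (0, (-1)), (0, 1), (0, 1), (0, 3), (0, 1), (0, 3)],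
      [(0, 1), (0, (-1)), (0, 1), (0, 1), (0, (-1)), (0, (-1)), (0, 1), (0, 1), (0, (-1)), (0, (-3)), (0, 1), (0, (-3)), (0, 1), (0, 1), (0, 1), (0, 1), (0, (-1)), (0, 1), (0, (-3)), (0, (-1)), (0, (-1)), (0, (-3)), (0, 3), (0, 1)],
      [(0, 1), (0, (-1)), (0, 1), (0, 1), (0, (-1)), (0, (-1)), (0, (-3)), (0, 1), (0, (-1)), (0, 1), (0, 1), (0, 1), (0, 1), (0, 5), (0, 1), (0, 1), (0, (-1)), (0, 1), (0, 1), (0, (-1)), (0, 3), (0, 1), (0, (-1)), (0, 1)]]),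
    ([[(0, (-3)), (0, (-1)), (0, (-1)), (0, (-1)), (0, 1), (0, (-1)), (0, (-1)), (0, (-1)), (0, 3), (0, 1), (0, (-1)), (0, (-1)), (0, (-1)), (0, (-3)), (0, (-1)), (0, 3), (0, 1), (0, 1), (0, 1), (0, (-1)), (0, 3), (0, 1), (0, (-1)), (0, (-1))],
      [(0, 1), (0, (-1)), (0, 3), (0, (-1)), (0, (-3)), (0, (-1)), (0, (-1)), (0, (-1)), (0, (-1)), (0, 1), (0, 3), (0, (-1)), (0, (-1)), (0, 1), (0, (-1)), (0, (-1)), (0, 1), (0, 1), (0, (-3)), (0, (-1)), (0, 3), (0, 1), (0, (-1)), (0, (-1))],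
      [(0, 1), (0, (-5)), (0, (-1)), (0, (-1)), (0, 1), (0, (-1)), (0, (-1)), (0, (-1)), (0, (-1)), (0, 1), (0, (-1)), (0, 3), (0, (-1)), (0, 1), (0, (-1)), (0, (-1)), (0, 1), (0, 1), (0, 1), (0, (-1)), (0, (-1)), (0, 1), (0, 3), (0, (-1))],
      [(0, (-1)), (0, 1), (0, 1), (0, (-3)), (0, (-1)), (0, 1), (0, 1), (0, 1), (0, 1), (0, (-1)), (0, 1), (0, 1), (0, 1), (0, 3), (0, (-3)), (0, 1), (0, (-1)), (0, (-1)), (0, 3), (0, 1), (0, 1), (0, (-1)), (0, 1), (0, (-3))],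
      [(0, (-1)), (0, 1), (0, 1), (0, 1), (0, (-1)), (0, 1), (0, (-3)), (0, (-3)), (0, 1), (0, (-1)), (0, 1), (0, 1), (0, 1), (0, (-1)), (0, (-3)), (0, 1), (0, (-1)), (0, (-1)), (0, (-1)), (0, (-3)), (0, (-3)), (0, (-1)), (0, 1), (0, 1)],
      [(0, (-1)), (0, 1), (0, 1), (0, 1), (0, (-1)), (0, (-3)), (0, 1), (0, (-3)), (0, (-3)), (0, 3), (0, 1), (0, 1), (0, 1), (0, (-1)), (0, 1), (0, 1), (0, (-1)), (0, (-1)), (0, 3), (0, 1), (0, 1), (0, (-1)), (0, 1), (0, 1)],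
      [(0, 1), (0, (-1)), (0, 3), (0, (-1)), (0, 1), (0, (-1)), (0, (-1)), (0, (-1)), (0, 3), (0, 1), (0, (-1)), (0, (-1)), (0, (-1)), (0, 1), (0, 3), (0, (-1)), (0, (-3)), (0, (-3)), (0, 1), (0, (-1)), (0, (-1)), (0, 1), (0, (-1)), (0, (-1))],
      [(0, 1), (0, (-1)), (0, (-1)), (0, (-1)), (0, 1), (0, 3), (0, 3), (0, (-1)), (0, (-1)), (0, 1), (0, 3), (0, (-1)), (0, (-1)), (0, (-3)), (0, (-1)), (0, (-1)), (0, (-3)), (0, 1), (0, 1), (0, (-1)), (0, (-1)), (0, 1), (0, (-1)), (0, (-1))],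
      [(0, (-3)), (0, (-1)), (0, (-1)), (0, (-1)), (0, (-3)), (0, 3), (0, (-1)), (0, (-1)), (0, (-1)), (0, 1), (0, (-1)), (0, (-1)), (0, 3), (0, 1), (0, 3), (0, (-1)), (0, 1), (0, 1), (0, 1), (0, (-1)), (0, (-1)), (0, 1), (0, (-1)), (0, (-1))],
      [(0, 3), (0, 1), (0, 1), (0, 1), (0, (-1)), (0, 1), (0, 1), (0, (-3)), (0, 1), (0, (-1)), (0, (-3)), (0, 1), (0, 1), (0, (-1)), (0, 1), (0, 1), (0, (-1)), (0, 3), (0, (-1)), (0, 1), (0, 1), (0, (-1)), (0, 1), (0, (-3))],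
      [(0, (-1)), (0, 1), (0, 1), (0, 1), (0, (-1)), (0, 1), (0, 1), (0, 1), (0, 1), (0, 3), (0, (-3)), (0, 1), (0, 1), (0, (-1)), (0, (-3)), (0, (-3)), (0, (-1)), (0, (-1)), (0, (-1)), (0, 1), (0, 1), (0, 3), (0, 1), (0, 1)],
      [(0, 1), (0, (-1)), (0, (-1)), (0, 3), (0, (-3)), (0, (-1)), (0, (-1)), (0, 3), (0, (-1)), (0, 1), (0, (-1)), (0, (-1)), (0, (-1)), (0, 1), (0, (-1)), (0, 3), (0, (-3)), (0, 1), (0, 1), (0, (-1)), (0, (-1)), (0, 1), (0, (-1)), (0, (-1))],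
      [(0, (-1)), (0, 1), (0, 1), (0, 1), (0, (-1)), (0, 1), (0, (-3)), (0, 1), (0, 1), (0, (-1)), (0, 1), (0, 1), (0, (-3)), (0, (-1)), (0, 1), (0, (-3)), (0, (-1)), (0, 3), (0, 3), (0, 1), (0, 1), (0, (-1)), (0, 1), (0, 1)],
      [(0, (-1)), (0, 1), (0, 1), (0, (-3)), (0, (-1)), (0, (-3)), (0, 1), (0, 1), (0, 1), (0, (-1)), (0, 1), (0, 1), (0, 1), (0, (-1)), (0, 1), (0, 1), (0, (-1)), (0, 3), (0, (-1)), (0, 1), (0, (-3)), (0, 3), (0, 1), (0, 1)],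
      [(0, (-1)), (0, 1), (0, 1), (0, 1), (0, 3), (0, 1), (0, (-3)), (0, 1), (0, (-3)), (0, (-1)), (0, 1), (0, 1), (0, 1), (0, (-1)), (0, 1), (0, 1), (0, (-1)), (0, (-1)), (0, (-1)), (0, 1), (0, 1), (0, 3), (0, 1), (0, (-3))],
      [(0, (-1)), (0, 1), (0, (-3)), (0, 1), (0, (-1)), (0, (-3)), (0, 1), (0, 1), (0, 1), (0, (-1)), (0, 1), (0, 1), (0, 1), (0, (-1)), (0, 1), (0, (-3)), (0, (-1)), (0, (-1)), (0, (-1)), (0, (-3)), (0, 1), (0, (-1)), (0, 1), (0, (-3))],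
      [(0, (-1)), (0, (-3)), (0, 1), (0, 1), (0, (-1)), (0, 1), (0, 1), (0, 1), (0, 1), (0, (-1)), (0, 1), (0, 5), (0, 1), (0, (-1)), (0, 1), (0, 1), (0, (-1)), (0, (-1)), (0, (-1)), (0, 1), (0, 1), (0, (-1)), (0, (-3)), (0, 1)],
      [(0, 1), (0, (-1)), (0, (-1)), (0, (-1)), (0, (-3)), (0, (-1)), (0, (-1)), (0, (-1)), (0, (-1)), (0, (-3)), (0, (-1)), (0, (-1)), (0, (-1)), (0, (-3)), (0, (-1)), (0, (-1)), (0, 1), (0, (-3)), (0, 1), (0, 3), (0, (-1)), (0, 1), (0, (-1)), (0, (-1))],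
      [(0, (-3)), (0, (-1)), (0, (-1)), (0, (-1)), (0, 1), (0, (-1)), (0, (-1)), (0, (-1)), (0, (-1)), (0, 1), (0, (-1)), (0, (-1)), (0, (-1)), (0, 1), (0, (-1)), (0, (-1)), (0, (-3)), (0, 1), (0, (-3)), (0, 3), (0, (-1)), (0, (-3)), (0, (-1)), (0, (-1))],
      [(0, (-1)), (0, 1), (0, 1), (0, (-3)), (0, (-1)), (0, 1), (0, 1), (0, 1), (0, (-3)), (0, (-1)), (0, (-3)), (0, 1), (0, (-3)), (0, (-1)), (0, 1), (0, 1), (0, (-1)), (0, (-1)), (0, (-1)), (0, (-3)), (0, 1), (0, (-1)), (0, 1), (0, 1)],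
      [(0, (-3)), (0, (-1)), (0, 3), (0, 3), (0, 1), (0, (-1)), (0, 3), (0, (-1)), (0, (-1)), (0, (-3)), (0, (-1)), (0, (-1)), (0, (-1)), (0, 1), (0, (-1)), (0, (-1)), (0, 1), (0, 1), (0, 1), (0, (-1)), (0, (-1)), (0, 1), (0, (-1)), (0, (-1))],
      [(0, 1), (0, (-1)), (0, 3), (0, (-1)), (0, 1), (0, (-1)), (0, (-1)), (0, 3), (0, (-1)), (0, 1), (0, (-1)), (0, (-1)), (0, 3), (0, (-3)), (0, (-1)), (0, (-1)), (0, 1), (0, 1), (0, 1), (0, (-1)), (0, (-1)), (0, (-3)), (0, (-1)), (0, (-1))],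
      [(0, 1), (0, 3), (0, (-1)), (0, (-1)), (0, 1), (0, (-1)), (0, (-1)), (0, (-1)), (0, (-1)), (0, 1), (0, (-1)), (0, 3), (0, (-1)), (0, 1), (0, (-1)), (0, (-1)), (0, 1), (0, 1), (0, 1), (0, (-1)), (0, (-1)), (0, 1), (0, (-5)), (0, (-1))],
      [(0, (-1)), (0, 1), (0, 1), (0, 1), (0, (-1)), (0, 1), (0, 1), (0, 1), (0, 1), (0, 3), (0, 1), (0, 1), (0, (-3)), (0, (-1)), (0, 1), (0, 1), (0, 3), (0, (-1)), (0, (-1)), (0, 1), (0, (-3)), (0, (-1)), (0, 1), (0, (-3))]],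
     [[(0, (-3)), (0, 1), (0, 1), (0, (-1)), (0, (-1)), (0, (-1)), (0, 1), (0, 1), (0, (-3)), (0, 3), (0, (-1)), (0, 1), (0, (-1)), (0, (-1)), (0, (-1)), (0, (-1)), (0, (-1)), (0, 1), (0, (-3)), (0, (-1)), (0, (-3)), (0, 1), (0, 1), (0, (-1))],
      [(0, (-1)), (0, (-1)), (0, (-5)), (0, 1), (0, 1), (0, 1), (0, (-1)), (0, (-1)), (0, (-1)), (0, 1), (0, 1), (0, (-1)), (0, 1), (0, 1), (0, 1), (0, 1), (0, (-3)), (0, (-1)), (0, (-1)), (0, 1), (0, (-1)), (0, (-1)), (0, 3), (0, 1)],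
      [(0, (-1)), (0, 3), (0, (-1)), (0, 1), (0, 1), (0, 1), (0, 3), (0, (-1)), (0, (-1)), (0, 1), (0, 1), (0, (-1)), (0, 1), (0, 1), (0, 1), (0, (-3)), (0, 1), (0, (-1)), (0, (-1)), (0, 1), (0, 3), (0, 3), (0, (-1)), (0, 1)],
      [(0, (-1)), (0, (-1)), (0, (-1)), (0, (-3)), (0, 1), (0, 1), (0, (-1)), (0, (-1)), (0, (-1)), (0, 1), (0, 1), (0, 3), (0, 1), (0, (-3)), (0, 1), (0, 1), (0, 1), (0, (-1)), (0, (-1)), (0, (-3)), (0, 3), (0, (-1)), (0, (-1)), (0, 1)],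
      [(0, 1), (0, (-3)), (0, 1), (0, (-1)), (0, (-1)), (0, (-1)), (0, 1), (0, 1), (0, (-3)), (0, (-1)), (0, (-1)), (0, (-3)), (0, (-1)), (0, (-1)), (0, 3), (0, (-1)), (0, (-1)), (0, (-3)), (0, 1), (0, (-1)), (0, 1), (0, 1), (0, 1), (0, (-1))],
      [(0, (-1)), (0, (-1)), (0, (-1)), (0, 1), (0, 1), (0, (-3)), (0, (-1)), (0, 3), (0, 3), (0, 1), (0, 1), (0, (-1)), (0, 1), (0, (-3)), (0, 1), (0, (-3)), (0, 1), (0, (-1)), (0, (-1)), (0, 1), (0, (-1)), (0, (-1)), (0, (-1)), (0, 1)],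
      [(0, (-1)), (0, (-1)), (0, (-1)), (0, 1), (0, (-3)), (0, 1), (0, (-1)), (0, 3), (0, (-1)), (0, 1), (0, 1), (0, (-1)), (0, (-3)), (0, 1), (0, (-3)), (0, 1), (0, 1), (0, (-1)), (0, (-1)), (0, 1), (0, 3), (0, (-1)), (0, (-1)), (0, 1)],
      [(0, (-1)), (0, (-1)), (0, (-1)), (0, 1), (0, (-3)), (0, (-3)), (0, (-1)), (0, (-1)), (0, (-1)), (0, (-3)), (0, 1), (0, 3), (0, 1), (0, 1), (0, 1), (0, 1), (0, 1), (0, (-1)), (0, (-1)), (0, 1), (0, (-1)), (0, 3), (0, (-1)), (0, 1)],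
      [(0, 3), (0, (-1)), (0, (-1)), (0, 1), (0, 1), (0, (-3)), (0, 3), (0, (-1)), (0, (-1)), (0, 1), (0, 1), (0, (-1)), (0, 1), (0, 1), (0, (-3)), (0, 1), (0, 1), (0, (-1)), (0, (-1)), (0, (-3)), (0, (-1)), (0, (-1)), (0, (-1)), (0, 1)],
      [(0, 1), (0, 1), (0, 1), (0, (-1)), (0, (-1)), (0, 3), (0, 1), (0, 1), (0, 1), (0, (-1)), (0, 3), (0, 1), (0, (-1)), (0, (-1)), (0, (-1)), (0, (-1)), (0, (-1)), (0, (-3)), (0, 1), (0, (-1)), (0, (-3)), (0, 1), (0, 1), (0, 3)],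
      [(0, (-1)), (0, 3), (0, (-1)), (0, 1), (0, 1), (0, 1), (0, (-1)), (0, 3), (0, (-1)), (0, (-3)), (0, (-3)), (0, (-1)), (0, 1), (0, 1), (0, 1), (0, 1), (0, 1), (0, (-1)), (0, (-1)), (0, (-3)), (0, (-1)), (0, (-1)), (0, (-1)), (0, 1)],
      [(0, (-1)), (0, (-1)), (0, 3), (0, 1), (0, 1), (0, 1), (0, (-1)), (0, (-1)), (0, (-1)), (0, 1), (0, 1), (0, (-1)), (0, 1), (0, 1), (0, 1), (0, 1), (0, 5), (0, (-1)), (0, (-1)), (0, 1), (0, (-1)), (0, (-1)), (0, 3), (0, 1)],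
      [(0, (-1)), (0, (-1)), (0, (-1)), (0, 1), (0, 1), (0, 1), (0, (-1)), (0, (-1)), (0, 3), (0, 1), (0, 1), (0, (-1)), (0, (-3)), (0, 1), (0, 1), (0, 1), (0, 1), (0, (-1)), (0, (-1)), (0, (-3)), (0, (-1)), (0, 3), (0, (-1)), (0, (-3))],
      [(0, (-3)), (0, 1), (0, 1), (0, 3), (0, (-1)), (0, (-1)), (0, 1), (0, (-3)), (0, 1), (0, (-1)), (0, (-1)), (0, 1), (0, (-1)), (0, (-1)), (0, (-1)), (0, (-1)), (0, (-1)), (0, (-3)), (0, 1), (0, (-1)), (0, 1), (0, (-3)), (0, 1), (0, (-1))],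
      [(0, (-1)), (0, (-1)), (0, (-1)), (0, (-3)), (0, (-3)), (0, 1), (0, 3), (0, (-1)), (0, 3), (0, 1), (0, (-3)), (0, (-1)), (0, 1), (0, 1), (0, 1), (0, 1), (0, 1), (0, (-1)), (0, (-1)), (0, 1), (0, (-1)), (0, (-1)), (0, (-1)), (0, 1)],
      [(0, 3), (0, (-1)), (0, (-1)), (0, 1), (0, 1), (0, 1), (0, (-1)), (0, (-1)), (0, (-1)), (0, 1), (0, (-3)), (0, 3), (0, (-3)), (0, 1), (0, 1), (0, (-3)), (0, 1), (0, (-1)), (0, (-1)), (0, 1), (0, (-1)), (0, (-1)), (0, (-1)), (0, 1)],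
      [(0, 1), (0, 1), (0, 1), (0, (-1)), (0, (-1)), (0, (-1)), (0, (-3)), (0, (-3)), (0, 1), (0, (-1)), (0, (-1)), (0, (-3)), (0, (-1)), (0, (-1)), (0, (-1)), (0, (-1)), (0, (-1)), (0, 1), (0, (-3)), (0, (-1)), (0, 1), (0, 1), (0, 1), (0, 3)],
      [(0, 1), (0, 1), (0, 1), (0, (-1)), (0, (-1)), (0, (-1)), (0, (-3)), (0, 1), (0, 1), (0, 3), (0, (-1)), (0, 1), (0, 3), (0, 3), (0, (-1)), (0, (-1)), (0, (-1)), (0, (-3)), (0, 1), (0, (-1)), (0, 1), (0, 1), (0, 1), (0, (-1))],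
      [(0, 1), (0, (-3)), (0, 1), (0, 3), (0, (-1)), (0, 3), (0, 1), (0, 1), (0, 1), (0, (-1)), (0, (-1)), (0, 1), (0, 3), (0, (-1)), (0, (-1)), (0, (-1)), (0, (-1)), (0, 1), (0, (-3)), (0, (-1)), (0, 1), (0, 1), (0, 1), (0, (-1))],
      [(0, (-1)), (0, (-1)), (0, (-1)), (0, 1), (0, (-3)), (0, 1), (0, (-1)), (0, (-1)), (0, (-1)), (0, 1), (0, 1), (0, (-1)), (0, 1), (0, 1), (0, 1), (0, (-3)), (0, 1), (0, 3), (0, 3), (0, (-3)), (0, (-1)), (0, (-1)), (0, (-1)), (0, 1)],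
      [(0, 3), (0, 3), (0, (-1)), (0, 1), (0, (-3)), (0, 1), (0, (-1)), (0, (-1)), (0, (-1)), (0, 1), (0, 1), (0, (-1)), (0, 1), (0, (-3)), (0, 1), (0, 1), (0, 1), (0, (-1)), (0, (-1)), (0, 1), (0, (-1)), (0, (-1)), (0, (-1)), (0, (-3))],
      [(0, 1), (0, 1), (0, 1), (0, (-1)), (0, (-1)), (0, (-1)), (0, 1), (0, 1), (0, 1), (0, (-1)), (0, 3), (0, 1), (0, (-1)), (0, 3), (0, 3), (0, (-1)), (0, (-1)), (0, 1), (0, (-3)), (0, (-1)), (0, 1), (0, (-3)), (0, 1), (0, (-1))],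
      [(0, (-1)), (0, (-1)), (0, 3), (0, 1), (0, 1), (0, 1), (0, (-1)), (0, (-1)), (0, (-1)), (0, 1), (0, 1), (0, (-1)), (0, 1), (0, 1), (0, 1), (0, 1), (0, (-3)), (0, (-1)), (0, (-1)), (0, 1), (0, (-1)), (0, (-1)), (0, (-5)), (0, 1)],
      [(0, (-1)), (0, (-1)), (0, (-1)), (0, (-3)), (0, 1), (0, 1), (0, (-1)), (0, (-1)), (0, (-1)), (0, (-3)), (0, 1), (0, (-1)), (0, 1), (0, 1), (0, (-3)), (0, (-3)), (0, 1), (0, (-1)), (0, (-1)), (0, 1), (0, (-1)), (0, (-1)), (0, (-1)), (0, (-3))]])]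

/-- part of the generators and their transposes -/
def fiveW1 : List (List (List (ℕ × ℤ)) × List (List (ℕ × ℤ))) :=
  [([[(0, (-5)), (0, 1), (0, (-1)), (0, 3), (0, (-1)), (0, (-1)), (0, 1), (0, 1), (0, (-1)), (0, (-1)), (0, (-1)), (0, 1), (0, (-1)), (0, (-1)), (0, 1), (0, (-1)), (0, (-1)), (0, (-1)), (0, (-1)), (0, (-3)), (0, 1), (0, (-1)), (0, 1), (0, (-1))],
      [(0, 1), (0, (-1)), (0, 1), (0, 1), (0, 1), (0, 1), (0, 3), (0, 3), (0, 1), (0, 1), (0, (-3)), (0, 3), (0, 1), (0, 1), (0, (-1)), (0, 1), (0, (-3)), (0, 1), (0, 1), (0, (-1)), (0, (-1)), (0, 1), (0, (-1)), (0, 1)],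
      [(0, (-1)), (0, 1), (0, (-1)), (0, (-1)), (0, (-1)), (0, (-1)), (0, 1), (0, 1), (0, (-1)), (0, (-1)), (0, (-1)), (0, 1), (0, (-1)), (0, 3), (0, (-3)), (0, (-1)), (0, 3), (0, (-1)), (0, (-1)), (0, 1), (0, 1), (0, 3), (0, 1), (0, 3)],
      [(0, 1), (0, (-1)), (0, 1), (0, 1), (0, (-3)), (0, (-3)), (0, (-1)), (0, (-1)), (0, (-3)), (0, 1), (0, (-3)), (0, (-1)), (0, 1), (0, 1), (0, 3), (0, 1), (0, 1), (0, 1), (0, 1), (0, (-1)), (0, (-1)), (0, 1), (0, (-1)), (0, 1)],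
      [(0, (-1)), (0, 1), (0, (-1)), (0, (-1)), (0, (-1)), (0, (-1)), (0, 1), (0, 1), (0, (-1)), (0, (-1)), (0, (-1)), (0, (-3)), (0, (-1)), (0, (-1)), (0, (-3)), (0, 3), (0, (-1)), (0, 3), (0, (-1)), (0, 1), (0, 1), (0, (-1)), (0, (-3)), (0, (-1))],
      [(0, (-1)), (0, 1), (0, (-1)), (0, (-1)), (0, (-1)), (0, (-1)), (0, (-3)), (0, 1), (0, 3), (0, (-1)), (0, (-1)), (0, 1), (0, (-1)), (0, (-1)), (0, 1), (0, (-1)), (0, (-1)), (0, (-1)), (0, (-1)), (0, 1), (0, (-3)), (0, 3), (0, (-3)), (0, (-1))],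
      [(0, 1), (0, 3), (0, 1), (0, 1), (0, 1), (0, 1), (0, 3), (0, (-1)), (0, 1), (0, 1), (0, 1), (0, (-1)), (0, (-3)), (0, 1), (0, 3), (0, 1), (0, 1), (0, 1), (0, (-3)), (0, (-1)), (0, (-1)), (0, 1), (0, (-1)), (0, 1)],
      [(0, (-1)), (0, 1), (0, 3), (0, (-1)), (0, (-1)), (0, 3), (0, 1), (0, 1), (0, (-1)), (0, (-1)), (0, (-1)), (0, (-3)), (0, 3), (0, (-1)), (0, 1), (0, (-1)), (0, (-1)), (0, (-1)), (0, (-1)), (0, 1), (0, 1), (0, 3), (0, 1), (0, (-1))],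
      [(0, (-1)), (0, 1), (0, (-1)), (0, (-1)), (0, (-1)), (0, 3), (0, (-3)), (0, 1), (0, (-1)), (0, 3), (0, (-1)), (0, 1), (0, (-1)), (0, (-1)), (0, 1), (0, 3), (0, (-1)), (0, (-1)), (0, (-1)), (0, 1), (0, 1), (0, (-1)), (0, 1), (0, 3)],
      [(0, (-1)), (0, 1), (0, (-1)), (0, (-1)), (0, (-1)), (0, (-1)), (0, 1), (0, 1), (0, (-1)), (0, (-1)), (0, 3), (0, 1), (0, 3), (0, 3), (0, 1), (0, 3), (0, (-1)), (0, (-1)), (0, (-1)), (0, 1), (0, (-3)), (0, (-1)), (0, 1), (0, (-1))],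
      [(0, (-1)), (0, (-3)), (0, (-1)), (0, (-1)), (0, (-1)), (0, (-1)), (0, 1), (0, 1), (0, (-1)), (0, 3), (0, 3), (0, 1), (0, (-1)), (0, (-1)), (0, 1), (0, (-1)), (0, (-1)), (0, 3), (0, (-1)), (0, 1), (0, 1), (0, 3), (0, 1), (0, (-1))],
      [(0, (-1)), (0, 1), (0, 3), (0, (-1)), (0, 3), (0, (-1)), (0, (-3)), (0, 1), (0, (-1)), (0, (-1)), (0, (-1)), (0, 1), (0, (-1)), (0, 3), (0, 1), (0, (-1)), (0, (-1)), (0, 3), (0, (-1)), (0, 1), (0, 1), (0, (-1)), (0, 1), (0, (-1))],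
      [(0, (-1)), (0, 1), (0, (-1)), (0, (-1)), (0, (-1)), (0, 3), (0, 1), (0, 1), (0, (-1)), (0, (-1)), (0, (-1)), (0, 1), (0, (-1)), (0, (-1)), (0, 1), (0, (-1)), (0, 3), (0, 3), (0, 3), (0, 1), (0, (-3)), (0, (-1)), (0, 1), (0, (-1))],
      [(0, (-1)), (0, 1), (0, 3), (0, (-1)), (0, (-1)), (0, (-1)), (0, 1), (0, (-3)), (0, (-1)), (0, 3), (0, (-1)), (0, 1), (0, (-1)), (0, (-1)), (0, (-3)), (0, (-1)), (0, (-1)), (0, (-1)), (0, (-1)), (0, 1), (0, (-3)), (0, (-1)), (0, 1), (0, (-1))],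
      [(0, (-1)), (0, (-3)), (0, (-1)), (0, (-1)), (0, 3), (0, (-1)), (0, 1), (0, 1), (0, (-1)), (0, (-1)), (0, (-1)), (0, (-3)), (0, (-1)), (0, (-1)), (0, 1), (0, (-1)), (0, (-1)), (0, (-1)), (0, (-1)), (0, 1), (0, (-3)), (0, (-1)), (0, 1), (0, 3)],
      [(0, (-1)), (0, 1), (0, (-1)), (0, (-1)), (0, 3), (0, (-1)), (0, 1), (0, (-3)), (0, (-1)), (0, (-1)), (0, (-1)), (0, 1), (0, (-1)), (0, (-1)), (0, 1), (0, 3), (0, (-1)), (0, (-1)), (0, 3), (0, 1), (0, 1), (0, 3), (0, 1), (0, (-1))],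
      [(0, 1), (0, (-1)), (0, 1), (0, 1), (0, 1), (0, 1), (0, (-1)), (0, (-1)), (0, (-3)), (0, (-3)), (0, 1), (0, 3), (0, 1), (0, (-3)), (0, (-1)), (0, 1), (0, 1), (0, 1), (0, (-3)), (0, (-1)), (0, (-1)), (0, 1), (0, (-1)), (0, 1)],
      [(0, (-3)), (0, (-1)), (0, 1), (0, 5), (0, 1), (0, 1), (0, (-1)), (0, (-1)), (0, 1), (0, 1), (0, 1), (0, (-1)), (0, 1), (0, 1), (0, (-1)), (0, 1), (0, 1), (0, 1), (0, 1), (0, 3), (0, (-1)), (0, 1), (0, (-1)), (0, 1)],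
      [(0, (-1)), (0, 1), (0, (-1)), (0, (-1)), (0, (-1)), (0, (-1)), (0, 1), (0, (-3)), (0, 3), (0, (-1)), (0, (-1)), (0, 1), (0, 3), (0, (-1)), (0, 1), (0, (-1)), (0, (-1)), (0, 3), (0, (-1)), (0, 1), (0, 1), (0, (-1)), (0, 1), (0, 3)],
      [(0, (-3)), (0, (-1)), (0, 1), (0, (-3)), (0, 1), (0, 1), (0, (-1)), (0, (-1)), (0, 1), (0, 1), (0, 1), (0, (-1)), (0, 1), (0, 1), (0, (-1)), (0, 1), (0, 1), (0, 1), (0, 1), (0, (-5)), (0, (-1)), (0, 1), (0, (-1)), (0, 1)],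
      [(0, (-1)), (0, (-3)), (0, 3), (0, (-1)), (0, (-1)), (0, (-1)), (0, 1), (0, 1), (0, 3), (0, (-1)), (0, (-1)), (0, 1), (0, (-1)), (0, (-1)), (0, 1), (0, 3), (0, 3), (0, (-1)), (0, (-1)), (0, 1), (0, 1), (0, (-1)), (0, 1), (0, (-1))],
      [(0, (-1)), (0, 1), (0, 3), (0, (-1)), (0, (-1)), (0, (-1)), (0, 1), (0, 1), (0, (-1)), (0, (-1)), (0, 3), (0, 1), (0, (-1)), (0, (-1)), (0, 1), (0, (-1)), (0, (-1)), (0, (-1)), (0, 3), (0, 1), (0, 1), (0, (-1)), (0, (-3)), (0, 3)],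
      [(0, 1), (0, (-1)), (0, 1), (0, 1), (0, (-3)), (0, 1), (0, (-1)), (0, (-1)), (0, 1), (0, (-3)), (0, 1), (0, (-1)), (0, (-3)), (0, 1), (0, (-1)), (0, 1), (0, (-3)), (0, 1), (0, 1), (0, (-1)), (0, (-1)), (0, 1), (0, 3), (0, 1)],
      [(0, 1), (0, 3), (0, 1), (0, 1), (0, 1), (0, (-3)), (0, (-1)), (0, 3), (0, 1), (0, 1), (0, 1), (0, (-1)), (0, 1), (0, (-3)), (0, (-1)), (0, 1), (0, 1), (0, 1), (0, 1), (0, (-1)), (0, (-1)), (0, 1), (0, 3), (0, 1)]],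
     [[(0, (-5)), (0, 1), (0, (-1)), (0, 1), (0, (-1)), (0, (-1)), (0, 1), (0, (-1)), (0, (-1)), (0, (-1)), (0, (-1)), (0, (-1)), (0, (-1)), (0, (-1)), (0, (-1)), (0, (-1)), (0, 1), (0, (-3)), (0, (-1)), (0, (-3)), (0, (-1)), (0, (-1)), (0, 1), (0, 1)],
      [(0, 1), (0, (-1)), (0, 1), (0, (-1)), (0, 1), (0, 1), (0, 3), (0, 1), (0, 1), (0, 1), (0, (-3)), (0, 1), (0, 1), (0, 1), (0, (-3)), (0, 1), (0, (-1)), (0, (-1)), (0, 1), (0, (-1)), (0, (-3)), (0, 1), (0, (-1)), (0, 3)],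
      [(0, (-1)), (0, 1), (0, (-1)), (0, 1), (0, (-1)), (0, (-1)), (0, 1), (0, 3), (0, (-1)), (0, (-1)), (0, (-1)), (0, 3), (0, (-1)), (0, 3), (0, (-1)), (0, (-1)), (0, 1), (0, 1), (0, (-1)), (0, 1), (0, 3), (0, 3), (0, 1), (0, 1)],
      [(0, 3), (0, 1), (0, (-1)), (0, 1), (0, (-1)), (0, (-1)), (0, 1), (0, (-1)), (0, (-1)), (0, (-1)), (0, (-1)), (0, (-1)), (0, (-1)), (0, (-1)), (0, (-1)), (0, (-1)), (0, 1), (0, 5), (0, (-1)), (0, (-3)), (0, (-1)), (0, (-1)), (0, 1), (0, 1)],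
      [(0, (-1)), (0, 1), (0, (-1)), (0, (-3)), (0, (-1)), (0, (-1)), (0, 1), (0, (-1)), (0, (-1)), (0, (-1)), (0, (-1)), (0, 3), (0, (-1)), (0, (-1)), (0, 3), (0, 3), (0, 1), (0, 1), (0, (-1)), (0, 1), (0, (-1)), (0, (-1)), (0, (-3)), (0, 1)],
      [(0, (-1)), (0, 1), (0, (-1)), (0, (-3)), (0, (-1)), (0, (-1)), (0, 1), (0, 3), (0, 3), (0, (-1)), (0, (-1)), (0, (-1)), (0, 3), (0, (-1)), (0, (-1)), (0, (-1)), (0, 1), (0, 1), (0, (-1)), (0, 1), (0, (-1)), (0, (-1)), (0, 1), (0, (-3))],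
      [(0, 1), (0, 3), (0, 1), (0, (-1)), (0, 1), (0, (-3)), (0, 3), (0, 1), (0, (-3)), (0, 1), (0, 1), (0, (-3)), (0, 1), (0, 1), (0, 1), (0, 1), (0, (-1)), (0, (-1)), (0, 1), (0, (-1)), (0, 1), (0, 1), (0, (-1)), (0, (-1))],
      [(0, 1), (0, 3), (0, 1), (0, (-1)), (0, 1), (0, 1), (0, (-1)), (0, 1), (0, 1), (0, 1), (0, 1), (0, 1), (0, 1), (0, (-3)), (0, 1), (0, (-3)), (0, (-1)), (0, (-1)), (0, (-3)), (0, (-1)), (0, 1), (0, 1), (0, (-1)), (0, 3)],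
      [(0, (-1)), (0, 1), (0, (-1)), (0, (-3)), (0, (-1)), (0, 3), (0, 1), (0, (-1)), (0, (-1)), (0, (-1)), (0, (-1)), (0, (-1)), (0, (-1)), (0, (-1)), (0, (-1)), (0, (-1)), (0, (-3)), (0, 1), (0, 3), (0, 1), (0, 3), (0, (-1)), (0, 1), (0, 1)],
      [(0, (-1)), (0, 1), (0, (-1)), (0, 1), (0, (-1)), (0, (-1)), (0, 1), (0, (-1)), (0, 3), (0, (-1)), (0, 3), (0, (-1)), (0, (-1)), (0, 3), (0, (-1)), (0, (-1)), (0, (-3)), (0, 1), (0, (-1)), (0, 1), (0, (-1)), (0, (-1)), (0, (-3)), (0, 1)],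
      [(0, (-1)), (0, (-3)), (0, (-1)), (0, (-3)), (0, (-1)), (0, (-1)), (0, 1), (0, (-1)), (0, (-1)), (0, 3), (0, 3), (0, (-1)), (0, (-1)), (0, (-1)), (0, (-1)), (0, (-1)), (0, 1), (0, 1), (0, (-1)), (0, 1), (0, (-1)), (0, 3), (0, 1), (0, 1)],
      [(0, 1), (0, 3), (0, 1), (0, (-1)), (0, (-3)), (0, 1), (0, (-1)), (0, (-3)), (0, 1), (0, 1), (0, 1), (0, 1), (0, 1), (0, 1), (0, (-3)), (0, 1), (0, 3), (0, (-1)), (0, 1), (0, (-1)), (0, 1), (0, 1), (0, (-1)), (0, (-1))],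
      [(0, (-1)), (0, 1), (0, (-1)), (0, 1), (0, (-1)), (0, (-1)), (0, (-3)), (0, 3), (0, (-1)), (0, 3), (0, (-1)), (0, (-1)), (0, (-1)), (0, (-1)), (0, (-1)), (0, (-1)), (0, 1), (0, 1), (0, 3), (0, 1), (0, (-1)), (0, (-1)), (0, (-3)), (0, 1)],
      [(0, (-1)), (0, 1), (0, 3), (0, 1), (0, (-1)), (0, (-1)), (0, 1), (0, (-1)), (0, (-1)), (0, 3), (0, (-1)), (0, 3), (0, (-1)), (0, (-1)), (0, (-1)), (0, (-1)), (0, (-3)), (0, 1), (0, (-1)), (0, 1), (0, (-1)), (0, (-1)), (0, 1), (0, (-3))],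
      [(0, 1), (0, (-1)), (0, (-3)), (0, 3), (0, (-3)), (0, 1), (0, 3), (0, 1), (0, 1), (0, 1), (0, 1), (0, 1), (0, 1), (0, (-3)), (0, 1), (0, 1), (0, (-1)), (0, (-1)), (0, 1), (0, (-1)), (0, 1), (0, 1), (0, (-1)), (0, (-1))],
      [(0, (-1)), (0, 1), (0, (-1)), (0, 1), (0, 3), (0, (-1)), (0, 1), (0, (-1)), (0, 3), (0, 3), (0, (-1)), (0, (-1)), (0, (-1)), (0, (-1)), (0, (-1)), (0, 3), (0, 1), (0, 1), (0, (-1)), (0, 1), (0, 3), (0, (-1)), (0, 1), (0, 1)],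
      [(0, (-1)), (0, (-3)), (0, 3), (0, 1), (0, (-1)), (0, (-1)), (0, 1), (0, (-1)), (0, (-1)), (0, (-1)), (0, (-1)), (0, (-1)), (0, 3), (0, (-1)), (0, (-1)), (0, (-1)), (0, 1), (0, 1), (0, (-1)), (0, 1), (0, 3), (0, (-1)), (0, (-3)), (0, 1)],
      [(0, (-1)), (0, 1), (0, (-1)), (0, 1), (0, 3), (0, (-1)), (0, 1), (0, (-1)), (0, (-1)), (0, (-1)), (0, 3), (0, 3), (0, 3), (0, (-1)), (0, (-1)), (0, (-1)), (0, 1), (0, 1), (0, 3), (0, 1), (0, (-1)), (0, (-1)), (0, 1), (0, 1)],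
      [(0, (-1)), (0, 1), (0, (-1)), (0, 1), (0, (-1)), (0, (-1)), (0, (-3)), (0, (-1)), (0, (-1)), (0, (-1)), (0, (-1)), (0, (-1)), (0, 3), (0, (-1)), (0, (-1)), (0, 3), (0, (-3)), (0, 1), (0, (-1)), (0, 1), (0, (-1)), (0, 3), (0, 1), (0, 1)],
      [(0, (-3)), (0, (-1)), (0, 1), (0, (-1)), (0, 1), (0, 1), (0, (-1)), (0, 1), (0, 1), (0, 1), (0, 1), (0, 1), (0, 1), (0, 1), (0, 1), (0, 1), (0, (-1)), (0, 3), (0, 1), (0, (-5)), (0, 1), (0, 1), (0, (-1)), (0, (-1))],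
      [(0, 1), (0, (-1)), (0, 1), (0, (-1)), (0, 1), (0, (-3)), (0, (-1)), (0, 1), (0, 1), (0, (-3)), (0, 1), (0, 1), (0, (-3)), (0, (-3)), (0, (-3)), (0, 1), (0, (-1)), (0, (-1)), (0, 1), (0, (-1)), (0, 1), (0, 1), (0, (-1)), (0, (-1))],
      [(0, (-1)), (0, 1), (0, 3), (0, 1), (0, (-1)), (0, 3), (0, 1), (0, 3), (0, (-1)), (0, (-1)), (0, 3), (0, (-1)), (0, (-1)), (0, (-1)), (0, (-1)), (0, 3), (0, 1), (0, 1), (0, (-1)), (0, 1), (0, (-1)), (0, (-1)), (0, 1), (0, 1)],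
      [(0, 1), (0, (-1)), (0, 1), (0, (-1)), (0, (-3)), (0, (-3)), (0, (-1)), (0, 1), (0, 1), (0, 1), (0, 1), (0, 1), (0, 1), (0, 1), (0, 1), (0, 1), (0, (-1)), (0, (-1)), (0, 1), (0, (-1)), (0, 1), (0, (-3)), (0, 3), (0, 3)],
      [(0, (-1)), (0, 1), (0, 3), (0, 1), (0, (-1)), (0, (-1)), (0, 1), (0, (-1)), (0, 3), (0, (-1)), (0, (-1)), (0, (-1)), (0, (-1)), (0, (-1)), (0, 3), (0, (-1)), (0, 1), (0, 1), (0, 3), (0, 1), (0, (-1)), (0, 3), (0, 1), (0, 1)]]),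
    ([[(0, 2), (1, 2), (0, (-2)), (0, 2), (0, 2), (0, 2), (0, 2), (0, 2), (0, 2), (1, 2), (0, 2), (1, 2), (0, (-2)), (0, 2), (0, (-2)), (0, (-2))],
      [(1, (-2)), (3, (-4)), (1, 4), (2, (-2)), (2, (-2)), (5, (-2)), (0, (-2)), (0, (-2)), (0, 2), (0, 2)],
      [(1, (-2)), (8, (-2)), (1, (-4)), (0, 2), (1, (-4)), (3, 2), (0, (-2)), (0, 2), (0, 2), (0, (-2))],
      [(1, 2), (8, (-2)), (2, (-2)), (0, 4), (1, (-4)), (2, (-2)), (0, (-2)), (0, 2), (0, (-2)), (0, (-2))],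
      [(1, (-2)), (0, (-4)), (7, (-2)), (2, (-2)), (4, (-4)), (0, 2), (0, 2), (0, 2), (0, (-2)), (0, 2)],
      [(1, 2), (2, (-4)), (5, 2), (0, 4), (1, (-2)), (5, 2), (0, (-2)), (0, 2), (0, 2), (0, 2)],
      [(1, (-2)), (4, (-4)), (1, 4), (1, 2), (2, (-2)), (5, 2), (0, (-2)), (0, (-2)), (0, (-2)), (0, (-2))],
      [(1, (-2)), (4, 4), (1, (-4)), (1, 2), (2, (-2)), (5, 2), (0, (-2)), (0, (-2)), (0, (-2)), (0, (-2))],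
      [(0, 2), (1, 2), (0, (-2)), (0, (-2)), (0, 2), (0, 2), (0, 2), (0, 2), (0, (-2)), (1, (-2)), (0, (-2)), (1, (-2)), (0, 2), (0, (-2)), (0, 2), (0, (-2))],
      [(1, 2), (7, (-4)), (0, (-2)), (2, (-2)), (3, (-4)), (1, 2), (0, 2), (0, (-2)), (0, 2), (0, (-2))],
      [(0, (-2)), (1, 2), (0, 2), (0, (-2)), (0, (-2)), (0, 2), (0, (-2)), (0, 2), (0, (-2)), (1, (-2)), (0, 2), (1, 2), (0, (-2)), (0, 2), (0, 2), (0, (-2))],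
      [(1, 2), (8, (-2)), (2, (-2)), (0, (-4)), (1, 4), (2, (-2)), (0, (-2)), (0, 2), (0, (-2)), (0, (-2))],
      [(1, (-2)), (3, 4), (1, (-4)), (2, (-2)), (2, (-2)), (5, (-2)), (0, (-2)), (0, (-2)), (0, 2), (0, 2)],
      [(0, (-2)), (1, 2), (0, 2), (0, (-2)), (0, 2), (0, (-2)), (0, 2), (0, (-2)), (0, 2), (1, (-2)), (0, (-2)), (1, 2), (0, 2), (0, 2), (0, (-2)), (0, (-2))],
      [(0, (-4)), (0, (-2)), (1, (-4)), (6, 2), (2, (-2)), (5, (-2)), (0, 2), (0, 2), (0, 2), (0, (-2))],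
      [(0, (-4)), (0, 2), (1, (-4)), (6, (-2)), (2, 2), (5, 2), (0, (-2)), (0, (-2)), (0, (-2)), (0, 2)],
      [(0, (-2)), (1, (-2)), (0, 2), (0, 2), (0, 2), (0, 2), (0, 2), (0, 2), (0, (-2)), (1, 2), (0, (-2)), (1, 2), (0, 2), (0, 2), (0, 2), (0, 2)],
      [(0, 2), (1, (-2)), (0, (-2)), (0, (-2)), (0, 2), (0, (-2)), (0, 2), (0, (-2)), (0, (-2)), (1, (-2)), (0, 2), (1, 2), (0, (-2)), (0, 2), (0, 2), (0, 2)],
      [(1, (-2)), (7, (-4)), (0, 2), (2, 2), (3, (-4)), (1, (-2)), (0, (-2)), (0, 2), (0, (-2)), (0, 2)],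
      [(0, 2), (1, (-2)), (0, (-2)), (0, (-2)), (0, (-2)), (0, 2), (0, (-2)), (0, 2), (0, 2), (1, (-2)), (0, (-2)), (1, 2), (0, 2), (0, 2), (0, (-2)), (0, 2)],
      [(1, 2), (8, 2), (1, (-4)), (0, (-2)), (1, (-4)), (3, (-2)), (0, 2), (0, (-2)), (0, (-2)), (0, 2)],
      [(1, 2), (0, (-4)), (7, 2), (2, 2), (4, (-4)), (0, (-2)), (0, (-2)), (0, (-2)), (0, 2), (0, (-2))],
      [(0, (-2)), (1, (-2)), (0, 2), (0, (-2)), (0, 2), (0, 2), (0, 2), (0, 2), (0, 2), (1, (-2)), (0, 2), (1, (-2)), (0, (-2)), (0, (-2)), (0, (-2)), (0, 2)],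
      [(1, 2), (2, 4), (5, 2), (0, (-4)), (1, (-2)), (5, 2), (0, (-2)), (0, 2), (0, 2), (0, 2)]],
     [[(0, 2), (7, 2), (1, (-2)), (2, (-2)), (0, (-4)), (0, (-4)), (0, (-2)), (0, 2), (1, 2), (2, (-2))],
      [(1, (-2)), (0, (-2)), (0, 2), (0, (-2)), (0, 2), (0, (-2)), (0, (-2)), (1, 2), (1, 2), (0, (-2)), (1, (-2)), (0, 2), (2, (-2)), (1, 2), (0, 2), (1, 2)],
      [(0, 2), (3, (-4)), (3, 2), (1, 2), (2, 2), (2, (-2)), (0, (-2)), (1, (-2)), (1, (-4)), (0, (-2))],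
      [(0, (-2)), (7, (-2)), (1, 2), (2, 2), (0, (-4)), (0, (-4)), (0, 2), (0, (-2)), (1, (-2)), (2, 2)],
      [(0, 2), (4, (-4)), (2, (-2)), (1, (-2)), (2, (-2)), (2, 2), (0, (-2)), (1, (-2)), (2, (-2)), (0, 4)],
      [(0, 2), (0, (-4)), (6, 2), (1, (-2)), (1, 4), (0, 2), (2, 2), (0, 2), (1, (-2)), (2, 2)],
      [(0, 2), (5, (-4)), (0, 4), (0, 2), (1, 2), (2, (-2)), (2, 2), (0, (-2)), (1, 2), (2, 2)],
      [(0, 2), (0, 4), (6, 2), (1, (-2)), (1, (-4)), (0, 2), (2, 2), (0, 2), (1, (-2)), (2, 2)],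
      [(0, 2), (5, 4), (0, (-4)), (0, 2), (1, 2), (2, (-2)), (2, 2), (0, (-2)), (1, 2), (2, 2)],
      [(0, 2), (7, (-2)), (0, (-4)), (0, (-2)), (2, 2), (2, (-2)), (0, (-2)), (0, (-4)), (0, 2), (2, 2)],
      [(1, (-2)), (0, (-2)), (0, (-2)), (0, (-2)), (0, 2), (0, 2), (0, 2), (1, (-2)), (1, (-2)), (0, (-2)), (1, 2), (0, (-2)), (2, 2), (1, 2), (0, 2), (1, 2)],
      [(0, 2), (4, 4), (2, (-2)), (1, (-2)), (2, (-2)), (2, 2), (0, (-2)), (1, (-2)), (2, (-2)), (0, (-4))],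
      [(0, 2), (1, (-4)), (5, (-2)), (1, 2), (2, (-2)), (2, (-2)), (0, 2), (1, (-2)), (0, (-4)), (1, 2)],
      [(1, (-2)), (0, 2), (0, (-2)), (0, (-2)), (0, (-2)), (0, (-2)), (0, (-2)), (1, (-2)), (1, (-2)), (0, (-2)), (1, (-2)), (0, 2), (2, 2), (1, (-2)), (0, 2), (1, (-2))],
      [(0, 2), (2, 4), (4, (-2)), (1, 2), (0, (-4)), (1, 2), (2, 2), (0, 2), (1, 2), (2, (-2))],
      [(0, (-2)), (1, (-4)), (5, 2), (1, (-2)), (2, 2), (2, 2), (0, (-2)), (1, 2), (0, (-4)), (1, (-2))],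
      [(0, 2), (2, (-4)), (4, (-2)), (1, 2), (0, 4), (1, 2), (2, 2), (0, 2), (1, 2), (2, (-2))],
      [(0, (-2)), (7, 2), (0, (-4)), (0, 2), (2, (-2)), (2, 2), (0, 2), (0, (-4)), (0, (-2)), (2, (-2))],
      [(0, (-2)), (3, (-4)), (3, (-2)), (1, (-2)), (2, (-2)), (2, 2), (0, 2), (1, 2), (1, (-4)), (0, 2)],
      [(1, (-2)), (0, 2), (0, (-2)), (0, 2), (0, 2), (0, 2), (0, 2), (1, 2), (1, (-2)), (0, (-2)), (1, (-2)), (0, 2), (2, (-2)), (1, (-2)), (0, (-2)), (1, 2)],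
      [(1, (-2)), (0, (-2)), (0, (-2)), (0, 2), (0, (-2)), (0, (-2)), (0, (-2)), (1, 2), (1, (-2)), (0, (-2)), (1, 2), (0, (-2)), (2, (-2)), (1, 2), (0, (-2)), (1, (-2))],
      [(1, (-2)), (0, 2), (0, 2), (0, 2), (0, 2), (0, (-2)), (0, (-2)), (1, (-2)), (1, 2), (0, (-2)), (1, 2), (0, (-2)), (2, 2), (1, (-2)), (0, (-2)), (1, 2)],
      [(1, 2), (0, 2), (0, (-2)), (0, (-2)), (0, 2), (0, (-2)), (0, (-2)), (1, 2), (1, (-2)), (0, 2), (1, 2), (0, (-2)), (2, (-2)), (1, (-2)), (0, 2), (1, 2)],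
      [(1, 2), (0, (-2)), (0, (-2)), (0, 2), (0, 2), (0, (-2)), (0, (-2)), (1, (-2)), (1, (-2)), (0, 2), (1, (-2)), (0, 2), (2, 2), (1, 2), (0, (-2)), (1, 2)]])]

/-- the generators and their transposes -/
def fiveW : List (List (List (ℕ × ℤ)) × List (List (ℕ × ℤ))) := fiveW0 ++ fiveW1

/-- part of the relations -/
def fiveRels0 : List Rule :=
  [([0, 0, 0, 0, 0], []),
    ([1, 0], [0, 1]),
    ([1, 1, 1, 1, 1], []),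
    ([2, 1], [1, 1, 1, 1, 2]),
    ([3, 0], [0, 0, 3]),
    ([3, 1], [1, 1, 3])]

/-- the relations -/
def fiveRels : List Rule := fiveRels0

/-- part of the pairs -/
def fiveEqs0 : List Pair :=
  [([2, 1, 1, 1, 1, 1], [(0, 3, true), (4, 3, true), (8, 3, true), (12, 3, true), (16, 3, true), (0, 2, true), (0, 2, true), (0, 2, true), (0, 2, true)], [(1, 2, true)]),
    ([3, 0, 0, 0, 0, 0], [(0, 4, true), (2, 4, true), (4, 4, true), (6, 4, true), (8, 4, true), (0, 0, true), (0, 0, true)], [(1, 0, true)]),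
    ([3, 1, 0], [(0, 5, true), (2, 4, true), (1, 1, true), (0, 1, true), (2, 1, true), (1, 1, true)], [(1, 1, true), (0, 4, true), (2, 5, true)])]

/-- the pairs -/
def fiveEqs : List Pair := fiveEqs0

/-- part of the exponents -/
def fiveVecs0 : List (List ℤ) :=
  [[0, 0, (-2), 0, 0, 0],
    [1, 0, 0, 0, 0, 0],
    [0, (-2), 0, 0, 0, 0]]

/-- the exponents -/
def fiveVecs : List (List ℤ) := fiveVecs0

/-- part of the change of lifts -/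
def fiveGauge0 : List (List (ℕ × ℤ)) :=
  [[],
    [],
    [],
    []]

/-- the change of lifts -/
def fiveGauge : List (List (ℕ × ℤ)) := fiveGauge0

/-- part of the combinations -/
def fiveCombs0 : List (List (ℕ × ℤ)) :=
  [[(1, 1)],
    [(2, 2)],
    [(0, 2)]]

/-- the combinations -/
def fiveCombs : List (List (ℕ × ℤ)) := fiveCombs0

/-- part of the representatives -/
def fiveLvlW0_0 : List (List ℕ) :=
  [[1, 1, 1],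
    [1, 1, 1, 1],
    [],
    [1],
    [1, 1]]

/-- the representatives -/
def fiveLvlW0_ : List (List ℕ) := fiveLvlW0_0

/-- part of the representatives -/
def fiveLvlW1_0 : List (List ℕ) :=
  [[0],
    [0, 0],
    [],
    [0, 0, 0],
    [0, 0, 0, 0]]

/-- the representatives -/
def fiveLvlW1_ : List (List ℕ) := fiveLvlW1_0

/-- the chain -/
def fiveChain : List (List ℤ × List (List ℕ)) := [([0, (-2), 0, 4, 4, 4, 4, 2, 0, 0, (-4), (-4), 0, (-2), 0, 0, 2, 2, 2, 0, 2, (-4), 2, (-4)], fiveLvlW0_),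
  ([0, 0, 2, 0, 2, 2, 0, 2, 2, 2, 2, 0, 0, 0, 0, 0, 0, 0, 0, 0, 2, 0, 0, 0], fiveLvlW1_)]

/-- part of the generators as words -/
def fiveWords0 : List (List ℕ) :=
  [[5, 1, 2, 0, 1, 6, 4, 1, 0, 1, 5, 0, 3, 1, 0, 1, 0, 1, 0, 5, 1, 0, 2, 3, 0, 3, 1, 2, 3, 1, 0, 1, 0, 1, 2, 3, 1, 0, 2, 1, 5, 0, 3, 5, 1, 6, 4, 6, 3, 5, 4, 2, 4, 3, 4, 1, 2, 0, 1, 4, 6, 3, 1, 2, 5, 1, 6, 5, 6, 1, 4, 2, 5, 3, 1, 0, 2, 0, 4, 6, 4, 2, 5, 3, 1, 2, 3, 1, 0, 1, 0, 1, 2, 3, 1, 5, 2, 1, 4, 3, 4, 1, 2, 3, 2, 1, 0, 2, 1, 2, 0, 3, 2, 1, 0, 1, 2, 3, 1, 2, 3, 3, 3],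
    [1, 2, 1, 0, 1, 6, 2, 5, 0, 1, 4, 0, 6, 2, 3, 2, 6, 1, 5, 0, 1, 5, 0, 3, 1, 0, 1, 3, 1, 2, 3, 2, 1, 0, 2, 1, 2, 0, 3, 2, 1, 0, 1, 2, 3, 1, 2, 3, 4, 2, 5, 0, 1, 5, 0, 1, 0, 1, 2, 3, 2, 3, 0, 4, 1, 0, 1, 5, 0, 3, 1, 0, 3, 1, 2, 3, 2, 1, 0, 2, 1, 2, 0, 3, 2, 1, 0, 1, 2, 3, 1, 2, 4, 1, 2, 3, 2, 1, 0, 2, 1, 2, 0, 3, 2, 1, 0, 1, 2, 3, 1, 2, 3, 1, 5, 6, 1, 5, 6, 1, 5, 6, 1, 5, 6, 1, 5, 6, 1, 5, 6, 1, 5, 6, 1, 5, 6, 1, 5, 6, 1, 5, 6],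
    [3, 2, 3, 4, 1, 2, 3, 2, 0, 1, 6, 5, 1, 0, 1, 0, 2, 1, 2, 0, 3, 2, 1, 0, 1, 2, 3, 1, 2, 3, 6, 1, 2, 4, 5, 1, 0, 1, 5, 2, 1, 3, 2, 3, 6, 3, 4, 1, 2, 3, 2, 1, 0, 2, 1, 2, 0, 3, 2, 1, 0, 1, 2, 3, 1, 2, 3, 4, 1, 2, 3, 2, 1, 0, 2, 1, 2, 0, 3, 2, 1, 0, 1, 2, 3, 1, 2, 3],
    [6, 1, 5, 2, 3, 4, 0, 1, 2, 3, 2, 0, 1, 6, 2, 6, 3, 4, 6, 2, 1, 0, 2, 3, 6, 2, 6, 1, 0, 5, 4, 3, 0, 2, 1, 2, 5, 3, 5, 2, 0, 1, 3, 2, 1, 3, 0, 2, 1, 0, 5, 1, 0, 5, 1, 0, 2, 4, 1, 3, 5, 2, 3, 1, 2, 3, 2, 1, 0, 2, 1, 2, 0, 3, 2, 1, 0, 1, 2, 3, 1, 2, 3, 4]]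

/-- the generators as words -/
def fiveWords : List (List ℕ) := fiveWords0

/-- the certificate -/
def fiveCert : Cert where
  p := 5
  n := 2
  ng := 4
  M := 3
  rels := fiveRels
  eqs := fiveEqs
  vecs := fiveVecs
  gauge := fiveGauge
  combs := fiveCombs

end Cfsg.Agent.Lie.SuzukiMult
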