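import Cfsg.Agent.Lib.Lie.SuzukiMult.Defs
import Cfsg.Agent.Lib.Lie.SuzukiMult.GensData
import Cfsg.Agent.Lib.Lie.SuzukiMult.FiveData
import Cfsg.Agent.Lib.Lie.ConwayZeroMult.Pieces

/-!
The checks for the part at one prime (five) of the multiplier of the Suzuki group: the matrices, the relations and the chain.
-/

set_option autoImplicit false
set_option maxRecDepth 100000
set_option Elab.async false

namespace Cfsg.Agent.Lie.SuzukiMult

open CentralRewrite ConwayZeroMult

theorem five_mat0 : matOK (fiveW.getD 0 ([], [])) = true := by decide +kernel

theorem five_mat1 : matOK (fiveW.getD 1 ([], [])) = true := by decide +kernel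

theorem five_mat2 : matOK (fiveW.getD 2 ([], [])) = true := by decide +kernel

theorem five_mat3 : matOK (fiveW.getD 3 ([], [])) = true := by decide +kernel

theorem five_mats : fiveW.all matOK = true := by
  refine mats_of (m := 4) (by decide +kernel) fun i hi => ?_
  interval_cases i
  · exact five_mat0
  · exact five_mat1
  · exact five_mat2
  · exact five_mat3

theorem five_len : fiveCert.ng = fiveW.length := by decide +kernel

theorem five_members : ((List.range fiveW.length).all fun j =>
    memOK suzW (fiveW.getD j ([], [])) (fiveWords.getD j [])) = true := by decide +kernel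

theorem five_rels : fiveCert.rels.all (relOK fiveW) = true := by decide +kernel

theorem five_chain : chainV fiveW fiveCert.n fiveChain [] = true := by decide +kernel

theorem five_size : fiveCert.p ^ fiveCert.n ≤ chainProd fiveChain := by decide +kernel

theorem five_index : ¬ fiveCert.p ∣ 2690072985600 / fiveCert.p ^ fiveCert.n := by decide +kernel

end Cfsg.Agent.Lie.SuzukiMult
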