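import Cfsg.Agent.Lib.Lie.CentralRewrite.Main

/-!
Data for the part at the prime 3 of the multiplier of the sixfold cover of the Suzuki group: matrices,
relations, pairs of derivations and combinations.
-/

set_option autoImplicit false
set_option maxRecDepth 100000

namespace Cfsg.Agent.Lie.SuzukiMult

open CentralRewrite

/-- part of the generators and their transposes -/
def threeW0 : List (List (List (ℕ × ℤ)) × List (List (ℕ × ℤ))) :=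
  [([[(0, 3), (0, (-1)), (0, 1), (0, 1), (0, (-1)), (0, 1), (0, (-3)), (0, (-1)), (0, 1), (0, (-1)), (0, 1), (0, (-1)), (0, (-3)), (0, (-1)), (0, 1), (0, (-1)), (0, 3), (0, (-1)), (0, 1), (0, (-3)), (0, (-1)), (0, 1), (0, 1), (0, (-1))],
      [(0, (-3)), (0, 1), (0, (-1)), (0, 3), (0, 1), (0, 3), (0, (-1)), (0, 1), (0, 3), (0, 1), (0, (-1)), (0, 1), (0, (-1)), (0, (-3)), (0, (-1)), (0, 1), (0, 1), (0, 1), (0, (-1)), (0, (-1)), (0, 1), (0, (-1)), (0, (-1)), (0, 1)],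
      [(0, (-1)), (0, (-1)), (0, 1), (0, (-3)), (0, 3), (0, 1), (0, (-3)), (0, (-1)), (0, 1), (0, 3), (0, 1), (0, (-1)), (0, 1), (0, (-1)), (0, 1), (0, (-1)), (0, (-1)), (0, (-1)), (0, 1), (0, 1), (0, (-1)), (0, 1), (0, (-3)), (0, (-1))],
      [(0, 1), (0, 1), (0, (-1)), (0, 3), (0, 1), (0, (-1)), (0, (-1)), (0, (-3)), (0, (-1)), (0, 1), (0, 3), (0, (-3)), (0, 3), (0, 1), (0, (-1)), (0, 1), (0, 1), (0, 1), (0, (-1)), (0, (-1)), (0, 1), (0, (-1)), (0, (-1)), (0, 1)],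
      [(0, (-1)), (0, (-1)), (0, 1), (0, 1), (0, 3), (0, 1), (0, 1), (0, (-1)), (0, (-3)), (0, (-1)), (0, 1), (0, (-1)), (0, (-3)), (0, (-1)), (0, 1), (0, (-1)), (0, (-1)), (0, (-1)), (0, (-3)), (0, 1), (0, (-1)), (0, 1), (0, 1), (0, 3)],
      [(0, 3), (0, (-1)), (0, 1), (0, 1), (0, (-1)), (0, 1), (0, 1), (0, (-1)), (0, 1), (0, (-1)), (0, (-3)), (0, (-1)), (0, 1), (0, (-1)), (0, 1), (0, (-1)), (0, (-1)), (0, (-1)), (0, (-3)), (0, 1), (0, 3), (0, 1), (0, (-3)), (0, (-1))],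
      [(0, (-1)), (0, 3), (0, 1), (0, (-3)), (0, (-1)), (0, 1), (0, 1), (0, (-1)), (0, 1), (0, (-1)), (0, 1), (0, (-1)), (0, 1), (0, (-1)), (0, (-3)), (0, (-1)), (0, 3), (0, (-1)), (0, (-3)), (0, 1), (0, (-1)), (0, 1), (0, 1), (0, (-1))],
      [(0, (-3)), (0, (-3)), (0, 3), (0, (-1)), (0, (-3)), (0, (-1)), (0, (-1)), (0, 1), (0, (-1)), (0, 1), (0, (-1)), (0, (-3)), (0, (-1)), (0, 1), (0, (-1)), (0, 1), (0, 1), (0, 1), (0, (-1)), (0, (-1)), (0, 1), (0, (-1)), (0, (-1)), (0, 1)],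
      [(0, (-1)), (0, (-1)), (0, (-3)), (0, (-3)), (0, (-1)), (0, 1), (0, 1), (0, (-1)), (0, 1), (0, (-1)), (0, 1), (0, (-1)), (0, 1), (0, (-1)), (0, 1), (0, (-1)), (0, (-1)), (0, (-1)), (0, 1), (0, (-3)), (0, 3), (0, 1), (0, 1), (0, 3)],
      [(0, 1), (0, 1), (0, (-1)), (0, (-1)), (0, (-3)), (0, (-1)), (0, (-1)), (0, 1), (0, (-1)), (0, 1), (0, 3), (0, 1), (0, (-1)), (0, (-3)), (0, 3), (0, 1), (0, 1), (0, 1), (0, (-1)), (0, 3), (0, 1), (0, (-1)), (0, (-1)), (0, 1)],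
      [(0, (-1)), (0, (-1)), (0, 1), (0, 1), (0, (-1)), (0, 1), (0, (-3)), (0, (-1)), (0, (-3)), (0, (-1)), (0, 1), (0, 3), (0, 1), (0, (-1)), (0, (-3)), (0, (-1)), (0, (-1)), (0, (-1)), (0, 1), (0, 1), (0, 3), (0, 1), (0, 1), (0, (-1))],
      [(0, (-1)), (0, (-1)), (0, 1), (0, 1), (0, (-1)), (0, (-3)), (0, 1), (0, (-1)), (0, 1), (0, 3), (0, 1), (0, 3), (0, 1), (0, (-1)), (0, 1), (0, (-1)), (0, (-1)), (0, (-1)), (0, (-3)), (0, (-3)), (0, (-1)), (0, 1), (0, 1), (0, (-1))],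
      [(0, 1), (0, 1), (0, (-1)), (0, (-1)), (0, 1), (0, (-1)), (0, (-1)), (0, 1), (0, (-1)), (0, 1), (0, (-1)), (0, 1), (0, (-1)), (0, 1), (0, (-1)), (0, 5), (0, 1), (0, (-3)), (0, (-1)), (0, (-1)), (0, 1), (0, 3), (0, (-1)), (0, 1)],
      [(0, (-1)), (0, (-1)), (0, (-3)), (0, 1), (0, (-1)), (0, 1), (0, (-3)), (0, 3), (0, 1), (0, (-1)), (0, 1), (0, (-1)), (0, 1), (0, 3), (0, 1), (0, (-1)), (0, (-1)), (0, (-1)), (0, (-3)), (0, 1), (0, (-1)), (0, 1), (0, 1), (0, (-1))],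
      [(0, 1), (0, 1), (0, 3), (0, (-1)), (0, 1), (0, 3), (0, (-1)), (0, 1), (0, (-1)), (0, 1), (0, (-1)), (0, 1), (0, 3), (0, 1), (0, 3), (0, 1), (0, 1), (0, 1), (0, (-1)), (0, (-1)), (0, 1), (0, (-1)), (0, 3), (0, 1)],
      [(0, (-1)), (0, (-1)), (0, 1), (0, 1), (0, (-1)), (0, 1), (0, 1), (0, (-1)), (0, 1), (0, (-1)), (0, 1), (0, 3), (0, 1), (0, 3), (0, 1), (0, (-1)), (0, 3), (0, (-1)), (0, 1), (0, 1), (0, (-1)), (0, 1), (0, (-3)), (0, 3)],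
      [(0, (-1)), (0, (-1)), (0, (-3)), (0, 1), (0, (-1)), (0, 1), (0, 1), (0, (-1)), (0, (-3)), (0, 3), (0, (-3)), (0, (-1)), (0, 1), (0, (-1)), (0, 1), (0, (-1)), (0, 3), (0, (-1)), (0, 1), (0, 1), (0, (-1)), (0, 1), (0, 1), (0, (-1))],
      [(0, 1), (0, 1), (0, (-1)), (0, (-1)), (0, 1), (0, (-1)), (0, (-1)), (0, 1), (0, (-1)), (0, 1), (0, (-1)), (0, 1), (0, (-1)), (0, 1), (0, (-1)), (0, (-3)), (0, 1), (0, 5), (0, (-1)), (0, (-1)), (0, 1), (0, 3), (0, (-1)), (0, 1)],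
      [(0, 3), (0, (-1)), (0, 1), (0, 1), (0, (-1)), (0, 1), (0, 1), (0, 3), (0, 1), (0, 3), (0, 1), (0, (-1)), (0, 1), (0, (-1)), (0, (-3)), (0, (-1)), (0, (-1)), (0, (-1)), (0, 1), (0, 1), (0, (-1)), (0, 1), (0, 1), (0, 3)],
      [(0, (-1)), (0, (-1)), (0, 1), (0, 1), (0, 3), (0, (-3)), (0, 1), (0, 3), (0, 1), (0, (-1)), (0, 1), (0, (-1)), (0, 1), (0, (-1)), (0, 1), (0, (-1)), (0, 3), (0, (-1)), (0, 1), (0, 1), (0, 3), (0, 1), (0, 1), (0, (-1))],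
      [(0, (-1)), (0, 3), (0, 1), (0, 1), (0, (-1)), (0, 1), (0, 1), (0, (-1)), (0, 1), (0, 3), (0, 1), (0, (-1)), (0, (-3)), (0, 3), (0, 1), (0, (-1)), (0, (-1)), (0, (-1)), (0, 1), (0, 1), (0, 3), (0, 1), (0, 1), (0, (-1))],
      [(0, (-1)), (0, (-1)), (0, 1), (0, 1), (0, (-1)), (0, 1), (0, 1), (0, (-1)), (0, 1), (0, (-1)), (0, 1), (0, (-1)), (0, 1), (0, (-1)), (0, 1), (0, 3), (0, (-1)), (0, 3), (0, 1), (0, 1), (0, (-1)), (0, 5), (0, 1), (0, (-1))],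
      [(0, 1), (0, (-3)), (0, (-1)), (0, (-1)), (0, 1), (0, (-1)), (0, (-1)), (0, (-3)), (0, 3), (0, 1), (0, (-1)), (0, 1), (0, (-1)), (0, 1), (0, (-1)), (0, 1), (0, 1), (0, 1), (0, (-1)), (0, 3), (0, 1), (0, (-1)), (0, 3), (0, 1)],
      [(0, (-1)), (0, 3), (0, 1), (0, 1), (0, (-1)), (0, (-3)), (0, (-3)), (0, (-1)), (0, 1), (0, (-1)), (0, (-3)), (0, (-1)), (0, 1), (0, (-1)), (0, 1), (0, (-1)), (0, (-1)), (0, (-1)), (0, 1), (0, 1), (0, (-1)), (0, 1), (0, 1), (0, 3)]],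
     [[(0, 3), (0, (-3)), (0, (-1)), (0, 1), (0, (-1)), (0, 3), (0, (-1)), (0, (-3)), (0, (-1)), (0, 1), (0, (-1)), (0, (-1)), (0, 1), (0, (-1)), (0, 1), (0, (-1)), (0, (-1)), (0, 1), (0, 3), (0, (-1)), (0, (-1)), (0, (-1)), (0, 1), (0, (-1))],
      [(0, (-1)), (0, 1), (0, (-1)), (0, 1), (0, (-1)), (0, (-1)), (0, 3), (0, (-3)), (0, (-1)), (0, 1), (0, (-1)), (0, (-1)), (0, 1), (0, (-1)), (0, 1), (0, (-1)), (0, (-1)), (0, 1), (0, (-1)), (0, (-1)), (0, 3), (0, (-1)), (0, (-3)), (0, 3)],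
      [(0, 1), (0, (-1)), (0, 1), (0, (-1)), (0, 1), (0, 1), (0, 1), (0, 3), (0, (-3)), (0, (-1)), (0, 1), (0, 1), (0, (-1)), (0, (-3)), (0, 3), (0, 1), (0, (-3)), (0, (-1)), (0, 1), (0, 1), (0, 1), (0, 1), (0, (-1)), (0, 1)],
      [(0, 1), (0, 3), (0, (-3)), (0, 3), (0, 1), (0, 1), (0, (-3)), (0, (-1)), (0, (-3)), (0, (-1)), (0, 1), (0, 1), (0, (-1)), (0, 1), (0, (-1)), (0, 1), (0, 1), (0, (-1)), (0, 1), (0, 1), (0, 1), (0, 1), (0, (-1)), (0, 1)],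
      [(0, (-1)), (0, 1), (0, 3), (0, 1), (0, 3), (0, (-1)), (0, (-1)), (0, (-3)), (0, (-1)), (0, (-3)), (0, (-1)), (0, (-1)), (0, 1), (0, (-1)), (0, 1), (0, (-1)), (0, (-1)), (0, 1), (0, (-1)), (0, 3), (0, (-1)), (0, (-1)), (0, 1), (0, (-1))],
      [(0, 1), (0, 3), (0, 1), (0, (-1)), (0, 1), (0, 1), (0, 1), (0, (-1)), (0, 1), (0, (-1)), (0, 1), (0, (-3)), (0, (-1)), (0, 1), (0, 3), (0, 1), (0, 1), (0, (-1)), (0, 1), (0, (-3)), (0, 1), (0, 1), (0, (-1)), (0, (-3))],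
      [(0, (-3)), (0, (-1)), (0, (-3)), (0, (-1)), (0, 1), (0, 1), (0, 1), (0, (-1)), (0, 1), (0, (-1)), (0, (-3)), (0, 1), (0, (-1)), (0, (-3)), (0, (-1)), (0, 1), (0, 1), (0, (-1)), (0, 1), (0, 1), (0, 1), (0, 1), (0, (-1)), (0, (-3))],
      [(0, (-1)), (0, 1), (0, (-1)), (0, (-3)), (0, (-1)), (0, (-1)), (0, (-1)), (0, 1), (0, (-1)), (0, 1), (0, (-1)), (0, (-1)), (0, 1), (0, 3), (0, 1), (0, (-1)), (0, (-1)), (0, 1), (0, 3), (0, 3), (0, (-1)), (0, (-1)), (0, (-3)), (0, (-1))],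
      [(0, 1), (0, 3), (0, 1), (0, (-1)), (0, (-3)), (0, 1), (0, 1), (0, (-1)), (0, 1), (0, (-1)), (0, (-3)), (0, 1), (0, (-1)), (0, 1), (0, (-1)), (0, 1), (0, (-3)), (0, (-1)), (0, 1), (0, 1), (0, 1), (0, 1), (0, 3), (0, 1)],
      [(0, (-1)), (0, 1), (0, 3), (0, 1), (0, (-1)), (0, (-1)), (0, (-1)), (0, 1), (0, (-1)), (0, 1), (0, (-1)), (0, 3), (0, 1), (0, (-1)), (0, 1), (0, (-1)), (0, 3), (0, 1), (0, 3), (0, (-1)), (0, 3), (0, (-1)), (0, 1), (0, (-1))],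
      [(0, 1), (0, (-1)), (0, 1), (0, 3), (0, 1), (0, (-3)), (0, 1), (0, (-1)), (0, 1), (0, 3), (0, 1), (0, 1), (0, (-1)), (0, 1), (0, (-1)), (0, 1), (0, (-3)), (0, (-1)), (0, 1), (0, 1), (0, 1), (0, 1), (0, (-1)), (0, (-3))],
      [(0, (-1)), (0, 1), (0, (-1)), (0, (-3)), (0, (-1)), (0, (-1)), (0, (-1)), (0, (-3)), (0, (-1)), (0, 1), (0, 3), (0, 3), (0, 1), (0, (-1)), (0, 1), (0, 3), (0, (-1)), (0, 1), (0, (-1)), (0, (-1)), (0, (-1)), (0, (-1)), (0, 1), (0, (-1))],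
      [(0, (-3)), (0, (-1)), (0, 1), (0, 3), (0, (-3)), (0, 1), (0, 1), (0, (-1)), (0, 1), (0, (-1)), (0, 1), (0, 1), (0, (-1)), (0, 1), (0, 3), (0, 1), (0, 1), (0, (-1)), (0, 1), (0, 1), (0, (-3)), (0, 1), (0, (-1)), (0, 1)],
      [(0, (-1)), (0, (-3)), (0, (-1)), (0, 1), (0, (-1)), (0, (-1)), (0, (-1)), (0, 1), (0, (-1)), (0, (-3)), (0, (-1)), (0, (-1)), (0, 1), (0, 3), (0, 1), (0, 3), (0, (-1)), (0, 1), (0, (-1)), (0, (-1)), (0, 3), (0, (-1)), (0, 1), (0, (-1))],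
      [(0, 1), (0, (-1)), (0, 1), (0, (-1)), (0, 1), (0, 1), (0, (-3)), (0, (-1)), (0, 1), (0, 3), (0, (-3)), (0, 1), (0, (-1)), (0, 1), (0, 3), (0, 1), (0, 1), (0, (-1)), (0, (-3)), (0, 1), (0, 1), (0, 1), (0, (-1)), (0, 1)],
      [(0, (-1)), (0, 1), (0, (-1)), (0, 1), (0, (-1)), (0, (-1)), (0, (-1)), (0, 1), (0, (-1)), (0, 1), (0, (-1)), (0, (-1)), (0, 5), (0, (-1)), (0, 1), (0, (-1)), (0, (-1)), (0, (-3)), (0, (-1)), (0, (-1)), (0, (-1)), (0, 3), (0, 1), (0, (-1))],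
      [(0, 3), (0, 1), (0, (-1)), (0, 1), (0, (-1)), (0, (-1)), (0, 3), (0, 1), (0, (-1)), (0, 1), (0, (-1)), (0, (-1)), (0, 1), (0, (-1)), (0, 1), (0, 3), (0, 3), (0, 1), (0, (-1)), (0, 3), (0, (-1)), (0, (-1)), (0, 1), (0, (-1))],
      [(0, (-1)), (0, 1), (0, (-1)), (0, 1), (0, (-1)), (0, (-1)), (0, (-1)), (0, 1), (0, (-1)), (0, 1), (0, (-1)), (0, (-1)), (0, (-3)), (0, (-1)), (0, 1), (0, (-1)), (0, (-1)), (0, 5), (0, (-1)), (0, (-1)), (0, (-1)), (0, 3), (0, 1), (0, (-1))],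
      [(0, 1), (0, (-1)), (0, 1), (0, (-1)), (0, (-3)), (0, (-3)), (0, (-3)), (0, (-1)), (0, 1), (0, (-1)), (0, 1), (0, (-3)), (0, (-1)), (0, (-3)), (0, (-1)), (0, 1), (0, 1), (0, (-1)), (0, 1), (0, 1), (0, 1), (0, 1), (0, (-1)), (0, 1)],
      [(0, (-3)), (0, (-1)), (0, 1), (0, (-1)), (0, 1), (0, 1), (0, 1), (0, (-1)), (0, (-3)), (0, 3), (0, 1), (0, (-3)), (0, (-1)), (0, 1), (0, (-1)), (0, 1), (0, 1), (0, (-1)), (0, 1), (0, 1), (0, 1), (0, 1), (0, 3), (0, 1)],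
      [(0, (-1)), (0, 1), (0, (-1)), (0, 1), (0, (-1)), (0, 3), (0, (-1)), (0, 1), (0, 3), (0, 1), (0, 3), (0, (-1)), (0, 1), (0, (-1)), (0, 1), (0, (-1)), (0, (-1)), (0, 1), (0, (-1)), (0, 3), (0, 3), (0, (-1)), (0, 1), (0, (-1))],
      [(0, 1), (0, (-1)), (0, 1), (0, (-1)), (0, 1), (0, 1), (0, 1), (0, (-1)), (0, 1), (0, (-1)), (0, 1), (0, 1), (0, 3), (0, 1), (0, (-1)), (0, 1), (0, 1), (0, 3), (0, 1), (0, 1), (0, 1), (0, 5), (0, (-1)), (0, 1)],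
      [(0, 1), (0, (-1)), (0, (-3)), (0, (-1)), (0, 1), (0, (-3)), (0, 1), (0, (-1)), (0, 1), (0, (-1)), (0, 1), (0, 1), (0, (-1)), (0, 1), (0, 3), (0, (-3)), (0, 1), (0, (-1)), (0, 1), (0, 1), (0, 1), (0, 1), (0, 3), (0, 1)],
      [(0, (-1)), (0, 1), (0, (-1)), (0, 1), (0, 3), (0, (-1)), (0, (-1)), (0, 1), (0, 3), (0, 1), (0, (-1)), (0, (-1)), (0, 1), (0, (-1)), (0, 1), (0, 3), (0, (-1)), (0, 1), (0, 3), (0, (-1)), (0, (-1)), (0, (-1)), (0, 1), (0, 3)]]),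
    ([[(0, 1), (0, (-1)), (0, 1), (0, (-1)), (0, 1), (0, 1), (0, (-1)), (0, (-1)), (0, (-1)), (0, 1), (0, (-1)), (0, (-1)), (0, 1), (0, 1), (0, (-3)), (0, (-3)), (0, 1), (0, (-1)), (0, 1), (0, (-5)), (0, (-1)), (0, (-1)), (0, 1), (0, (-1))],
      [(0, 1), (0, 3), (0, 1), (0, (-1)), (0, 1), (0, 1), (0, (-1)), (0, (-1)), (0, (-1)), (0, 1), (0, (-1)), (0, (-1)), (0, (-3)), (0, (-3)), (0, 1), (0, 1), (0, (-3)), (0, (-1)), (0, 1), (0, (-1)), (0, (-1)), (0, (-1)), (0, (-3)), (0, (-1))],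
      [(0, (-1)), (0, 1), (0, (-1)), (0, (-3)), (0, (-1)), (0, (-1)), (0, 1), (0, 1), (0, (-3)), (0, 3), (0, 1), (0, 1), (0, 3), (0, (-1)), (0, (-1)), (0, (-1)), (0, (-1)), (0, 1), (0, (-1)), (0, 1), (0, 1), (0, (-3)), (0, (-1)), (0, 1)],
      [(0, (-3)), (0, (-1)), (0, 1), (0, (-1)), (0, 1), (0, 1), (0, (-1)), (0, (-1)), (0, (-1)), (0, (-3)), (0, 3), (0, (-1)), (0, 1), (0, 1), (0, 1), (0, 1), (0, (-3)), (0, (-1)), (0, (-3)), (0, (-1)), (0, (-1)), (0, (-1)), (0, 1), (0, (-1))],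
      [(0, (-1)), (0, 1), (0, (-1)), (0, (-3)), (0, 3), (0, (-1)), (0, (-3)), (0, 1), (0, 1), (0, (-1)), (0, 1), (0, 1), (0, (-1)), (0, (-1)), (0, (-1)), (0, (-1)), (0, 3), (0, 1), (0, (-1)), (0, 1), (0, (-3)), (0, 1), (0, (-1)), (0, 1)],
      [(0, (-1)), (0, 1), (0, (-1)), (0, 1), (0, (-1)), (0, (-1)), (0, 1), (0, (-3)), (0, 1), (0, (-1)), (0, 1), (0, 1), (0, 3), (0, (-1)), (0, (-1)), (0, (-1)), (0, (-1)), (0, (-3)), (0, 3), (0, 1), (0, (-3)), (0, 1), (0, (-1)), (0, 1)],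
      [(0, 1), (0, (-1)), (0, (-3)), (0, (-1)), (0, 1), (0, 1), (0, (-1)), (0, (-1)), (0, 3), (0, 1), (0, 3), (0, (-1)), (0, 1), (0, 1), (0, 1), (0, 1), (0, 1), (0, (-1)), (0, 1), (0, (-1)), (0, 3), (0, (-1)), (0, (-3)), (0, (-1))],
      [(0, (-3)), (0, (-1)), (0, 1), (0, 3), (0, 1), (0, 1), (0, (-1)), (0, (-1)), (0, (-1)), (0, 1), (0, (-1)), (0, 3), (0, 1), (0, 1), (0, 1), (0, 1), (0, 1), (0, 3), (0, 1), (0, (-1)), (0, (-1)), (0, (-1)), (0, (-3)), (0, (-1))],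
      [(0, (-1)), (0, 1), (0, (-1)), (0, 1), (0, (-1)), (0, (-1)), (0, 1), (0, 1), (0, 1), (0, (-1)), (0, 1), (0, 1), (0, (-1)), (0, (-1)), (0, (-5)), (0, 3), (0, (-1)), (0, 1), (0, (-1)), (0, (-3)), (0, 1), (0, 1), (0, (-1)), (0, 1)],
      [(0, (-3)), (0, 3), (0, 1), (0, (-1)), (0, 1), (0, (-3)), (0, (-1)), (0, (-1)), (0, (-1)), (0, 1), (0, (-1)), (0, (-1)), (0, 1), (0, 1), (0, 1), (0, 1), (0, 1), (0, (-1)), (0, 1), (0, (-1)), (0, 3), (0, 3), (0, 1), (0, (-1))],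
      [(0, (-3)), (0, (-1)), (0, (-3)), (0, (-1)), (0, (-3)), (0, 1), (0, (-1)), (0, (-1)), (0, (-1)), (0, 1), (0, (-1)), (0, (-1)), (0, (-3)), (0, 1), (0, 1), (0, 1), (0, 1), (0, (-1)), (0, 1), (0, (-1)), (0, (-1)), (0, (-1)), (0, 1), (0, 3)],
      [(0, 1), (0, (-1)), (0, (-3)), (0, 3), (0, 1), (0, (-3)), (0, (-1)), (0, (-1)), (0, (-1)), (0, 1), (0, (-1)), (0, (-1)), (0, 1), (0, (-3)), (0, 1), (0, 1), (0, 1), (0, (-1)), (0, (-3)), (0, (-1)), (0, (-1)), (0, (-1)), (0, 1), (0, (-1))],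
      [(0, 1), (0, (-1)), (0, 1), (0, (-1)), (0, (-3)), (0, (-3)), (0, (-1)), (0, 3), (0, (-1)), (0, (-3)), (0, (-1)), (0, (-1)), (0, 1), (0, 1), (0, 1), (0, 1), (0, 1), (0, (-1)), (0, 1), (0, (-1)), (0, (-1)), (0, (-1)), (0, (-3)), (0, (-1))],
      [(0, 1), (0, (-1)), (0, 1), (0, (-1)), (0, 1), (0, 1), (0, (-1)), (0, (-1)), (0, (-1)), (0, (-3)), (0, (-1)), (0, 3), (0, 1), (0, (-3)), (0, 1), (0, 1), (0, 1), (0, (-1)), (0, 1), (0, (-1)), (0, 3), (0, (-1)), (0, 1), (0, 3)],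
      [(0, (-1)), (0, (-3)), (0, 3), (0, 1), (0, (-1)), (0, (-1)), (0, (-3)), (0, 1), (0, 1), (0, 3), (0, 1), (0, 1), (0, (-1)), (0, (-1)), (0, (-1)), (0, (-1)), (0, (-1)), (0, (-3)), (0, (-1)), (0, 1), (0, 1), (0, 1), (0, (-1)), (0, 1)],
      [(0, (-3)), (0, (-1)), (0, 1), (0, (-1)), (0, 1), (0, 1), (0, 3), (0, 3), (0, 3), (0, 1), (0, (-1)), (0, (-1)), (0, 1), (0, (-3)), (0, 1), (0, 1), (0, 1), (0, (-1)), (0, 1), (0, (-1)), (0, (-1)), (0, (-1)), (0, 1), (0, (-1))],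
      [(0, 1), (0, (-1)), (0, 1), (0, (-1)), (0, 1), (0, 1), (0, 3), (0, (-1)), (0, (-1)), (0, 1), (0, (-1)), (0, (-1)), (0, 1), (0, 1), (0, 1), (0, 1), (0, 1), (0, (-1)), (0, (-3)), (0, (-1)), (0, (-1)), (0, 3), (0, (-3)), (0, 3)],
      [(0, 1), (0, (-1)), (0, 1), (0, (-1)), (0, 1), (0, (-3)), (0, (-1)), (0, (-1)), (0, 3), (0, 1), (0, (-1)), (0, (-1)), (0, 1), (0, 1), (0, 1), (0, 1), (0, (-3)), (0, 3), (0, 1), (0, (-1)), (0, (-1)), (0, (-1)), (0, 1), (0, 3)],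
      [(0, (-1)), (0, 1), (0, 3), (0, 1), (0, (-1)), (0, (-1)), (0, 1), (0, (-3)), (0, 1), (0, (-1)), (0, 1), (0, (-3)), (0, (-1)), (0, (-1)), (0, (-1)), (0, (-1)), (0, 3), (0, 1), (0, (-1)), (0, 1), (0, 1), (0, (-3)), (0, (-1)), (0, 1)],
      [(0, 1), (0, 3), (0, 1), (0, 3), (0, 1), (0, 1), (0, (-1)), (0, 3), (0, (-1)), (0, 1), (0, 3), (0, (-1)), (0, 1), (0, 1), (0, 1), (0, 1), (0, 1), (0, (-1)), (0, 1), (0, (-1)), (0, (-1)), (0, (-1)), (0, 1), (0, 3)],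
      [(0, 1), (0, (-1)), (0, 1), (0, (-1)), (0, (-3)), (0, 1), (0, (-1)), (0, (-1)), (0, (-1)), (0, 1), (0, 3), (0, (-1)), (0, 1), (0, (-3)), (0, 1), (0, 1), (0, 1), (0, 3), (0, 1), (0, (-1)), (0, (-1)), (0, 3), (0, 1), (0, (-1))],
      [(0, 1), (0, (-1)), (0, 1), (0, (-1)), (0, 1), (0, (-3)), (0, 3), (0, (-1)), (0, (-1)), (0, 1), (0, 3), (0, 3), (0, (-3)), (0, 1), (0, 1), (0, 1), (0, 1), (0, (-1)), (0, 1), (0, (-1)), (0, (-1)), (0, (-1)), (0, 1), (0, (-1))],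
      [(0, (-1)), (0, 1), (0, (-1)), (0, 1), (0, (-1)), (0, (-1)), (0, 1), (0, 1), (0, 1), (0, (-1)), (0, 1), (0, 1), (0, (-1)), (0, (-1)), (0, 3), (0, (-5)), (0, (-1)), (0, 1), (0, (-1)), (0, (-3)), (0, 1), (0, 1), (0, (-1)), (0, 1)],
      [(0, (-1)), (0, (-3)), (0, (-1)), (0, 1), (0, 3), (0, (-1)), (0, 1), (0, 1), (0, (-3)), (0, (-1)), (0, 1), (0, (-3)), (0, (-1)), (0, (-1)), (0, (-1)), (0, (-1)), (0, (-1)), (0, 1), (0, 3), (0, 1), (0, 1), (0, 1), (0, (-1)), (0, 1)]],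
     [[(0, 1), (0, 1), (0, (-1)), (0, (-3)), (0, (-1)), (0, (-1)), (0, 1), (0, (-3)), (0, (-1)), (0, (-3)), (0, (-3)), (0, 1), (0, 1), (0, 1), (0, (-1)), (0, (-3)), (0, 1), (0, 1), (0, (-1)), (0, 1), (0, 1), (0, 1), (0, (-1)), (0, (-1))],
      [(0, (-1)), (0, 3), (0, 1), (0, (-1)), (0, 1), (0, 1), (0, (-1)), (0, (-1)), (0, 1), (0, 3), (0, (-1)), (0, (-1)), (0, (-1)), (0, (-1)), (0, (-3)), (0, (-1)), (0, (-1)), (0, (-1)), (0, 1), (0, 3), (0, (-1)), (0, (-1)), (0, 1), (0, (-3))],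
      [(0, 1), (0, 1), (0, (-1)), (0, 1), (0, (-1)), (0, (-1)), (0, (-3)), (0, 1), (0, (-1)), (0, 1), (0, (-3)), (0, (-3)), (0, 1), (0, 1), (0, 3), (0, 1), (0, 1), (0, 1), (0, 3), (0, 1), (0, 1), (0, 1), (0, (-1)), (0, (-1))],
      [(0, (-1)), (0, (-1)), (0, (-3)), (0, (-1)), (0, (-3)), (0, 1), (0, (-1)), (0, 3), (0, 1), (0, (-1)), (0, (-1)), (0, 3), (0, (-1)), (0, (-1)), (0, 1), (0, (-1)), (0, (-1)), (0, (-1)), (0, 1), (0, 3), (0, (-1)), (0, (-1)), (0, 1), (0, 1)],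
      [(0, 1), (0, 1), (0, (-1)), (0, 1), (0, 3), (0, (-1)), (0, 1), (0, 1), (0, (-1)), (0, 1), (0, (-3)), (0, 1), (0, (-3)), (0, 1), (0, (-1)), (0, 1), (0, 1), (0, 1), (0, (-1)), (0, 1), (0, (-3)), (0, 1), (0, (-1)), (0, 3)],
      [(0, 1), (0, 1), (0, (-1)), (0, 1), (0, (-1)), (0, (-1)), (0, 1), (0, 1), (0, (-1)), (0, (-3)), (0, 1), (0, (-3)), (0, (-3)), (0, 1), (0, (-1)), (0, 1), (0, 1), (0, (-3)), (0, (-1)), (0, 1), (0, 1), (0, (-3)), (0, (-1)), (0, (-1))],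
      [(0, (-1)), (0, (-1)), (0, 1), (0, (-1)), (0, (-3)), (0, 1), (0, (-1)), (0, (-1)), (0, 1), (0, (-1)), (0, (-1)), (0, (-1)), (0, (-1)), (0, (-1)), (0, (-3)), (0, 3), (0, 3), (0, (-1)), (0, 1), (0, (-1)), (0, (-1)), (0, 3), (0, 1), (0, 1)],
      [(0, (-1)), (0, (-1)), (0, 1), (0, (-1)), (0, 1), (0, (-3)), (0, (-1)), (0, (-1)), (0, 1), (0, (-1)), (0, (-1)), (0, (-1)), (0, 3), (0, (-1)), (0, 1), (0, 3), (0, (-1)), (0, (-1)), (0, (-3)), (0, 3), (0, (-1)), (0, (-1)), (0, 1), (0, 1)],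
      [(0, (-1)), (0, (-1)), (0, (-3)), (0, (-1)), (0, 1), (0, 1), (0, 3), (0, (-1)), (0, 1), (0, (-1)), (0, (-1)), (0, (-1)), (0, (-1)), (0, (-1)), (0, 1), (0, 3), (0, (-1)), (0, 3), (0, 1), (0, (-1)), (0, (-1)), (0, (-1)), (0, 1), (0, (-3))],
      [(0, 1), (0, 1), (0, 3), (0, (-3)), (0, (-1)), (0, (-1)), (0, 1), (0, 1), (0, (-1)), (0, 1), (0, 1), (0, 1), (0, (-3)), (0, (-3)), (0, 3), (0, 1), (0, 1), (0, 1), (0, (-1)), (0, 1), (0, 1), (0, 1), (0, (-1)), (0, (-1))],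
      [(0, (-1)), (0, (-1)), (0, 1), (0, 3), (0, 1), (0, 1), (0, 3), (0, (-1)), (0, 1), (0, (-1)), (0, (-1)), (0, (-1)), (0, (-1)), (0, (-1)), (0, 1), (0, (-1)), (0, (-1)), (0, (-1)), (0, 1), (0, 3), (0, 3), (0, 3), (0, 1), (0, 1)],
      [(0, (-1)), (0, (-1)), (0, 1), (0, (-1)), (0, 1), (0, 1), (0, (-1)), (0, 3), (0, 1), (0, (-1)), (0, (-1)), (0, (-1)), (0, (-1)), (0, 3), (0, 1), (0, (-1)), (0, (-1)), (0, (-1)), (0, (-3)), (0, (-1)), (0, (-1)), (0, 3), (0, 1), (0, (-3))],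
      [(0, 1), (0, (-3)), (0, 3), (0, 1), (0, (-1)), (0, 3), (0, 1), (0, 1), (0, (-1)), (0, 1), (0, (-3)), (0, 1), (0, 1), (0, 1), (0, (-1)), (0, 1), (0, 1), (0, 1), (0, (-1)), (0, 1), (0, 1), (0, (-3)), (0, (-1)), (0, (-1))],
      [(0, 1), (0, (-3)), (0, (-1)), (0, 1), (0, (-1)), (0, (-1)), (0, 1), (0, 1), (0, (-1)), (0, 1), (0, 1), (0, (-3)), (0, 1), (0, (-3)), (0, (-1)), (0, (-3)), (0, 1), (0, 1), (0, (-1)), (0, 1), (0, (-3)), (0, 1), (0, (-1)), (0, (-1))],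
      [(0, (-3)), (0, 1), (0, (-1)), (0, 1), (0, (-1)), (0, (-1)), (0, 1), (0, 1), (0, (-5)), (0, 1), (0, 1), (0, 1), (0, 1), (0, 1), (0, (-1)), (0, 1), (0, 1), (0, 1), (0, (-1)), (0, 1), (0, 1), (0, 1), (0, 3), (0, (-1))],
      [(0, (-3)), (0, 1), (0, (-1)), (0, 1), (0, (-1)), (0, (-1)), (0, 1), (0, 1), (0, 3), (0, 1), (0, 1), (0, 1), (0, 1), (0, 1), (0, (-1)), (0, 1), (0, 1), (0, 1), (0, (-1)), (0, 1), (0, 1), (0, 1), (0, (-5)), (0, (-1))],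
      [(0, 1), (0, (-3)), (0, (-1)), (0, (-3)), (0, 3), (0, (-1)), (0, 1), (0, 1), (0, (-1)), (0, 1), (0, 1), (0, 1), (0, 1), (0, 1), (0, (-1)), (0, 1), (0, 1), (0, (-3)), (0, 3), (0, 1), (0, 1), (0, 1), (0, (-1)), (0, (-1))],
      [(0, (-1)), (0, (-1)), (0, 1), (0, (-1)), (0, 1), (0, (-3)), (0, (-1)), (0, 3), (0, 1), (0, (-1)), (0, (-1)), (0, (-1)), (0, (-1)), (0, (-1)), (0, (-3)), (0, (-1)), (0, (-1)), (0, 3), (0, 1), (0, (-1)), (0, 3), (0, (-1)), (0, 1), (0, 1)],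
      [(0, 1), (0, 1), (0, (-1)), (0, (-3)), (0, (-1)), (0, 3), (0, 1), (0, 1), (0, (-1)), (0, 1), (0, 1), (0, (-3)), (0, 1), (0, 1), (0, (-1)), (0, 1), (0, (-3)), (0, 1), (0, (-1)), (0, 1), (0, 1), (0, 1), (0, (-1)), (0, 3)],
      [(0, (-5)), (0, (-1)), (0, 1), (0, (-1)), (0, 1), (0, 1), (0, (-1)), (0, (-1)), (0, (-3)), (0, (-1)), (0, (-1)), (0, (-1)), (0, (-1)), (0, (-1)), (0, 1), (0, (-1)), (0, (-1)), (0, (-1)), (0, 1), (0, (-1)), (0, (-1)), (0, (-1)), (0, (-3)), (0, 1)],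
      [(0, (-1)), (0, (-1)), (0, 1), (0, (-1)), (0, (-3)), (0, (-3)), (0, 3), (0, (-1)), (0, 1), (0, 3), (0, (-1)), (0, (-1)), (0, (-1)), (0, 3), (0, 1), (0, (-1)), (0, (-1)), (0, (-1)), (0, 1), (0, (-1)), (0, (-1)), (0, (-1)), (0, 1), (0, 1)],
      [(0, (-1)), (0, (-1)), (0, (-3)), (0, (-1)), (0, 1), (0, 1), (0, (-1)), (0, (-1)), (0, 1), (0, 3), (0, (-1)), (0, (-1)), (0, (-1)), (0, (-1)), (0, 1), (0, (-1)), (0, 3), (0, (-1)), (0, (-3)), (0, (-1)), (0, 3), (0, (-1)), (0, 1), (0, 1)],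
      [(0, 1), (0, (-3)), (0, (-1)), (0, 1), (0, (-1)), (0, (-1)), (0, (-3)), (0, (-3)), (0, (-1)), (0, 1), (0, 1), (0, 1), (0, (-3)), (0, 1), (0, (-1)), (0, 1), (0, (-3)), (0, 1), (0, (-1)), (0, 1), (0, 1), (0, 1), (0, (-1)), (0, (-1))],
      [(0, (-1)), (0, (-1)), (0, 1), (0, (-1)), (0, 1), (0, 1), (0, (-1)), (0, (-1)), (0, 1), (0, (-1)), (0, 3), (0, (-1)), (0, (-1)), (0, 3), (0, 1), (0, (-1)), (0, 3), (0, 3), (0, 1), (0, 3), (0, (-1)), (0, (-1)), (0, 1), (0, 1)]])]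

/-- part of the generators and their transposes -/
def threeW1 : List (List (List (ℕ × ℤ)) × List (List (ℕ × ℤ))) :=
  [([[(0, 1), (0, (-1)), (0, 1), (0, 1), (0, 1), (0, 1), (0, (-3)), (0, 1), (0, (-1)), (0, 3), (0, (-3)), (0, (-1)), (0, (-1)), (0, (-1)), (0, 1), (0, (-1)), (0, 1), (0, 1), (0, 3), (0, (-1)), (0, 1), (0, (-1)), (0, 3), (0, (-1))],
      [(0, (-3)), (0, (-1)), (0, 1), (0, 1), (0, 1), (0, 1), (0, 1), (0, 1), (0, 3), (0, 3), (0, 1), (0, 3), (0, (-1)), (0, (-1)), (0, (-3)), (0, (-1)), (0, 1), (0, 1), (0, (-1)), (0, (-1)), (0, 1), (0, (-1)), (0, (-1)), (0, (-1))],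
      [(0, 1), (0, (-1)), (0, (-3)), (0, 1), (0, 1), (0, 5), (0, 1), (0, 1), (0, (-1)), (0, (-1)), (0, 1), (0, (-1)), (0, (-1)), (0, (-1)), (0, 1), (0, 3), (0, 1), (0, 1), (0, (-1)), (0, (-1)), (0, 1), (0, (-1)), (0, (-1)), (0, (-1))],
      [(0, (-1)), (0, 1), (0, (-1)), (0, (-1)), (0, (-1)), (0, (-1)), (0, (-1)), (0, (-1)), (0, 1), (0, 1), (0, 3), (0, (-3)), (0, 1), (0, (-3)), (0, (-1)), (0, 1), (0, (-1)), (0, (-1)), (0, 1), (0, 1), (0, 3), (0, (-3)), (0, 1), (0, 1)],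
      [(0, (-3)), (0, (-1)), (0, 1), (0, 1), (0, 1), (0, 1), (0, 1), (0, (-3)), (0, (-1)), (0, (-1)), (0, (-3)), (0, (-1)), (0, (-1)), (0, (-1)), (0, 1), (0, (-1)), (0, 1), (0, (-3)), (0, (-1)), (0, 3), (0, 1), (0, (-1)), (0, (-1)), (0, (-1))],
      [(0, 1), (0, (-1)), (0, (-3)), (0, 1), (0, 1), (0, (-3)), (0, 1), (0, 1), (0, (-1)), (0, (-1)), (0, 1), (0, (-1)), (0, (-1)), (0, (-1)), (0, 1), (0, (-5)), (0, 1), (0, 1), (0, (-1)), (0, (-1)), (0, 1), (0, (-1)), (0, (-1)), (0, (-1))],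
      [(0, (-1)), (0, 1), (0, (-1)), (0, (-1)), (0, 3), (0, (-1)), (0, (-1)), (0, (-1)), (0, 1), (0, (-3)), (0, (-1)), (0, 1), (0, 1), (0, (-3)), (0, (-1)), (0, 1), (0, (-1)), (0, 3), (0, 1), (0, 1), (0, (-1)), (0, 1), (0, 1), (0, (-3))],
      [(0, (-1)), (0, (-3)), (0, (-1)), (0, (-1)), (0, (-1)), (0, (-1)), (0, (-1)), (0, (-1)), (0, 1), (0, 1), (0, (-1)), (0, (-3)), (0, 1), (0, 1), (0, (-1)), (0, 1), (0, (-1)), (0, (-1)), (0, 1), (0, (-3)), (0, (-1)), (0, 1), (0, (-3)), (0, (-3))],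
      [(0, (-1)), (0, (-3)), (0, (-1)), (0, (-1)), (0, (-1)), (0, (-1)), (0, (-1)), (0, (-1)), (0, (-3)), (0, 1), (0, (-1)), (0, 1), (0, 1), (0, 1), (0, (-1)), (0, 1), (0, (-1)), (0, 3), (0, (-3)), (0, 1), (0, 3), (0, 1), (0, 1), (0, 1)],
      [(0, 1), (0, (-1)), (0, 1), (0, 1), (0, (-3)), (0, 1), (0, 1), (0, (-3)), (0, (-1)), (0, (-1)), (0, 1), (0, 3), (0, 3), (0, (-1)), (0, 1), (0, (-1)), (0, 1), (0, 1), (0, 3), (0, (-1)), (0, 1), (0, (-1)), (0, (-1)), (0, (-1))],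
      [(0, 3), (0, 1), (0, (-1)), (0, 3), (0, 3), (0, (-1)), (0, (-1)), (0, (-1)), (0, 1), (0, 1), (0, (-1)), (0, 1), (0, 1), (0, 1), (0, (-1)), (0, 1), (0, (-1)), (0, (-1)), (0, 1), (0, 1), (0, 3), (0, 1), (0, (-3)), (0, 1)],
      [(0, (-1)), (0, 1), (0, (-1)), (0, 3), (0, (-1)), (0, (-1)), (0, (-1)), (0, (-1)), (0, 1), (0, 1), (0, (-1)), (0, 1), (0, 1), (0, (-3)), (0, 3), (0, 1), (0, (-1)), (0, (-1)), (0, (-3)), (0, (-3)), (0, (-1)), (0, 1), (0, 1), (0, 1)],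
      [(0, (-1)), (0, 1), (0, (-1)), (0, (-1)), (0, (-1)), (0, (-1)), (0, (-1)), (0, (-1)), (0, 1), (0, (-3)), (0, (-1)), (0, 1), (0, (-3)), (0, 1), (0, (-1)), (0, 1), (0, 3), (0, (-1)), (0, 1), (0, (-3)), (0, 3), (0, 1), (0, 1), (0, 1)],
      [(0, (-1)), (0, (-3)), (0, (-1)), (0, 3), (0, (-1)), (0, (-1)), (0, (-1)), (0, 3), (0, 1), (0, (-3)), (0, (-1)), (0, 1), (0, 1), (0, 1), (0, (-1)), (0, 1), (0, (-1)), (0, (-1)), (0, 1), (0, 1), (0, (-1)), (0, (-3)), (0, 1), (0, 1)],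
      [(0, 3), (0, 1), (0, (-1)), (0, (-1)), (0, (-1)), (0, (-1)), (0, (-1)), (0, (-1)), (0, 1), (0, 1), (0, (-1)), (0, 1), (0, 1), (0, 1), (0, (-1)), (0, 1), (0, 3), (0, (-1)), (0, (-3)), (0, 1), (0, (-1)), (0, (-3)), (0, 1), (0, (-3))],
      [(0, (-1)), (0, 1), (0, (-5)), (0, (-1)), (0, (-1)), (0, 3), (0, (-1)), (0, (-1)), (0, 1), (0, 1), (0, (-1)), (0, 1), (0, 1), (0, 1), (0, (-1)), (0, (-3)), (0, (-1)), (0, (-1)), (0, 1), (0, 1), (0, (-1)), (0, 1), (0, 1), (0, 1)],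
      [(0, 3), (0, (-3)), (0, (-1)), (0, (-1)), (0, (-1)), (0, (-1)), (0, 3), (0, (-1)), (0, 1), (0, 1), (0, (-1)), (0, 1), (0, (-3)), (0, (-3)), (0, (-1)), (0, 1), (0, (-1)), (0, (-1)), (0, 1), (0, 1), (0, (-1)), (0, 1), (0, 1), (0, 1)],
      [(0, (-1)), (0, 1), (0, (-1)), (0, (-1)), (0, (-1)), (0, (-1)), (0, (-1)), (0, 3), (0, (-3)), (0, 1), (0, (-1)), (0, 1), (0, 1), (0, (-3)), (0, (-1)), (0, 1), (0, 3), (0, (-1)), (0, 1), (0, 1), (0, (-1)), (0, 1), (0, (-3)), (0, 1)],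
      [(0, 1), (0, (-1)), (0, 1), (0, 1), (0, (-3)), (0, 1), (0, (-3)), (0, 1), (0, 3), (0, (-1)), (0, 1), (0, (-1)), (0, (-1)), (0, (-1)), (0, 1), (0, (-1)), (0, 1), (0, 1), (0, (-1)), (0, 3), (0, 1), (0, 3), (0, (-1)), (0, (-1))],
      [(0, 1), (0, (-1)), (0, 1), (0, 1), (0, 1), (0, 1), (0, 1), (0, 1), (0, (-1)), (0, (-1)), (0, 1), (0, (-1)), (0, 3), (0, (-1)), (0, (-3)), (0, (-1)), (0, 1), (0, (-3)), (0, (-1)), (0, (-1)), (0, 1), (0, 3), (0, 3), (0, (-1))],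
      [(0, (-1)), (0, 1), (0, (-1)), (0, 3), (0, (-1)), (0, (-1)), (0, (-1)), (0, (-1)), (0, (-3)), (0, 1), (0, 3), (0, 1), (0, (-3)), (0, 1), (0, (-1)), (0, 1), (0, (-1)), (0, (-1)), (0, 1), (0, 1), (0, (-1)), (0, 1), (0, 1), (0, (-3))],
      [(0, (-1)), (0, 1), (0, (-1)), (0, 3), (0, (-1)), (0, (-1)), (0, 3), (0, (-1)), (0, 1), (0, 1), (0, (-1)), (0, (-3)), (0, 1), (0, 1), (0, (-1)), (0, 1), (0, 3), (0, 3), (0, 1), (0, 1), (0, (-1)), (0, 1), (0, 1), (0, 1)],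
      [(0, (-1)), (0, (-3)), (0, (-1)), (0, (-1)), (0, 3), (0, (-1)), (0, (-1)), (0, (-1)), (0, 1), (0, 1), (0, 3), (0, 1), (0, 1), (0, 1), (0, 3), (0, 1), (0, 3), (0, (-1)), (0, 1), (0, 1), (0, (-1)), (0, 1), (0, 1), (0, 1)],
      [(0, (-1)), (0, 1), (0, (-1)), (0, (-1)), (0, (-1)), (0, (-1)), (0, 3), (0, 3), (0, 1), (0, 1), (0, (-1)), (0, 1), (0, 1), (0, 1), (0, 3), (0, 1), (0, (-1)), (0, (-1)), (0, 1), (0, 1), (0, 3), (0, 1), (0, 1), (0, (-3))]],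
     [[(0, 1), (0, (-3)), (0, 1), (0, (-1)), (0, (-3)), (0, 1), (0, (-1)), (0, (-1)), (0, (-1)), (0, 1), (0, 3), (0, (-1)), (0, (-1)), (0, (-1)), (0, 3), (0, (-1)), (0, 3), (0, (-1)), (0, 1), (0, 1), (0, (-1)), (0, (-1)), (0, (-1)), (0, (-1))],
      [(0, (-1)), (0, (-1)), (0, (-1)), (0, 1), (0, (-1)), (0, (-1)), (0, 1), (0, (-3)), (0, (-3)), (0, (-1)), (0, 1), (0, 1), (0, 1), (0, (-3)), (0, 1), (0, 1), (0, (-3)), (0, 1), (0, (-1)), (0, (-1)), (0, 1), (0, 1), (0, (-3)), (0, 1)],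
      [(0, 1), (0, 1), (0, (-3)), (0, (-1)), (0, 1), (0, (-3)), (0, (-1)), (0, (-1)), (0, (-1)), (0, 1), (0, (-1)), (0, (-1)), (0, (-1)), (0, (-1)), (0, (-1)), (0, (-5)), (0, (-1)), (0, (-1)), (0, 1), (0, 1), (0, (-1)), (0, (-1)), (0, (-1)), (0, (-1))],
      [(0, 1), (0, 1), (0, 1), (0, (-1)), (0, 1), (0, 1), (0, (-1)), (0, (-1)), (0, (-1)), (0, 1), (0, 3), (0, 3), (0, (-1)), (0, 3), (0, (-1)), (0, (-1)), (0, (-1)), (0, (-1)), (0, 1), (0, 1), (0, 3), (0, 3), (0, (-1)), (0, (-1))],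
      [(0, 1), (0, 1), (0, 1), (0, (-1)), (0, 1), (0, 1), (0, 3), (0, (-1)), (0, (-1)), (0, (-3)), (0, 3), (0, (-1)), (0, (-1)), (0, (-1)), (0, (-1)), (0, (-1)), (0, (-1)), (0, (-1)), (0, (-3)), (0, 1), (0, (-1)), (0, (-1)), (0, 3), (0, (-1))],
      [(0, 1), (0, 1), (0, 5), (0, (-1)), (0, 1), (0, (-3)), (0, (-1)), (0, (-1)), (0, (-1)), (0, 1), (0, (-1)), (0, (-1)), (0, (-1)), (0, (-1)), (0, (-1)), (0, 3), (0, (-1)), (0, (-1)), (0, 1), (0, 1), (0, (-1)), (0, (-1)), (0, (-1)), (0, (-1))],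
      [(0, (-3)), (0, 1), (0, 1), (0, (-1)), (0, 1), (0, 1), (0, (-1)), (0, (-1)), (0, (-1)), (0, 1), (0, (-1)), (0, (-1)), (0, (-1)), (0, (-1)), (0, (-1)), (0, (-1)), (0, 3), (0, (-1)), (0, (-3)), (0, 1), (0, (-1)), (0, 3), (0, (-1)), (0, 3)],
      [(0, 1), (0, 1), (0, 1), (0, (-1)), (0, (-3)), (0, 1), (0, (-1)), (0, (-1)), (0, (-1)), (0, (-3)), (0, (-1)), (0, (-1)), (0, (-1)), (0, 3), (0, (-1)), (0, (-1)), (0, (-1)), (0, 3), (0, 1), (0, 1), (0, (-1)), (0, (-1)), (0, (-1)), (0, 3)],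
      [(0, (-1)), (0, 3), (0, (-1)), (0, 1), (0, (-1)), (0, (-1)), (0, 1), (0, 1), (0, (-3)), (0, (-1)), (0, 1), (0, 1), (0, 1), (0, 1), (0, 1), (0, 1), (0, 1), (0, (-3)), (0, 3), (0, (-1)), (0, (-3)), (0, 1), (0, 1), (0, 1)],
      [(0, 3), (0, 3), (0, (-1)), (0, 1), (0, (-1)), (0, (-1)), (0, (-3)), (0, 1), (0, 1), (0, (-1)), (0, 1), (0, 1), (0, (-3)), (0, (-3)), (0, 1), (0, 1), (0, 1), (0, 1), (0, (-1)), (0, (-1)), (0, 1), (0, 1), (0, 1), (0, 1)],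
      [(0, (-3)), (0, 1), (0, 1), (0, 3), (0, (-3)), (0, 1), (0, (-1)), (0, (-1)), (0, (-1)), (0, 1), (0, (-1)), (0, (-1)), (0, (-1)), (0, (-1)), (0, (-1)), (0, (-1)), (0, (-1)), (0, (-1)), (0, 1), (0, 1), (0, 3), (0, (-1)), (0, 3), (0, (-1))],
      [(0, (-1)), (0, 3), (0, (-1)), (0, (-3)), (0, (-1)), (0, (-1)), (0, 1), (0, (-3)), (0, 1), (0, 3), (0, 1), (0, 1), (0, 1), (0, 1), (0, 1), (0, 1), (0, 1), (0, 1), (0, (-1)), (0, (-1)), (0, 1), (0, (-3)), (0, 1), (0, 1)],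
      [(0, (-1)), (0, (-1)), (0, (-1)), (0, 1), (0, (-1)), (0, (-1)), (0, 1), (0, 1), (0, 1), (0, 3), (0, 1), (0, 1), (0, (-3)), (0, 1), (0, 1), (0, 1), (0, (-3)), (0, 1), (0, (-1)), (0, 3), (0, (-3)), (0, 1), (0, 1), (0, 1)],
      [(0, (-1)), (0, (-1)), (0, (-1)), (0, (-3)), (0, (-1)), (0, (-1)), (0, (-3)), (0, 1), (0, 1), (0, (-1)), (0, 1), (0, (-3)), (0, 1), (0, 1), (0, 1), (0, 1), (0, (-3)), (0, (-3)), (0, (-1)), (0, (-1)), (0, 1), (0, 1), (0, 1), (0, 1)],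
      [(0, 1), (0, (-3)), (0, 1), (0, (-1)), (0, 1), (0, 1), (0, (-1)), (0, (-1)), (0, (-1)), (0, 1), (0, (-1)), (0, 3), (0, (-1)), (0, (-1)), (0, (-1)), (0, (-1)), (0, (-1)), (0, (-1)), (0, 1), (0, (-3)), (0, (-1)), (0, (-1)), (0, 3), (0, 3)],
      [(0, (-1)), (0, (-1)), (0, 3), (0, 1), (0, (-1)), (0, (-5)), (0, 1), (0, 1), (0, 1), (0, (-1)), (0, 1), (0, 1), (0, 1), (0, 1), (0, 1), (0, (-3)), (0, 1), (0, 1), (0, (-1)), (0, (-1)), (0, 1), (0, 1), (0, 1), (0, 1)],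
      [(0, 1), (0, 1), (0, 1), (0, (-1)), (0, 1), (0, 1), (0, (-1)), (0, (-1)), (0, (-1)), (0, 1), (0, (-1)), (0, (-1)), (0, 3), (0, (-1)), (0, 3), (0, (-1)), (0, (-1)), (0, 3), (0, 1), (0, 1), (0, (-1)), (0, 3), (0, 3), (0, (-1))],
      [(0, 1), (0, 1), (0, 1), (0, (-1)), (0, (-3)), (0, 1), (0, 3), (0, (-1)), (0, 3), (0, 1), (0, (-1)), (0, (-1)), (0, (-1)), (0, (-1)), (0, (-1)), (0, (-1)), (0, (-1)), (0, (-1)), (0, 1), (0, (-3)), (0, (-1)), (0, 3), (0, (-1)), (0, (-1))],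
      [(0, 3), (0, (-1)), (0, (-1)), (0, 1), (0, (-1)), (0, (-1)), (0, 1), (0, 1), (0, (-3)), (0, 3), (0, 1), (0, (-3)), (0, 1), (0, 1), (0, (-3)), (0, 1), (0, 1), (0, 1), (0, (-1)), (0, (-1)), (0, 1), (0, 1), (0, 1), (0, 1)],
      [(0, (-1)), (0, (-1)), (0, (-1)), (0, 1), (0, 3), (0, (-1)), (0, 1), (0, (-3)), (0, 1), (0, (-1)), (0, 1), (0, (-3)), (0, (-3)), (0, 1), (0, 1), (0, 1), (0, 1), (0, 1), (0, 3), (0, (-1)), (0, 1), (0, 1), (0, 1), (0, 1)],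
      [(0, 1), (0, 1), (0, 1), (0, 3), (0, 1), (0, 1), (0, (-1)), (0, (-1)), (0, 3), (0, 1), (0, 3), (0, (-1)), (0, 3), (0, (-1)), (0, (-1)), (0, (-1)), (0, (-1)), (0, (-1)), (0, 1), (0, 1), (0, (-1)), (0, (-1)), (0, (-1)), (0, 3)],
      [(0, (-1)), (0, (-1)), (0, (-1)), (0, (-3)), (0, (-1)), (0, (-1)), (0, 1), (0, 1), (0, 1), (0, (-1)), (0, 1), (0, 1), (0, 1), (0, (-3)), (0, (-3)), (0, 1), (0, 1), (0, 1), (0, 3), (0, 3), (0, 1), (0, 1), (0, 1), (0, 1)],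
      [(0, 3), (0, (-1)), (0, (-1)), (0, 1), (0, (-1)), (0, (-1)), (0, 1), (0, (-3)), (0, 1), (0, (-1)), (0, (-3)), (0, 1), (0, 1), (0, 1), (0, 1), (0, 1), (0, 1), (0, (-3)), (0, (-1)), (0, 3), (0, 1), (0, 1), (0, 1), (0, 1)],
      [(0, (-1)), (0, (-1)), (0, (-1)), (0, 1), (0, (-1)), (0, (-1)), (0, (-3)), (0, (-3)), (0, 1), (0, (-1)), (0, 1), (0, 1), (0, 1), (0, 1), (0, (-3)), (0, 1), (0, 1), (0, 1), (0, (-1)), (0, (-1)), (0, (-3)), (0, 1), (0, 1), (0, (-3))]]),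
    ([[(0, (-1)), (0, (-1)), (0, (-1)), (0, 1), (0, 3), (0, (-1)), (0, 1), (0, (-1)), (0, (-1)), (0, (-1)), (0, (-3)), (0, 1), (0, (-1)), (0, (-1)), (0, 3), (0, 1), (0, (-1)), (0, 3), (0, (-1)), (0, (-1)), (0, 1), (0, (-1)), (0, (-3)), (0, 1)],
      [(0, (-1)), (0, (-1)), (0, (-1)), (0, 1), (0, (-1)), (0, (-1)), (0, 1), (0, (-1)), (0, (-1)), (0, (-1)), (0, 1), (0, 1), (0, (-1)), (0, 3), (0, (-1)), (0, (-3)), (0, (-1)), (0, (-1)), (0, (-1)), (0, 3), (0, 1), (0, 3), (0, (-3)), (0, 1)],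
      [(0, (-1)), (0, (-1)), (0, (-1)), (0, (-3)), (0, (-1)), (0, (-1)), (0, 1), (0, (-1)), (0, (-1)), (0, (-1)), (0, 1), (0, 1), (0, 3), (0, (-1)), (0, (-1)), (0, (-3)), (0, (-1)), (0, 3), (0, 3), (0, (-1)), (0, 1), (0, (-1)), (0, 1), (0, 1)],
      [(0, 1), (0, (-3)), (0, 1), (0, (-1)), (0, (-3)), (0, (-3)), (0, (-1)), (0, 1), (0, 1), (0, 1), (0, (-1)), (0, (-1)), (0, 1), (0, 1), (0, 1), (0, (-1)), (0, 1), (0, 1), (0, (-3)), (0, (-3)), (0, (-1)), (0, 1), (0, (-1)), (0, (-1))],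
      [(0, 1), (0, 1), (0, 1), (0, (-1)), (0, 1), (0, (-3)), (0, 3), (0, 1), (0, 1), (0, 1), (0, (-1)), (0, (-1)), (0, 1), (0, 1), (0, 1), (0, (-1)), (0, 1), (0, (-3)), (0, 1), (0, 1), (0, 3), (0, (-3)), (0, (-1)), (0, (-1))],
      [(0, (-3)), (0, 1), (0, 5), (0, (-1)), (0, 1), (0, 1), (0, (-1)), (0, 1), (0, 1), (0, (-3)), (0, (-1)), (0, (-1)), (0, 1), (0, 1), (0, 1), (0, (-1)), (0, 1), (0, 1), (0, 1), (0, 1), (0, (-1)), (0, 1), (0, (-1)), (0, (-1))],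
      [(0, 1), (0, (-3)), (0, 1), (0, (-1)), (0, 1), (0, 1), (0, (-1)), (0, 1), (0, 1), (0, 1), (0, 3), (0, (-1)), (0, 1), (0, 1), (0, 1), (0, 3), (0, 1), (0, 1), (0, 1), (0, 1), (0, 3), (0, 1), (0, (-1)), (0, 3)],
      [(0, (-1)), (0, (-1)), (0, (-1)), (0, (-3)), (0, (-1)), (0, (-1)), (0, 1), (0, 3), (0, (-1)), (0, (-1)), (0, 1), (0, 1), (0, (-1)), (0, (-1)), (0, 3), (0, 1), (0, (-1)), (0, (-1)), (0, (-1)), (0, 3), (0, (-3)), (0, (-1)), (0, 1), (0, 1)],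
      [(0, 5), (0, 1), (0, (-3)), (0, (-1)), (0, 1), (0, 1), (0, (-1)), (0, 1), (0, 1), (0, (-3)), (0, (-1)), (0, (-1)), (0, 1), (0, 1), (0, 1), (0, (-1)), (0, 1), (0, 1), (0, 1), (0, 1), (0, (-1)), (0, 1), (0, (-1)), (0, (-1))],
      [(0, 1), (0, 1), (0, 1), (0, (-1)), (0, 1), (0, (-3)), (0, (-1)), (0, 1), (0, (-3)), (0, 1), (0, (-1)), (0, 3), (0, 1), (0, 1), (0, (-3)), (0, 3), (0, 1), (0, 1), (0, 1), (0, 1), (0, (-1)), (0, 1), (0, (-1)), (0, (-1))],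
      [(0, 1), (0, 1), (0, 1), (0, (-1)), (0, 1), (0, 1), (0, 3), (0, 1), (0, (-3)), (0, 1), (0, 3), (0, (-1)), (0, (-3)), (0, 1), (0, 1), (0, (-1)), (0, 1), (0, 1), (0, 1), (0, (-3)), (0, (-1)), (0, 1), (0, (-1)), (0, (-1))],
      [(0, (-1)), (0, (-1)), (0, (-1)), (0, 1), (0, 3), (0, (-1)), (0, 1), (0, (-1)), (0, (-1)), (0, (-1)), (0, 1), (0, (-3)), (0, 3), (0, 3), (0, (-1)), (0, 1), (0, (-1)), (0, (-1)), (0, (-1)), (0, (-1)), (0, (-3)), (0, (-1)), (0, 1), (0, 1)],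
      [(0, 1), (0, (-3)), (0, 1), (0, (-1)), (0, 1), (0, 1), (0, (-1)), (0, (-3)), (0, (-3)), (0, 1), (0, (-1)), (0, (-1)), (0, 1), (0, (-3)), (0, 1), (0, (-1)), (0, 1), (0, (-3)), (0, 1), (0, 1), (0, (-1)), (0, 1), (0, (-1)), (0, (-1))],
      [(0, (-1)), (0, 3), (0, (-1)), (0, (-3)), (0, (-1)), (0, (-1)), (0, (-3)), (0, (-1)), (0, (-1)), (0, (-1)), (0, 1), (0, (-3)), (0, (-1)), (0, (-1)), (0, (-1)), (0, 1), (0, (-1)), (0, (-1)), (0, (-1)), (0, (-1)), (0, 1), (0, (-1)), (0, (-3)), (0, 1)],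
      [(0, (-1)), (0, (-1)), (0, (-1)), (0, 1), (0, (-1)), (0, (-1)), (0, 1), (0, (-1)), (0, 3), (0, (-1)), (0, 1), (0, 1), (0, (-1)), (0, (-1)), (0, (-1)), (0, 1), (0, 3), (0, (-1)), (0, 3), (0, (-1)), (0, (-3)), (0, (-1)), (0, (-3)), (0, 1)],
      [(0, 1), (0, 1), (0, 1), (0, 3), (0, 1), (0, (-3)), (0, (-1)), (0, 1), (0, 1), (0, 1), (0, 3), (0, (-1)), (0, 1), (0, (-3)), (0, 1), (0, (-1)), (0, (-3)), (0, 1), (0, 1), (0, 1), (0, (-1)), (0, 1), (0, (-1)), (0, (-1))],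
      [(0, 3), (0, (-1)), (0, 3), (0, 1), (0, (-1)), (0, (-1)), (0, 1), (0, (-1)), (0, (-1)), (0, (-5)), (0, 1), (0, 1), (0, (-1)), (0, (-1)), (0, (-1)), (0, 1), (0, (-1)), (0, (-1)), (0, (-1)), (0, (-1)), (0, 1), (0, (-1)), (0, 1), (0, 1)],
      [(0, (-1)), (0, (-1)), (0, (-1)), (0, 1), (0, (-1)), (0, (-1)), (0, 1), (0, (-1)), (0, (-1)), (0, (-1)), (0, 1), (0, (-3)), (0, (-1)), (0, (-1)), (0, (-1)), (0, 1), (0, 3), (0, 3), (0, (-1)), (0, 3), (0, 1), (0, (-1)), (0, 1), (0, (-3))],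
      [(0, (-1)), (0, (-1)), (0, (-1)), (0, 1), (0, (-1)), (0, 3), (0, 1), (0, 3), (0, (-1)), (0, (-1)), (0, 1), (0, 1), (0, 3), (0, (-1)), (0, (-1)), (0, 1), (0, (-1)), (0, (-1)), (0, (-1)), (0, (-1)), (0, 1), (0, (-1)), (0, (-3)), (0, (-3))],
      [(0, 1), (0, (-3)), (0, 1), (0, (-1)), (0, 1), (0, 1), (0, (-1)), (0, 1), (0, 1), (0, 1), (0, (-1)), (0, (-1)), (0, (-3)), (0, 1), (0, (-3)), (0, (-1)), (0, (-3)), (0, 1), (0, 1), (0, 1), (0, (-1)), (0, (-3)), (0, (-1)), (0, (-1))],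
      [(0, 1), (0, 1), (0, 1), (0, (-1)), (0, 1), (0, 1), (0, (-1)), (0, (-3)), (0, 1), (0, 1), (0, 3), (0, 3), (0, 1), (0, 1), (0, 1), (0, (-1)), (0, 1), (0, 1), (0, (-3)), (0, 1), (0, (-1)), (0, (-3)), (0, (-1)), (0, (-1))],
      [(0, (-1)), (0, (-1)), (0, (-1)), (0, 1), (0, (-1)), (0, (-1)), (0, (-3)), (0, (-1)), (0, (-1)), (0, (-1)), (0, 1), (0, 1), (0, (-1)), (0, 3), (0, 3), (0, 1), (0, (-1)), (0, (-1)), (0, 3), (0, (-1)), (0, 1), (0, (-1)), (0, 1), (0, (-3))],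
      [(0, 1), (0, 1), (0, 1), (0, 3), (0, (-3)), (0, 1), (0, (-1)), (0, 1), (0, (-3)), (0, 1), (0, (-1)), (0, (-1)), (0, 1), (0, 1), (0, 1), (0, (-1)), (0, 1), (0, 1), (0, 1), (0, 1), (0, (-1)), (0, (-3)), (0, (-1)), (0, 3)],
      [(0, (-1)), (0, (-1)), (0, (-1)), (0, 1), (0, 3), (0, (-1)), (0, (-3)), (0, 3), (0, (-1)), (0, (-1)), (0, 1), (0, 1), (0, (-1)), (0, (-1)), (0, (-1)), (0, (-3)), (0, 3), (0, (-1)), (0, (-1)), (0, (-1)), (0, 1), (0, (-1)), (0, 1), (0, 1)]],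
     [[(0, (-1)), (0, (-1)), (0, (-1)), (0, 1), (0, 1), (0, (-3)), (0, 1), (0, (-1)), (0, 5), (0, 1), (0, 1), (0, (-1)), (0, 1), (0, (-1)), (0, (-1)), (0, 1), (0, 3), (0, (-1)), (0, (-1)), (0, 1), (0, 1), (0, (-1)), (0, 1), (0, (-1))],
      [(0, (-1)), (0, (-1)), (0, (-1)), (0, (-3)), (0, 1), (0, 1), (0, (-3)), (0, (-1)), (0, 1), (0, 1), (0, 1), (0, (-1)), (0, (-3)), (0, 3), (0, (-1)), (0, 1), (0, (-1)), (0, (-1)), (0, (-1)), (0, (-3)), (0, 1), (0, (-1)), (0, 1), (0, (-1))],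
      [(0, (-1)), (0, (-1)), (0, (-1)), (0, 1), (0, 1), (0, 5), (0, 1), (0, (-1)), (0, (-3)), (0, 1), (0, 1), (0, (-1)), (0, 1), (0, (-1)), (0, (-1)), (0, 1), (0, 3), (0, (-1)), (0, (-1)), (0, 1), (0, 1), (0, (-1)), (0, 1), (0, (-1))],
      [(0, 1), (0, 1), (0, (-3)), (0, (-1)), (0, (-1)), (0, (-1)), (0, (-1)), (0, (-3)), (0, (-1)), (0, (-1)), (0, (-1)), (0, 1), (0, (-1)), (0, (-3)), (0, 1), (0, 3), (0, 1), (0, 1), (0, 1), (0, (-1)), (0, (-1)), (0, 1), (0, 3), (0, 1)],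
      [(0, 3), (0, (-1)), (0, (-1)), (0, (-3)), (0, 1), (0, 1), (0, 1), (0, (-1)), (0, 1), (0, 1), (0, 1), (0, 3), (0, 1), (0, (-1)), (0, (-1)), (0, 1), (0, (-1)), (0, (-1)), (0, (-1)), (0, 1), (0, 1), (0, (-1)), (0, (-3)), (0, 3)],
      [(0, (-1)), (0, (-1)), (0, (-1)), (0, (-3)), (0, (-3)), (0, 1), (0, 1), (0, (-1)), (0, 1), (0, (-3)), (0, 1), (0, (-1)), (0, 1), (0, (-1)), (0, (-1)), (0, (-3)), (0, (-1)), (0, (-1)), (0, 3), (0, 1), (0, 1), (0, (-1)), (0, 1), (0, (-1))],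
      [(0, 1), (0, 1), (0, 1), (0, (-1)), (0, 3), (0, (-1)), (0, (-1)), (0, 1), (0, (-1)), (0, (-1)), (0, 3), (0, 1), (0, (-1)), (0, (-3)), (0, 1), (0, (-1)), (0, 1), (0, 1), (0, 1), (0, (-1)), (0, (-1)), (0, (-3)), (0, (-1)), (0, (-3))],
      [(0, (-1)), (0, (-1)), (0, (-1)), (0, 1), (0, 1), (0, 1), (0, 1), (0, 3), (0, 1), (0, 1), (0, 1), (0, (-1)), (0, (-3)), (0, (-1)), (0, (-1)), (0, 1), (0, (-1)), (0, (-1)), (0, 3), (0, 1), (0, (-3)), (0, (-1)), (0, 1), (0, 3)],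
      [(0, (-1)), (0, (-1)), (0, (-1)), (0, 1), (0, 1), (0, 1), (0, 1), (0, (-1)), (0, 1), (0, (-3)), (0, (-3)), (0, (-1)), (0, (-3)), (0, (-1)), (0, 3), (0, 1), (0, (-1)), (0, (-1)), (0, (-1)), (0, 1), (0, 1), (0, (-1)), (0, (-3)), (0, (-1))],
      [(0, (-1)), (0, (-1)), (0, (-1)), (0, 1), (0, 1), (0, (-3)), (0, 1), (0, (-1)), (0, (-3)), (0, 1), (0, 1), (0, (-1)), (0, 1), (0, (-1)), (0, (-1)), (0, 1), (0, (-5)), (0, (-1)), (0, (-1)), (0, 1), (0, 1), (0, (-1)), (0, 1), (0, (-1))],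
      [(0, (-3)), (0, 1), (0, 1), (0, (-1)), (0, (-1)), (0, (-1)), (0, 3), (0, 1), (0, (-1)), (0, (-1)), (0, 3), (0, 1), (0, (-1)), (0, 1), (0, 1), (0, 3), (0, 1), (0, 1), (0, 1), (0, (-1)), (0, 3), (0, 1), (0, (-1)), (0, 1)],
      [(0, 1), (0, 1), (0, 1), (0, (-1)), (0, (-1)), (0, (-1)), (0, (-1)), (0, 1), (0, (-1)), (0, 3), (0, (-1)), (0, (-3)), (0, (-1)), (0, (-3)), (0, 1), (0, (-1)), (0, 1), (0, (-3)), (0, 1), (0, (-1)), (0, 3), (0, 1), (0, (-1)), (0, 1)],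
      [(0, (-1)), (0, (-1)), (0, 3), (0, 1), (0, 1), (0, 1), (0, 1), (0, (-1)), (0, 1), (0, 1), (0, (-3)), (0, 3), (0, 1), (0, (-1)), (0, (-1)), (0, 1), (0, (-1)), (0, (-1)), (0, 3), (0, (-3)), (0, 1), (0, (-1)), (0, 1), (0, (-1))],
      [(0, (-1)), (0, 3), (0, (-1)), (0, 1), (0, 1), (0, 1), (0, 1), (0, (-1)), (0, 1), (0, 1), (0, 1), (0, 3), (0, (-3)), (0, (-1)), (0, (-1)), (0, (-3)), (0, (-1)), (0, (-1)), (0, (-1)), (0, 1), (0, 1), (0, 3), (0, 1), (0, (-1))],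
      [(0, 3), (0, (-1)), (0, (-1)), (0, 1), (0, 1), (0, 1), (0, 1), (0, 3), (0, 1), (0, (-3)), (0, 1), (0, (-1)), (0, 1), (0, (-1)), (0, (-1)), (0, 1), (0, (-1)), (0, (-1)), (0, (-1)), (0, (-3)), (0, 1), (0, 3), (0, 1), (0, (-1))],
      [(0, 1), (0, (-3)), (0, (-3)), (0, (-1)), (0, (-1)), (0, (-1)), (0, 3), (0, 1), (0, (-1)), (0, 3), (0, (-1)), (0, 1), (0, (-1)), (0, 1), (0, 1), (0, (-1)), (0, 1), (0, 1), (0, 1), (0, (-1)), (0, (-1)), (0, 1), (0, (-1)), (0, (-3))],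
      [(0, (-1)), (0, (-1)), (0, (-1)), (0, 1), (0, 1), (0, 1), (0, 1), (0, (-1)), (0, 1), (0, 1), (0, 1), (0, (-1)), (0, 1), (0, (-1)), (0, 3), (0, (-3)), (0, (-1)), (0, 3), (0, (-1)), (0, (-3)), (0, 1), (0, (-1)), (0, 1), (0, 3)],
      [(0, 3), (0, (-1)), (0, 3), (0, 1), (0, (-3)), (0, 1), (0, 1), (0, (-1)), (0, 1), (0, 1), (0, 1), (0, (-1)), (0, (-3)), (0, (-1)), (0, (-1)), (0, 1), (0, (-1)), (0, 3), (0, (-1)), (0, 1), (0, 1), (0, (-1)), (0, 1), (0, (-1))],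
      [(0, (-1)), (0, (-1)), (0, 3), (0, (-3)), (0, 1), (0, 1), (0, 1), (0, (-1)), (0, 1), (0, 1), (0, 1), (0, (-1)), (0, 1), (0, (-1)), (0, 3), (0, 1), (0, (-1)), (0, (-1)), (0, (-1)), (0, 1), (0, (-3)), (0, 3), (0, 1), (0, (-1))],
      [(0, (-1)), (0, 3), (0, (-1)), (0, (-3)), (0, 1), (0, 1), (0, 1), (0, 3), (0, 1), (0, 1), (0, (-3)), (0, (-1)), (0, 1), (0, (-1)), (0, (-1)), (0, 1), (0, (-1)), (0, 3), (0, (-1)), (0, 1), (0, 1), (0, (-1)), (0, 1), (0, (-1))],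
      [(0, 1), (0, 1), (0, 1), (0, (-1)), (0, 3), (0, (-1)), (0, 3), (0, (-3)), (0, (-1)), (0, (-1)), (0, (-1)), (0, (-3)), (0, (-1)), (0, 1), (0, (-3)), (0, (-1)), (0, 1), (0, 1), (0, 1), (0, (-1)), (0, (-1)), (0, 1), (0, (-1)), (0, 1)],
      [(0, (-1)), (0, 3), (0, (-1)), (0, 1), (0, (-3)), (0, 1), (0, 1), (0, (-1)), (0, 1), (0, 1), (0, 1), (0, (-1)), (0, 1), (0, (-1)), (0, (-1)), (0, 1), (0, (-1)), (0, (-1)), (0, (-1)), (0, (-3)), (0, (-3)), (0, (-1)), (0, (-3)), (0, (-1))],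
      [(0, (-3)), (0, (-3)), (0, 1), (0, (-1)), (0, (-1)), (0, (-1)), (0, (-1)), (0, 1), (0, (-1)), (0, (-1)), (0, (-1)), (0, 1), (0, (-1)), (0, (-3)), (0, (-3)), (0, (-1)), (0, 1), (0, 1), (0, (-3)), (0, (-1)), (0, (-1)), (0, 1), (0, (-1)), (0, 1)],
      [(0, 1), (0, 1), (0, 1), (0, (-1)), (0, (-1)), (0, (-1)), (0, 3), (0, 1), (0, (-1)), (0, (-1)), (0, (-1)), (0, 1), (0, (-1)), (0, 1), (0, 1), (0, (-1)), (0, 1), (0, (-3)), (0, (-3)), (0, (-1)), (0, (-1)), (0, (-3)), (0, 3), (0, 1)]])]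

/-- part of the generators and their transposes -/
def threeW2 : List (List (List (ℕ × ℤ)) × List (List (ℕ × ℤ))) :=
  [([[(0, (-2)), (1, (-2)), (0, (-2)), (3, 2), (1, (-2)), (4, (-2)), (4, (-6)), (0, (-2))],
      [(1, (-2)), (2, 2), (0, 2), (0, (-2)), (1, 2), (1, (-2)), (0, 2), (0, (-2)), (0, (-2)), (1, 2), (0, 2), (0, (-2)), (0, 2), (2, 2), (0, 2), (0, 2)],
      [(0, (-2)), (1, (-2)), (0, (-2)), (3, 2), (1, 6), (4, (-2)), (4, 2), (0, (-2))],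
      [(0, 2), (1, 2), (0, 2), (3, (-2)), (1, 2), (4, 2), (4, (-2)), (0, (-6))],
      [(1, (-2)), (2, (-2)), (0, (-2)), (0, (-2)), (1, (-2)), (1, 2), (0, (-2)), (0, (-2)), (0, (-2)), (1, (-2)), (0, 2), (0, 2), (0, 2), (2, 2), (0, (-2)), (0, 2)],
      [(1, (-2)), (2, (-2)), (0, (-2)), (0, 2), (1, 2), (1, (-2)), (0, 2), (0, 2), (0, (-2)), (1, (-2)), (0, (-2)), (0, (-2)), (0, 2), (2, 2), (0, (-2)), (0, (-2))],
      [(1, 2), (2, (-2)), (0, 2), (0, (-2)), (1, 2), (1, 2), (0, (-2)), (0, 2), (0, 2), (1, (-2)), (0, 2), (0, (-2)), (0, 2), (2, 2), (0, 2), (0, (-2))],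
      [(0, (-6)), (1, 2), (0, 2), (3, (-2)), (1, 2), (4, 2), (4, (-2)), (0, 2)],
      [(1, (-2)), (2, (-2)), (0, 2), (0, 2), (1, 2), (1, 2), (0, (-2)), (0, (-2)), (0, (-2)), (1, (-2)), (0, (-2)), (0, (-2)), (0, (-2)), (2, (-2)), (0, 2), (0, 2)],
      [(0, (-2)), (1, (-2)), (0, (-2)), (3, 2), (1, (-2)), (4, 6), (4, 2), (0, (-2))],
      [(1, (-2)), (2, (-2)), (0, 2), (0, (-2)), (1, (-2)), (1, (-2)), (0, 2), (0, 2), (0, (-2)), (1, (-2)), (0, 2), (0, 2), (0, (-2)), (2, (-2)), (0, 2), (0, (-2))],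
      [(1, (-2)), (2, 2), (0, (-2)), (0, 2), (1, (-2)), (1, (-2)), (0, (-2)), (0, (-2)), (0, 2), (1, (-2)), (0, 2), (0, (-2)), (0, (-2)), (2, 2), (0, 2), (0, (-2))],
      [(1, (-2)), (2, 2), (0, (-2)), (0, (-2)), (1, 2), (1, 2), (0, (-2)), (0, 2), (0, (-2)), (1, 2), (0, 2), (0, (-2)), (0, (-2)), (2, (-2)), (0, (-2)), (0, (-2))],
      [(1, 2), (2, 2), (0, 2), (0, (-2)), (1, (-2)), (1, 2), (0, 2), (0, (-2)), (0, (-2)), (1, (-2)), (0, (-2)), (0, (-2)), (0, (-2)), (2, 2), (0, (-2)), (0, (-2))],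
      [(0, (-2)), (1, 6), (0, (-2)), (3, 2), (1, (-2)), (4, (-2)), (4, 2), (0, (-2))],
      [(1, (-2)), (2, 2), (0, 2), (0, 2), (1, (-2)), (1, 2), (0, 2), (0, 2), (0, 2), (1, (-2)), (0, 2), (0, (-2)), (0, 2), (2, (-2)), (0, (-2)), (0, 2)],
      [(1, (-2)), (2, (-2)), (0, 2), (0, (-2)), (1, (-2)), (1, (-2)), (0, (-2)), (0, 2), (0, 2), (1, 2), (0, (-2)), (0, (-2)), (0, (-2)), (2, 2), (0, (-2)), (0, 2)],
      [(1, (-2)), (2, 2), (0, (-2)), (0, (-2)), (1, 2), (1, 2), (0, 2), (0, 2), (0, 2), (1, (-2)), (0, (-2)), (0, 2), (0, (-2)), (2, 2), (0, 2), (0, 2)],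
      [(1, 2), (2, (-2)), (0, (-2)), (0, (-2)), (1, 2), (1, (-2)), (0, 2), (0, (-2)), (0, 2), (1, (-2)), (0, 2), (0, (-2)), (0, (-2)), (2, (-2)), (0, (-2)), (0, 2)],
      [(0, 2), (1, 2), (0, 2), (3, 6), (1, 2), (4, 2), (4, (-2)), (0, 2)],
      [(0, 2), (1, 2), (0, (-6)), (3, (-2)), (1, 2), (4, 2), (4, (-2)), (0, 2)],
      [(1, (-2)), (2, (-2)), (0, (-2)), (0, (-2)), (1, (-2)), (1, 2), (0, 2), (0, (-2)), (0, 2), (1, 2), (0, (-2)), (0, (-2)), (0, 2), (2, (-2)), (0, 2), (0, (-2))],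
      [(1, (-2)), (2, 2), (0, 2), (0, (-2)), (1, 2), (1, (-2)), (0, (-2)), (0, (-2)), (0, 2), (1, (-2)), (0, (-2)), (0, 2), (0, 2), (2, (-2)), (0, (-2)), (0, (-2))],
      [(1, 2), (2, 2), (0, (-2)), (0, (-2)), (1, (-2)), (1, (-2)), (0, (-2)), (0, 2), (0, (-2)), (1, (-2)), (0, (-2)), (0, (-2)), (0, 2), (2, (-2)), (0, 2), (0, 2)]],
     [[(0, (-2)), (1, (-2)), (0, 2), (3, (-6)), (1, (-2)), (4, (-2)), (4, 2), (0, 2)],
      [(1, (-2)), (2, (-2)), (0, (-2)), (0, 2), (1, (-2)), (1, (-2)), (0, (-2)), (0, (-2)), (0, 2), (1, (-2)), (0, (-2)), (0, (-2)), (0, 2), (2, (-2)), (0, (-2)), (0, 2)],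
      [(0, (-2)), (1, (-2)), (0, 2), (3, 2), (1, (-2)), (4, 6), (4, 2), (0, 2)],
      [(0, (-2)), (1, (-2)), (0, 2), (3, 2), (1, (-2)), (4, (-2)), (4, 2), (0, (-6))],
      [(1, 2), (2, (-2)), (0, (-2)), (0, (-2)), (1, (-2)), (1, (-2)), (0, 2), (0, 2), (0, 2), (1, 2), (0, (-2)), (0, 2), (0, (-2)), (2, (-2)), (0, 2), (0, 2)],
      [(1, 2), (2, (-2)), (0, (-2)), (0, 2), (1, 2), (1, 2), (0, (-2)), (0, (-2)), (0, 2), (1, 2), (0, 2), (0, (-2)), (0, (-2)), (2, (-2)), (0, 2), (0, (-2))],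
      [(1, (-2)), (2, (-2)), (0, 2), (0, (-2)), (1, 2), (1, (-2)), (0, 2), (0, (-2)), (0, (-2)), (1, 2), (0, (-2)), (0, (-2)), (0, (-2)), (2, (-2)), (0, (-2)), (0, (-2))],
      [(0, 2), (1, 2), (0, (-2)), (3, (-2)), (1, 2), (4, 2), (4, 6), (0, (-2))],
      [(1, 2), (2, (-2)), (0, 2), (0, 2), (1, 2), (1, (-2)), (0, (-2)), (0, 2), (0, (-2)), (1, (-2)), (0, (-2)), (0, 2), (0, 2), (2, (-2)), (0, 2), (0, (-2))],
      [(0, (-2)), (1, 6), (0, 2), (3, 2), (1, (-2)), (4, (-2)), (4, 2), (0, 2)],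
      [(1, (-2)), (2, 2), (0, (-2)), (0, 2), (1, 2), (1, (-2)), (0, (-2)), (0, 2), (0, 2), (1, 2), (0, (-2)), (0, 2), (0, (-2)), (2, 2), (0, (-2)), (0, (-2))],
      [(1, 2), (2, (-2)), (0, 2), (0, (-2)), (1, (-2)), (1, 2), (0, (-2)), (0, (-2)), (0, 2), (1, 2), (0, (-2)), (0, 2), (0, 2), (2, 2), (0, (-2)), (0, (-2))],
      [(1, (-2)), (2, (-2)), (0, 2), (0, 2), (1, (-2)), (1, 2), (0, (-2)), (0, 2), (0, (-2)), (1, 2), (0, 2), (0, 2), (0, (-2)), (2, (-2)), (0, (-2)), (0, 2)],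
      [(1, (-2)), (2, (-2)), (0, (-2)), (0, 2), (1, (-2)), (1, (-2)), (0, 2), (0, (-2)), (0, (-2)), (1, 2), (0, 2), (0, 2), (0, 2), (2, 2), (0, 2), (0, (-2))],
      [(0, (-2)), (1, (-2)), (0, 2), (3, 2), (1, 6), (4, (-2)), (4, 2), (0, 2)],
      [(1, 2), (2, (-2)), (0, (-2)), (0, (-2)), (1, (-2)), (1, (-2)), (0, (-2)), (0, 2), (0, (-2)), (1, (-2)), (0, 2), (0, (-2)), (0, (-2)), (2, 2), (0, (-2)), (0, (-2))],
      [(1, 2), (2, 2), (0, (-2)), (0, 2), (1, (-2)), (1, 2), (0, 2), (0, 2), (0, (-2)), (1, 2), (0, (-2)), (0, (-2)), (0, 2), (2, (-2)), (0, (-2)), (0, (-2))],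
      [(1, (-2)), (2, 2), (0, (-2)), (0, (-2)), (1, (-2)), (1, 2), (0, (-2)), (0, (-2)), (0, (-2)), (1, (-2)), (0, (-2)), (0, 2), (0, (-2)), (2, (-2)), (0, 2), (0, (-2))],
      [(1, 2), (2, 2), (0, 2), (0, 2), (1, (-2)), (1, (-2)), (0, (-2)), (0, (-2)), (0, (-2)), (1, 2), (0, (-2)), (0, (-2)), (0, (-2)), (2, 2), (0, 2), (0, 2)],
      [(0, (-6)), (1, 2), (0, (-2)), (3, (-2)), (1, 2), (4, 2), (4, (-2)), (0, (-2))],
      [(0, (-2)), (1, (-2)), (0, (-6)), (3, 2), (1, (-2)), (4, (-2)), (4, 2), (0, 2)],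
      [(1, 2), (2, 2), (0, 2), (0, 2), (1, (-2)), (1, (-2)), (0, 2), (0, (-2)), (0, 2), (1, (-2)), (0, 2), (0, 2), (0, (-2)), (2, (-2)), (0, (-2)), (0, (-2))],
      [(1, 2), (2, (-2)), (0, (-2)), (0, 2), (1, 2), (1, 2), (0, 2), (0, (-2)), (0, (-2)), (1, (-2)), (0, (-2)), (0, 2), (0, (-2)), (2, 2), (0, (-2)), (0, 2)],
      [(1, 2), (2, 2), (0, (-2)), (0, (-2)), (1, 2), (1, (-2)), (0, (-2)), (0, (-2)), (0, (-2)), (1, 2), (0, 2), (0, 2), (0, 2), (2, (-2)), (0, (-2)), (0, 2)]]),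
    ([[(0, (-4)), (1, 2), (0, (-2)), (0, (-2)), (2, 2), (0, 2), (0, (-2)), (5, 2), (0, 2), (2, (-2)), (0, (-2)), (0, (-2)), (0, (-2))],
      [(1, (-4)), (0, 2), (0, (-2)), (0, 2), (2, (-2)), (0, 2), (0, 2), (5, 2), (0, 2), (2, (-2)), (0, 2), (0, 2), (0, 2)],
      [(0, (-2)), (0, (-2)), (0, (-4)), (2, (-2)), (0, (-2)), (3, (-2)), (0, 2), (0, (-2)), (0, (-2)), (0, (-2)), (2, 2), (0, 2), (4, (-2))],
      [(0, 2), (0, 2), (1, (-4)), (1, 2), (0, (-2)), (3, (-2)), (0, 2), (0, (-2)), (0, (-2)), (0, 2), (2, (-2)), (0, 2), (4, 2)],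
      [(0, 2), (0, (-2)), (2, (-4)), (0, 2), (0, 2), (3, 2), (0, (-2)), (0, (-2)), (0, (-2)), (0, (-2)), (2, 2), (0, 2), (4, 2)],
      [(2, 2), (0, (-2)), (0, (-2)), (0, (-4)), (1, (-2)), (0, (-2)), (0, 2), (5, 2), (0, (-2)), (2, 2), (0, (-2)), (0, 2), (0, (-2))],
      [(2, 2), (0, 2), (0, (-2)), (1, (-4)), (0, 2), (0, (-2)), (0, (-2)), (5, 2), (0, 2), (2, 2), (0, 2), (0, 2), (0, 2)],
      [(0, (-2)), (0, 2), (3, 2), (0, (-2)), (0, (-4)), (2, 2), (0, 2), (0, (-2)), (0, 2), (0, (-2)), (2, 2), (0, (-2)), (4, 2)],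
      [(0, (-2)), (0, (-2)), (3, 2), (0, 2), (1, (-4)), (1, 2), (0, 2), (0, (-2)), (0, 2), (0, 2), (2, (-2)), (0, 2), (4, (-2))],
      [(0, 2), (0, (-2)), (3, (-2)), (0, 2), (2, (-4)), (0, (-2)), (0, 2), (0, (-2)), (0, 2), (0, 2), (2, 2), (0, (-2)), (4, 2)],
      [(2, 2), (0, 2), (0, (-2)), (2, (-2)), (0, (-2)), (0, 2), (0, (-4)), (4, (-2)), (0, 2), (2, (-2)), (0, (-2)), (0, (-2)), (0, 2)],
      [(2, (-2)), (0, (-2)), (0, 2), (2, (-2)), (0, (-2)), (0, (-2)), (1, (-4)), (3, 2), (0, 2), (2, 2), (0, (-2)), (0, (-2)), (0, 2)],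
      [(2, 2), (0, 2), (0, 2), (2, 2), (0, 2), (0, 2), (2, (-4)), (2, 2), (0, (-2)), (2, 2), (0, (-2)), (0, (-2)), (0, 2)],
      [(2, 2), (0, 2), (0, 2), (2, (-2)), (0, (-2)), (0, (-2)), (3, (-4)), (1, 2), (0, (-2)), (2, (-2)), (0, 2), (0, (-2)), (0, (-2))],
      [(2, 2), (0, (-2)), (0, 2), (2, 2), (0, (-2)), (0, (-2)), (4, (-4)), (0, (-2)), (0, (-2)), (2, (-2)), (0, (-2)), (0, 2), (0, 2)],
      [(0, (-2)), (0, (-2)), (3, (-2)), (0, (-2)), (3, 2), (0, (-2)), (0, (-2)), (0, (-2)), (0, 2), (0, (-4)), (1, (-2)), (0, (-2)), (4, 2)],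
      [(0, (-2)), (0, (-2)), (3, 2), (0, (-2)), (3, (-2)), (0, (-2)), (0, 2), (0, 2), (0, 2), (1, (-4)), (0, 2), (0, 2), (4, 2)],
      [(2, (-2)), (0, 2), (0, (-2)), (2, (-2)), (0, 2), (0, (-2)), (5, 2), (0, (-2)), (0, (-4)), (1, (-2)), (0, (-2)), (0, 2), (0, 2)],
      [(2, (-2)), (0, (-2)), (0, (-2)), (2, 2), (0, (-2)), (0, 2), (5, 2), (0, (-2)), (1, (-4)), (0, (-2)), (0, 2), (0, (-2)), (0, 2)],
      [(0, 2), (0, 2), (3, (-2)), (0, (-2)), (3, 2), (0, (-2)), (0, (-2)), (0, 2), (0, 2), (2, 2), (0, 2), (0, (-4)), (3, (-2))],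
      [(0, 2), (0, (-2)), (3, 2), (0, (-2)), (3, 2), (0, 2), (0, 2), (0, (-2)), (0, 2), (2, 2), (0, (-2)), (1, (-4)), (2, (-2))],
      [(0, 2), (0, (-2)), (3, (-2)), (0, (-2)), (3, 2), (0, 2), (0, 2), (0, 2), (0, (-2)), (2, (-2)), (0, 2), (2, (-4)), (1, 2)],
      [(0, 2), (0, (-2)), (3, 2), (0, (-2)), (3, (-2)), (0, (-2)), (0, (-2)), (0, 2), (0, (-2)), (2, (-2)), (0, (-2)), (3, (-4)), (0, (-2))],
      [(2, 2), (0, (-2)), (0, (-2)), (2, (-2)), (0, 2), (0, (-2)), (5, (-2)), (0, (-2)), (2, 2), (0, 2), (0, (-2)), (0, 2), (0, (-4))]],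
     [[(0, (-4)), (1, (-2)), (0, 2), (0, 2), (2, (-2)), (0, (-2)), (0, 2), (5, (-2)), (0, (-2)), (2, 2), (0, 2), (0, 2), (0, 2)],
      [(1, (-4)), (0, (-2)), (0, 2), (0, (-2)), (2, 2), (0, (-2)), (0, (-2)), (5, (-2)), (0, (-2)), (2, 2), (0, (-2)), (0, (-2)), (0, (-2))],
      [(0, 2), (0, 2), (0, (-4)), (2, 2), (0, 2), (3, 2), (0, (-2)), (0, 2), (0, 2), (0, 2), (2, (-2)), (0, (-2)), (4, 2)],
      [(0, (-2)), (0, (-2)), (1, (-4)), (1, (-2)), (0, 2), (3, 2), (0, (-2)), (0, 2), (0, 2), (0, (-2)), (2, 2), (0, (-2)), (4, (-2))],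
      [(0, (-2)), (0, 2), (2, (-4)), (0, (-2)), (0, (-2)), (3, (-2)), (0, 2), (0, 2), (0, 2), (0, 2), (2, (-2)), (0, (-2)), (4, (-2))],
      [(2, (-2)), (0, 2), (0, 2), (0, (-4)), (1, 2), (0, 2), (0, (-2)), (5, (-2)), (0, 2), (2, (-2)), (0, 2), (0, (-2)), (0, 2)],
      [(2, (-2)), (0, (-2)), (0, 2), (1, (-4)), (0, (-2)), (0, 2), (0, 2), (5, (-2)), (0, (-2)), (2, (-2)), (0, (-2)), (0, (-2)), (0, (-2))],
      [(0, 2), (0, (-2)), (3, (-2)), (0, 2), (0, (-4)), (2, (-2)), (0, (-2)), (0, 2), (0, (-2)), (0, 2), (2, (-2)), (0, 2), (4, (-2))],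
      [(0, 2), (0, 2), (3, (-2)), (0, (-2)), (1, (-4)), (1, (-2)), (0, (-2)), (0, 2), (0, (-2)), (0, (-2)), (2, 2), (0, (-2)), (4, 2)],
      [(0, (-2)), (0, 2), (3, 2), (0, (-2)), (2, (-4)), (0, 2), (0, (-2)), (0, 2), (0, (-2)), (0, (-2)), (2, (-2)), (0, 2), (4, (-2))],
      [(2, (-2)), (0, (-2)), (0, 2), (2, 2), (0, 2), (0, (-2)), (0, (-4)), (4, 2), (0, (-2)), (2, 2), (0, 2), (0, 2), (0, (-2))],
      [(2, 2), (0, 2), (0, (-2)), (2, 2), (0, 2), (0, 2), (1, (-4)), (3, (-2)), (0, (-2)), (2, (-2)), (0, 2), (0, 2), (0, (-2))],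
      [(2, (-2)), (0, (-2)), (0, (-2)), (2, (-2)), (0, (-2)), (0, (-2)), (2, (-4)), (2, (-2)), (0, 2), (2, (-2)), (0, 2), (0, 2), (0, (-2))],
      [(2, (-2)), (0, (-2)), (0, (-2)), (2, 2), (0, 2), (0, 2), (3, (-4)), (1, (-2)), (0, 2), (2, 2), (0, (-2)), (0, 2), (0, 2)],
      [(2, (-2)), (0, 2), (0, (-2)), (2, (-2)), (0, 2), (0, 2), (4, (-4)), (0, 2), (0, 2), (2, 2), (0, 2), (0, (-2)), (0, (-2))],
      [(0, 2), (0, 2), (3, 2), (0, 2), (3, (-2)), (0, 2), (0, 2), (0, 2), (0, (-2)), (0, (-4)), (1, 2), (0, 2), (4, (-2))],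
      [(0, 2), (0, 2), (3, (-2)), (0, 2), (3, 2), (0, 2), (0, (-2)), (0, (-2)), (0, (-2)), (1, (-4)), (0, (-2)), (0, (-2)), (4, (-2))],
      [(2, 2), (0, (-2)), (0, 2), (2, 2), (0, (-2)), (0, 2), (5, (-2)), (0, 2), (0, (-4)), (1, 2), (0, 2), (0, (-2)), (0, (-2))],
      [(2, 2), (0, 2), (0, 2), (2, (-2)), (0, 2), (0, (-2)), (5, (-2)), (0, 2), (1, (-4)), (0, 2), (0, (-2)), (0, 2), (0, (-2))],
      [(0, (-2)), (0, (-2)), (3, 2), (0, 2), (3, (-2)), (0, 2), (0, 2), (0, (-2)), (0, (-2)), (2, (-2)), (0, (-2)), (0, (-4)), (3, 2)],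
      [(0, (-2)), (0, 2), (3, (-2)), (0, 2), (3, (-2)), (0, (-2)), (0, (-2)), (0, 2), (0, (-2)), (2, (-2)), (0, 2), (1, (-4)), (2, 2)],
      [(0, (-2)), (0, 2), (3, 2), (0, 2), (3, (-2)), (0, (-2)), (0, (-2)), (0, (-2)), (0, 2), (2, 2), (0, (-2)), (2, (-4)), (1, (-2))],
      [(0, (-2)), (0, 2), (3, (-2)), (0, 2), (3, 2), (0, 2), (0, 2), (0, (-2)), (0, 2), (2, 2), (0, 2), (3, (-4)), (0, 2)],
      [(2, (-2)), (0, 2), (0, 2), (2, 2), (0, (-2)), (0, 2), (5, 2), (0, 2), (2, (-2)), (0, (-2)), (0, 2), (0, (-2)), (0, (-4))]])]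

/-- part of the generators and their transposes -/
def threeW3 : List (List (List (ℕ × ℤ)) × List (List (ℕ × ℤ))) :=
  [([[(0, 2), (1, 2), (0, (-2)), (1, 2), (0, 2), (5, (-2)), (0, (-2)), (0, (-2)), (1, 2), (0, 2), (0, (-2)), (0, (-4)), (1, 2)],
      [(0, (-2)), (1, (-2)), (0, 2), (0, 4), (0, 2), (0, (-2)), (5, (-2)), (0, 2), (0, (-2)), (1, 2), (0, (-2)), (0, (-2)), (2, 2)],
      [(1, (-2)), (0, 4), (1, 2), (2, (-2)), (0, 2), (0, 2), (0, (-2)), (0, 2), (3, 2), (3, 2), (0, (-2)), (1, (-2)), (0, 2)],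
      [(0, (-2)), (1, 2), (0, 2), (1, 2), (0, 2), (5, (-2)), (0, 2), (0, 2), (1, (-2)), (0, 2), (0, (-2)), (2, (-2)), (1, (-4))],
      [(1, (-2)), (2, 2), (2, (-2)), (0, (-2)), (0, 2), (0, 2), (0, 2), (2, 4), (0, (-2)), (3, (-2)), (0, 2), (1, 2), (0, 2)],
      [(0, 2), (1, (-2)), (0, 2), (1, 2), (0, 2), (3, (-4)), (1, 2), (0, (-2)), (0, 2), (1, (-2)), (0, (-2)), (0, (-2)), (2, 2)],
      [(0, 2), (1, 2), (0, 2), (1, 2), (0, 2), (5, 2), (0, 2), (0, (-2)), (1, 2), (0, (-2)), (0, 2), (2, (-2)), (0, 4)],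
      [(0, (-4)), (0, (-2)), (2, (-2)), (2, 2), (0, (-2)), (0, 2), (0, (-2)), (0, (-2)), (3, 2), (3, (-2)), (0, (-2)), (1, 2), (0, 2)],
      [(1, (-2)), (1, 4), (0, (-2)), (2, (-2)), (0, 2), (0, (-2)), (0, 2), (0, (-2)), (3, (-2)), (3, (-2)), (0, (-2)), (1, (-2)), (0, 2)],
      [(1, 2), (2, 2), (1, 4), (0, 2), (0, (-2)), (0, 2), (0, 2), (0, (-2)), (3, (-2)), (3, 2), (0, (-2)), (1, (-2)), (0, 2)],
      [(0, (-2)), (1, 2), (0, (-2)), (1, 2), (0, (-2)), (5, 2), (0, (-2)), (0, (-2)), (0, (-4)), (0, (-2)), (0, (-2)), (0, (-2)), (2, (-2))],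
      [(0, (-2)), (1, 2), (0, 2), (1, (-2)), (0, 2), (5, (-2)), (0, (-2)), (0, (-2)), (1, (-2)), (0, (-2)), (0, 2), (1, 4), (0, 2)],
      [(1, (-2)), (2, 2), (2, 2), (0, 2), (0, 2), (0, 2), (0, (-2)), (0, 4), (2, 2), (3, (-2)), (0, 2), (1, (-2)), (0, (-2))],
      [(1, 2), (2, (-2)), (2, 2), (0, 2), (0, 2), (0, (-2)), (0, 2), (1, 4), (1, (-2)), (3, (-2)), (0, 2), (1, (-2)), (0, 2)],
      [(0, (-2)), (0, 4), (0, 2), (0, 2), (1, 2), (0, (-2)), (5, 2), (0, (-2)), (0, 2), (1, 2), (0, 2), (0, 2), (2, 2)],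
      [(1, (-2)), (2, (-2)), (0, 4), (1, 2), (0, (-2)), (0, (-2)), (0, 2), (0, 2), (3, 2), (3, 2), (0, 2), (1, (-2)), (0, 2)],
      [(1, (-2)), (2, (-2)), (2, (-2)), (0, (-2)), (0, 2), (0, (-2)), (0, (-2)), (3, (-2)), (0, 4), (2, 2), (0, 2), (1, (-2)), (0, (-2))],
      [(1, (-2)), (2, 2), (2, 2), (0, 2), (0, (-2)), (0, (-2)), (0, (-2)), (3, (-2)), (1, 4), (1, 2), (0, 2), (1, 2), (0, 2)],
      [(1, (-2)), (2, 2), (2, 2), (0, (-2)), (0, (-2)), (0, (-2)), (0, 2), (3, (-2)), (2, 4), (0, (-2)), (0, (-2)), (1, (-2)), (0, (-2))],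
      [(0, 2), (1, 2), (0, 2), (1, (-2)), (0, (-2)), (0, 4), (4, (-2)), (0, (-2)), (0, 2), (1, 2), (0, (-2)), (0, (-2)), (2, (-2))],
      [(1, 2), (2, 2), (2, (-2)), (0, (-2)), (0, (-2)), (0, (-2)), (0, (-2)), (3, 2), (3, (-2)), (0, 2), (0, (-4)), (0, (-2)), (0, 2)],
      [(0, 2), (1, 2), (0, (-2)), (1, 2), (0, (-2)), (4, (-4)), (0, (-2)), (0, 2), (0, 2), (1, (-2)), (0, (-2)), (0, 2), (2, 2)],
      [(0, 2), (1, (-2)), (0, 2), (1, 2), (0, (-2)), (2, 4), (2, (-2)), (0, (-2)), (0, (-2)), (1, (-2)), (0, 2), (0, 2), (2, (-2))],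
      [(0, 2), (1, 2), (0, 2), (1, (-2)), (0, (-2)), (1, (-4)), (3, 2), (0, 2), (0, (-2)), (1, (-2)), (0, 2), (0, (-2)), (2, 2)]],
     [[(0, 2), (0, (-2)), (1, (-2)), (1, 2), (0, 2), (0, (-4)), (2, (-2)), (0, (-2)), (2, (-2)), (4, 2), (1, 2), (0, 2), (0, 2)],
      [(2, (-2)), (1, (-2)), (2, (-2)), (0, (-2)), (0, 2), (2, (-2)), (0, 2), (0, 4), (0, (-2)), (0, (-2)), (0, (-2)), (0, (-2)), (1, 2)],
      [(0, 2), (0, (-2)), (0, 4), (0, 2), (1, (-2)), (0, 2), (3, 2), (0, 2), (2, 2), (4, 2), (1, 2), (0, (-2)), (0, 2)],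
      [(0, (-2)), (0, 2), (1, 2), (1, 2), (0, 2), (1, 4), (1, (-2)), (0, 2), (2, 2), (4, 2), (1, (-2)), (0, 2), (0, 2)],
      [(1, 4), (0, 2), (1, 2), (2, (-2)), (0, (-2)), (0, 2), (2, 2), (0, (-2)), (1, (-2)), (0, (-2)), (0, 2), (0, 2), (1, 2)],
      [(0, 2), (0, 2), (1, 2), (1, 2), (0, 2), (3, 2), (0, (-2)), (2, 2), (0, 4), (3, (-2)), (1, 2), (0, 2), (0, (-2))],
      [(0, 2), (0, (-2)), (1, 2), (1, 2), (0, 2), (2, 4), (0, (-2)), (0, 2), (2, (-2)), (4, (-2)), (1, (-2)), (0, (-2)), (0, (-2))],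
      [(2, (-2)), (1, (-2)), (2, 2), (0, (-2)), (0, 2), (2, 2), (0, 2), (1, 2), (0, (-2)), (0, 2), (0, 2), (0, 4), (0, (-2))],
      [(2, 2), (1, (-2)), (2, (-2)), (0, 2), (0, (-2)), (2, 2), (0, 2), (1, (-2)), (0, (-2)), (0, 2), (0, (-2)), (1, (-2)), (2, (-4))],
      [(2, 2), (1, 2), (2, 2), (0, (-2)), (0, 2), (2, 2), (0, 2), (1, (-2)), (0, 2), (0, (-2)), (0, (-2)), (1, (-2)), (1, 4)],
      [(2, (-2)), (1, 2), (0, (-4)), (1, (-2)), (0, 2), (0, 2), (2, 2), (0, (-2)), (1, 2), (0, (-2)), (0, (-2)), (0, (-2)), (1, (-2))],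
      [(2, 2), (1, 2), (2, (-2)), (0, (-2)), (0, (-2)), (2, (-2)), (0, 2), (1, 2), (0, (-2)), (0, (-2)), (0, 2), (1, (-2)), (0, (-4))],
      [(0, (-2)), (0, (-2)), (1, (-2)), (1, 2), (0, 2), (3, 2), (0, (-2)), (0, 4), (1, 2), (4, (-2)), (1, (-2)), (0, (-2)), (0, 2)],
      [(0, (-2)), (0, 2), (1, 2), (1, (-2)), (0, 2), (3, (-2)), (0, (-2)), (1, 4), (0, (-2)), (4, (-2)), (1, 2), (0, (-2)), (0, 2)],
      [(0, (-2)), (0, (-2)), (1, 2), (0, 4), (0, 2), (0, (-2)), (3, (-2)), (0, (-2)), (2, 2), (4, 2), (1, 2), (0, (-2)), (0, (-2))],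
      [(2, 2), (1, (-2)), (2, 2), (0, (-2)), (0, (-2)), (0, (-4)), (1, 2), (0, (-2)), (1, 2), (0, (-2)), (0, (-2)), (0, (-2)), (1, 2)],
      [(0, 2), (0, 2), (1, (-2)), (1, (-2)), (0, 2), (3, (-2)), (0, (-2)), (2, 2), (1, 4), (2, 2), (1, (-2)), (0, (-2)), (0, (-2))],
      [(0, 2), (0, (-2)), (1, 2), (1, (-2)), (0, (-2)), (3, (-2)), (0, (-2)), (2, 2), (2, 4), (1, (-2)), (1, (-2)), (0, 2), (0, 2)],
      [(0, (-2)), (0, (-2)), (1, (-2)), (1, (-2)), (0, 2), (3, (-2)), (0, 2), (2, 2), (3, 4), (0, (-2)), (1, 2), (0, 2), (0, (-2))],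
      [(0, (-4)), (1, 2), (1, (-2)), (2, (-2)), (0, (-2)), (0, 2), (2, (-2)), (0, (-2)), (1, 2), (0, 2), (0, 2), (0, (-2)), (1, (-2))],
      [(2, (-2)), (1, 2), (2, (-2)), (0, (-2)), (0, (-2)), (1, 4), (0, 2), (0, 2), (1, 2), (0, 2), (0, 2), (0, (-2)), (1, 2)],
      [(0, 2), (0, 2), (1, (-2)), (1, 2), (0, (-2)), (3, (-2)), (0, 2), (2, 2), (4, (-2)), (0, (-4)), (0, 2), (0, (-2)), (0, 2)],
      [(2, (-2)), (1, 2), (1, 4), (0, 2), (0, (-2)), (0, (-2)), (2, (-2)), (0, (-2)), (1, (-2)), (0, (-2)), (0, 2), (0, (-2)), (1, (-2))],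
      [(2, 2), (0, (-4)), (0, 2), (2, 2), (0, 2), (0, 2), (2, (-2)), (0, 2), (1, 2), (0, (-2)), (0, 2), (0, (-2)), (1, 2)]]),
    ([[(0, (-4)), (0, (-2)), (0, (-2)), (7, (-2)), (0, (-2)), (0, 2), (0, 2), (2, (-2)), (0, 2), (0, 2), (0, 2), (2, 2), (0, 2)],
      [(0, 2), (0, (-4)), (1, (-2)), (0, (-2)), (0, (-2)), (0, 2), (0, (-2)), (0, (-2)), (0, 2), (4, 2), (0, (-2)), (4, 2), (0, (-2))],
      [(0, 2), (1, (-4)), (0, 2), (0, (-2)), (0, 2), (0, 2), (0, 2), (0, (-2)), (0, (-2)), (4, 2), (0, 2), (4, 2), (0, 2)],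
      [(1, 2), (0, (-2)), (0, (-4)), (6, (-2)), (0, 2), (0, (-2)), (0, (-2)), (2, 2), (0, (-2)), (0, 2), (0, 2), (2, 2), (0, 2)],
      [(1, 2), (0, 2), (1, (-4)), (5, (-2)), (0, (-2)), (0, 2), (0, (-2)), (2, 2), (0, 2), (0, 2), (0, 2), (2, (-2)), (0, (-2))],
      [(1, 2), (0, (-2)), (2, (-4)), (4, 2), (0, (-2)), (0, (-2)), (0, 2), (2, 2), (0, 2), (0, 2), (0, (-2)), (2, 2), (0, (-2))],
      [(1, (-2)), (0, (-2)), (3, (-4)), (3, (-2)), (0, 2), (0, (-2)), (0, (-2)), (2, (-2)), (0, 2), (0, 2), (0, (-2)), (2, (-2)), (0, (-2))],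
      [(1, 2), (0, (-2)), (4, (-4)), (2, 2), (0, 2), (0, 2), (0, 2), (2, (-2)), (0, (-2)), (0, 2), (0, 2), (2, (-2)), (0, (-2))],
      [(1, 2), (0, 2), (5, (-4)), (1, (-2)), (0, 2), (0, (-2)), (0, 2), (2, (-2)), (0, 2), (0, (-2)), (0, 2), (2, 2), (0, (-2))],
      [(1, (-2)), (0, 2), (6, (-4)), (0, (-2)), (0, 2), (0, 2), (0, 2), (2, 2), (0, (-2)), (0, 2), (0, (-2)), (2, 2), (0, (-2))],
      [(0, 2), (2, 2), (0, 2), (0, (-2)), (0, 2), (0, (-2)), (0, 2), (0, 2), (0, (-4)), (3, 2), (0, 2), (4, (-2)), (0, 2)],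
      [(0, 2), (2, (-2)), (0, 2), (0, 2), (0, (-2)), (0, (-2)), (0, (-2)), (0, (-2)), (1, (-4)), (2, 2), (0, 2), (4, (-2)), (0, (-2))],
      [(0, (-2)), (2, 2), (0, (-2)), (0, 2), (0, 2), (0, (-2)), (0, 2), (0, (-2)), (2, (-4)), (1, 2), (0, (-2)), (4, (-2)), (0, (-2))],
      [(0, (-2)), (2, 2), (0, 2), (0, (-2)), (0, 2), (0, (-2)), (0, (-2)), (0, (-2)), (3, (-4)), (0, (-2)), (0, 2), (4, 2), (0, (-2))],
      [(1, (-2)), (0, (-2)), (7, (-2)), (0, (-2)), (0, (-2)), (0, 2), (0, (-4)), (1, 2), (0, (-2)), (0, (-2)), (0, 2), (2, (-2)), (0, (-2))],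
      [(1, 2), (0, (-2)), (7, (-2)), (0, (-2)), (0, 2), (0, (-2)), (1, (-4)), (0, (-2)), (0, (-2)), (0, (-2)), (0, (-2)), (2, 2), (0, (-2))],
      [(0, 2), (2, (-2)), (0, (-2)), (0, (-2)), (0, 2), (0, 2), (0, 2), (0, (-2)), (4, (-2)), (0, 2), (0, (-4)), (3, (-2)), (0, (-2))],
      [(0, (-2)), (2, 2), (0, (-2)), (0, (-2)), (0, (-2)), (0, 2), (0, (-2)), (0, 2), (4, 2), (0, 2), (1, (-4)), (2, (-2)), (0, (-2))],
      [(0, (-2)), (2, (-2)), (0, (-2)), (0, (-2)), (0, (-2)), (0, (-2)), (0, 2), (0, (-2)), (4, 2), (0, 2), (2, (-4)), (1, 2), (0, 2)],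
      [(0, (-2)), (2, (-2)), (0, (-2)), (0, 2), (0, 2), (0, (-2)), (0, (-2)), (0, 2), (4, (-2)), (0, 2), (3, (-4)), (0, (-2)), (0, 2)],
      [(1, (-2)), (0, (-2)), (7, 2), (0, 2), (0, 2), (0, (-2)), (2, 2), (0, 2), (0, (-2)), (0, 2), (0, (-4)), (1, 2), (0, (-2))],
      [(1, 2), (0, (-2)), (7, (-2)), (0, 2), (0, 2), (0, 2), (2, 2), (0, 2), (0, (-2)), (0, (-2)), (1, (-4)), (0, (-2)), (0, 2)],
      [(0, (-2)), (2, (-2)), (0, 2), (0, (-2)), (0, 2), (0, 2), (0, (-2)), (0, (-2)), (4, 2), (0, (-2)), (4, (-2)), (0, 2), (0, (-4))],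
      [(0, (-2)), (2, (-2)), (0, 2), (0, 2), (0, 2), (0, 2), (0, 2), (0, 2), (4, 2), (0, 2), (4, 2), (0, (-2)), (1, (-4))]],
     [[(0, (-4)), (0, 2), (0, 2), (7, 2), (0, 2), (0, (-2)), (0, (-2)), (2, 2), (0, (-2)), (0, (-2)), (0, (-2)), (2, (-2)), (0, (-2))],
      [(0, (-2)), (0, (-4)), (1, 2), (0, 2), (0, 2), (0, (-2)), (0, 2), (0, 2), (0, (-2)), (4, (-2)), (0, 2), (4, (-2)), (0, 2)],
      [(0, (-2)), (1, (-4)), (0, (-2)), (0, 2), (0, (-2)), (0, (-2)), (0, (-2)), (0, 2), (0, 2), (4, (-2)), (0, (-2)), (4, (-2)), (0, (-2))],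
      [(1, (-2)), (0, 2), (0, (-4)), (6, 2), (0, (-2)), (0, 2), (0, 2), (2, (-2)), (0, 2), (0, (-2)), (0, (-2)), (2, (-2)), (0, (-2))],
      [(1, (-2)), (0, (-2)), (1, (-4)), (5, 2), (0, 2), (0, (-2)), (0, 2), (2, (-2)), (0, (-2)), (0, (-2)), (0, (-2)), (2, 2), (0, 2)],
      [(1, (-2)), (0, 2), (2, (-4)), (4, (-2)), (0, 2), (0, 2), (0, (-2)), (2, (-2)), (0, (-2)), (0, (-2)), (0, 2), (2, (-2)), (0, 2)],
      [(1, 2), (0, 2), (3, (-4)), (3, 2), (0, (-2)), (0, 2), (0, 2), (2, 2), (0, (-2)), (0, (-2)), (0, 2), (2, 2), (0, 2)],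
      [(1, (-2)), (0, 2), (4, (-4)), (2, (-2)), (0, (-2)), (0, (-2)), (0, (-2)), (2, 2), (0, 2), (0, (-2)), (0, (-2)), (2, 2), (0, 2)],
      [(1, (-2)), (0, (-2)), (5, (-4)), (1, 2), (0, (-2)), (0, 2), (0, (-2)), (2, 2), (0, (-2)), (0, 2), (0, (-2)), (2, (-2)), (0, 2)],
      [(1, 2), (0, (-2)), (6, (-4)), (0, 2), (0, (-2)), (0, (-2)), (0, (-2)), (2, (-2)), (0, 2), (0, (-2)), (0, 2), (2, (-2)), (0, 2)],
      [(0, (-2)), (2, (-2)), (0, (-2)), (0, 2), (0, (-2)), (0, 2), (0, (-2)), (0, (-2)), (0, (-4)), (3, (-2)), (0, (-2)), (4, 2), (0, (-2))],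
      [(0, (-2)), (2, 2), (0, (-2)), (0, (-2)), (0, 2), (0, 2), (0, 2), (0, 2), (1, (-4)), (2, (-2)), (0, (-2)), (4, 2), (0, 2)],
      [(0, 2), (2, (-2)), (0, 2), (0, (-2)), (0, (-2)), (0, 2), (0, (-2)), (0, 2), (2, (-4)), (1, (-2)), (0, 2), (4, 2), (0, 2)],
      [(0, 2), (2, (-2)), (0, (-2)), (0, 2), (0, (-2)), (0, 2), (0, 2), (0, 2), (3, (-4)), (0, 2), (0, (-2)), (4, (-2)), (0, 2)],
      [(1, 2), (0, 2), (7, 2), (0, 2), (0, 2), (0, (-2)), (0, (-4)), (1, (-2)), (0, 2), (0, 2), (0, (-2)), (2, 2), (0, 2)],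
      [(1, (-2)), (0, 2), (7, 2), (0, 2), (0, (-2)), (0, 2), (1, (-4)), (0, 2), (0, 2), (0, 2), (0, 2), (2, (-2)), (0, 2)],
      [(0, (-2)), (2, 2), (0, 2), (0, 2), (0, (-2)), (0, (-2)), (0, (-2)), (0, 2), (4, 2), (0, (-2)), (0, (-4)), (3, 2), (0, 2)],
      [(0, 2), (2, (-2)), (0, 2), (0, 2), (0, 2), (0, (-2)), (0, 2), (0, (-2)), (4, (-2)), (0, (-2)), (1, (-4)), (2, 2), (0, 2)],
      [(0, 2), (2, 2), (0, 2), (0, 2), (0, 2), (0, 2), (0, (-2)), (0, 2), (4, (-2)), (0, (-2)), (2, (-4)), (1, (-2)), (0, (-2))],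
      [(0, 2), (2, 2), (0, 2), (0, (-2)), (0, (-2)), (0, 2), (0, 2), (0, (-2)), (4, 2), (0, (-2)), (3, (-4)), (0, 2), (0, (-2))],
      [(1, 2), (0, 2), (7, (-2)), (0, (-2)), (0, (-2)), (0, 2), (2, (-2)), (0, (-2)), (0, 2), (0, (-2)), (0, (-4)), (1, (-2)), (0, 2)],
      [(1, (-2)), (0, 2), (7, 2), (0, (-2)), (0, (-2)), (0, (-2)), (2, (-2)), (0, (-2)), (0, 2), (0, 2), (1, (-4)), (0, 2), (0, (-2))],
      [(0, 2), (2, 2), (0, (-2)), (0, 2), (0, (-2)), (0, (-2)), (0, 2), (0, 2), (4, (-2)), (0, 2), (4, 2), (0, (-2)), (0, (-4))],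
      [(0, 2), (2, 2), (0, (-2)), (0, (-2)), (0, (-2)), (0, (-2)), (0, (-2)), (0, (-2)), (4, (-2)), (0, (-2)), (4, (-2)), (0, 2), (1, (-4))]])]

/-- part of the generators and their transposes -/
def threeW4 : List (List (List (ℕ × ℤ)) × List (List (ℕ × ℤ))) :=
  [([[(0, 2), (0, 2), (0, (-2)), (0, 2), (2, 2), (0, 2), (0, (-2)), (0, 2), (1, (-2)), (0, 2), (0, (-2)), (0, 2), (1, 2), (0, 2), (3, (-2)), (0, (-2))],
      [(4, 2), (0, (-2)), (4, (-2)), (0, 4), (3, (-2)), (1, 4), (0, (-2)), (0, (-2)), (0, 2), (2, (-2))],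
      [(0, 4), (3, 2), (0, 2), (4, (-2)), (1, (-4)), (2, 2), (2, (-2)), (0, (-2)), (0, (-2)), (2, 2)],
      [(4, 2), (0, (-2)), (4, (-2)), (0, (-4)), (3, (-2)), (1, (-4)), (0, (-2)), (0, (-2)), (0, 2), (2, (-2))],
      [(4, 2), (0, 2), (0, 4), (0, (-4)), (2, 2), (4, (-2)), (2, 2), (0, (-2)), (0, (-2)), (2, (-2))],
      [(4, 2), (0, 2), (3, 4), (0, (-2)), (4, 2), (2, 2), (0, 2), (0, 2), (0, 4), (1, (-2))],
      [(4, 2), (0, (-2)), (2, (-4)), (1, (-2)), (4, (-2)), (2, 2), (0, 2), (0, (-2)), (1, 4), (0, 2)],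
      [(1, 4), (2, (-2)), (0, 2), (4, (-2)), (4, (-2)), (0, (-4)), (1, 2), (0, (-2)), (0, 2), (2, 2)],
      [(0, (-2)), (0, 2), (0, (-2)), (0, 2), (2, 2), (0, 2), (0, 2), (0, (-2)), (1, 2), (0, (-2)), (0, (-2)), (0, 2), (1, 2), (0, (-2)), (3, 2), (0, 2)],
      [(0, 2), (0, (-2)), (0, (-2)), (0, 2), (2, (-2)), (0, (-2)), (0, (-2)), (0, (-2)), (1, 2), (0, 2), (0, (-2)), (0, 2), (1, (-2)), (0, (-2)), (3, 2), (0, (-2))],
      [(4, (-2)), (0, 2), (2, (-4)), (1, 2), (4, 2), (2, (-2)), (0, (-2)), (0, 2), (1, 4), (0, (-2))],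
      [(3, (-4)), (0, 2), (0, 2), (4, 2), (2, (-4)), (1, (-2)), (2, (-2)), (0, 2), (0, 2), (2, 2)],
      [(0, (-2)), (0, (-2)), (0, (-2)), (0, 2), (2, (-2)), (0, (-2)), (0, 2), (0, 2), (1, (-2)), (0, (-2)), (0, (-2)), (0, 2), (1, (-2)), (0, 2), (3, (-2)), (0, 2)],
      [(0, 2), (0, 2), (0, (-2)), (0, (-2)), (2, (-2)), (0, (-2)), (0, 2), (0, 2), (1, 2), (0, 2), (0, 2), (0, 2), (1, 2), (0, (-2)), (3, (-2)), (0, 2)],
      [(4, 2), (0, 2), (0, (-4)), (0, 4), (2, 2), (4, (-2)), (2, 2), (0, (-2)), (0, (-2)), (2, (-2))],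
      [(0, 2), (0, (-2)), (0, (-2)), (0, (-2)), (2, 2), (0, 2), (0, 2), (0, (-2)), (1, (-2)), (0, 2), (0, 2), (0, 2), (1, (-2)), (0, 2), (3, 2), (0, 2)],
      [(0, 2), (0, 2), (0, 2), (0, 2), (2, (-2)), (0, (-2)), (0, 2), (0, (-2)), (1, (-2)), (0, 2), (0, (-2)), (0, (-2)), (1, 2), (0, 2), (3, 2), (0, 2)],
      [(3, (-4)), (0, (-2)), (0, (-2)), (4, (-2)), (2, (-4)), (1, 2), (2, 2), (0, (-2)), (0, (-2)), (2, (-2))],
      [(1, (-4)), (2, (-2)), (0, 2), (4, (-2)), (4, (-2)), (0, 4), (1, 2), (0, (-2)), (0, 2), (2, 2)],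
      [(0, 4), (3, (-2)), (0, (-2)), (4, 2), (1, (-4)), (2, (-2)), (2, 2), (0, 2), (0, 2), (2, (-2))],
      [(4, 2), (0, 2), (3, (-4)), (0, (-2)), (4, 2), (2, 2), (0, 2), (0, 2), (0, (-4)), (1, (-2))],
      [(2, (-4)), (1, 2), (0, (-2)), (4, 2), (3, (-4)), (0, 2), (2, 2), (0, (-2)), (0, 2), (2, 2)],
      [(2, (-4)), (1, (-2)), (0, 2), (4, (-2)), (3, (-4)), (0, (-2)), (2, (-2)), (0, 2), (0, (-2)), (2, (-2))],
      [(0, 2), (0, (-2)), (0, 2), (0, 2), (2, 2), (0, 2), (0, 2), (0, 2), (1, 2), (0, 2), (0, (-2)), (0, (-2)), (1, (-2)), (0, (-2)), (3, (-2)), (0, 2)]],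
     [[(0, 2), (1, 4), (5, (-2)), (0, 2), (2, (-2)), (0, 2), (1, 2), (0, 2), (2, 4), (3, 2)],
      [(0, 2), (6, 4), (0, 2), (0, (-2)), (2, (-2)), (0, 2), (1, (-2)), (0, 2), (1, (-4)), (4, (-2))],
      [(0, (-2)), (7, (-2)), (0, (-2)), (2, (-2)), (0, (-2)), (1, (-2)), (0, 2), (4, (-4)), (0, (-4)), (0, 2)],
      [(0, 2), (7, 2), (0, 2), (1, (-4)), (0, 2), (0, (-2)), (1, (-2)), (0, 2), (0, (-4)), (5, 2)],
      [(1, 2), (0, 2), (0, 2), (0, 2), (0, 2), (0, 2), (0, (-2)), (2, (-2)), (0, 2), (2, 2), (2, (-2)), (0, (-2)), (0, (-2)), (0, 2), (0, 2), (0, (-2))],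
      [(1, (-2)), (0, 2), (0, (-2)), (0, 2), (0, 2), (0, (-2)), (0, 2), (2, 2), (0, 2), (2, 2), (2, (-2)), (0, 2), (0, (-2)), (0, 2), (0, (-2)), (0, 2)],
      [(0, 2), (3, 4), (3, 2), (0, (-2)), (2, (-2)), (0, (-2)), (0, (-4)), (0, 2), (0, (-2)), (6, 2)],
      [(0, 2), (3, (-4)), (3, 2), (0, (-2)), (2, (-2)), (0, (-2)), (0, 4), (0, 2), (0, (-2)), (6, 2)],
      [(0, (-2)), (5, (-4)), (1, 2), (0, (-2)), (0, (-4)), (1, 2), (0, 2), (1, 2), (0, 2), (6, 2)],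
      [(0, 2), (4, 4), (2, (-2)), (0, (-2)), (2, 2), (0, 2), (1, (-2)), (0, (-2)), (3, (-4)), (2, 2)],
      [(1, (-2)), (0, (-2)), (0, (-2)), (0, 2), (0, (-2)), (0, (-2)), (0, (-2)), (2, 2), (0, 2), (2, 2), (2, (-2)), (0, (-2)), (0, 2), (0, (-2)), (0, 2), (0, (-2))],
      [(0, (-2)), (0, 4), (1, (-4)), (4, 2), (0, 2), (2, (-2)), (0, 2), (1, (-2)), (0, (-2)), (6, 2)],
      [(0, 2), (1, (-4)), (5, (-2)), (0, 2), (2, (-2)), (0, 2), (1, 2), (0, 2), (2, (-4)), (3, 2)],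
      [(0, (-2)), (7, (-2)), (0, (-2)), (1, (-4)), (0, (-2)), (0, 2), (1, 2), (0, (-2)), (0, (-4)), (5, (-2))],
      [(0, 2), (7, 2), (0, 2), (2, 2), (0, 2), (1, 2), (0, (-2)), (4, (-4)), (0, (-4)), (0, (-2))],
      [(1, (-2)), (0, 2), (0, (-2)), (0, (-2)), (0, 2), (0, (-2)), (0, (-2)), (2, 2), (0, (-2)), (2, (-2)), (2, 2), (0, (-2)), (0, (-2)), (0, 2), (0, 2), (0, (-2))],
      [(0, 2), (6, (-4)), (0, 2), (0, (-2)), (2, (-2)), (0, 2), (1, (-2)), (0, 2), (1, 4), (4, (-2))],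
      [(0, 2), (0, 4), (1, (-4)), (4, (-2)), (0, (-2)), (2, 2), (0, (-2)), (1, 2), (0, 2), (6, (-2))],
      [(1, (-2)), (0, (-2)), (0, (-2)), (0, 2), (0, 2), (0, 2), (0, 2), (2, (-2)), (0, (-2)), (2, 2), (2, 2), (0, 2), (0, 2), (0, 2), (0, 2), (0, (-2))],
      [(1, (-2)), (0, (-2)), (0, (-2)), (0, (-2)), (0, 2), (0, 2), (0, (-2)), (2, (-2)), (0, 2), (2, (-2)), (2, (-2)), (0, (-2)), (0, 2), (0, 2), (0, (-2)), (0, 2)],
      [(1, 2), (0, (-2)), (0, 2), (0, (-2)), (0, 2), (0, (-2)), (0, 2), (2, 2), (0, 2), (2, (-2)), (2, (-2)), (0, 2), (0, 2), (0, 2), (0, 2), (0, (-2))],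
      [(0, (-2)), (4, 4), (2, 2), (0, 2), (2, (-2)), (0, (-2)), (1, 2), (0, 2), (3, (-4)), (2, (-2))],
      [(0, (-2)), (5, 4), (1, 2), (0, (-2)), (0, 4), (1, 2), (0, 2), (1, 2), (0, 2), (6, 2)],
      [(1, (-2)), (0, 2), (0, (-2)), (0, (-2)), (0, (-2)), (0, 2), (0, 2), (2, (-2)), (0, 2), (2, (-2)), (2, (-2)), (0, 2), (0, (-2)), (0, (-2)), (0, 2), (0, (-2))]]),
    ([[(1, 2), (0, (-2)), (3, 4), (1, (-2)), (0, 4), (1, (-2)), (2, (-2)), (1, 2), (0, 2), (4, 2)],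
      [(1, 2), (0, (-2)), (2, 4), (2, (-2)), (2, 2), (2, 2), (1, 2), (0, (-2)), (4, (-2)), (0, 4)],
      [(1, (-2)), (0, 2), (2, 4), (2, 2), (2, (-2)), (2, (-2)), (1, (-2)), (0, 2), (4, 2), (0, 4)],
      [(0, (-2)), (2, 2), (0, 2), (0, 2), (0, 2), (0, 2), (1, (-2)), (0, (-2)), (1, (-2)), (0, (-2)), (1, (-2)), (2, 2), (0, 2), (0, (-2)), (0, 2), (1, (-2))],
      [(1, 2), (0, 2), (5, (-2)), (2, (-2)), (0, 4), (0, (-4)), (0, (-2)), (1, (-2)), (0, (-2)), (4, (-2))],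
      [(0, (-2)), (2, 2), (0, 2), (0, (-2)), (0, (-2)), (0, 2), (1, 2), (0, 2), (1, 2), (0, 2), (1, (-2)), (2, 2), (0, 2), (0, 2), (0, 2), (1, 2)],
      [(1, 2), (0, 2), (4, 4), (0, 2), (2, (-2)), (2, 2), (1, 2), (0, 2), (3, (-4)), (0, (-2))],
      [(0, (-2)), (2, 2), (0, (-2)), (0, 2), (0, (-2)), (0, 2), (1, 2), (0, (-2)), (1, 2), (0, 2), (1, 2), (2, (-2)), (0, (-2)), (0, (-2)), (0, 2), (1, (-2))],
      [(0, 2), (2, (-2)), (0, (-2)), (0, (-2)), (0, 2), (0, 2), (1, (-2)), (0, (-2)), (1, 2), (0, 2), (1, (-2)), (2, (-2)), (0, 2), (0, (-2)), (0, 2), (1, 2)],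
      [(0, 2), (2, (-2)), (0, 2), (0, 2), (0, (-2)), (0, (-2)), (1, 2), (0, (-2)), (1, 2), (0, 2), (1, (-2)), (2, 2), (0, 2), (0, (-2)), (0, (-2)), (1, (-2))],
      [(1, 2), (0, 2), (1, 4), (3, 2), (2, 2), (2, (-2)), (1, 2), (0, (-2)), (0, (-4)), (3, 2)],
      [(1, 2), (0, 2), (5, (-2)), (2, (-2)), (0, (-4)), (0, 4), (0, (-2)), (1, (-2)), (0, (-2)), (4, (-2))],
      [(1, (-2)), (0, 2), (5, (-2)), (2, (-2)), (2, 2), (0, (-4)), (0, 2), (0, (-2)), (1, (-4)), (2, 2)],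
      [(0, (-2)), (2, 2), (0, 2), (0, (-2)), (0, 2), (0, (-2)), (1, (-2)), (0, (-2)), (1, 2), (0, 2), (1, 2), (2, 2), (0, (-2)), (0, (-2)), (0, (-2)), (1, 2)],
      [(0, 2), (2, (-2)), (0, 2), (0, 2), (0, 2), (0, 2), (1, (-2)), (0, 2), (1, 2), (0, 2), (1, 2), (2, 2), (0, (-2)), (0, 2), (0, 2), (1, (-2))],
      [(1, 2), (0, 2), (5, (-2)), (1, (-4)), (0, 2), (2, 2), (1, (-2)), (0, 2), (2, 4), (1, 2)],
      [(1, 2), (0, 2), (4, (-4)), (0, 2), (2, (-2)), (2, 2), (1, 2), (0, 2), (3, 4), (0, (-2))],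
      [(1, (-2)), (0, 2), (3, 4), (1, 2), (0, 4), (1, 2), (2, 2), (1, (-2)), (0, (-2)), (4, (-2))],
      [(1, 2), (0, 2), (1, (-4)), (3, 2), (2, 2), (2, (-2)), (1, 2), (0, (-2)), (0, 4), (3, 2)],
      [(1, 2), (0, (-2)), (5, 2), (2, 2), (2, (-2)), (0, (-4)), (0, (-2)), (0, 2), (1, (-4)), (2, (-2))],
      [(0, (-4)), (0, 2), (0, (-2)), (0, (-4)), (4, 2), (2, (-2)), (2, 2), (1, (-2)), (0, (-2)), (4, 2)],
      [(1, 2), (0, 2), (5, (-2)), (1, 4), (0, 2), (2, 2), (1, (-2)), (0, 2), (2, (-4)), (1, 2)],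
      [(0, (-4)), (0, (-2)), (0, 2), (0, (-4)), (4, (-2)), (2, 2), (2, (-2)), (1, 2), (0, 2), (4, (-2))],
      [(0, 2), (2, (-2)), (0, 2), (0, (-2)), (0, (-2)), (0, 2), (1, 2), (0, (-2)), (1, (-2)), (0, (-2)), (1, 2), (2, 2), (0, (-2)), (0, (-2)), (0, 2), (1, 2)]],
     [[(3, (-2)), (1, (-2)), (1, (-2)), (0, 2), (0, 2), (3, (-2)), (0, 2), (5, (-4)), (1, (-4)), (0, 2)],
      [(0, 2), (0, 2), (0, (-2)), (1, 2), (1, 2), (3, 2), (0, 2), (0, (-2)), (2, 2), (0, 2), (0, (-2)), (0, 2), (0, 2), (0, 2), (0, 2), (0, (-2))],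
      [(0, (-2)), (0, (-2)), (0, 2), (1, 2), (1, 2), (3, 2), (0, 2), (0, 2), (2, 2), (0, 2), (0, 2), (0, 2), (0, (-2)), (0, (-2)), (0, 2), (0, 2)],
      [(3, 2), (1, 2), (1, 2), (0, (-2)), (0, (-2)), (3, 2), (0, (-2)), (5, (-4)), (1, (-4)), (0, (-2))],
      [(3, 2), (1, 2), (1, (-2)), (0, (-2)), (0, 2), (0, 4), (2, 2), (0, 2), (3, (-4)), (4, 2)],
      [(1, 4), (0, 4), (0, 2), (1, (-2)), (1, 2), (0, (-2)), (0, 2), (3, (-2)), (0, 2), (8, (-2))],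
      [(0, 4), (2, 2), (1, (-2)), (1, (-2)), (0, 2), (0, (-2)), (3, 2), (0, 2), (2, 4), (5, (-2))],
      [(3, 2), (1, 2), (0, 4), (0, 2), (0, 2), (0, (-2)), (3, (-2)), (0, 2), (1, (-4)), (6, 2)],
      [(0, (-2)), (0, (-2)), (0, 2), (1, (-2)), (1, 2), (3, 2), (0, (-2)), (0, (-2)), (2, (-2)), (0, 2), (0, 2), (0, 2), (0, 2), (0, 2), (0, (-2)), (0, (-2))],
      [(0, 4), (2, (-2)), (1, 2), (1, 2), (0, (-2)), (0, 2), (3, (-2)), (0, (-2)), (2, 4), (5, 2)],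
      [(3, (-2)), (1, 2), (1, (-2)), (0, (-2)), (0, (-2)), (3, (-2)), (0, 2), (0, (-4)), (5, 4), (1, (-2))],
      [(0, (-2)), (0, 2), (0, (-2)), (1, (-2)), (1, (-2)), (3, 2), (0, (-2)), (0, (-2)), (2, 2), (0, (-2)), (0, 2), (0, 2), (0, 2), (0, (-2)), (0, 2), (0, 2)],
      [(3, (-2)), (0, 4), (0, 2), (1, 2), (0, 2), (0, 2), (1, (-4)), (1, 2), (0, 2), (8, (-2))],
      [(3, (-2)), (0, (-4)), (0, 2), (1, 2), (0, 2), (0, 2), (1, 4), (1, 2), (0, 2), (8, (-2))],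
      [(0, (-2)), (0, 2), (0, (-2)), (1, (-2)), (1, 2), (3, (-2)), (0, (-2)), (0, 2), (2, 2), (0, 2), (0, 2), (0, (-2)), (0, (-2)), (0, 2), (0, 2), (0, (-2))],
      [(3, (-2)), (1, (-2)), (1, 2), (0, (-2)), (0, (-2)), (2, (-4)), (0, 2), (0, 2), (4, (-4)), (3, 2)],
      [(0, 2), (0, 2), (0, (-2)), (1, (-2)), (1, 2), (3, 2), (0, (-2)), (0, 2), (2, (-2)), (0, 2), (0, (-2)), (0, 2), (0, (-2)), (0, (-2)), (0, (-2)), (0, 2)],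
      [(0, 2), (0, (-2)), (0, 2), (1, (-2)), (1, 2), (3, (-2)), (0, (-2)), (0, (-2)), (2, 2), (0, 2), (0, (-2)), (0, (-2)), (0, 2), (0, (-2)), (0, 2), (0, 2)],
      [(3, 2), (1, 2), (1, (-2)), (0, (-2)), (0, 2), (0, (-4)), (2, 2), (0, 2), (3, 4), (4, 2)],
      [(3, 2), (1, 2), (1, (-2)), (0, 2), (0, 2), (2, (-4)), (0, (-2)), (0, (-2)), (4, (-4)), (3, (-2))],
      [(3, (-2)), (1, 2), (1, (-2)), (0, (-2)), (0, (-2)), (3, (-2)), (0, 2), (0, 4), (5, (-4)), (1, (-2))],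
      [(3, 2), (1, 2), (0, (-4)), (0, 2), (0, 2), (0, (-2)), (3, (-2)), (0, 2), (1, 4), (6, 2)],
      [(0, 2), (0, (-2)), (0, 2), (1, (-2)), (1, (-2)), (3, 2), (0, (-2)), (0, 2), (2, 2), (0, (-2)), (0, (-2)), (0, 2), (0, (-2)), (0, 2), (0, 2), (0, (-2))],
      [(1, 4), (0, 4), (0, (-2)), (1, 2), (1, (-2)), (0, 2), (0, (-2)), (3, 2), (0, (-2)), (8, 2)]])]

/-- part of the generators and their transposes -/
def threeW5 : List (List (List (ℕ × ℤ)) × List (List (ℕ × ℤ))) :=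
  [([[(1, 2), (0, 2), (1, 2), (0, (-2)), (2, 2), (0, (-2)), (0, 2), (0, 2), (1, (-4)), (1, (-2)), (2, 2), (2, (-2)), (1, (-2))],
      [(0, (-2)), (2, (-2)), (2, (-2)), (0, (-2)), (0, 4), (3, (-2)), (0, 2), (0, (-2)), (1, (-2)), (0, (-2)), (1, (-2)), (0, 2), (1, 2)],
      [(1, (-2)), (0, (-2)), (1, 2), (0, (-2)), (2, 2), (0, 2), (0, 2), (0, (-2)), (3, 2), (0, 4), (1, (-2)), (2, (-2)), (1, (-2))],
      [(1, (-2)), (0, 2), (1, (-2)), (0, (-2)), (2, 2), (0, (-2)), (0, (-2)), (0, (-2)), (0, 4), (2, 2), (2, 2), (2, (-2)), (1, 2)],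
      [(0, 2), (1, (-4)), (0, 2), (2, (-2)), (0, (-2)), (4, 2), (0, (-2)), (0, 2), (1, (-2)), (0, (-2)), (1, (-2)), (0, 2), (1, (-2))],
      [(0, (-2)), (2, (-2)), (2, (-2)), (0, 2), (1, 4), (2, 2), (0, (-2)), (0, (-2)), (1, (-2)), (0, (-2)), (1, 2), (0, (-2)), (1, (-2))],
      [(0, 2), (2, (-2)), (2, 2), (0, (-2)), (4, 2), (0, (-2)), (0, (-2)), (1, (-2)), (0, 2), (0, (-4)), (0, (-2)), (0, (-2)), (1, 2)],
      [(1, 2), (0, (-2)), (1, 2), (0, 2), (2, 2), (0, (-2)), (0, (-2)), (0, (-2)), (3, 2), (2, 2), (1, (-4)), (0, 2), (1, (-2))],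
      [(1, (-2)), (0, (-2)), (0, (-4)), (0, (-2)), (0, 2), (2, (-2)), (0, (-2)), (0, 2), (0, (-2)), (3, (-2)), (2, 2), (2, (-2)), (1, (-2))],
      [(0, (-2)), (2, (-2)), (0, 4), (1, 2), (0, (-2)), (4, 2), (0, 2), (0, 2), (1, (-2)), (0, 2), (1, 2), (0, 2), (1, (-2))],
      [(0, 2), (0, 4), (1, (-2)), (2, 2), (0, 2), (4, 2), (0, 2), (0, (-2)), (1, 2), (0, (-2)), (1, (-2)), (0, 2), (1, (-2))],
      [(0, (-2)), (2, 2), (2, 2), (0, 2), (3, (-4)), (0, (-2)), (0, (-2)), (0, (-2)), (1, (-2)), (0, 2), (1, (-2)), (0, 2), (1, (-2))],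
      [(0, 2), (2, (-2)), (2, (-2)), (0, (-2)), (2, (-4)), (1, (-2)), (0, (-2)), (0, (-2)), (1, 2), (0, 2), (1, 2), (0, 2), (1, (-2))],
      [(1, 2), (0, 2), (1, (-2)), (0, (-2)), (1, (-4)), (0, (-2)), (0, 2), (0, 2), (0, (-2)), (3, 2), (2, 2), (2, 2), (1, (-2))],
      [(0, 2), (2, 2), (2, (-2)), (0, 2), (4, 2), (0, 2), (0, (-2)), (1, (-2)), (0, 2), (1, 2), (0, 2), (1, 2), (0, (-4))],
      [(1, (-2)), (0, (-2)), (1, (-2)), (0, (-2)), (0, 4), (1, 2), (0, 2), (0, (-2)), (0, 2), (3, (-2)), (2, 2), (2, 2), (1, (-2))],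
      [(0, (-2)), (2, 2), (1, 4), (0, 2), (0, (-2)), (4, 2), (0, (-2)), (0, (-2)), (1, 2), (0, (-2)), (1, 2), (0, 2), (1, 2)],
      [(0, 4), (0, (-2)), (0, 2), (1, 2), (0, 2), (2, 2), (0, 2), (0, 2), (0, (-2)), (3, (-2)), (2, 2), (2, 2), (1, 2)],
      [(1, 2), (0, 2), (1, (-2)), (0, 2), (2, 2), (0, 2), (0, (-2)), (0, (-2)), (2, 4), (0, (-2)), (2, (-2)), (2, (-2)), (1, (-2))],
      [(1, 2), (0, (-2)), (1, (-2)), (0, (-2)), (2, 2), (0, (-2)), (0, 2), (0, (-2)), (3, (-2)), (2, (-2)), (0, 4), (1, 2), (1, 2)],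
      [(1, (-2)), (0, 2), (1, 2), (0, (-2)), (2, (-2)), (0, (-2)), (0, (-2)), (0, (-2)), (3, (-2)), (1, (-4)), (0, (-2)), (2, 2), (1, (-2))],
      [(0, 2), (2, 2), (2, 2), (0, (-2)), (4, (-2)), (0, 2), (0, (-2)), (1, (-2)), (0, (-2)), (1, 2), (0, (-2)), (0, (-4)), (0, (-2))],
      [(1, (-2)), (0, 2), (1, (-2)), (0, 2), (2, 2), (0, (-2)), (0, 2), (0, 2), (3, 2), (2, (-2)), (2, 2), (0, (-4)), (0, (-2))],
      [(0, 2), (2, (-2)), (2, 2), (0, 2), (4, (-2)), (0, (-2)), (0, 2), (0, 4), (0, (-2)), (0, (-2)), (1, 2), (0, 2), (1, 2)]],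
     [[(1, (-2)), (2, 2), (0, (-2)), (0, 2), (2, (-2)), (0, 2), (0, (-2)), (0, 2), (1, 2), (1, (-2)), (0, 4), (3, 2), (1, 2)],
      [(0, 2), (1, (-2)), (0, (-2)), (3, 2), (0, (-2)), (1, 4), (2, 2), (1, (-2)), (1, (-2)), (0, 2), (0, 2), (0, (-2)), (1, (-2))],
      [(0, 2), (1, (-2)), (0, 2), (0, (-4)), (2, (-2)), (0, (-2)), (4, 2), (1, (-2)), (1, 2), (0, 2), (0, (-2)), (0, 2), (1, 2)],
      [(1, (-2)), (2, 2), (0, (-2)), (0, (-2)), (1, (-4)), (0, (-2)), (0, (-2)), (0, 2), (0, (-2)), (1, 2), (1, 2), (4, 2), (1, (-2))],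
      [(0, 2), (1, 2), (0, (-2)), (3, 2), (0, (-2)), (0, 4), (3, (-2)), (1, (-2)), (1, 2), (0, (-2)), (0, (-2)), (0, 2), (1, (-2))],
      [(0, (-2)), (1, (-2)), (0, (-2)), (3, 2), (0, 2), (4, (-2)), (1, (-2)), (0, 4), (0, 2), (0, 2), (0, (-2)), (0, (-2)), (1, 2)],
      [(1, (-2)), (2, (-2)), (0, (-2)), (0, 2), (2, 2), (0, 2), (0, 2), (0, (-2)), (1, (-2)), (0, 4), (0, 2), (4, 2), (1, 2)],
      [(1, (-2)), (2, (-2)), (0, 2), (0, (-2)), (2, (-2)), (0, 2), (0, 2), (0, (-2)), (0, (-4)), (0, 2), (1, (-2)), (4, (-2)), (1, 2)],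
      [(0, 2), (0, 4), (0, 2), (0, 2), (3, 2), (0, (-2)), (4, (-2)), (1, 2), (1, 2), (0, 2), (0, 2), (0, (-2)), (1, 2)],
      [(0, (-2)), (1, 2), (0, (-2)), (1, 4), (1, (-2)), (0, (-2)), (4, 2), (1, 2), (1, 2), (0, 2), (0, (-2)), (0, (-2)), (1, (-2))],
      [(0, 2), (1, 2), (0, (-2)), (3, (-2)), (0, 2), (3, (-4)), (0, 2), (1, (-2)), (1, 2), (0, (-2)), (0, 2), (0, (-2)), (1, 2)],
      [(0, 2), (1, (-2)), (0, (-2)), (3, (-2)), (0, (-2)), (2, (-4)), (1, (-2)), (1, 2), (1, (-2)), (0, (-2)), (0, (-2)), (0, (-2)), (1, 2)],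
      [(1, (-2)), (1, 4), (0, 2), (0, 2), (0, 2), (2, 2), (0, 2), (0, (-2)), (0, (-2)), (1, 2), (1, 2), (4, (-2)), (1, (-2))],
      [(0, (-4)), (0, 2), (2, (-2)), (0, (-2)), (0, (-2)), (2, 2), (0, 2), (0, (-2)), (0, (-2)), (1, 2), (1, (-2)), (4, 2), (1, (-2))],
      [(1, (-2)), (2, 2), (0, (-2)), (0, (-2)), (2, 2), (0, (-2)), (0, (-2)), (0, (-2)), (1, (-2)), (1, (-2)), (1, 4), (2, (-2)), (1, 2)],
      [(0, (-2)), (1, 2), (0, 2), (3, 2), (0, (-2)), (4, 2), (1, (-2)), (1, (-2)), (0, (-2)), (0, (-2)), (0, (-2)), (1, 2), (0, 4)],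
      [(1, (-2)), (0, 4), (1, (-2)), (0, (-2)), (0, (-2)), (2, (-2)), (0, 2), (0, (-2)), (0, 2), (1, (-2)), (1, 2), (4, (-2)), (1, (-2))],
      [(1, (-2)), (2, (-2)), (0, (-2)), (0, 2), (2, 2), (0, (-2)), (0, 2), (0, 2), (1, 2), (1, (-2)), (3, (-4)), (0, (-2)), (1, (-2))],
      [(0, 2), (1, (-2)), (0, 2), (2, (-4)), (0, 2), (0, 2), (4, 2), (1, 2), (1, 2), (0, (-2)), (0, (-2)), (0, (-2)), (1, (-2))],
      [(1, (-2)), (2, (-2)), (0, 2), (0, (-2)), (2, 2), (0, (-2)), (0, (-2)), (0, 2), (1, 2), (1, 2), (2, 4), (1, 2), (1, 2)],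
      [(1, 2), (2, 2), (0, (-2)), (0, (-2)), (0, (-4)), (1, 2), (0, 2), (0, 2), (0, 2), (1, 2), (1, 2), (4, (-2)), (1, 2)],
      [(0, (-2)), (1, (-2)), (0, (-2)), (3, 2), (0, (-2)), (4, 2), (1, 2), (1, 2), (0, (-2)), (0, 2), (0, 2), (0, (-4)), (0, 2)],
      [(1, 2), (2, (-2)), (0, (-2)), (0, 2), (2, (-2)), (0, (-2)), (0, (-2)), (0, (-2)), (1, 2), (1, 2), (4, (-2)), (0, (-4)), (0, 2)],
      [(0, (-2)), (1, (-2)), (0, 2), (3, (-2)), (0, (-2)), (4, (-2)), (0, (-4)), (0, (-2)), (1, 2), (0, (-2)), (0, 2), (0, (-2)), (1, (-2))]])]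

/-- the generators and their transposes -/
def threeW : List (List (List (ℕ × ℤ)) × List (List (ℕ × ℤ))) := threeW0 ++ threeW1 ++ threeW2 ++ threeW3 ++ threeW4 ++ threeW5

/-- part of the relations -/
def threeRels0 : List Rule :=
  [([0, 0, 0], []),
    ([1, 0], [0, 1, 2, 5, 6]),
    ([1, 1, 1], []),
    ([2, 0], [0, 2]),
    ([2, 1], [1, 2, 5, 6, 7]),
    ([2, 2, 2], []),
    ([3, 0], [0, 3, 4, 5, 7, 7]),
    ([3, 1], [1, 3, 5]),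
    ([3, 2], [2, 3, 5, 5, 7, 7]),
    ([3, 3, 3], []),
    ([4, 0], [0, 4]),
    ([4, 1], [1, 4, 5, 7]),
    ([4, 2], [2, 4]),
    ([4, 3], [3, 4, 5, 5, 6]),
    ([4, 4, 4], []),
    ([5, 0], [0, 5]),
    ([5, 1], [1, 5]),
    ([5, 2], [2, 5]),
    ([5, 3], [3, 5]),
    ([5, 4], [4, 5])]

/-- part of the relations -/
def threeRels1 : List Rule :=
  [([5, 5, 5], []),
    ([6, 0], [0, 6]),
    ([6, 1], [1, 6]),
    ([6, 2], [2, 6]),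
    ([6, 3], [3, 6]),
    ([6, 4], [4, 6]),
    ([6, 5], [5, 6]),
    ([6, 6, 6], []),
    ([7, 0], [0, 7]),
    ([7, 1], [1, 7]),
    ([7, 2], [2, 7]),
    ([7, 3], [3, 7]),
    ([7, 4], [4, 7]),
    ([7, 5], [5, 7]),
    ([7, 6], [6, 7]),
    ([7, 7, 7], []),
    ([8, 0], [0, 0, 2, 4, 6, 7, 7, 8]),
    ([8, 5], [5, 8]),
    ([8, 7], [7, 8]),
    ([9, 1, 2, 2, 4, 4, 6], [1, 1, 2, 4, 5, 5, 9])]

/-- part of the relations -/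
def threeRels2 : List Rule :=
  [([9, 2, 3, 3, 6, 6], [2, 3, 3, 5, 7, 7, 9]),
    ([9, 5], [5, 9]),
    ([9, 7], [7, 9]),
    ([10, 0, 6], [1, 1, 3, 3, 4, 4, 6, 7, 7, 10]),
    ([10, 2, 6], [2, 2, 3, 4, 4, 7, 10]),
    ([10, 4], [1, 2, 4, 4, 5, 5, 10]),
    ([10, 5], [5, 10]),
    ([10, 7], [7, 10])]

/-- the relations -/
def threeRels : List Rule := threeRels0 ++ threeRels1 ++ threeRels2

/-- part of the pairs -/
def threeEqs0 : List Pair :=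
  [([5, 4, 1], [(0, 19, true), (1, 16, true), (0, 11, true), (3, 33, true)], [(1, 11, true), (0, 16, true), (1, 19, true)]),
    ([6, 3, 1], [(0, 24, true), (1, 22, true), (0, 7, true)], [(1, 7, true), (0, 22, true), (1, 24, true), (2, 26, true)]),
    ([5, 1, 0], [(0, 16, true), (1, 15, true), (0, 1, true), (4, 26, true)], [(1, 1, true), (0, 15, true), (1, 16, true), (2, 17, true)]),
    ([6, 1, 0], [(0, 22, true), (1, 21, true), (0, 1, true)], [(1, 1, true), (0, 21, true), (1, 22, true), (2, 23, true), (3, 26, true)]),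
    ([6, 2, 1], [(0, 23, true), (1, 22, true), (0, 4, true), (4, 34, true)], [(1, 4, true), (0, 22, true), (1, 23, true), (2, 26, true)]),
    ([3, 3, 3, 1], [(0, 9, true)], [(2, 7, true), (1, 7, true), (0, 7, true), (2, 18, true), (4, 18, true), (3, 18, true), (1, 9, true), (1, 20, true)]),
    ([5, 3, 0], [(0, 18, true), (1, 15, true), (0, 6, true), (5, 33, true), (4, 33, true)], [(1, 6, true), (0, 15, true), (1, 18, true), (2, 19, true)]),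
    ([7, 1, 0], [(0, 29, true), (1, 28, true), (0, 1, true)], [(1, 1, true), (0, 28, true), (1, 29, true), (2, 30, true), (3, 33, true), (4, 34, true)]),
    ([6, 3, 0], [(0, 24, true), (1, 21, true), (0, 6, true), (5, 34, true), (4, 34, true)], [(1, 6, true), (0, 21, true), (1, 24, true), (2, 25, true), (3, 26, true)]),
    ([7, 3, 0], [(0, 31, true), (1, 28, true), (0, 6, true), (4, 35, true)], [(1, 6, true), (0, 28, true), (1, 31, true), (2, 32, true), (3, 33, true), (4, 35, true)])]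

/-- part of the pairs -/
def threeEqs1 : List Pair :=
  [([4, 4, 4, 1], [(0, 14, true)], [(2, 11, true), (1, 11, true), (0, 11, true), (3, 32, true), (2, 19, true), (4, 33, true), (6, 32, true), (5, 32, true), (4, 19, true), (3, 19, true), (1, 14, true), (4, 33, true), (3, 33, true), (1, 20, true), (1, 35, true)]),
    ([4, 1, 0], [(0, 11, true), (3, 28, true), (2, 15, true), (1, 10, true), (0, 1, true), (4, 25, true), (3, 19, true), (5, 26, true)], [(1, 1, true), (0, 10, true), (1, 11, true), (4, 30, true), (3, 17, true), (2, 12, true), (5, 33, true), (6, 34, true)]),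
    ([4, 3, 3, 3], [(0, 13, true), (4, 24, true), (3, 18, true), (2, 18, true), (1, 13, true), (5, 26, true), (3, 20, true), (3, 26, true), (5, 24, true), (4, 24, true), (3, 18, true), (2, 13, true), (0, 9, true), (3, 26, true), (1, 20, true), (1, 27, true)], [(1, 9, true)]),
    ([2, 1, 0], [(0, 4, true), (4, 28, true), (3, 21, true), (2, 15, true), (1, 3, true), (0, 1, true), (4, 23, true), (3, 17, true), (5, 26, true)], [(1, 1, true), (0, 3, true), (1, 4, true), (5, 30, true), (4, 23, true), (3, 17, true), (6, 33, true), (5, 26, true), (7, 34, true)]),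
    ([4, 3, 1], [(0, 13, true), (4, 22, true), (3, 16, true), (2, 16, true), (1, 11, true), (0, 7, true), (2, 19, true), (5, 33, true), (3, 20, true), (3, 33, true), (4, 34, true)], [(1, 7, true), (0, 11, true), (3, 31, true), (2, 18, true), (1, 13, true), (5, 26, true), (3, 20, true), (4, 33, true), (3, 26, true)]),
    ([4, 3, 0], [(0, 13, true), (4, 21, true), (3, 15, true), (2, 15, true), (1, 10, true), (0, 6, true), (5, 32, true), (4, 32, true), (3, 19, true), (6, 33, true), (5, 33, true), (7, 33, true), (6, 33, true), (4, 20, true), (5, 34, true), (4, 34, true)], [(1, 6, true), (0, 10, true), (1, 13, true), (5, 25, true), (4, 19, true), (3, 19, true), (6, 26, true), (4, 20, true)]),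
    ([1, 0, 0, 0], [(0, 1, true), (4, 21, true), (3, 15, true), (2, 3, true), (1, 1, true), (5, 23, true), (4, 17, true), (6, 26, true), (8, 21, true), (7, 21, true), (6, 15, true), (5, 15, true), (4, 3, true), (3, 3, true), (2, 1, true), (0, 0, true), (3, 23, true), (2, 17, true), (4, 23, true), (3, 17, true), (1, 5, true), (2, 26, true), (3, 26, true), (1, 20, true), (1, 27, true)], [(1, 0, true)]),
    ([3, 2, 0], [(0, 8, true), (5, 28, true), (4, 28, true), (3, 15, true), (2, 15, true), (1, 6, true), (0, 3, true), (6, 33, true), (5, 33, true), (7, 33, true), (6, 33, true), (4, 20, true), (4, 35, true)], [(1, 3, true), (0, 6, true), (5, 30, true), (4, 30, true), (3, 17, true), (2, 12, true), (1, 8, true), (6, 32, true), (5, 32, true), (4, 19, true), (3, 19, true), (7, 33, true), (6, 33, true), (4, 20, true), (4, 35, true)]),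
    ([3, 2, 1], [(0, 8, true), (5, 29, true), (4, 29, true), (3, 16, true), (2, 16, true), (1, 7, true), (0, 4, true), (4, 31, true), (3, 24, true), (2, 18, true), (5, 33, true), (4, 26, true), (6, 33, true), (5, 26, true), (3, 20, true), (4, 33, true), (3, 26, true), (5, 35, true)], [(1, 4, true), (0, 7, true), (2, 17, true), (1, 8, true), (6, 33, true), (5, 33, true), (3, 20, true), (4, 33, true), (3, 33, true), (5, 34, true), (4, 34, true), (5, 35, true)]),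
    ([3, 0, 0, 0], [(0, 6, true), (5, 28, true), (4, 28, true), (3, 15, true), (2, 10, true), (1, 6, true), (6, 32, true), (5, 32, true), (4, 19, true), (7, 33, true), (6, 33, true), (7, 35, true), (7, 28, true), (6, 15, true), (5, 15, true), (4, 10, true), (3, 10, true), (2, 6, true), (0, 0, true), (4, 32, true), (3, 32, true), (2, 19, true), (5, 32, true), (4, 32, true), (3, 19, true), (1, 14, true), (3, 33, true), (2, 33, true), (4, 33, true), (3, 33, true), (1, 20, true), (1, 35, true)], [(1, 0, true)])]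

/-- part of the pairs -/
def threeEqs2 : List Pair :=
  [([3, 1, 0], [(0, 7, true), (2, 15, true), (1, 6, true), (0, 1, true), (4, 24, true), (3, 18, true), (5, 25, true), (4, 19, true), (6, 26, true), (9, 33, true), (8, 33, true), (7, 26, true), (5, 20, true)], [(1, 1, true), (0, 6, true), (5, 29, true), (4, 29, true), (3, 16, true), (2, 11, true), (1, 7, true), (3, 19, true), (6, 33, true), (4, 20, true), (4, 35, true), (3, 12, true), (2, 8, true), (7, 32, true), (6, 32, true), (5, 19, true), (4, 19, true), (8, 33, true), (7, 33, true), (5, 20, true), (6, 34, true), (5, 34, true)]),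
    ([3, 3, 3, 0], [(0, 9, true)], [(2, 6, true), (1, 6, true), (0, 6, true), (5, 31, true), (4, 31, true), (3, 18, true), (2, 13, true), (6, 26, true), (4, 20, true), (6, 32, true), (5, 32, true), (4, 25, true), (7, 33, true), (6, 33, true), (5, 26, true), (7, 35, true), (7, 31, true), (6, 24, true), (5, 18, true), (4, 13, true), (3, 13, true), (1, 9, true), (4, 25, true), (3, 19, true), (2, 19, true), (5, 26, true), (3, 20, true), (3, 26, true), (5, 26, true), (4, 26, true), (5, 27, true), (5, 32, true), (4, 19, true), (3, 19, true), (1, 14, true), (3, 33, true), (1, 20, true), (1, 35, true)]),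
    ([1, 1, 1, 0], [(0, 2, true)], [(2, 1, true), (1, 1, true), (0, 1, true), (4, 22, true), (3, 16, true), (2, 4, true), (6, 33, true), (5, 26, true), (7, 34, true), (8, 30, true), (7, 23, true), (6, 23, true), (5, 17, true), (4, 17, true), (9, 33, true), (8, 26, true), (7, 26, true), (5, 20, true), (7, 34, true), (5, 27, true), (5, 29, true), (4, 4, true), (3, 4, true), (1, 2, true), (4, 30, true), (3, 23, true), (2, 17, true), (5, 33, true), (4, 26, true), (6, 34, true), (7, 35, true), (6, 23, true), (5, 23, true), (4, 17, true), (3, 17, true), (1, 5, true), (4, 26, true), (3, 26, true), (1, 20, true), (1, 27, true)]),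
    ([8, 0, 0, 0], [(0, 36, true), (7, 36, true), (14, 36, true), (6, 28, true), (5, 28, true), (4, 21, true), (3, 10, true), (2, 3, true), (0, 0, true), (4, 28, true), (3, 28, true), (2, 21, true), (1, 10, true), (0, 3, true), (5, 30, true), (4, 30, true), (3, 23, true), (2, 12, true), (6, 32, true), (5, 32, true), (4, 25, true), (7, 34, true), (6, 34, true), (7, 35, true), (7, 28, true), (6, 21, true), (5, 21, true), (4, 10, true), (3, 10, true), (2, 3, true), (1, 3, true), (8, 28, true), (7, 21, true), (6, 21, true), (5, 10, true), (4, 10, true), (3, 3, true), (2, 3, true), (0, 0, true), (6, 30, true), (5, 23, true), (4, 23, true), (3, 12, true), (2, 12, true), (0, 5, true), (4, 32, true), (3, 25, true), (2, 25, true), (0, 14, true), (2, 34, true), (0, 27, true), (0, 35, true)], [(1, 0, true)]),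
    ([9, 1, 2, 2, 4, 4, 6, 1, 2, 2, 4, 4, 6, 1, 2, 2, 4, 4, 6], [(0, 39, true), (6, 39, true), (12, 39, true), (5, 16, true), (4, 16, true), (3, 11, true), (2, 4, true), (0, 2, true), (3, 32, true), (2, 25, true), (1, 19, true), (4, 33, true), (3, 26, true), (6, 33, true), (5, 33, true), (4, 26, true), (2, 20, true), (4, 33, true), (3, 33, true), (2, 26, true), (5, 29, true), (4, 29, true), (3, 22, true), (2, 16, true), (1, 11, true), (0, 4, true), (4, 32, true), (3, 25, true), (2, 19, true), (5, 33, true), (4, 26, true), (7, 33, true), (6, 33, true), (5, 26, true), (3, 20, true), (5, 34, true), (4, 34, true), (5, 35, true), (5, 30, true), (4, 23, true), (3, 23, true), (2, 12, true), (6, 32, true), (5, 25, true), (4, 25, true), (7, 33, true), (6, 26, true), (5, 26, true), (8, 33, true), (7, 26, true), (6, 26, true), (9, 29, true), (8, 22, true),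 (7, 22, true), (6, 16, true), (5, 16, true), (4, 11, true), (3, 11, true), (2, 4, true), (1, 4, true), (5, 30, true), (4, 23, true), (3, 17, true), (6, 33, true), (5, 26, true), (7, 34, true), (9, 32, true), (8, 32, true), (7, 25, true), (6, 25, true), (5, 19, true), (4, 19, true), (10, 33, true), (9, 33, true), (8, 26, true), (7, 26, true), (5, 20, true), (7, 35, true), (6, 25, true), (5, 25, true), (7, 26, true), (6, 26, true), (9, 33, true), (8, 26, true), (7, 26, true), (10, 33, true), (9, 26, true), (8, 26, true), (6, 20, true), (8, 34, true), (6, 27, true), (6, 34, true), (8, 29, true), (7, 29, true), (6, 22, true), (5, 11, true), (4, 11, true), (3, 4, true), (2, 4, true), (0, 2, true), (3, 30, true), (2, 23, true), (1, 17, true), (4, 33, true), (3, 26, true), (5, 34, true), (7, 32, true), (6, 32, true), (5, 25, true), (4, 25, true),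 (3, 19, true), (2, 19, true), (8, 33, true), (7, 33, true), (6, 26, true), (5, 26, true), (3, 20, true), (5, 35, true), (4, 25, true), (3, 25, true), (5, 26, true), (4, 26, true), (7, 34, true), (5, 27, true), (5, 35, true), (4, 17, true), (3, 12, true), (2, 12, true), (0, 5, true), (2, 19, true), (0, 14, true), (0, 20, true)], [(6, 22, true), (5, 11, true), (4, 11, true), (3, 4, true), (2, 4, true), (6, 30, true), (5, 23, true), (4, 17, true), (7, 33, true), (6, 26, true), (8, 34, true), (10, 32, true), (9, 32, true), (8, 25, true), (7, 25, true), (6, 19, true), (5, 19, true), (11, 33, true), (10, 33, true), (9, 26, true), (8, 26, true), (6, 20, true), (8, 35, true), (7, 25, true), (6, 25, true), (8, 26, true), (7, 26, true), (10, 34, true), (8, 27, true), (8, 30, true), (7, 17, true), (6, 12, true), (5, 12, true), (3, 5, true), (6, 30, true),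 (5, 17, true), (4, 12, true), (3, 12, true), (7, 32, true), (6, 19, true), (4, 14, true), (5, 32, true), (4, 19, true), (6, 34, true), (7, 29, true), (6, 22, true), (5, 16, true), (4, 11, true), (3, 4, true), (1, 2, true), (4, 32, true), (3, 25, true), (2, 19, true), (5, 33, true), (4, 26, true), (7, 33, true), (6, 33, true), (5, 26, true), (3, 20, true), (5, 34, true), (4, 34, true), (5, 35, true), (4, 23, true), (3, 23, true), (2, 12, true), (5, 23, true), (4, 23, true), (3, 12, true), (1, 5, true), (3, 25, true), (2, 25, true), (4, 25, true), (3, 25, true), (1, 14, true), (1, 27, true)]),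
    ([9, 2, 3, 3, 6, 6, 1, 2, 2, 4, 4, 6], [(0, 40, true), (6, 39, true), (5, 29, true), (4, 29, true), (3, 16, true), (2, 7, true), (1, 7, true), (0, 4, true), (4, 31, true), (3, 24, true), (2, 18, true), (5, 33, true), (4, 26, true), (6, 31, true), (5, 24, true), (4, 18, true), (3, 18, true), (7, 33, true), (6, 26, true), (4, 20, true), (5, 33, true), (4, 26, true), (6, 35, true), (5, 22, true), (4, 16, true), (3, 7, true), (2, 7, true), (1, 4, true), (5, 31, true), (4, 24, true), (3, 18, true), (6, 33, true), (5, 26, true), (7, 31, true), (6, 24, true), (5, 18, true), (4, 18, true), (8, 33, true), (7, 26, true), (5, 20, true), (6, 33, true), (5, 26, true), (7, 34, true), (8, 30, true), (7, 23, true), (6, 23, true), (5, 17, true), (4, 8, true), (3, 8, true), (8, 31, true), (7, 31, true), (6, 18, true), (5, 18, true), (9, 33, true), (8, 33,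 true), (6, 20, true), (7, 33, true), (6, 33, true), (7, 35, true), (7, 33, true), (8, 34, true), (9, 34, true), (11, 32, true), (10, 32, true), (9, 25, true), (8, 25, true), (7, 19, true), (6, 19, true), (12, 33, true), (11, 33, true), (10, 26, true), (9, 26, true), (7, 20, true), (10, 33, true), (9, 33, true), (8, 26, true), (7, 26, true)], [(5, 22, true), (4, 22, true), (3, 7, true), (2, 7, true), (1, 4, true), (5, 31, true), (4, 24, true), (3, 18, true), (6, 33, true), (5, 26, true), (7, 31, true), (6, 24, true), (5, 18, true), (4, 18, true), (8, 33, true), (7, 26, true), (5, 20, true), (6, 34, true), (7, 34, true), (5, 27, true), (5, 30, true), (4, 8, true), (3, 8, true), (8, 31, true), (7, 31, true), (6, 18, true), (5, 18, true), (9, 33, true), (8, 33, true), (6, 20, true), (7, 33, true), (6, 33, true), (7, 35, true), (8, 30, true), (7,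 30, true), (6, 17, true), (5, 8, true), (4, 8, true), (2, 5, true), (6, 31, true), (5, 31, true), (4, 18, true), (3, 18, true), (7, 33, true), (6, 33, true), (4, 20, true), (5, 33, true), (4, 33, true), (5, 35, true), (5, 33, true), (6, 35, true), (5, 19, true), (4, 19, true), (6, 19, true), (5, 19, true), (8, 27, false), (7, 26, false), (8, 26, false), (6, 26, false), (6, 20, false), (8, 26, false), (5, 19, false), (6, 19, false), (7, 25, false), (3, 13, false), (4, 13, false), (5, 18, false), (6, 27, false), (5, 26, false), (5, 20, false), (7, 26, false), (4, 19, false), (5, 19, false), (6, 25, false), (2, 13, false), (3, 13, false), (4, 24, false), (2, 5, false), (4, 12, false), (5, 12, false), (6, 23, false), (0, 39, true), (6, 40, true), (5, 17, true), (4, 17, true), (3, 12, true), (6, 18, true), (5, 18, true), (4, 13, true), (8, 26, true),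 (6, 20, true), (6, 26, true), (7, 24, true), (6, 18, true), (5, 13, true), (9, 26, true), (7, 20, true), (8, 26, true), (7, 26, true)]),
    ([9, 5, 1, 2, 2, 4, 4, 6], [(0, 41, true), (1, 39, true), (0, 16, true), (1, 16, true), (2, 17, true), (3, 19, true), (4, 20, true)], [(1, 16, true), (2, 17, true), (3, 17, true), (4, 19, true), (5, 19, true), (6, 26, false), (0, 39, true), (6, 41, true), (4, 20, true)]),
    ([9, 7, 1, 2, 2, 4, 4, 6], [(0, 42, true), (1, 39, true), (0, 29, true), (1, 29, true), (2, 30, true), (3, 32, true), (4, 33, true), (5, 33, true)], [(1, 29, true), (2, 30, true), (3, 30, true), (4, 32, true), (5, 32, true), (6, 34, true), (0, 39, true), (6, 42, true)]),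
    ([10, 0, 6, 0, 6, 0, 6], [(0, 43, true), (9, 43, true), (18, 43, true), (8, 29, true), (7, 29, true), (6, 22, true), (5, 11, true), (4, 11, true), (3, 7, true), (2, 7, true), (0, 2, true), (1, 18, true), (3, 19, true), (2, 19, true), (3, 20, true), (3, 32, true), (4, 33, true), (6, 34, true), (5, 34, true), (6, 35, true), (6, 29, true), (5, 22, true), (4, 16, true), (3, 11, true), (2, 11, true), (1, 7, true), (0, 7, true), (2, 18, true), (4, 19, true), (3, 19, true), (4, 20, true), (4, 32, true), (5, 33, true), (7, 33, true), (6, 33, true), (8, 34, true), (7, 34, true), (8, 35, true), (7, 24, true), (6, 18, true), (5, 18, true), (4, 13, true), (3, 13, true), (1, 9, true), (4, 25, true), (3, 19, true), (2, 19, true), (5, 26, true), (3, 20, true), (3, 26, true), (5, 26, true), (4, 26, true), (6, 26, true), (5, 26, true), (3, 20, true), (3,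 27, true), (2, 13, true), (1, 13, true), (5, 25, true), (4, 19, true), (3, 19, true), (6, 26, true), (4, 20, true), (4, 26, true), (6, 25, true), (5, 25, true), (4, 19, true), (2, 14, true), (4, 25, true), (3, 25, true), (2, 19, true), (4, 27, true), (5, 29, true), (4, 29, true), (3, 16, true), (2, 11, true), (1, 7, true), (3, 19, true), (6, 33, true), (4, 20, true), (4, 35, true), (3, 11, true), (2, 7, true), (0, 2, true), (1, 19, true), (4, 31, true), (3, 18, true), (2, 18, true), (1, 13, true), (5, 26, true), (3, 20, true), (3, 26, true), (5, 31, true), (4, 24, true), (3, 18, true), (2, 13, true), (0, 9, true), (3, 26, true), (1, 20, true), (3, 32, true), (2, 25, true), (1, 25, true), (4, 32, true), (3, 25, true), (2, 25, true), (0, 14, true), (2, 34, true), (0, 27, true), (0, 35, true)], [(2, 21, true), (4, 21, true), (3, 21, true), (1,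 0, true), (1, 27, true)]),
    ([10, 2, 6, 0, 6], [(0, 44, true), (6, 43, true), (5, 29, true), (4, 11, true), (3, 11, true), (2, 7, true), (1, 4, true), (0, 4, true), (4, 30, true), (3, 23, true), (2, 17, true), (5, 33, true), (4, 26, true), (6, 34, true), (8, 31, true), (7, 31, true), (6, 24, true), (5, 24, true), (4, 18, true), (3, 18, true), (9, 33, true), (8, 33, true), (7, 26, true), (6, 26, true), (4, 20, true), (7, 32, true), (6, 32, true), (5, 25, true), (4, 25, true), (8, 33, true), (7, 33, true), (6, 26, true), (5, 26, true), (8, 35, true), (7, 25, true), (6, 25, true), (5, 19, true), (8, 26, true), (7, 26, true), (11, 29, true), (10, 29, true), (9, 22, true), (8, 22, true), (7, 16, true), (6, 16, true), (5, 11, true), (4, 11, true), (3, 7, true), (2, 4, true), (1, 4, true), (5, 30, true), (4, 23, true), (3, 17, true), (6, 33, true),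 (5, 26, true), (7, 34, true), (9, 31, true), (8, 31, true), (7, 24, true), (6, 24, true), (5, 18, true), (4, 18, true), (10, 33, true), (9, 33, true), (8, 26, true), (7, 26, true), (5, 20, true), (8, 32, true), (7, 32, true), (6, 25, true), (5, 25, true), (9, 33, true), (8, 33, true), (7, 26, true), (6, 26, true), (9, 35, true), (8, 25, true), (7, 25, true), (6, 19, true), (9, 26, true), (8, 26, true), (11, 33, true), (10, 26, true), (9, 26, true), (7, 20, true), (9, 33, true), (8, 26, true), (7, 26, true), (10, 34, true), (8, 27, true), (8, 34, true), (9, 35, true), (8, 24, true), (7, 18, true), (6, 13, true), (5, 13, true), (9, 25, true), (8, 19, true), (7, 19, true), (10, 26, true), (8, 20, true), (8, 26, true), (10, 26, true), (9, 26, true), (10, 27, true), (9, 18, true), (8, 18, true), (7, 13, true), (6, 13, true), (4, 9, true), (7, 25,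 true), (6, 19, true), (5, 19, true), (8, 26, true), (6, 20, true), (6, 26, true), (8, 26, true), (7, 26, true), (9, 26, true), (8, 26, true), (6, 20, true), (7, 25, true), (6, 25, true), (4, 14, true), (5, 25, true), (4, 25, true), (5, 27, true)], [(2, 21, true), (1, 3, true), (2, 23, false), (0, 43, true), (9, 44, true), (8, 30, true), (7, 30, true), (6, 23, true), (5, 12, true), (4, 12, true), (3, 8, true), (2, 8, true), (7, 31, true), (6, 31, true), (5, 18, true), (4, 18, true), (8, 33, true), (7, 33, true), (5, 20, true), (6, 33, true), (5, 33, true), (6, 35, true), (6, 32, true), (5, 19, true), (7, 32, true), (6, 19, true), (8, 34, true), (9, 35, true), (8, 23, true), (7, 17, true), (6, 12, true), (5, 12, true), (4, 8, true), (3, 8, true), (8, 31, true), (7, 31, true), (6, 18, true), (5, 18, true), (9, 33, true), (8, 33, true), (6, 20,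 true), (7, 33, true), (6, 33, true), (7, 35, true), (7, 32, true), (6, 19, true), (8, 32, true), (7, 19, true), (9, 33, true), (10, 34, true), (11, 31, true), (10, 24, true), (9, 18, true), (8, 18, true), (7, 13, true), (6, 13, true), (4, 9, true), (7, 25, true), (6, 19, true), (5, 19, true), (8, 26, true), (6, 20, true), (6, 26, true), (8, 26, true), (7, 26, true), (9, 26, true), (8, 26, true), (6, 20, true), (6, 27, true), (6, 32, true), (4, 14, true), (4, 32, true)])]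

/-- part of the pairs -/
def threeEqs3 : List Pair :=
  [([10, 4, 0, 6], [(0, 45, true), (6, 43, true), (5, 16, true), (4, 16, true), (3, 11, true), (2, 11, true), (1, 4, true), (5, 32, true), (4, 25, true), (3, 19, true), (6, 33, true), (5, 26, true), (8, 32, true), (7, 32, true), (6, 25, true), (5, 19, true), (4, 19, true), (9, 33, true), (8, 33, true), (7, 26, true), (5, 20, true), (6, 35, true), (5, 26, true), (6, 26, true), (7, 22, true), (6, 16, true), (5, 16, true), (4, 11, true), (3, 11, true), (2, 4, true), (0, 2, true), (3, 32, true), (2, 25, true), (1, 19, true), (4, 33, true), (3, 26, true), (6, 32, true), (5, 32, true), (4, 25, true), (3, 19, true), (2, 19, true), (7, 33, true), (6, 33, true), (5, 26, true), (3, 20, true), (4, 35, true), (3, 26, true), (4, 26, true), (6, 24, true), (5, 24, true), (4, 18, true), (3, 18, true),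 (2, 13, true), (1, 13, true), (5, 25, true), (4, 19, true), (3, 19, true), (6, 26, true), (4, 20, true), (4, 26, true), (6, 26, true), (5, 26, true), (7, 26, true), (6, 26, true), (4, 20, true), (4, 27, true), (4, 24, true), (3, 13, true), (2, 13, true), (6, 25, true), (5, 19, true), (4, 19, true), (7, 26, true), (5, 20, true), (5, 26, true), (6, 27, true), (5, 19, true), (3, 14, true), (3, 19, true)], [(1, 10, true), (2, 25, false), (0, 43, true), (9, 45, true), (8, 29, true), (7, 29, true), (6, 22, true), (5, 11, true), (4, 11, true), (3, 7, true), (2, 7, true), (0, 2, true), (1, 18, true), (3, 19, true), (2, 19, true), (3, 20, true), (3, 32, true), (4, 33, true), (6, 34, true), (5, 34, true), (6, 35, true), (6, 30, true), (5, 23, true), (4, 17, true), (3, 12, true), (2, 12, true), (1, 8, true), (0, 8, true), (5, 31, true), (4, 31, true),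 (3, 18, true), (2, 18, true), (6, 33, true), (5, 33, true), (3, 20, true), (4, 33, true), (3, 33, true), (4, 35, true), (4, 32, true), (3, 19, true), (5, 32, true), (4, 19, true), (6, 33, true), (7, 34, true), (9, 32, true), (8, 32, true), (7, 25, true), (6, 19, true), (5, 19, true), (3, 14, true), (7, 32, true), (6, 32, true), (5, 25, true), (4, 19, true), (3, 19, true), (8, 33, true), (7, 33, true), (6, 26, true), (4, 20, true), (6, 33, true), (5, 33, true), (4, 26, true)])]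

/-- the pairs -/
def threeEqs : List Pair := threeEqs0 ++ threeEqs1 ++ threeEqs2 ++ threeEqs3

/-- part of the exponents -/
def threeVecs0 : List (List ℤ) :=
  [[0, 0, 0, 0, 0, 0, 0, 0, 0, 0, 0, 0, 0, 0, 0, 0, 0, 0, 0, 0, 0, 0, 0, 0, 0, 0, 0, 0, 0, 0, 0, 0, 0, 1, 0, 0, 0, 0, 0, 0, 0, 0, 0, 0, 0, 0, 0, 0],
    [0, 0, 0, 0, 0, 0, 0, 0, 0, 0, 0, 0, 0, 0, 0, 0, 0, 0, 0, 0, 0, 0, 0, 0, 0, 0, (-1), 0, 0, 0, 0, 0, 0, 0, 0, 0, 0, 0, 0, 0, 0, 0, 0, 0, 0, 0, 0, 0],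
    [0, 0, 0, 0, 0, 0, 0, 0, 0, 0, 0, 0, 0, 0, 0, 0, 0, (-1), 0, 0, 0, 0, 0, 0, 0, 0, 1, 0, 0, 0, 0, 0, 0, 0, 0, 0, 0, 0, 0, 0, 0, 0, 0, 0, 0, 0, 0, 0],
    [0, 0, 0, 0, 0, 0, 0, 0, 0, 0, 0, 0, 0, 0, 0, 0, 0, 0, 0, 0, 0, 0, 0, (-1), 0, 0, (-1), 0, 0, 0, 0, 0, 0, 0, 0, 0, 0, 0, 0, 0, 0, 0, 0, 0, 0, 0, 0, 0],
    [0, 0, 0, 0, 0, 0, 0, 0, 0, 0, 0, 0, 0, 0, 0, 0, 0, 0, 0, 0, 0, 0, 0, 0, 0, 0, (-1), 0, 0, 0, 0, 0, 0, 0, 1, 0, 0, 0, 0, 0, 0, 0, 0, 0, 0, 0, 0, 0],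
    [0, 0, 0, 0, 0, 0, 0, 0, 0, 0, 0, 0, 0, 0, 0, 0, 0, 0, 0, 0, (-1), 0, 0, 0, 0, 0, 0, 0, 0, 0, 0, 0, 0, 0, 0, 0, 0, 0, 0, 0, 0, 0, 0, 0, 0, 0, 0, 0],
    [0, 0, 0, 0, 0, 0, 0, 0, 0, 0, 0, 0, 0, 0, 0, 0, 0, 0, 0, (-1), 0, 0, 0, 0, 0, 0, 0, 0, 0, 0, 0, 0, 0, (-1), 0, 0, 0, 0, 0, 0, 0, 0, 0, 0, 0, 0, 0, 0],
    [0, 0, 0, 0, 0, 0, 0, 0, 0, 0, 0, 0, 0, 0, 0, 0, 0, 0, 0, 0, 0, 0, 0, 0, 0, 0, 0, 0, 0, 0, (-1), 0, 0, (-1), (-1), 0, 0, 0, 0, 0, 0, 0, 0, 0, 0, 0, 0, 0],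
    [0, 0, 0, 0, 0, 0, 0, 0, 0, 0, 0, 0, 0, 0, 0, 0, 0, 0, 0, 0, 0, 0, 0, 0, 0, (-1), (-1), 0, 0, 0, 0, 0, 0, 0, (-1), 0, 0, 0, 0, 0, 0, 0, 0, 0, 0, 0, 0, 0],
    [0, 0, 0, 0, 0, 0, 0, 0, 0, 0, 0, 0, 0, 0, 0, 0, 0, 0, 0, 0, 0, 0, 0, 0, 0, 0, 0, 0, 0, 0, 0, 0, (-1), (-1), 0, 0, 0, 0, 0, 0, 0, 0, 0, 0, 0, 0, 0, 0]]

/-- part of the exponents -/
def threeVecs1 : List (List ℤ) :=
  [[0, 0, 0, 0, 0, 0, 0, 0, 0, 0, 0, 0, 0, 0, 0, 0, 0, 0, 0, 0, (-1), 0, 0, 0, 0, 0, 0, 0, 0, 0, 0, 0, 0, 0, 0, (-1), 0, 0, 0, 0, 0, 0, 0, 0, 0, 0, 0, 0],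
    [0, 0, 0, 0, 0, 0, 0, 0, 0, 0, 0, 0, (-1), 0, 0, 1, 0, (-1), 0, 1, 0, 0, 0, 0, 0, 1, 1, 0, 1, 0, (-1), 0, 0, (-1), (-1), 0, 0, 0, 0, 0, 0, 0, 0, 0, 0, 0, 0, 0],
    [0, 0, 0, 0, 0, 0, 0, 0, 0, 0, 0, 0, 0, 0, 0, 0, 0, 0, 0, 0, (-1), 0, 0, 0, 0, 0, 0, 1, 0, 0, 0, 0, 0, 0, 0, 0, 0, 0, 0, 0, 0, 0, 0, 0, 0, 0, 0, 0],
    [0, 0, 0, 0, 0, 0, 0, 0, 0, 0, 0, 0, 0, 0, 0, 1, 0, 0, 0, 0, 0, 1, 0, 0, 0, 0, 0, 0, 1, 0, (-1), 0, 0, (-1), (-1), 0, 0, 0, 0, 0, 0, 0, 0, 0, 0, 0, 0, 0],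
    [0, 0, 0, 0, 0, 0, 0, 0, 0, 0, 0, 0, 0, 0, 0, 0, (-1), 0, (-1), 1, 0, 0, 1, 0, 0, 0, 1, 0, 0, 0, 0, (-1), 0, 1, 1, 0, 0, 0, 0, 0, 0, 0, 0, 0, 0, 0, 0, 0],
    [0, 0, 0, 0, 0, 0, 0, 0, 0, 0, 0, 0, 0, 0, 0, (-1), 0, 0, 0, (-1), 0, 1, 0, 0, 0, (-1), (-1), 0, 0, 0, 0, 0, (-1), 1, (-1), 0, 0, 0, 0, 0, 0, 0, 0, 0, 0, 0, 0, 0],
    [0, 0, 0, 0, 0, 1, 0, 0, 0, 0, 0, 0, 0, 0, 0, 0, 0, 0, 0, 0, 1, 0, 0, 0, 0, 0, 0, 1, 0, 0, 0, 0, 0, 0, 0, 0, 0, 0, 0, 0, 0, 0, 0, 0, 0, 0, 0, 0],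
    [0, 0, 0, 0, 0, 0, 0, 0, 0, 0, 0, 0, (-1), 0, 0, (-1), 0, (-1), 0, 1, 0, 0, 0, 0, 0, 0, 0, 0, (-1), 0, 1, 0, 1, (-1), 0, 0, 0, 0, 0, 0, 0, 0, 0, 0, 0, 0, 0, 0],
    [0, 0, 0, 0, 0, 0, 0, 0, 0, 0, 0, 0, 0, 0, 0, 0, (-1), (-1), 1, 0, 0, 0, 0, 0, 1, 0, 0, 0, 0, (-1), 0, 1, 0, (-1), 1, 0, 0, 0, 0, 0, 0, 0, 0, 0, 0, 0, 0, 0],
    [0, 0, 0, 0, 0, 0, 0, 0, 0, 0, 0, 0, 0, 0, 1, 0, 0, 0, 0, 0, 1, 0, 0, 0, 0, 0, 0, 0, 0, 0, 0, 0, 0, 0, 0, (-1), 0, 0, 0, 0, 0, 0, 0, 0, 0, 0, 0, 0]]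

/-- part of the exponents -/
def threeVecs2 : List (List ℤ) :=
  [[0, 0, 0, 0, 0, 0, 0, 0, (-1), 0, 0, (-1), (-1), 0, 0, 1, (-1), 0, 1, 1, (-1), 0, 0, 0, 1, 1, (-1), 0, 0, 1, 0, 0, 1, (-1), 1, (-1), 0, 0, 0, 0, 0, 0, 0, 0, 0, 0, 0, 0],
    [0, 0, 0, 0, 0, 0, 0, 0, 0, 0, 0, 0, 0, 0, (-1), 0, 0, 0, 1, (-1), 0, 0, 0, 0, (-1), 1, 0, (-1), 0, 0, 0, 0, 0, 0, 0, 1, 0, 0, 0, 0, 0, 0, 0, 0, 0, 0, 0, 0],
    [0, 0, 0, 0, 0, (-1), 0, 0, 0, 0, 0, 0, 0, 0, 0, 0, (-1), 1, 0, 0, 1, 0, (-1), 1, 0, 0, 0, 1, 0, (-1), 1, 0, 0, 0, 0, (-1), 0, 0, 0, 0, 0, 0, 0, 0, 0, 0, 0, 0],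
    [1, 0, 0, 0, 0, 1, 0, 0, 0, 0, 0, 0, 0, 0, 1, 0, 0, 0, 0, 0, 0, 0, 0, 0, 0, 0, 0, 1, 0, 0, 0, 0, 0, 0, 0, (-1), 0, 0, 0, 0, 0, 0, 0, 0, 0, 0, 0, 0],
    [0, 0, 1, 0, 0, (-1), 0, 0, 0, 0, 0, 0, 0, 0, (-1), 0, 1, 0, 0, (-1), 1, 0, (-1), (-1), 0, 0, 1, 0, 0, 1, 0, 0, (-1), 0, (-1), (-1), 0, 0, 0, 0, 0, 0, 0, 0, 0, 0, 0, 0],
    [0, 0, 0, 0, 1, 0, 0, (-1), 1, 0, 0, 0, 1, (-1), 0, 0, (-1), 1, (-1), (-1), 1, 0, (-1), 0, (-1), 1, 0, 1, 0, (-1), 1, 0, (-1), 1, 1, (-1), 0, 0, 0, 0, 0, 0, 0, 0, 0, 0, 0, 0],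
    [0, 0, 0, 0, 0, 0, 0, 0, 0, 0, 0, 0, 0, 0, 0, 0, 1, (-1), 0, (-1), 0, 0, 0, 0, 0, 0, 1, 0, 0, 0, 0, 0, 0, 0, 0, 0, 0, 0, 0, 0, 0, 0, 0, 0, 0, 0, 0, 0],
    [0, 0, 0, 0, 0, 0, 0, 0, 0, 0, 0, 0, 0, 0, 0, 0, 0, 0, 0, 0, 0, 0, 0, 0, 0, 0, 0, 0, 0, 1, (-1), 0, (-1), (-1), (-1), 0, 0, 0, 0, 0, 0, 0, 0, 0, 0, 0, 0, 0],
    [(-1), 0, (-1), 0, 0, 0, 0, 0, 0, (-1), 0, 0, 0, 0, (-1), 0, (-1), 0, 1, 0, (-1), 0, (-1), 0, (-1), 1, (-1), (-1), 0, (-1), 0, (-1), 1, (-1), (-1), 1, 0, 0, 0, 0, 0, 0, 0, 0, 0, 0, 0, 0],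
    [0, 0, 0, (-1), 1, 0, 0, (-1), (-1), 0, 0, 1, (-1), (-1), 0, 0, (-1), 1, 1, 0, (-1), (-1), (-1), 1, 1, 1, 1, (-1), 0, 0, 0, (-1), 1, 0, (-1), 0, 0, 0, 0, 0, 0, 0, 0, 0, 0, 0, 0, 0]]

/-- part of the exponents -/
def threeVecs3 : List (List ℤ) :=
  [[0, 0, 0, 0, (-1), 0, 0, 1, 1, 0, (-1), (-1), 1, 1, 0, 0, 1, (-1), (-1), 1, (-1), 0, 0, (-1), 0, (-1), (-1), (-1), 0, 1, (-1), 1, (-1), (-1), 0, 0, 0, 0, 0, 0, 0, 0, 0, 0, 0, 0, 0, 0]]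

/-- the exponents -/
def threeVecs : List (List ℤ) := threeVecs0 ++ threeVecs1 ++ threeVecs2 ++ threeVecs3

/-- part of the change of lifts -/
def threeGauge0 : List (List (ℕ × ℤ)) :=
  [[],
    [],
    [(1, 1), (7, 1), (13, (-1))],
    [],
    [(6, 1), (7, 1), (11, 1)],
    [(7, 1)],
    [(7, 1), (13, 1)],
    [(7, (-1)), (11, 1)],
    [],
    []]

/-- part of the change of lifts -/
def threeGauge1 : List (List (ℕ × ℤ)) :=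
  [[]]

/-- the change of lifts -/
def threeGauge : List (List (ℕ × ℤ)) := threeGauge0 ++ threeGauge1

/-- part of the combinations -/
def threeCombs0 : List (List (ℕ × ℤ)) :=
  [[(5, 1), (16, (-1)), (19, (-1)), (23, 1)],
    [],
    [(0, 1), (1, (-1)), (2, 1), (3, 1), (5, 1), (6, 1), (7, 1), (9, 1), (10, (-1)), (12, 1), (19, 1), (22, (-1)), (24, 1), (26, 1), (27, 1)],
    [(0, (-1)), (3, 1), (4, (-1)), (6, (-1)), (7, 1), (8, 1), (9, (-1)), (10, 1), (12, 1), (14, (-1)), (15, (-1)), (16, (-1)), (18, 1), (19, 1), (20, (-1)), (21, 1), (22, (-1)), (25, 1), (26, 1), (27, (-1)), (29, (-1))],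
    [(1, 1), (2, (-1)), (3, (-1)), (5, 1), (6, 1), (7, 1), (9, 1), (10, (-1)), (11, (-1)), (12, 1), (13, (-1)), (15, 1), (16, (-1)), (17, 1), (20, 1), (22, (-1)), (25, 1), (26, 1), (27, (-1))],
    [(5, (-1)), (12, (-1)), (16, 1)],
    [],
    [],
    [(3, (-1)), (5, 1), (8, 1), (9, (-1)), (10, (-1)), (13, 1), (14, (-1)), (15, (-1)), (16, (-1)), (17, 1), (18, (-1)), (19, 1), (20, (-1)), (21, 1), (22, (-1)), (26, (-1)), (27, (-1))],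
    [(1, (-1)), (2, (-1)), (3, (-1)), (5, (-1)), (7, (-1)), (8, 1), (9, 1), (10, 1), (14, (-1)), (16, 1), (18, 1), (19, 1), (21, (-1)), (22, 1), (23, (-1)), (24, (-1)), (26, 1), (27, (-1)), (28, (-1))],
    [(0, 1), (3, 1), (4, 1), (5, (-1)), (7, 1), (8, 1), (9, 1), (11, (-1)), (12, (-1)), (13, (-1)), (14, (-1)), (15, 1), (17, 1), (19, (-1)), (20, 1), (21, (-1)), (25, (-1)), (27, (-1)), (30, (-1))],
    [],
    [(0, (-1)), (1, (-1)), (2, 1), (4, (-1)), (6, (-1)), (8, 1), (9, 1), (11, 1), (17, 1)],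
    [],
    [(5, (-1)), (10, (-1)), (19, 1)],
    [(6, 1), (8, (-1)), (11, 1), (13, 1), (15, (-1)), (17, (-1))],
    [(0, (-1)), (2, (-1)), (6, (-1)), (26, 1)],
    [(1, (-1)), (2, (-1))],
    [(0, (-1)), (1, (-1)), (3, 1), (5, (-1)), (7, (-1)), (8, 1), (9, 1), (10, (-1)), (12, (-1)), (14, 1), (16, 1), (18, 1), (19, 1), (21, 1), (22, 1), (27, (-1))],
    [(0, (-1)), (6, (-1))],
    [(5, (-1))],
    [(8, 1), (9, (-1)), (11, 1), (13, 1), (17, (-1))],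
    [(0, 1), (1, 1), (3, (-1)), (4, (-1)), (5, 1), (6, 1), (9, 1), (10, 1), (12, (-1)), (16, (-1)), (22, (-1)), (26, (-1)), (27, (-1))],
    [(1, 1), (3, (-1))],
    [(1, 1), (3, 1), (4, (-1)), (5, (-1)), (6, 1), (7, (-1)), (9, 1), (10, (-1)), (12, 1), (14, 1), (16, 1), (18, 1), (22, 1), (27, (-1))],
    [(1, (-1)), (4, (-1)), (8, (-1))],
    [(1, (-1))],
    [(5, (-1)), (12, 1)],
    [(6, (-1)), (7, (-1)), (9, 1), (11, 1), (13, (-1)), (15, 1), (17, (-1))],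
    [(0, (-1)), (7, (-1)), (9, (-1)), (27, 1)]]

/-- part of the combinations -/
def threeCombs1 : List (List (ℕ × ℤ)) :=
  [[(0, (-1)), (1, 1), (4, (-1)), (7, (-1))],
    [(2, 1), (3, 1), (5, (-1)), (6, 1), (7, 1), (8, (-1)), (10, (-1)), (14, 1), (16, 1), (18, (-1)), (19, (-1)), (21, (-1)), (22, 1), (26, 1)],
    [(0, (-1)), (9, (-1))],
    [(0, 1)],
    [(1, (-1)), (4, 1)],
    [(5, 1), (10, (-1))]]

/-- the combinations -/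
def threeCombs : List (List (ℕ × ℤ)) := threeCombs0 ++ threeCombs1

/-- part of the representatives -/
def threeLvlW0_0 : List (List ℕ) :=
  [[0, 3],
    [],
    [3, 3],
    [5],
    [3, 2],
    [3, 3, 2],
    [3, 0, 3],
    [2],
    [3]]

/-- the representatives -/
def threeLvlW0_ : List (List ℕ) := threeLvlW0_0

/-- part of the representatives -/
def threeLvlW1_0 : List (List ℕ) :=
  [[0, 1, 2, 4, 4, 5, 5, 6, 7],
    [1],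
    []]

/-- the representatives -/
def threeLvlW1_ : List (List ℕ) := threeLvlW1_0

/-- part of the representatives -/
def threeLvlW2_0 : List (List ℕ) :=
  [[0, 0, 1, 2, 4, 5, 5, 6, 7],
    [0, 4, 5, 5, 6, 6, 7, 7],
    []]

/-- the representatives -/
def threeLvlW2_ : List (List ℕ) := threeLvlW2_0

/-- part of the representatives -/
def threeLvlW3_0 : List (List ℕ) :=
  [[],
    [1, 1, 2, 2, 4, 5, 6, 7, 7, 1, 4, 4, 5, 5, 7, 7],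
    [1, 2, 2, 4, 4, 5, 5, 6, 1, 4, 4, 5, 5, 7, 7],
    [1, 4, 4, 5, 5, 7, 7],
    [1, 2, 2, 4, 4, 5, 5, 6],
    [1, 1, 2, 2, 4, 5, 6, 7, 7],
    [1, 1, 2, 2, 4, 5, 6, 7, 7, 1, 1, 2, 2, 4, 5, 6, 7, 7],
    [1, 4, 4, 5, 5, 7, 7, 1, 2, 2, 4, 4, 5, 5, 6],
    [1, 1, 2, 2, 4, 5, 6, 7, 7, 1, 2, 2, 4, 4, 5, 5, 6]]

/-- the representatives -/
def threeLvlW3_ : List (List ℕ) := threeLvlW3_0

/-- part of the representatives -/
def threeLvlW4_0 : List (List ℕ) :=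
  [[2, 2, 5, 7, 7],
    [],
    [2, 2, 5, 7, 7, 2, 2, 5, 7, 7]]

/-- the representatives -/
def threeLvlW4_ : List (List ℕ) := threeLvlW4_0

/-- part of the representatives -/
def threeLvlW5_0 : List (List ℕ) :=
  [[],
    [6, 6],
    [6]]

/-- the representatives -/
def threeLvlW5_ : List (List ℕ) := threeLvlW5_0

/-- the chain -/
def threeChain : List (List ℤ × List (List ℕ)) := [([(-2), 0, 2, 0, 2, (-2), (-2), 2, (-2), 2, 0, 0, 0, 0, 2, 0, 0, 2, 0, 2, 0, 0, 0, 2], threeLvlW0_),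
  ([2, 0, 0, 0, 0, 2, 2, 2, (-2), 2, 0, 0, 0, 0, (-2), 2, (-2), 0, (-2), 0, 0, 0, 2, 2], threeLvlW1_),
  ([2, 0, 4, 0, 2, 4, (-2), (-2), 2, (-2), 0, 0, 2, 0, 4, 2, (-4), 0, 0, (-2), 0, 6, (-2), 2], threeLvlW2_),
  ([(-2), 2, 0, 2, 2, 0, 0, (-2), 0, 0, 2, 2, 0, 0, 0, 0, (-2), (-2), (-2), 0, 2, (-2), 0, 0], threeLvlW3_),
  ([0, (-2), 2, 2, 0, 0, 2, 0, 0, (-2), (-2), 2, 0, 0, 0, 2, 0, 2, 2, 0, 2, (-2), 0, 0], threeLvlW4_),
  ([(-2), (-2), 0, 0, 2, 0, 2, 0, 0, 2, 0, 2, 2, (-2), 0, 2, (-2), 0, 0, 0, 0, (-2), (-2), 0], threeLvlW5_)]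

/-- part of the generators as words -/
def threeWords0 : List (List ℕ) :=
  [[5, 6, 3, 1, 2, 3, 4, 1, 2, 3, 2, 1, 6, 3, 0, 2, 1, 0, 5, 1, 0, 1, 3, 5, 2, 3, 2, 1, 2, 0, 1, 4, 0, 1, 5, 4, 3, 2, 3, 1, 5, 1, 2, 0, 4, 0, 1, 2, 4, 1, 5, 3, 5, 3, 2, 5, 1, 4, 0, 3, 2, 4, 5, 4, 1, 0, 4, 0, 1, 5, 0, 1, 0, 2, 3, 2, 1, 0, 2, 1, 2, 0, 3, 2, 1, 0, 1, 2, 3, 1, 2, 4, 3, 2, 3, 2, 1, 2, 3, 2, 1, 0, 2, 1, 2, 0, 3, 2, 1, 0, 1, 2, 3, 1, 2, 4, 1, 2, 3, 2, 1, 0, 2, 1, 2, 0, 3, 2, 1, 0, 1, 2, 3, 1, 2, 4, 1, 2, 3, 2, 1, 0, 2, 1, 2, 0, 3, 2, 1, 0, 1, 2, 3, 1, 2, 3, 3, 3],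
    [1, 0, 1, 2, 3, 4, 3, 2, 3, 1, 2, 0, 1, 4, 3, 2, 6, 4, 3, 1, 3, 6, 5, 4, 6, 3, 1, 0, 1, 4, 5, 2, 1, 0, 4, 1, 4, 5, 0, 1, 2, 3, 2, 4, 6, 5, 0, 5, 0, 6, 2, 1, 2, 0, 1, 0, 2, 1, 4, 3, 2, 4, 1, 4, 1, 0, 2, 1, 0, 3, 1, 5, 2, 4, 0, 4, 3, 1, 5, 2, 1, 5, 4, 1, 0, 1, 5, 0, 3, 1, 0, 3, 3],
    [6, 1, 5, 0, 1, 2, 3, 4, 1, 2, 3, 2, 1, 0, 1, 6, 4, 1, 0, 1, 5, 0, 3, 1, 0, 1, 2, 3, 2, 1, 0, 2, 1, 2, 0, 3, 2, 1, 0, 1, 2, 3, 1, 2, 6, 3, 6, 1, 2, 3, 2, 3, 1, 4, 3, 2, 0, 1, 4, 3, 1, 2, 3, 2, 1, 0, 2, 1, 2, 0, 3, 2, 1, 0, 1, 2, 3, 1, 2, 4, 3, 2, 1, 3, 0, 2, 1, 0, 5, 1, 0, 5, 1, 0, 2, 4, 1, 3, 5, 2, 1, 2, 3, 2, 1, 0, 2, 1, 2, 0, 3, 2, 1, 0, 1, 2, 3, 1, 2, 4, 3, 4, 3, 1, 2, 3, 2, 1, 0, 2, 1, 2, 0, 3, 2, 1, 0, 1, 2, 3, 1, 2, 3, 3, 1, 5, 6, 1, 5, 6, 1, 5, 6, 1, 5, 6, 1, 5, 6],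
    [0, 1, 5, 3, 4, 0, 1, 2, 3, 2, 0, 1, 6, 2, 4, 1, 5, 3, 2, 5, 2, 1, 0, 1, 2, 4, 3, 5, 1, 2, 3, 2, 4, 1, 4, 3, 5, 6, 0, 6, 2, 1, 4, 5, 3, 5, 2, 0, 1, 4, 5, 3, 2, 0, 1, 6, 1, 2, 4, 5, 1, 0, 1, 5, 2, 1, 3, 2, 3, 6, 3, 4, 3, 0, 2, 3, 1, 2, 3, 2, 4, 1, 5, 3, 2, 4, 3, 5, 0, 1, 0, 1, 5, 0, 1, 2, 0, 1, 3, 4, 0, 1, 3, 2, 6, 3, 2, 5, 6, 3, 1, 4, 1, 0, 1, 5, 0, 3, 1, 0, 1, 2, 3, 2, 1, 0, 2, 1, 2, 0, 3, 2, 1, 0, 1, 2, 3, 1, 2, 3, 4, 3, 1, 2, 3, 2, 1, 0, 2, 1, 2, 0, 3, 2, 1, 0, 1, 2, 3, 1, 2, 3, 3],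
    [2, 1, 6, 3, 2, 1, 5, 3, 4, 2, 3, 1, 2, 1, 0, 1, 6, 1, 0, 1, 5, 0, 3, 1, 0, 4, 1, 0, 1, 5, 0, 3, 1, 0, 3, 1, 2, 0, 2, 3, 2, 1, 0, 2, 1, 2, 0, 3, 2, 1, 0, 1, 2, 3, 1, 2, 4, 1, 0, 1, 5, 0, 3, 6, 0, 2, 3, 4, 3, 6, 3, 1, 6, 4, 5, 0, 4, 2, 3, 2, 6, 1, 0, 4, 1, 2, 3, 5, 1, 4, 2, 6, 0, 6, 3, 2, 4, 3, 5, 3, 1, 3, 5, 2, 1, 5, 4, 1, 0, 1, 5, 0, 3, 1, 0, 3, 3]]

/-- part of the generators as words -/
def threeWords1 : List (List ℕ) :=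
  [[3, 3, 1, 5, 6, 1, 5, 6, 1, 5, 6, 1, 5, 6, 1, 5, 6],
    [5, 6, 1, 2, 3, 2, 0, 1, 6, 1, 2, 3, 2, 1, 0, 2, 1, 2, 0, 3, 2, 1, 0, 1, 2, 3, 1, 2, 4, 1, 2, 3, 2, 1, 0, 2, 1, 2, 0, 3, 2, 1, 0, 1, 2, 3, 1, 2, 3, 4, 0, 1, 5, 0, 3, 1, 0, 5, 2, 1, 0, 1, 2, 4, 3, 5, 1, 2, 3, 2, 4, 1, 4, 3, 5, 6, 0, 6, 2, 1, 4, 5, 3, 5, 2, 0, 1, 4, 5, 3, 2, 0, 1, 3, 1, 2, 3, 2, 1, 0, 2, 1, 2, 0, 3, 2, 1, 0, 1, 2, 3, 1, 2, 4, 1, 2, 3, 5, 1, 2, 6, 1, 5, 3, 4, 2, 4, 1, 2, 3, 5, 4, 6, 1, 3, 4, 1, 5, 2, 0, 1, 3, 5, 2, 1, 4, 6, 4, 0, 1, 5, 0, 3, 1, 0, 1, 3, 1, 2, 3, 2, 1, 0, 2, 1, 2, 0, 3, 2, 1, 0, 1, 2, 3, 1, 2, 4, 3, 3],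
    [1, 0, 1, 5, 0, 3, 1, 0, 2, 3, 2, 4, 1, 4, 3, 5, 6, 0, 6, 2, 1, 4, 5, 3, 5, 2, 0, 1, 5, 1, 2, 3, 0, 4, 1, 0, 1, 4, 2, 1, 5, 3, 1, 4, 2, 0, 3, 0, 1, 2, 0, 1, 5, 0, 1, 0, 2, 3, 2, 1, 0, 2, 1, 2, 0, 3, 2, 1, 0, 1, 2, 3, 1, 2, 3],
    [3, 4, 3, 2, 3, 1, 2, 0, 1, 6, 3, 5, 2, 1, 0, 1, 5, 0, 1, 0, 1, 2, 3, 2, 3, 0, 3, 4, 3, 1, 5, 2, 6, 0, 5, 6, 1, 2, 0, 1, 5, 0, 3, 1, 5, 2, 1, 2, 3, 2, 1, 0, 2, 1, 2, 0, 3, 2, 1, 0, 1, 2, 3, 1, 2, 4, 3, 1, 2, 3, 2, 1, 0, 2, 1, 2, 0, 3, 2, 1, 0, 1, 2, 3, 1, 2, 3, 4],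
    [5, 3, 4, 1, 2, 3, 2, 0, 1, 6, 4, 3, 1, 2, 3, 2, 1, 0, 2, 1, 2, 0, 3, 2, 1, 0, 1, 2, 3, 1, 2, 1, 5, 0, 2, 0, 4, 5, 1, 0, 2, 1, 5, 0, 3, 1, 2, 6, 3, 0, 2, 5, 6, 4, 3, 2, 6, 5, 1, 6, 1, 0, 6, 5, 2, 1, 4, 3, 1, 2, 3, 2, 1, 0, 2, 1, 2, 0, 3, 2, 1, 0, 1, 2, 3, 1, 2, 5, 2, 3, 2, 1, 2, 0, 1, 4, 0, 1, 5, 6, 5, 6, 5, 0, 3, 2, 1, 3, 5, 1, 2, 1, 2, 4, 0, 1, 5, 0, 3, 1, 0, 1, 3, 1, 2, 3, 2, 1, 0, 2, 1, 2, 0, 3, 2, 1, 0, 1, 2, 3, 1, 2, 4]]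

/-- part of the generators as words -/
def threeWords2 : List (List ℕ) :=
  [[1, 5, 6, 1, 2, 3, 4, 3, 2, 3, 1, 2, 0, 1, 6, 5, 3, 0, 1, 3, 0, 6, 4, 2, 6, 5, 3, 2, 1, 4, 3, 4, 6, 5, 2, 6, 3, 1, 4, 5, 0, 2, 0, 1, 0, 5, 1, 0, 1, 2, 3, 4, 2, 5, 3, 0, 2, 1, 2, 0, 5, 4, 3, 2, 4, 1, 2, 0, 1, 0, 6, 1, 5, 0, 2, 4, 6, 3, 2, 1, 0, 5, 2, 6, 5, 3, 1, 4, 6, 2, 5, 1, 3, 6, 2, 0, 1, 5, 0, 1, 0, 1, 3, 1, 2, 3, 2, 1, 0, 2, 1, 2, 0, 3, 2, 1, 0, 1, 2, 3, 1, 2, 4, 1, 2, 3, 2, 1, 0, 2, 1, 2, 0, 3, 2, 1, 0, 1, 2, 3, 1, 2, 3]]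

/-- the generators as words -/
def threeWords : List (List ℕ) := threeWords0 ++ threeWords1 ++ threeWords2

/-- the certificate -/
def threeCert : Cert where
  p := 3
  n := 8
  ng := 11
  M := 36
  rels := threeRels
  eqs := threeEqs
  vecs := threeVecs
  gauge := threeGauge
  combs := threeCombs

end Cfsg.Agent.Lie.SuzukiMult
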