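import Cfsg.Agent.Lib.Lie.SuzukiMult.Defs
import Cfsg.Agent.Lib.Lie.SuzukiMult.GensData
import Cfsg.Agent.Lib.Lie.SuzukiMult.ThreeData
import Cfsg.Agent.Lib.Lie.ConwayZeroMult.Pieces

/-!
The checks for the part at one prime (three) of the multiplier of the Suzuki group: the derivations and the combinations.
-/

set_option autoImplicit false
set_option maxRecDepth 100000
set_option Elab.async false

namespace Cfsg.Agent.Lie.SuzukiMult

open CentralRewrite ConwayZeroMult

theorem three_series : seriesOK threeCert.p threeCert.n threeCert.M threeCert.rels = true := by decide +kernel

theorem three_pairs :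
    (List.range threeCert.eqs.length).all (fun i => pairOK threeCert.rels (threeCert.eqs.getD i ([], [], []))) = true := by
  decide +kernel

theorem three_vec : vecOK threeCert.p threeCert.rels.length threeCert.eqs threeCert.vecs = true := by decide +kernel

theorem three_kill0 : ((List.range' 0 18).all fun b =>
    killOK threeCert.p threeCert.rels.length threeCert.ng threeCert.rels threeCert.gauge threeCert.vecs threeCert.combs b) = true := by
  decide +kernel

theorem three_kill1 : ((List.range' 18 18).all fun b =>
    killOK threeCert.p threeCert.rels.length threeCert.ng threeCert.rels threeCert.gauge threeCert.vecs threeCert.combs b) = true := by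
  decide +kernel

theorem three_valid : threeCert.Valid where
  series := three_series
  pairs := three_pairs
  vec := three_vec
  veclen := by decide +kernel
  letters := by decide +kernel
  gaugeOK := by decide +kernel
  nng := by decide +kernel
  kill := fun b hb => by
    change b < 36 at hb
    obtain ⟨j, hj, h1, h2⟩ : ∃ j < 2, 18 * j ≤ b ∧ b < 18 * j + 18 := ⟨b / 18, by omega, by omega, by omega⟩
    interval_cases j
    · exact List.all_eq_true.1 three_kill0 b (List.mem_range'_1.2 ⟨by omega, by omega⟩)
    · exact List.all_eq_true.1 three_kill1 b (List.mem_range'_1.2 ⟨by omega, by omega⟩)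

end Cfsg.Agent.Lie.SuzukiMult
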