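import Cfsg.Agent.Lib.Lie.CentralRewrite.Main

/-!
Data for the part at the prime 2 of the multiplier of the sixfold cover of the Suzuki group: matrices,
relations, pairs of derivations and combinations.
-/

set_option autoImplicit false
set_option maxRecDepth 100000

namespace Cfsg.Agent.Lie.SuzukiMult

open CentralRewrite

/-- part of the generators and their transposes -/
def twoW0 : List (List (List (ℕ × ℤ)) × List (List (ℕ × ℤ))) :=
  [([[(0, 1), (0, 3), (0, (-3)), (0, 1), (0, 1), (0, 1), (0, 1), (0, 1), (0, 1), (0, 1), (0, (-3)), (0, 1), (0, 3), (0, (-1)), (0, (-1)), (0, 3), (0, (-1)), (0, 1), (0, 1), (0, (-1)), (0, 1), (0, 1), (0, (-1)), (0, 1)],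
      [(0, 1), (0, (-1)), (0, (-3)), (0, (-3)), (0, 1), (0, 1), (0, (-3)), (0, 1), (0, 1), (0, (-3)), (0, 1), (0, 1), (0, (-1)), (0, (-1)), (0, (-1)), (0, (-1)), (0, 3), (0, 1), (0, 1), (0, (-1)), (0, 1), (0, 1), (0, (-1)), (0, 1)],
      [(0, 1), (0, (-1)), (0, 1), (0, (-3)), (0, 1), (0, 1), (0, 1), (0, 1), (0, 1), (0, 1), (0, 1), (0, 1), (0, 3), (0, 3), (0, (-1)), (0, (-1)), (0, (-1)), (0, (-3)), (0, 1), (0, (-1)), (0, 1), (0, 1), (0, 3), (0, 1)],
      [(0, 1), (0, 3), (0, 1), (0, (-3)), (0, 1), (0, (-3)), (0, 1), (0, 1), (0, (-3)), (0, 1), (0, 1), (0, 1), (0, (-1)), (0, (-1)), (0, (-1)), (0, (-1)), (0, (-1)), (0, 1), (0, 1), (0, (-1)), (0, 1), (0, 1), (0, (-1)), (0, (-3))],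
      [(0, (-1)), (0, 1), (0, (-1)), (0, (-1)), (0, (-1)), (0, (-1)), (0, (-1)), (0, (-1)), (0, (-1)), (0, (-1)), (0, (-1)), (0, (-1)), (0, 1), (0, 1), (0, 1), (0, 1), (0, 1), (0, (-1)), (0, 3), (0, (-3)), (0, (-1)), (0, (-5)), (0, 1), (0, (-1))],
      [(0, (-3)), (0, 3), (0, 1), (0, 1), (0, 1), (0, 1), (0, 1), (0, 1), (0, 1), (0, 1), (0, 1), (0, (-3)), (0, (-1)), (0, (-1)), (0, (-1)), (0, (-1)), (0, 3), (0, 1), (0, 1), (0, (-1)), (0, 1), (0, 1), (0, 3), (0, 1)],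
      [(0, 1), (0, (-1)), (0, 1), (0, (-3)), (0, 1), (0, 1), (0, 1), (0, 1), (0, 1), (0, 1), (0, (-3)), (0, (-3)), (0, (-1)), (0, (-1)), (0, 3), (0, (-1)), (0, (-1)), (0, 1), (0, 1), (0, (-1)), (0, (-3)), (0, 1), (0, (-1)), (0, 1)],
      [(0, (-1)), (0, 1), (0, (-1)), (0, (-1)), (0, (-1)), (0, (-1)), (0, 3), (0, 3), (0, 3), (0, (-1)), (0, (-1)), (0, 3), (0, (-3)), (0, 1), (0, 1), (0, 1), (0, 1), (0, (-1)), (0, (-1)), (0, 1), (0, (-1)), (0, (-1)), (0, 1), (0, (-1))],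
      [(0, (-1)), (0, 1), (0, (-1)), (0, (-1)), (0, 3), (0, (-1)), (0, (-1)), (0, (-1)), (0, 3), (0, 3), (0, 3), (0, (-1)), (0, 1), (0, 1), (0, 1), (0, 1), (0, 1), (0, (-1)), (0, (-1)), (0, 1), (0, (-1)), (0, (-1)), (0, (-3)), (0, (-1))],
      [(0, (-1)), (0, 1), (0, (-1)), (0, (-1)), (0, (-1)), (0, 3), (0, (-1)), (0, (-1)), (0, (-1)), (0, 3), (0, (-1)), (0, 3), (0, 1), (0, 1), (0, 1), (0, (-3)), (0, 1), (0, 3), (0, (-1)), (0, 1), (0, (-1)), (0, (-1)), (0, 1), (0, (-1))],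
      [(0, (-3)), (0, (-1)), (0, (-3)), (0, 1), (0, 1), (0, 1), (0, 1), (0, 1), (0, (-3)), (0, 1), (0, 1), (0, 1), (0, (-1)), (0, (-1)), (0, 3), (0, (-1)), (0, (-1)), (0, (-3)), (0, 1), (0, (-1)), (0, 1), (0, 1), (0, (-1)), (0, 1)],
      [(0, 1), (0, (-1)), (0, 1), (0, 1), (0, 1), (0, 1), (0, 1), (0, 1), (0, (-3)), (0, 1), (0, 1), (0, 1), (0, (-1)), (0, 3), (0, (-1)), (0, 3), (0, 3), (0, 1), (0, 1), (0, (-1)), (0, (-3)), (0, 1), (0, (-1)), (0, 1)],
      [(0, 1), (0, 3), (0, 1), (0, 1), (0, (-3)), (0, 1), (0, (-3)), (0, 1), (0, 1), (0, 1), (0, 1), (0, 1), (0, (-1)), (0, (-1)), (0, (-1)), (0, (-1)), (0, (-1)), (0, (-3)), (0, 1), (0, (-1)), (0, (-3)), (0, 1), (0, (-1)), (0, 1)],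
      [(0, 1), (0, 3), (0, 1), (0, 1), (0, 1), (0, 1), (0, 1), (0, (-3)), (0, 1), (0, (-3)), (0, 1), (0, 1), (0, (-1)), (0, 3), (0, 3), (0, (-1)), (0, (-1)), (0, 1), (0, 1), (0, (-1)), (0, 1), (0, 1), (0, (-1)), (0, 1)],
      [(0, 1), (0, (-1)), (0, (-3)), (0, 1), (0, 1), (0, (-3)), (0, 1), (0, (-3)), (0, 1), (0, 1), (0, 1), (0, 1), (0, (-1)), (0, (-1)), (0, (-1)), (0, (-1)), (0, (-1)), (0, 1), (0, 1), (0, (-1)), (0, (-3)), (0, 1), (0, 3), (0, 1)],
      [(0, (-3)), (0, (-1)), (0, 1), (0, (-3)), (0, (-3)), (0, 1), (0, 1), (0, (-3)), (0, 1), (0, 1), (0, 1), (0, 1), (0, (-1)), (0, (-1)), (0, (-1)), (0, 3), (0, (-1)), (0, 1), (0, 1), (0, (-1)), (0, 1), (0, 1), (0, (-1)), (0, 1)],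
      [(0, (-1)), (0, 1), (0, (-1)), (0, (-1)), (0, (-1)), (0, (-1)), (0, (-1)), (0, 3), (0, (-1)), (0, (-1)), (0, 3), (0, (-1)), (0, 1), (0, 1), (0, 1), (0, 1), (0, (-3)), (0, 3), (0, (-1)), (0, 1), (0, (-1)), (0, (-1)), (0, 1), (0, 3)],
      [(0, (-1)), (0, 1), (0, (-1)), (0, (-1)), (0, 3), (0, 3), (0, (-1)), (0, (-1)), (0, (-1)), (0, (-1)), (0, (-1)), (0, (-1)), (0, (-3)), (0, 1), (0, (-3)), (0, 1), (0, (-3)), (0, (-1)), (0, (-1)), (0, 1), (0, (-1)), (0, (-1)), (0, 1), (0, (-1))],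
      [(0, 1), (0, (-1)), (0, 1), (0, 1), (0, 1), (0, 1), (0, 1), (0, 1), (0, 1), (0, 1), (0, 1), (0, 1), (0, (-1)), (0, (-1)), (0, (-1)), (0, (-1)), (0, (-1)), (0, 1), (0, (-3)), (0, (-5)), (0, 1), (0, (-3)), (0, (-1)), (0, 1)],
      [(0, (-3)), (0, (-1)), (0, 1), (0, 1), (0, 1), (0, (-3)), (0, (-3)), (0, 1), (0, 1), (0, 1), (0, (-3)), (0, 1), (0, (-1)), (0, 3), (0, (-1)), (0, (-1)), (0, (-1)), (0, 1), (0, 1), (0, (-1)), (0, 1), (0, 1), (0, (-1)), (0, 1)],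
      [(0, (-3)), (0, (-1)), (0, 1), (0, 1), (0, 1), (0, 1), (0, 1), (0, 1), (0, 1), (0, (-3)), (0, 1), (0, 1), (0, 3), (0, (-1)), (0, (-1)), (0, (-1)), (0, (-1)), (0, 1), (0, 1), (0, (-1)), (0, (-3)), (0, 1), (0, (-1)), (0, (-3))],
      [(0, 1), (0, (-1)), (0, (-3)), (0, 1), (0, (-3)), (0, 1), (0, 1), (0, 1), (0, 1), (0, 1), (0, 1), (0, (-3)), (0, (-1)), (0, 3), (0, (-1)), (0, (-1)), (0, (-1)), (0, 1), (0, 1), (0, (-1)), (0, 1), (0, 1), (0, (-1)), (0, (-3))],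
      [(0, (-1)), (0, 1), (0, (-1)), (0, (-1)), (0, (-1)), (0, (-1)), (0, 3), (0, (-1)), (0, (-1)), (0, (-1)), (0, (-1)), (0, (-1)), (0, 1), (0, 1), (0, (-3)), (0, (-3)), (0, 1), (0, (-1)), (0, (-1)), (0, 1), (0, (-1)), (0, (-1)), (0, (-3)), (0, 3)],
      [(0, (-1)), (0, 1), (0, (-1)), (0, (-1)), (0, (-1)), (0, (-1)), (0, (-1)), (0, (-1)), (0, (-1)), (0, (-1)), (0, (-1)), (0, (-1)), (0, 1), (0, 1), (0, 1), (0, 1), (0, 1), (0, (-1)), (0, (-5)), (0, (-3)), (0, (-1)), (0, 3), (0, 1), (0, (-1))]],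
     [[(0, 1), (0, 1), (0, 1), (0, 1), (0, (-1)), (0, (-3)), (0, 1), (0, (-1)), (0, (-1)), (0, (-1)), (0, (-3)), (0, 1), (0, 1), (0, 1), (0, 1), (0, (-3)), (0, (-1)), (0, (-1)), (0, 1), (0, (-3)), (0, (-3)), (0, 1), (0, (-1)), (0, (-1))],
      [(0, 3), (0, (-1)), (0, (-1)), (0, 3), (0, 1), (0, 3), (0, (-1)), (0, 1), (0, 1), (0, 1), (0, (-1)), (0, (-1)), (0, 3), (0, 3), (0, (-1)), (0, (-1)), (0, 1), (0, 1), (0, (-1)), (0, (-1)), (0, (-1)), (0, (-1)), (0, 1), (0, 1)],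
      [(0, (-3)), (0, (-3)), (0, 1), (0, 1), (0, (-1)), (0, 1), (0, 1), (0, (-1)), (0, (-1)), (0, (-1)), (0, (-3)), (0, 1), (0, 1), (0, 1), (0, (-3)), (0, 1), (0, (-1)), (0, (-1)), (0, 1), (0, 1), (0, 1), (0, (-3)), (0, (-1)), (0, (-1))],
      [(0, 1), (0, (-3)), (0, (-3)), (0, (-3)), (0, (-1)), (0, 1), (0, (-3)), (0, (-1)), (0, (-1)), (0, (-1)), (0, 1), (0, 1), (0, 1), (0, 1), (0, 1), (0, (-3)), (0, (-1)), (0, (-1)), (0, 1), (0, 1), (0, 1), (0, 1), (0, (-1)), (0, (-1))],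
      [(0, 1), (0, 1), (0, 1), (0, 1), (0, (-1)), (0, 1), (0, 1), (0, (-1)), (0, 3), (0, (-1)), (0, 1), (0, 1), (0, (-3)), (0, 1), (0, 1), (0, (-3)), (0, (-1)), (0, 3), (0, 1), (0, 1), (0, 1), (0, (-3)), (0, (-1)), (0, (-1))],
      [(0, 1), (0, 1), (0, 1), (0, (-3)), (0, (-1)), (0, 1), (0, 1), (0, (-1)), (0, (-1)), (0, 3), (0, 1), (0, 1), (0, 1), (0, 1), (0, (-3)), (0, 1), (0, (-1)), (0, 3), (0, 1), (0, (-3)), (0, 1), (0, 1), (0, (-1)), (0, (-1))],
      [(0, 1), (0, (-3)), (0, 1), (0, 1), (0, (-1)), (0, 1), (0, 1), (0, 3), (0, (-1)), (0, (-1)), (0, 1), (0, 1), (0, (-3)), (0, 1), (0, 1), (0, 1), (0, (-1)), (0, (-1)), (0, 1), (0, (-3)), (0, 1), (0, 1), (0, 3), (0, (-1))],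
      [(0, 1), (0, 1), (0, 1), (0, 1), (0, (-1)), (0, 1), (0, 1), (0, 3), (0, (-1)), (0, (-1)), (0, 1), (0, 1), (0, 1), (0, (-3)), (0, (-3)), (0, (-3)), (0, 3), (0, (-1)), (0, 1), (0, 1), (0, 1), (0, 1), (0, (-1)), (0, (-1))],
      [(0, 1), (0, 1), (0, 1), (0, (-3)), (0, (-1)), (0, 1), (0, 1), (0, 3), (0, 3), (0, (-1)), (0, (-3)), (0, (-3)), (0, 1), (0, 1), (0, 1), (0, 1), (0, (-1)), (0, (-1)), (0, 1), (0, 1), (0, 1), (0, 1), (0, (-1)), (0, (-1))],
      [(0, 1), (0, (-3)), (0, 1), (0, 1), (0, (-1)), (0, 1), (0, 1), (0, (-1)), (0, 3), (0, 3), (0, 1), (0, 1), (0, 1), (0, (-3)), (0, 1), (0, 1), (0, (-1)), (0, (-1)), (0, 1), (0, 1), (0, (-3)), (0, 1), (0, (-1)), (0, (-1))],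
      [(0, (-3)), (0, 1), (0, 1), (0, 1), (0, (-1)), (0, 1), (0, (-3)), (0, (-1)), (0, 3), (0, (-1)), (0, 1), (0, 1), (0, 1), (0, 1), (0, 1), (0, 1), (0, 3), (0, (-1)), (0, 1), (0, (-3)), (0, 1), (0, 1), (0, (-1)), (0, (-1))],
      [(0, 1), (0, 1), (0, 1), (0, 1), (0, (-1)), (0, (-3)), (0, (-3)), (0, 3), (0, (-1)), (0, 3), (0, 1), (0, 1), (0, 1), (0, 1), (0, 1), (0, 1), (0, (-1)), (0, (-1)), (0, 1), (0, 1), (0, 1), (0, (-3)), (0, (-1)), (0, (-1))],
      [(0, 3), (0, (-1)), (0, 3), (0, (-1)), (0, 1), (0, (-1)), (0, (-1)), (0, (-3)), (0, 1), (0, 1), (0, (-1)), (0, (-1)), (0, (-1)), (0, (-1)), (0, (-1)), (0, (-1)), (0, 1), (0, (-3)), (0, (-1)), (0, (-1)), (0, 3), (0, (-1)), (0, 1), (0, 1)],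
      [(0, (-1)), (0, (-1)), (0, 3), (0, (-1)), (0, 1), (0, (-1)), (0, (-1)), (0, 1), (0, 1), (0, 1), (0, (-1)), (0, 3), (0, (-1)), (0, 3), (0, (-1)), (0, (-1)), (0, 1), (0, 1), (0, (-1)), (0, 3), (0, (-1)), (0, 3), (0, 1), (0, 1)],
      [(0, (-1)), (0, (-1)), (0, (-1)), (0, (-1)), (0, 1), (0, (-1)), (0, 3), (0, 1), (0, 1), (0, 1), (0, 3), (0, (-1)), (0, (-1)), (0, 3), (0, (-1)), (0, (-1)), (0, 1), (0, (-3)), (0, (-1)), (0, (-1)), (0, (-1)), (0, (-1)), (0, (-3)), (0, 1)],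
      [(0, 3), (0, (-1)), (0, (-1)), (0, (-1)), (0, 1), (0, (-1)), (0, (-1)), (0, 1), (0, 1), (0, (-3)), (0, (-1)), (0, 3), (0, (-1)), (0, (-1)), (0, (-1)), (0, 3), (0, 1), (0, 1), (0, (-1)), (0, (-1)), (0, (-1)), (0, (-1)), (0, (-3)), (0, 1)],
      [(0, (-1)), (0, 3), (0, (-1)), (0, (-1)), (0, 1), (0, 3), (0, (-1)), (0, 1), (0, 1), (0, 1), (0, (-1)), (0, 3), (0, (-1)), (0, (-1)), (0, (-1)), (0, (-1)), (0, (-3)), (0, (-3)), (0, (-1)), (0, (-1)), (0, (-1)), (0, (-1)), (0, 1), (0, 1)],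
      [(0, 1), (0, 1), (0, (-3)), (0, 1), (0, (-1)), (0, 1), (0, 1), (0, (-1)), (0, (-1)), (0, 3), (0, (-3)), (0, 1), (0, (-3)), (0, 1), (0, 1), (0, 1), (0, 3), (0, (-1)), (0, 1), (0, 1), (0, 1), (0, 1), (0, (-1)), (0, (-1))],
      [(0, 1), (0, 1), (0, 1), (0, 1), (0, 3), (0, 1), (0, 1), (0, (-1)), (0, (-1)), (0, (-1)), (0, 1), (0, 1), (0, 1), (0, 1), (0, 1), (0, 1), (0, (-1)), (0, (-1)), (0, (-3)), (0, 1), (0, 1), (0, 1), (0, (-1)), (0, (-5))],
      [(0, (-1)), (0, (-1)), (0, (-1)), (0, (-1)), (0, (-3)), (0, (-1)), (0, (-1)), (0, 1), (0, 1), (0, 1), (0, (-1)), (0, (-1)), (0, (-1)), (0, (-1)), (0, (-1)), (0, (-1)), (0, 1), (0, 1), (0, (-5)), (0, (-1)), (0, (-1)), (0, (-1)), (0, 1), (0, (-3))],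
      [(0, 1), (0, 1), (0, 1), (0, 1), (0, (-1)), (0, 1), (0, (-3)), (0, (-1)), (0, (-1)), (0, (-1)), (0, 1), (0, (-3)), (0, (-3)), (0, 1), (0, (-3)), (0, 1), (0, (-1)), (0, (-1)), (0, 1), (0, 1), (0, (-3)), (0, 1), (0, (-1)), (0, (-1))],
      [(0, 1), (0, 1), (0, 1), (0, 1), (0, (-5)), (0, 1), (0, 1), (0, (-1)), (0, (-1)), (0, (-1)), (0, 1), (0, 1), (0, 1), (0, 1), (0, 1), (0, 1), (0, (-1)), (0, (-1)), (0, (-3)), (0, 1), (0, 1), (0, 1), (0, (-1)), (0, 3)],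
      [(0, (-1)), (0, (-1)), (0, 3), (0, (-1)), (0, 1), (0, 3), (0, (-1)), (0, 1), (0, (-3)), (0, 1), (0, (-1)), (0, (-1)), (0, (-1)), (0, (-1)), (0, 3), (0, (-1)), (0, 1), (0, 1), (0, (-1)), (0, (-1)), (0, (-1)), (0, (-1)), (0, (-3)), (0, 1)],
      [(0, 1), (0, 1), (0, 1), (0, (-3)), (0, (-1)), (0, 1), (0, 1), (0, (-1)), (0, (-1)), (0, (-1)), (0, 1), (0, 1), (0, 1), (0, 1), (0, 1), (0, 1), (0, 3), (0, (-1)), (0, 1), (0, 1), (0, (-3)), (0, (-3)), (0, 3), (0, (-1))]]),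
    ([[(0, 2), (1, 2), (0, 2), (0, (-2)), (3, 2), (1, 2), (0, 2), (0, 2), (0, 2), (0, (-4)), (1, 2), (2, (-2)), (3, (-2))],
      [(1, 2), (3, (-2)), (0, (-2)), (0, (-2)), (1, (-2)), (4, (-2)), (0, 2), (1, 2), (0, (-2)), (0, 4), (0, 2), (0, (-2)), (0, 2)],
      [(1, (-2)), (3, 2), (0, (-2)), (0, (-2)), (1, (-2)), (0, 4), (3, 2), (0, 2), (1, (-2)), (0, 2), (1, 2), (0, (-2)), (0, (-2))],
      [(0, (-2)), (1, 2), (0, (-2)), (0, (-2)), (3, 2), (1, 2), (0, 2), (0, 2), (0, (-2)), (2, (-2)), (2, 2), (1, 4), (1, 2)],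
      [(1, 2), (3, (-2)), (0, 2), (0, (-2)), (1, (-2)), (4, 2), (0, (-2)), (1, 2), (0, 2), (1, 2), (0, 2), (0, (-2)), (0, (-4))],
      [(1, (-2)), (2, 4), (0, (-2)), (0, 2), (0, (-2)), (1, (-2)), (4, (-2)), (0, 2), (1, (-2)), (0, 2), (1, (-2)), (0, 2), (0, 2)],
      [(0, 2), (1, (-2)), (0, (-2)), (0, 2), (3, 2), (1, (-2)), (0, 2), (0, 2), (0, (-2)), (2, 2), (2, (-2)), (0, 4), (2, 2)],
      [(0, (-2)), (1, 2), (0, (-2)), (0, 2), (0, 4), (2, (-2)), (1, (-2)), (0, 2), (0, 2), (0, 2), (2, 2), (2, 2), (3, (-2))],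
      [(0, (-2)), (1, 2), (0, 2), (0, 2), (1, (-4)), (1, 2), (1, (-2)), (0, 2), (0, (-2)), (0, (-2)), (2, (-2)), (2, (-2)), (3, (-2))],
      [(1, 2), (3, 2), (0, (-2)), (0, (-2)), (1, 2), (1, (-4)), (2, (-2)), (0, (-2)), (1, (-2)), (0, 2), (1, 2), (0, 2), (0, 2)],
      [(1, 2), (0, (-4)), (2, 2), (0, (-2)), (0, 2), (1, (-2)), (4, (-2)), (0, 2), (1, 2), (0, 2), (1, (-2)), (0, 2), (0, (-2))],
      [(1, (-2)), (1, (-4)), (1, (-2)), (0, (-2)), (0, (-2)), (1, 2), (4, (-2)), (0, (-2)), (1, 2), (0, 2), (1, (-2)), (0, (-2)), (0, (-2))],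
      [(0, (-2)), (1, 2), (0, (-2)), (0, (-2)), (3, 2), (0, (-4)), (0, (-2)), (0, (-2)), (0, (-2)), (0, 2), (2, 2), (2, (-2)), (3, 2)],
      [(1, (-2)), (3, 2), (0, 2), (0, (-2)), (1, 2), (2, (-4)), (1, (-2)), (0, 2), (1, 2), (0, (-2)), (1, 2), (0, 2), (0, (-2))],
      [(0, 2), (1, (-2)), (0, (-2)), (0, (-2)), (3, 2), (1, (-2)), (0, 2), (0, (-2)), (0, 2), (2, (-2)), (0, (-4)), (1, 2), (3, (-2))],
      [(0, (-2)), (0, (-4)), (0, (-2)), (0, 2), (0, (-2)), (3, 2), (1, (-2)), (0, (-2)), (0, 2), (0, (-2)), (2, 2), (2, 2), (3, (-2))],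
      [(1, 2), (3, 2), (0, 2), (0, (-2)), (0, 4), (0, 2), (4, 2), (0, 2), (1, 2), (0, 2), (1, (-2)), (0, (-2)), (0, 2)],
      [(0, 2), (1, 2), (0, (-2)), (0, (-2)), (3, (-2)), (1, (-2)), (0, (-2)), (0, 2), (0, (-2)), (1, 4), (0, (-2)), (2, (-2)), (3, (-2))],
      [(0, (-2)), (1, (-2)), (0, (-2)), (0, (-2)), (3, (-2)), (1, 2), (0, 2), (0, (-2)), (0, (-2)), (2, 2), (2, (-2)), (2, 4), (0, (-2))],
      [(1, (-2)), (3, 2), (0, 2), (0, 2), (1, (-2)), (4, (-2)), (0, (-2)), (0, (-4)), (0, 2), (0, 2), (1, 2), (0, (-2)), (0, 2)],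
      [(0, 4), (0, (-2)), (3, 2), (0, (-2)), (0, (-2)), (1, (-2)), (4, 2), (0, (-2)), (1, 2), (0, (-2)), (1, (-2)), (0, 2), (0, 2)],
      [(0, 2), (1, 2), (0, (-2)), (0, 2), (2, 4), (0, 2), (1, 2), (0, (-2)), (0, (-2)), (0, (-2)), (2, 2), (2, 2), (3, (-2))],
      [(0, (-2)), (1, (-2)), (0, (-2)), (0, 2), (3, 2), (1, 2), (0, (-2)), (0, 2), (0, 2), (2, (-2)), (1, (-4)), (0, (-2)), (3, (-2))],
      [(1, (-2)), (3, (-2)), (0, (-2)), (0, 2), (1, 2), (3, 4), (0, 2), (0, 2), (1, 2), (0, 2), (1, 2), (0, 2), (0, 2)]],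
     [[(0, 2), (2, (-2)), (2, 2), (0, (-2)), (0, (-2)), (3, (-2)), (1, 2), (0, (-2)), (1, 2), (0, (-2)), (1, 4), (0, 2), (0, (-2))],
      [(1, 2), (0, (-2)), (1, 2), (0, (-2)), (3, 2), (0, 2), (0, (-2)), (1, (-2)), (1, (-4)), (0, 2), (2, (-2)), (0, (-2)), (2, (-2))],
      [(0, 2), (2, 2), (2, (-2)), (0, 2), (0, 2), (1, (-4)), (1, 2), (1, (-2)), (0, (-2)), (1, 2), (0, (-2)), (2, 2), (0, (-2))],
      [(0, 2), (2, (-2)), (2, (-2)), (0, (-2)), (0, 2), (2, (-4)), (0, (-2)), (1, (-2)), (0, 2), (1, (-2)), (0, (-2)), (2, (-2)), (0, (-2))],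
      [(0, (-2)), (2, (-2)), (1, 4), (0, 2), (0, 2), (0, 2), (3, (-2)), (1, (-2)), (0, (-2)), (1, (-2)), (0, (-2)), (2, 2), (0, 2)],
      [(1, (-2)), (0, 2), (1, (-2)), (0, (-2)), (1, 4), (1, 2), (0, 2), (0, (-2)), (1, 2), (2, 2), (2, 2), (0, 2), (2, (-2))],
      [(1, (-2)), (0, (-2)), (1, 2), (0, 2), (2, (-4)), (0, (-2)), (0, (-2)), (0, (-2)), (1, 2), (2, 2), (2, 2), (0, (-2)), (2, (-2))],
      [(1, (-2)), (0, (-2)), (1, (-2)), (0, (-2)), (3, (-2)), (0, 2), (0, (-2)), (1, (-2)), (2, (-2)), (2, 2), (0, (-2)), (0, 4), (1, 2)],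
      [(0, 2), (2, 2), (2, 2), (0, (-2)), (0, 2), (3, 2), (1, 2), (0, 2), (0, 4), (0, (-2)), (0, (-2)), (2, 2), (0, 2)],
      [(1, (-2)), (0, (-2)), (1, (-2)), (0, (-2)), (3, 2), (0, (-2)), (0, 2), (0, (-4)), (0, 2), (2, 2), (2, (-2)), (0, (-2)), (2, 2)],
      [(0, 2), (1, 4), (0, 2), (2, (-2)), (0, (-2)), (0, (-2)), (3, (-2)), (1, (-2)), (0, (-2)), (1, (-2)), (0, 2), (2, 2), (0, 2)],
      [(0, 2), (2, 2), (2, 2), (0, 2), (0, 2), (0, (-4)), (2, (-2)), (1, 2), (0, (-2)), (1, (-2)), (0, 2), (2, (-2)), (0, (-2))],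
      [(0, 2), (2, 2), (2, 2), (0, 2), (0, (-2)), (3, (-2)), (0, (-4)), (0, (-2)), (0, 2), (1, 2), (0, (-2)), (2, (-2)), (0, 2)],
      [(0, 2), (2, (-2)), (2, (-2)), (0, 2), (0, (-2)), (3, 2), (1, 2), (0, (-2)), (1, (-2)), (0, (-2)), (2, (-2)), (0, 2), (0, 4)],
      [(0, (-4)), (0, (-2)), (0, 2), (1, 2), (0, (-2)), (3, (-2)), (0, (-2)), (0, (-2)), (1, (-2)), (2, 2), (2, (-2)), (0, 2), (2, 2)],
      [(1, 2), (0, 2), (1, (-2)), (0, 2), (3, (-2)), (0, 2), (0, (-2)), (1, 2), (2, 2), (0, 4), (1, (-2)), (0, (-2)), (2, 2)],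
      [(0, 2), (2, (-2)), (2, 2), (0, 2), (0, (-2)), (3, 2), (1, (-2)), (0, 2), (1, (-2)), (0, 2), (0, (-4)), (1, 2), (0, (-2))],
      [(1, 2), (0, (-2)), (1, 2), (0, (-2)), (3, (-2)), (0, 2), (0, 2), (1, 2), (0, (-4)), (1, 2), (2, 2), (0, 2), (2, 2)],
      [(1, (-2)), (0, 2), (1, 2), (0, 2), (3, 2), (0, 2), (0, 2), (1, (-2)), (2, 2), (2, 2), (0, (-2)), (1, (-4)), (0, 2)],
      [(0, (-2)), (0, 4), (1, 2), (2, (-2)), (0, 2), (0, (-2)), (3, (-2)), (1, 2), (0, 2), (1, (-2)), (0, (-2)), (2, 2), (0, (-2))],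
      [(1, 2), (0, 2), (1, 2), (0, (-2)), (0, 4), (2, 2), (0, (-2)), (0, (-2)), (1, 2), (2, (-2)), (2, 2), (0, (-2)), (2, 2)],
      [(1, (-2)), (0, (-2)), (0, 4), (0, 2), (0, 2), (3, 2), (0, 2), (0, (-2)), (1, 2), (2, (-2)), (2, (-2)), (0, 2), (2, 2)],
      [(1, 2), (0, (-2)), (1, (-2)), (0, 2), (3, 2), (0, (-2)), (0, (-2)), (1, (-2)), (2, 2), (1, 4), (0, 2), (0, 2), (2, 2)],
      [(0, (-2)), (2, 2), (0, (-4)), (1, 2), (0, (-2)), (0, (-2)), (3, 2), (1, (-2)), (0, (-2)), (1, (-2)), (0, (-2)), (2, (-2)), (0, (-2))]])]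

/-- part of the generators and their transposes -/
def twoW1 : List (List (List (ℕ × ℤ)) × List (List (ℕ × ℤ))) :=
  [([[(1, (-2)), (0, 2), (0, (-2)), (0, 2), (0, 2), (3, 2), (0, 4), (2, 2), (0, 2), (1, 2), (1, (-2)), (2, 2), (1, 2)],
      [(0, 2), (1, 4), (3, 2), (0, (-2)), (0, 2), (1, (-2)), (0, (-2)), (0, 2), (2, 2), (1, (-2)), (1, (-2)), (0, 2), (1, 2)],
      [(1, (-2)), (0, 2), (0, (-2)), (0, (-2)), (0, (-2)), (2, (-4)), (0, 2), (3, (-2)), (0, 2), (1, (-2)), (1, (-2)), (2, (-2)), (1, (-2))],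
      [(1, 2), (0, (-2)), (0, (-2)), (0, (-2)), (0, 2), (0, 4), (2, (-2)), (3, (-2)), (0, 2), (1, 2), (1, (-2)), (2, (-2)), (1, 2)],
      [(1, (-2)), (0, (-2)), (0, 2), (0, (-2)), (0, 2), (3, 2), (3, (-2)), (0, (-2)), (1, 2), (1, (-2)), (1, 4), (0, 2), (1, (-2))],
      [(1, (-2)), (0, (-2)), (0, (-2)), (0, (-2)), (0, 2), (3, (-2)), (2, 4), (0, 2), (0, 2), (1, (-2)), (1, 2), (2, 2), (1, (-2))],
      [(1, (-2)), (0, (-2)), (0, 2), (0, (-2)), (0, (-2)), (3, 2), (3, 2), (0, 2), (1, 2), (0, (-4)), (0, 2), (2, (-2)), (1, 2)],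
      [(0, (-2)), (5, (-2)), (0, (-2)), (0, (-2)), (1, (-2)), (0, (-2)), (0, 2), (2, (-2)), (1, 2), (1, (-2)), (0, 2), (1, (-2)), (0, 4)],
      [(1, (-2)), (0, 2), (0, (-2)), (0, (-2)), (0, (-2)), (3, (-2)), (1, 4), (1, (-2)), (0, (-2)), (1, 2), (1, 2), (2, 2), (1, 2)],
      [(0, (-2)), (5, (-2)), (0, 2), (0, 2), (1, 2), (0, (-2)), (0, 2), (0, (-4)), (1, 2), (1, (-2)), (1, (-2)), (0, (-2)), (1, (-2))],
      [(0, 2), (5, (-2)), (0, (-2)), (0, 2), (1, 2), (0, 2), (0, 2), (2, 2), (1, 2), (1, 2), (0, 2), (0, (-4)), (0, (-2))],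
      [(0, (-2)), (4, (-4)), (0, 2), (0, 2), (0, 2), (1, 2), (0, (-2)), (0, 2), (2, (-2)), (1, 2), (1, 2), (0, 2), (1, 2)],
      [(0, 2), (5, 2), (0, 2), (0, (-2)), (1, 2), (0, (-2)), (0, (-2)), (2, 2), (1, 2), (0, 4), (0, (-2)), (0, 2), (1, (-2))],
      [(1, (-2)), (0, (-2)), (0, (-2)), (0, 2), (0, 2), (3, 2), (3, (-2)), (0, (-2)), (1, (-2)), (1, 2), (2, (-2)), (0, 4), (0, 2)],
      [(0, (-4)), (0, 2), (0, 2), (0, (-2)), (0, (-2)), (0, 2), (3, 2), (3, 2), (0, (-2)), (1, 2), (1, 2), (2, (-2)), (1, (-2))],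
      [(1, (-2)), (0, 2), (0, 2), (0, (-2)), (0, 2), (1, 4), (1, (-2)), (3, 2), (0, (-2)), (1, (-2)), (1, (-2)), (2, (-2)), (1, 2)],
      [(1, (-2)), (0, 2), (0, 2), (0, 2), (0, 2), (3, (-2)), (3, (-2)), (0, 2), (0, (-4)), (0, 2), (1, 2), (2, (-2)), (1, (-2))],
      [(0, 2), (5, 2), (0, 2), (0, 2), (0, 4), (0, (-2)), (0, 2), (0, 2), (2, (-2)), (1, 2), (1, (-2)), (0, (-2)), (1, (-2))],
      [(0, 2), (5, (-2)), (0, 2), (0, (-2)), (1, (-2)), (0, (-2)), (0, 2), (2, 2), (0, 4), (0, 2), (1, 2), (0, (-2)), (1, 2)],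
      [(0, 2), (0, 4), (4, (-2)), (0, 2), (0, (-2)), (1, 2), (0, 2), (0, 2), (2, (-2)), (1, (-2)), (1, (-2)), (0, 2), (1, 2)],
      [(0, 2), (2, (-4)), (2, (-2)), (0, 2), (0, 2), (1, (-2)), (0, (-2)), (0, (-2)), (2, (-2)), (1, (-2)), (1, 2), (0, 2), (1, (-2))],
      [(0, (-2)), (3, 4), (1, 2), (0, 2), (0, (-2)), (1, (-2)), (0, 2), (0, 2), (2, 2), (1, (-2)), (1, 2), (0, 2), (1, (-2))],
      [(0, (-2)), (5, (-2)), (0, 2), (0, 2), (1, (-2)), (0, 2), (0, (-2)), (1, 4), (0, 2), (1, 2), (1, (-2)), (0, 2), (1, 2)],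
      [(1, 2), (0, 2), (0, 2), (0, (-2)), (0, 2), (3, 2), (3, (-2)), (0, 2), (1, (-2)), (1, 2), (0, 4), (1, 2), (1, 2)]],
     [[(1, 2), (5, (-2)), (1, (-2)), (0, 2), (0, (-2)), (0, 2), (1, (-4)), (2, 2), (0, 2), (0, 2), (0, 2), (0, (-2)), (0, (-2))],
      [(0, (-2)), (1, (-2)), (0, 2), (0, (-2)), (0, (-2)), (0, (-2)), (1, (-2)), (4, (-2)), (0, 2), (0, (-2)), (0, (-2)), (2, 4), (3, 2)],
      [(0, 2), (0, 4), (0, 2), (0, (-2)), (0, (-2)), (0, (-2)), (0, (-2)), (1, 2), (4, (-2)), (0, 2), (0, 2), (0, 2), (6, 2)],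
      [(0, (-2)), (1, (-2)), (0, (-2)), (0, 2), (0, (-2)), (0, 2), (1, (-2)), (4, (-2)), (0, (-2)), (0, 2), (0, 2), (3, (-4)), (2, 2)],
      [(0, 2), (1, (-2)), (0, (-2)), (0, (-2)), (0, (-2)), (0, (-2)), (1, (-2)), (4, 2), (0, (-2)), (0, (-2)), (0, 2), (4, 4), (1, (-2))],
      [(0, 2), (1, (-2)), (0, 2), (0, 2), (0, 2), (0, (-2)), (1, (-2)), (2, (-4)), (1, 2), (0, 2), (0, 2), (0, 2), (6, 2)],
      [(1, 2), (1, 4), (3, (-2)), (1, (-2)), (0, (-2)), (0, 2), (0, 2), (4, 2), (0, (-2)), (0, (-2)), (0, (-2)), (0, 2), (0, (-2))],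
      [(1, (-2)), (5, (-2)), (1, 2), (0, (-2)), (0, 2), (0, 2), (2, 4), (1, 2), (0, 2), (0, 2), (0, 2), (0, 2), (0, 2)],
      [(1, 2), (0, (-4)), (4, (-2)), (1, 2), (0, 2), (0, 2), (0, (-2)), (4, 2), (0, (-2)), (0, (-2)), (0, 2), (0, (-2)), (0, 2)],
      [(0, 2), (1, 2), (0, (-2)), (0, 2), (0, (-2)), (0, 2), (1, (-2)), (4, 2), (0, 2), (0, (-2)), (0, (-2)), (0, 4), (5, 2)],
      [(0, 4), (0, (-2)), (5, (-2)), (1, 2), (0, 2), (0, 2), (0, 2), (4, (-2)), (0, (-2)), (0, 2), (0, (-2)), (0, (-2)), (0, (-2))],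
      [(1, (-2)), (5, (-2)), (0, 4), (0, (-2)), (0, 2), (0, (-2)), (0, (-2)), (4, 2), (0, (-2)), (0, 2), (0, (-2)), (0, 2), (0, 2)],
      [(1, 2), (3, 4), (1, 2), (1, 2), (0, 2), (0, 2), (0, (-2)), (4, 2), (0, 2), (0, 2), (0, (-2)), (0, 2), (0, (-2))],
      [(0, 2), (1, (-2)), (0, (-2)), (0, (-2)), (0, 2), (0, 2), (1, (-2)), (0, (-4)), (3, (-2)), (0, 2), (0, 2), (0, (-2)), (6, (-2))],
      [(0, 2), (1, 2), (0, 2), (0, (-2)), (0, 2), (0, 2), (1, (-2)), (4, (-2)), (0, (-2)), (0, (-2)), (0, 2), (5, 4), (0, 2)],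
      [(1, 2), (5, (-2)), (1, 2), (0, 2), (0, (-2)), (0, 2), (3, (-4)), (0, (-2)), (0, 2), (0, (-2)), (0, (-2)), (0, 2), (0, 2)],
      [(0, 2), (1, (-2)), (0, 2), (0, 2), (0, (-2)), (0, 2), (1, 2), (4, (-2)), (0, 2), (0, (-2)), (0, 2), (1, 4), (4, (-2))],
      [(1, (-2)), (4, (-4)), (0, 2), (1, (-2)), (0, 2), (0, 2), (0, 2), (4, 2), (0, 2), (0, (-2)), (0, (-2)), (0, (-2)), (0, 2)],
      [(0, (-2)), (1, (-2)), (0, (-2)), (0, (-2)), (0, 2), (0, 2), (1, 2), (3, 4), (0, 2), (0, 2), (0, (-2)), (0, 2), (6, 2)],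
      [(1, (-2)), (5, (-2)), (1, (-2)), (0, 2), (0, 2), (0, (-2)), (4, (-2)), (0, 2), (0, (-2)), (0, 2), (0, 2), (0, (-2)), (0, 4)],
      [(1, 2), (2, 4), (2, 2), (1, (-2)), (0, 2), (0, 2), (0, 2), (4, (-2)), (0, (-2)), (0, 2), (0, 2), (0, 2), (0, 2)],
      [(0, 2), (1, (-2)), (0, (-2)), (0, 2), (0, 2), (0, (-2)), (1, 2), (1, (-4)), (2, (-2)), (0, (-2)), (0, (-2)), (0, (-2)), (6, 2)],
      [(1, 2), (5, (-2)), (1, (-2)), (0, (-2)), (0, 2), (0, (-2)), (0, 4), (3, (-2)), (0, 2), (0, 2), (0, (-2)), (0, (-2)), (0, 2)],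
      [(0, 2), (1, (-2)), (0, 2), (0, (-2)), (0, (-2)), (0, 2), (0, 4), (0, 2), (4, 2), (0, (-2)), (0, 2), (0, (-2)), (6, 2)]]),
    ([[(1, (-2)), (1, (-4)), (2, 2), (0, 2), (0, 2), (1, (-2)), (0, (-2)), (0, (-2)), (0, 2), (4, 2), (1, (-2)), (1, (-2)), (0, (-2))],
      [(0, 2), (1, (-2)), (0, 2), (0, 2), (0, 2), (3, (-2)), (2, (-4)), (1, (-2)), (0, 2), (0, 2), (0, (-2)), (1, (-2)), (1, 2)],
      [(1, 2), (4, 2), (0, 2), (0, 2), (1, 2), (0, (-2)), (0, 2), (0, 2), (3, (-4)), (0, (-2)), (1, 2), (1, (-2)), (0, 2)],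
      [(0, 4), (0, (-2)), (4, 2), (0, (-2)), (0, 2), (1, (-2)), (0, 2), (0, 2), (0, 2), (4, (-2)), (1, 2), (1, 2), (0, (-2))],
      [(1, (-2)), (4, 2), (0, (-2)), (0, 2), (1, 2), (0, (-2)), (0, 2), (0, (-2)), (2, 4), (1, 2), (1, (-2)), (1, 2), (0, 2)],
      [(1, (-2)), (4, (-2)), (0, 2), (0, (-2)), (0, (-4)), (0, (-2)), (0, (-2)), (0, 2), (0, 2), (4, (-2)), (1, (-2)), (1, 2), (0, 2)],
      [(0, (-2)), (1, (-2)), (0, (-2)), (0, (-2)), (0, 2), (3, 2), (4, (-2)), (0, 2), (0, (-2)), (0, (-2)), (1, 2), (1, 2), (0, 4)],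
      [(0, (-2)), (1, (-2)), (0, 2), (0, 2), (0, (-2)), (3, 2), (3, 4), (0, 2), (0, 2), (0, 2), (0, 2), (1, 2), (1, 2)],
      [(0, (-2)), (1, (-2)), (0, (-2)), (0, (-2)), (0, 2), (3, (-2)), (4, 2), (0, 2), (0, 2), (0, 2), (1, (-2)), (0, 4), (0, (-2))],
      [(1, 2), (3, 4), (0, (-2)), (0, (-2)), (0, 2), (1, (-2)), (0, 2), (0, 2), (0, 2), (4, 2), (1, (-2)), (1, (-2)), (0, 2)],
      [(0, 2), (1, (-2)), (0, 2), (0, (-2)), (0, 2), (3, 2), (1, (-4)), (2, 2), (0, (-2)), (0, (-2)), (0, 2), (1, (-2)), (1, 2)],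
      [(0, 2), (1, 2), (0, (-2)), (0, 2), (0, 2), (3, (-2)), (0, 4), (3, 2), (0, 2), (0, (-2)), (0, 2), (1, 2), (1, 2)],
      [(0, 2), (0, 4), (0, (-2)), (0, (-2)), (0, (-2)), (0, (-2)), (3, (-2)), (4, (-2)), (0, (-2)), (0, 2), (0, 2), (1, 2), (1, 2)],
      [(0, (-2)), (1, (-2)), (0, (-2)), (0, 2), (0, (-2)), (1, (-4)), (1, (-2)), (4, 2), (0, (-2)), (0, (-2)), (0, (-2)), (1, (-2)), (1, 2)],
      [(1, 2), (4, 2), (0, (-2)), (0, (-2)), (1, (-2)), (0, (-2)), (0, 2), (0, (-2)), (1, 4), (2, (-2)), (1, (-2)), (1, (-2)), (0, (-2))],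
      [(1, (-2)), (4, (-2)), (0, (-2)), (0, (-2)), (1, 2), (0, (-2)), (0, 2), (0, 2), (0, (-4)), (3, 2), (1, 2), (1, (-2)), (0, (-2))],
      [(1, (-2)), (2, (-4)), (1, 2), (0, (-2)), (0, (-2)), (1, 2), (0, 2), (0, (-2)), (0, 2), (4, (-2)), (1, (-2)), (1, (-2)), (0, 2)],
      [(1, 2), (0, 4), (3, 2), (0, (-2)), (0, (-2)), (1, (-2)), (0, (-2)), (0, (-2)), (0, 2), (4, 2), (1, 2), (1, 2), (0, 2)],
      [(0, (-2)), (1, 2), (0, 2), (0, (-2)), (0, 2), (3, (-2)), (4, 2), (0, (-2)), (0, 2), (0, (-2)), (1, 2), (1, 2), (1, (-4))],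
      [(1, 2), (4, (-2)), (0, (-2)), (0, 2), (1, 2), (0, (-2)), (0, (-2)), (0, 2), (4, (-2)), (1, (-2)), (0, (-4)), (0, 2), (0, (-2))],
      [(0, 2), (1, (-2)), (0, (-2)), (0, 2), (0, 2), (2, (-4)), (0, 2), (4, 2), (0, (-2)), (0, 2), (0, (-2)), (1, 2), (1, (-2))],
      [(1, (-2)), (4, (-2)), (0, (-2)), (0, 2), (1, (-2)), (0, (-2)), (0, (-2)), (0, (-2)), (4, (-2)), (0, 4), (0, 2), (1, (-2)), (0, 2)],
      [(0, 2), (1, 2), (0, (-2)), (0, (-2)), (0, (-2)), (0, (-4)), (2, 2), (4, 2), (0, 2), (0, 2), (0, (-2)), (1, (-2)), (1, 2)],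
      [(0, 2), (1, (-2)), (0, 2), (0, (-2)), (0, (-2)), (3, (-2)), (4, 2), (0, 2), (0, (-2)), (0, (-2)), (0, 4), (0, 2), (1, (-2))]],
     [[(1, 2), (1, 4), (2, (-2)), (0, (-2)), (0, (-2)), (1, 2), (0, 2), (0, 2), (0, (-2)), (4, (-2)), (1, 2), (1, 2), (0, 2)],
      [(0, (-2)), (1, 2), (0, (-2)), (0, (-2)), (0, (-2)), (3, 2), (2, 4), (1, 2), (0, (-2)), (0, (-2)), (0, 2), (1, 2), (1, (-2))],
      [(1, (-2)), (4, (-2)), (0, (-2)), (0, (-2)), (1, (-2)), (0, 2), (0, (-2)), (0, (-2)), (3, 4), (0, 2), (1, (-2)), (1, 2), (0, (-2))],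
      [(0, (-4)), (0, 2), (4, (-2)), (0, 2), (0, (-2)), (1, 2), (0, (-2)), (0, (-2)), (0, (-2)), (4, 2), (1, (-2)), (1, (-2)), (0, 2)],
      [(1, 2), (4, (-2)), (0, 2), (0, (-2)), (1, (-2)), (0, 2), (0, (-2)), (0, 2), (2, (-4)), (1, (-2)), (1, 2), (1, (-2)), (0, (-2))],
      [(1, 2), (4, 2), (0, (-2)), (0, 2), (0, 4), (0, 2), (0, 2), (0, (-2)), (0, (-2)), (4, 2), (1, 2), (1, (-2)), (0, (-2))],
      [(0, 2), (1, 2), (0, 2), (0, 2), (0, (-2)), (3, (-2)), (4, 2), (0, (-2)), (0, 2), (0, 2), (1, (-2)), (1, (-2)), (0, (-4))],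
      [(0, 2), (1, 2), (0, (-2)), (0, (-2)), (0, 2), (3, (-2)), (3, (-4)), (0, (-2)), (0, (-2)), (0, (-2)), (0, (-2)), (1, (-2)), (1, (-2))],
      [(0, 2), (1, 2), (0, 2), (0, 2), (0, (-2)), (3, 2), (4, (-2)), (0, (-2)), (0, (-2)), (0, (-2)), (1, 2), (0, (-4)), (0, 2)],
      [(1, (-2)), (3, (-4)), (0, 2), (0, 2), (0, (-2)), (1, 2), (0, (-2)), (0, (-2)), (0, (-2)), (4, (-2)), (1, 2), (1, 2), (0, (-2))],
      [(0, (-2)), (1, 2), (0, (-2)), (0, 2), (0, (-2)), (3, (-2)), (1, 4), (2, (-2)), (0, 2), (0, 2), (0, (-2)), (1, 2), (1, (-2))],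
      [(0, (-2)), (1, (-2)), (0, 2), (0, (-2)), (0, (-2)), (3, 2), (0, (-4)), (3, (-2)), (0, (-2)), (0, 2), (0, (-2)), (1, (-2)), (1, (-2))],
      [(0, (-2)), (0, (-4)), (0, 2), (0, 2), (0, 2), (0, 2), (3, 2), (4, 2), (0, 2), (0, (-2)), (0, (-2)), (1, (-2)), (1, (-2))],
      [(0, 2), (1, 2), (0, 2), (0, (-2)), (0, 2), (1, 4), (1, 2), (4, (-2)), (0, 2), (0, 2), (0, 2), (1, 2), (1, (-2))],
      [(1, (-2)), (4, (-2)), (0, 2), (0, 2), (1, 2), (0, 2), (0, (-2)), (0, 2), (1, (-4)), (2, 2), (1, 2), (1, 2), (0, 2)],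
      [(1, 2), (4, 2), (0, 2), (0, 2), (1, (-2)), (0, 2), (0, (-2)), (0, (-2)), (0, 4), (3, (-2)), (1, (-2)), (1, 2), (0, 2)],
      [(1, 2), (2, 4), (1, (-2)), (0, 2), (0, 2), (1, (-2)), (0, (-2)), (0, 2), (0, (-2)), (4, 2), (1, 2), (1, 2), (0, (-2))],
      [(1, (-2)), (0, (-4)), (3, (-2)), (0, 2), (0, 2), (1, 2), (0, 2), (0, 2), (0, (-2)), (4, (-2)), (1, (-2)), (1, (-2)), (0, (-2))],
      [(0, 2), (1, (-2)), (0, (-2)), (0, 2), (0, (-2)), (3, 2), (4, (-2)), (0, 2), (0, (-2)), (0, 2), (1, (-2)), (1, (-2)), (1, 4)],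
      [(1, (-2)), (4, 2), (0, 2), (0, (-2)), (1, (-2)), (0, 2), (0, 2), (0, (-2)), (4, 2), (1, 2), (0, 4), (0, (-2)), (0, 2)],
      [(0, (-2)), (1, 2), (0, 2), (0, (-2)), (0, (-2)), (2, 4), (0, (-2)), (4, (-2)), (0, 2), (0, (-2)), (0, 2), (1, (-2)), (1, 2)],
      [(1, 2), (4, 2), (0, 2), (0, (-2)), (1, 2), (0, 2), (0, 2), (0, 2), (4, 2), (0, (-4)), (0, (-2)), (1, 2), (0, (-2))],
      [(0, (-2)), (1, (-2)), (0, 2), (0, 2), (0, 2), (0, 4), (2, (-2)), (4, (-2)), (0, (-2)), (0, (-2)), (0, 2), (1, 2), (1, (-2))],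
      [(0, (-2)), (1, 2), (0, (-2)), (0, 2), (0, 2), (3, 2), (4, (-2)), (0, (-2)), (0, 2), (0, 2), (0, (-4)), (0, (-2)), (1, 2)]])]

/-- part of the generators and their transposes -/
def twoW2 : List (List (List (ℕ × ℤ)) × List (List (ℕ × ℤ))) :=
  [([[(1, (-2)), (1, 2), (2, (-2)), (0, 2), (0, (-4)), (3, 2), (1, (-2)), (0, (-2)), (0, 2), (1, 2), (1, (-2)), (1, 2), (0, 2)],
      [(0, 2), (1, 2), (1, 2), (0, 2), (2, (-2)), (0, 2), (0, (-2)), (0, 2), (1, (-2)), (3, 2), (0, (-4)), (0, 2), (1, 2)],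
      [(1, (-2)), (1, (-2)), (2, (-2)), (0, 2), (4, (-2)), (1, (-2)), (0, 2), (0, (-2)), (0, 4), (0, 2), (1, 2), (1, (-2)), (0, 2)],
      [(0, (-2)), (1, 2), (1, (-2)), (0, 2), (2, (-2)), (0, 2), (0, 2), (0, (-2)), (0, (-4)), (0, (-2)), (3, (-2)), (1, (-2)), (1, 2)],
      [(1, (-2)), (1, 2), (2, (-2)), (0, (-2)), (3, 4), (0, (-2)), (1, 2), (0, 2), (0, 2), (1, 2), (1, (-2)), (1, (-2)), (0, (-2))],
      [(1, (-2)), (1, (-2)), (2, 2), (0, (-2)), (2, (-4)), (1, (-2)), (1, 2), (0, (-2)), (0, 2), (1, 2), (1, 2), (1, 2), (0, 2)],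
      [(0, 2), (1, 2), (1, 2), (0, (-2)), (2, (-2)), (0, (-2)), (0, (-2)), (0, (-2)), (1, (-2)), (1, 4), (1, (-2)), (1, (-2)), (1, (-2))],
      [(0, (-2)), (1, (-2)), (1, 2), (0, 2), (2, 2), (0, 2), (0, (-2)), (0, 2), (1, (-2)), (0, (-4)), (2, (-2)), (1, (-2)), (1, (-2))],
      [(0, 4), (0, 2), (1, 2), (2, 2), (0, (-2)), (4, (-2)), (1, (-2)), (0, (-2)), (0, (-2)), (1, 2), (1, (-2)), (1, (-2)), (0, 2)],
      [(1, (-2)), (1, (-2)), (2, 2), (0, (-2)), (4, 2), (1, (-2)), (0, 2), (0, (-2)), (1, 2), (1, (-2)), (0, 4), (0, 2), (0, (-2))],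
      [(1, 2), (1, (-2)), (1, 4), (0, 2), (0, 2), (4, 2), (1, 2), (0, 2), (0, 2), (1, 2), (1, (-2)), (1, (-2)), (0, 2)],
      [(1, (-2)), (1, 2), (0, (-4)), (1, 2), (0, (-2)), (4, 2), (1, (-2)), (0, 2), (0, 2), (1, (-2)), (1, 2), (1, (-2)), (0, 2)],
      [(0, (-2)), (1, 2), (0, 4), (0, 2), (0, 2), (2, 2), (0, (-2)), (0, (-2)), (0, (-2)), (1, 2), (3, 2), (1, (-2)), (1, 2)],
      [(1, 2), (1, 2), (2, 2), (0, 2), (4, (-2)), (1, (-2)), (0, 2), (0, 2), (1, 2), (0, 4), (0, 2), (1, 2), (0, (-2))],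
      [(0, 2), (1, 2), (1, (-2)), (0, (-2)), (1, 4), (0, 2), (0, 2), (0, (-2)), (0, 2), (1, 2), (3, (-2)), (1, (-2)), (1, 2)],
      [(0, 2), (1, (-2)), (1, (-2)), (0, 2), (0, (-4)), (1, 2), (0, (-2)), (0, (-2)), (0, (-2)), (1, (-2)), (3, (-2)), (1, 2), (1, 2)],
      [(0, (-2)), (1, 2), (1, (-2)), (0, (-2)), (2, 2), (0, 2), (0, (-2)), (0, (-2)), (1, (-2)), (3, 2), (1, 2), (0, (-4)), (0, (-2))],
      [(1, (-2)), (0, (-4)), (0, 2), (2, 2), (0, 2), (4, (-2)), (1, 2), (0, 2), (0, (-2)), (1, (-2)), (1, (-2)), (1, 2), (0, 2)],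
      [(0, (-2)), (0, 4), (0, (-2)), (1, (-2)), (0, (-2)), (2, (-2)), (0, (-2)), (0, (-2)), (0, 2), (1, (-2)), (3, 2), (1, (-2)), (1, 2)],
      [(1, (-2)), (1, 2), (2, 2), (0, 2), (4, 2), (0, (-4)), (0, 2), (0, (-2)), (0, (-2)), (1, 2), (1, 2), (1, (-2)), (0, (-2))],
      [(0, 2), (1, (-2)), (1, 2), (0, (-2)), (2, 2), (0, 2), (0, 2), (0, (-2)), (1, (-2)), (2, 4), (0, 2), (1, (-2)), (1, 2)],
      [(1, (-2)), (1, (-2)), (2, 2), (0, 2), (1, (-4)), (2, (-2)), (1, (-2)), (0, (-2)), (0, 2), (1, (-2)), (1, (-2)), (1, (-2)), (0, (-2))],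
      [(0, (-2)), (1, 2), (1, 2), (0, (-2)), (2, 2), (0, (-2)), (0, 2), (0, 2), (1, (-2)), (3, (-2)), (1, 2), (1, 2), (1, 4)],
      [(0, (-2)), (1, (-2)), (1, 2), (0, (-2)), (2, (-2)), (0, 2), (0, (-2)), (0, (-2)), (1, 2), (3, (-2)), (1, 2), (1, 2), (0, (-4))]],
     [[(1, 2), (1, (-2)), (2, 2), (0, (-2)), (0, 4), (3, (-2)), (1, 2), (0, 2), (0, (-2)), (1, (-2)), (1, 2), (1, (-2)), (0, (-2))],
      [(0, (-2)), (1, (-2)), (1, (-2)), (0, (-2)), (2, 2), (0, (-2)), (0, 2), (0, (-2)), (1, 2), (3, (-2)), (0, 4), (0, (-2)), (1, (-2))],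
      [(1, 2), (1, 2), (2, 2), (0, (-2)), (4, 2), (1, 2), (0, (-2)), (0, 2), (0, (-4)), (0, (-2)), (1, (-2)), (1, 2), (0, (-2))],
      [(0, 2), (1, (-2)), (1, 2), (0, (-2)), (2, 2), (0, (-2)), (0, (-2)), (0, 2), (0, 4), (0, 2), (3, 2), (1, 2), (1, (-2))],
      [(1, 2), (1, (-2)), (2, 2), (0, 2), (3, (-4)), (0, 2), (1, (-2)), (0, (-2)), (0, (-2)), (1, (-2)), (1, 2), (1, 2), (0, 2)],
      [(1, 2), (1, 2), (2, (-2)), (0, 2), (2, 4), (1, 2), (1, (-2)), (0, 2), (0, (-2)), (1, (-2)), (1, (-2)), (1, (-2)), (0, (-2))],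
      [(0, (-2)), (1, (-2)), (1, (-2)), (0, 2), (2, 2), (0, 2), (0, 2), (0, 2), (1, 2), (1, (-4)), (1, 2), (1, 2), (1, 2)],
      [(0, 2), (1, 2), (1, (-2)), (0, (-2)), (2, (-2)), (0, (-2)), (0, 2), (0, (-2)), (1, 2), (0, 4), (2, 2), (1, 2), (1, 2)],
      [(0, (-4)), (0, (-2)), (1, (-2)), (2, (-2)), (0, 2), (4, 2), (1, 2), (0, 2), (0, 2), (1, (-2)), (1, 2), (1, 2), (0, (-2))],
      [(1, 2), (1, 2), (2, (-2)), (0, 2), (4, (-2)), (1, 2), (0, (-2)), (0, 2), (1, (-2)), (1, 2), (0, (-4)), (0, (-2)), (0, 2)],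
      [(1, (-2)), (1, 2), (1, (-4)), (0, (-2)), (0, (-2)), (4, (-2)), (1, (-2)), (0, (-2)), (0, (-2)), (1, (-2)), (1, 2), (1, 2), (0, (-2))],
      [(1, 2), (1, (-2)), (0, 4), (1, (-2)), (0, 2), (4, (-2)), (1, 2), (0, (-2)), (0, (-2)), (1, 2), (1, (-2)), (1, 2), (0, (-2))],
      [(0, 2), (1, (-2)), (0, (-4)), (0, (-2)), (0, (-2)), (2, (-2)), (0, 2), (0, 2), (0, 2), (1, (-2)), (3, (-2)), (1, 2), (1, (-2))],
      [(1, (-2)), (1, (-2)), (2, (-2)), (0, (-2)), (4, 2), (1, 2), (0, (-2)), (0, (-2)), (1, (-2)), (0, (-4)), (0, (-2)), (1, (-2)), (0, 2)],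
      [(0, (-2)), (1, (-2)), (1, 2), (0, 2), (1, (-4)), (0, (-2)), (0, (-2)), (0, 2), (0, (-2)), (1, (-2)), (3, 2), (1, 2), (1, (-2))],
      [(0, (-2)), (1, 2), (1, 2), (0, (-2)), (0, 4), (1, (-2)), (0, 2), (0, 2), (0, 2), (1, 2), (3, 2), (1, (-2)), (1, (-2))],
      [(0, 2), (1, (-2)), (1, 2), (0, 2), (2, (-2)), (0, (-2)), (0, 2), (0, 2), (1, 2), (3, (-2)), (1, (-2)), (0, 4), (0, 2)],
      [(1, 2), (0, 4), (0, (-2)), (2, (-2)), (0, (-2)), (4, 2), (1, (-2)), (0, (-2)), (0, 2), (1, 2), (1, 2), (1, (-2)), (0, (-2))],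
      [(0, 2), (0, (-4)), (0, 2), (1, 2), (0, 2), (2, 2), (0, 2), (0, 2), (0, (-2)), (1, 2), (3, (-2)), (1, 2), (1, (-2))],
      [(1, 2), (1, (-2)), (2, (-2)), (0, (-2)), (4, (-2)), (0, 4), (0, (-2)), (0, 2), (0, 2), (1, (-2)), (1, (-2)), (1, 2), (0, 2)],
      [(0, (-2)), (1, 2), (1, (-2)), (0, 2), (2, (-2)), (0, (-2)), (0, (-2)), (0, 2), (1, 2), (2, (-4)), (0, (-2)), (1, 2), (1, (-2))],
      [(1, 2), (1, 2), (2, (-2)), (0, (-2)), (1, 4), (2, 2), (1, 2), (0, 2), (0, (-2)), (1, 2), (1, 2), (1, 2), (0, 2)],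
      [(0, 2), (1, (-2)), (1, (-2)), (0, 2), (2, (-2)), (0, 2), (0, (-2)), (0, (-2)), (1, 2), (3, 2), (1, (-2)), (1, (-2)), (1, (-4))],
      [(0, 2), (1, 2), (1, (-2)), (0, 2), (2, 2), (0, (-2)), (0, 2), (0, 2), (1, (-2)), (3, 2), (1, (-2)), (1, (-2)), (0, 4)]]),
    ([[(0, 2), (1, 2), (3, 2), (0, (-2)), (2, (-4)), (0, (-2)), (0, (-2)), (1, (-2)), (2, 2), (4, 4)],
      [(0, 2), (0, 4), (0, (-2)), (3, (-2)), (0, (-2)), (3, (-2)), (0, 2), (1, 2), (2, 2), (5, (-4))],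
      [(1, (-2)), (1, (-2)), (0, 2), (0, 2), (2, (-2)), (0, (-2)), (0, (-2)), (2, 2), (1, 2), (0, 2), (1, (-2)), (0, (-2)), (0, (-2)), (0, 2), (0, (-2)), (0, (-2))],
      [(1, 2), (1, (-2)), (0, 2), (0, 2), (2, (-2)), (0, (-2)), (0, 2), (2, (-2)), (1, 2), (0, 2), (1, (-2)), (0, 2), (0, 2), (0, (-2)), (0, 2), (0, 2)],
      [(1, 2), (1, 2), (0, (-2)), (0, (-2)), (2, (-2)), (0, 2), (0, 2), (2, 2), (1, 2), (0, 2), (1, (-2)), (0, (-2)), (0, (-2)), (0, 2), (0, 2), (0, 2)],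
      [(0, (-2)), (1, 2), (3, (-2)), (0, (-2)), (0, 4), (2, 2), (0, (-2)), (1, 2), (2, 2), (0, (-4))],
      [(0, 2), (1, 2), (3, 2), (0, (-2)), (3, 2), (0, 2), (0, 4), (0, 2), (2, (-2)), (2, 4)],
      [(1, (-2)), (1, 2), (0, (-2)), (0, (-2)), (2, (-2)), (0, 2), (0, (-2)), (2, (-2)), (1, 2), (0, 2), (1, (-2)), (0, 2), (0, 2), (0, (-2)), (0, (-2)), (0, (-2))],
      [(1, 2), (1, (-2)), (0, (-2)), (0, 2), (2, 2), (0, 2), (0, (-2)), (2, (-2)), (1, 2), (0, 2), (1, 2), (0, (-2)), (0, 2), (0, 2), (0, (-2)), (0, 2)],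
      [(0, (-2)), (1, (-2)), (1, 4), (1, 2), (0, (-2)), (1, 4), (1, (-2)), (0, (-2)), (1, 2), (2, (-2))],
      [(0, (-2)), (1, (-2)), (3, (-2)), (0, 2), (2, (-4)), (0, 2), (0, 2), (1, 2), (2, (-2)), (4, 4)],
      [(0, (-2)), (1, 2), (3, 2), (0, 2), (3, (-2)), (0, 2), (1, 2), (2, 2), (1, 4), (1, 4)],
      [(0, (-2)), (0, 4), (0, 2), (3, 2), (0, 2), (3, 2), (0, (-2)), (1, (-2)), (2, (-2)), (5, (-4))],
      [(0, 2), (1, (-2)), (0, (-4)), (1, (-4)), (0, 2), (0, 2), (3, 2), (0, (-2)), (1, 2), (2, 2)],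
      [(1, (-2)), (1, (-2)), (0, (-2)), (0, 2), (2, (-2)), (0, 2), (0, 2), (2, (-2)), (1, (-2)), (0, (-2)), (1, (-2)), (0, (-2)), (0, 2), (0, 2), (0, 2), (0, (-2))],
      [(1, (-2)), (1, 2), (0, 2), (0, (-2)), (2, 2), (0, (-2)), (0, 2), (2, (-2)), (1, 2), (0, 2), (1, 2), (0, (-2)), (0, 2), (0, 2), (0, 2), (0, (-2))],
      [(0, 2), (1, 2), (3, (-2)), (0, 2), (3, (-2)), (0, (-2)), (1, 2), (0, 4), (0, (-4)), (0, (-2))],
      [(1, 2), (1, 2), (0, 2), (0, (-2)), (2, (-2)), (0, (-2)), (0, (-2)), (2, (-2)), (1, (-2)), (0, (-2)), (1, (-2)), (0, (-2)), (0, 2), (0, 2), (0, (-2)), (0, 2)],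
      [(0, (-2)), (1, 2), (0, (-4)), (1, (-4)), (0, (-2)), (0, (-2)), (3, (-2)), (0, 2), (1, (-2)), (2, (-2))],
      [(0, (-2)), (1, 2), (3, (-2)), (0, (-2)), (0, (-4)), (2, 2), (0, (-2)), (1, 2), (2, 2), (0, 4)],
      [(0, (-2)), (1, 2), (3, 2), (0, 2), (3, (-2)), (0, 2), (1, 2), (2, 2), (1, (-4)), (1, (-4))],
      [(0, 2), (1, 2), (3, 2), (0, (-2)), (3, 2), (0, 2), (0, (-4)), (0, 2), (2, (-2)), (2, (-4))],
      [(0, 2), (1, 2), (1, 4), (1, (-2)), (0, 2), (1, 4), (1, 2), (0, 2), (1, (-2)), (2, 2)],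
      [(0, 2), (1, 2), (3, (-2)), (0, 2), (3, (-2)), (0, (-2)), (1, 2), (0, (-4)), (0, 4), (0, (-2))]],
     [[(0, 2), (0, 2), (3, (-2)), (0, 2), (2, (-2)), (0, (-2)), (0, (-2)), (0, (-2)), (0, 2), (2, 2), (1, (-2)), (0, (-2)), (0, (-2)), (0, 2), (0, 2), (0, 2)],
      [(1, 4), (0, (-2)), (0, 2), (0, 2), (2, (-2)), (0, 2), (3, 4), (1, (-2)), (0, (-2)), (1, 2)],
      [(0, 2), (0, (-2)), (3, 2), (0, 2), (2, (-2)), (0, (-2)), (0, 2), (0, 2), (0, (-2)), (2, 2), (1, 2), (0, 2), (0, 2), (0, 2), (0, 2), (0, 2)],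
      [(2, (-2)), (0, (-2)), (0, 2), (2, 2), (0, (-2)), (4, (-4)), (0, (-2)), (0, 2), (1, 2), (0, (-4))],
      [(2, 2), (0, 2), (0, (-2)), (2, (-2)), (0, (-2)), (0, 4), (4, (-2)), (0, 2), (1, 2), (4, 4)],
      [(2, 2), (0, 2), (0, (-2)), (2, (-2)), (0, 2), (4, (-4)), (0, 2), (0, (-2)), (1, (-2)), (0, (-4))],
      [(0, 2), (0, (-2)), (3, (-2)), (0, 2), (2, 2), (0, (-2)), (0, 2), (0, 2), (0, 2), (2, (-2)), (1, (-2)), (0, (-2)), (0, 2), (0, 2), (0, (-2)), (0, (-2))],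
      [(0, (-2)), (0, (-2)), (3, (-2)), (0, (-2)), (2, (-2)), (0, 2), (0, 2), (0, 2), (0, 2), (2, 2), (1, (-2)), (0, (-2)), (0, 2), (0, (-2)), (0, 2), (0, 2)],
      [(2, (-2)), (0, (-2)), (0, (-2)), (0, 4), (1, (-2)), (0, 2), (5, (-2)), (0, 2), (1, (-2)), (1, (-4))],
      [(2, (-2)), (0, (-2)), (0, 2), (2, 2), (0, 2), (0, 4), (4, 2), (0, (-2)), (1, (-2)), (4, 4)],
      [(0, (-4)), (1, (-2)), (0, 2), (0, 2), (2, (-2)), (0, (-2)), (1, (-4)), (3, 2), (0, 2), (1, (-2))],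
      [(0, (-2)), (0, (-2)), (3, 2), (0, 2), (2, (-2)), (0, 2), (0, (-2)), (0, 2), (0, 2), (2, (-2)), (1, (-2)), (0, 2), (0, (-2)), (0, 2), (0, 2), (0, (-2))],
      [(0, (-2)), (0, 2), (3, (-2)), (0, 2), (2, (-2)), (0, 2), (0, 2), (0, (-2)), (0, (-2)), (2, (-2)), (1, 2), (0, (-2)), (0, 2), (0, 2), (0, 2), (0, (-2))],
      [(2, 2), (0, (-2)), (0, 2), (1, 4), (0, (-2)), (0, (-2)), (5, (-2)), (0, (-2)), (1, (-2)), (3, (-4))],
      [(0, (-2)), (0, 2), (3, 2), (0, 2), (2, 2), (0, 2), (0, 2), (0, (-2)), (0, 2), (2, 2), (1, (-2)), (0, 2), (0, 2), (0, 2), (0, (-2)), (0, 2)],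
      [(2, 2), (0, 2), (0, 2), (2, 2), (0, 2), (5, (-2)), (0, 2), (0, 4), (0, (-2)), (5, (-4))],
      [(2, 2), (0, 2), (0, 2), (2, 2), (0, 2), (5, (-2)), (0, 2), (0, (-4)), (0, (-2)), (5, 4)],
      [(0, 2), (0, 2), (3, 2), (0, (-2)), (2, (-2)), (0, (-2)), (0, 2), (0, (-2)), (0, 2), (2, (-2)), (1, (-2)), (0, 2), (0, 2), (0, (-2)), (0, 2), (0, (-2))],
      [(2, (-2)), (0, (-2)), (0, (-2)), (0, (-4)), (1, (-2)), (0, 2), (5, (-2)), (0, 2), (1, (-2)), (1, 4)],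
      [(2, (-2)), (0, 2), (0, (-2)), (2, 2), (0, (-2)), (2, 4), (2, (-2)), (0, (-2)), (1, (-2)), (2, (-4))],
      [(2, (-2)), (0, 2), (0, (-2)), (1, 4), (0, 2), (0, 2), (5, 2), (0, 2), (1, 2), (3, (-4))],
      [(2, 2), (0, (-2)), (0, 2), (2, (-2)), (0, 2), (2, 4), (2, 2), (0, 2), (1, 2), (2, (-4))],
      [(0, 4), (1, (-2)), (0, 2), (0, 2), (2, (-2)), (0, (-2)), (1, 4), (3, 2), (0, 2), (1, (-2))],
      [(1, (-4)), (0, (-2)), (0, 2), (0, 2), (2, (-2)), (0, 2), (3, (-4)), (1, (-2)), (0, (-2)), (1, 2)]])]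

/-- part of the generators and their transposes -/
def twoW3 : List (List (List (ℕ × ℤ)) × List (List (ℕ × ℤ))) :=
  [([[(2, 2), (0, (-2)), (0, (-2)), (2, (-2)), (0, (-2)), (0, (-2)), (3, (-4)), (1, 2), (0, 2), (2, (-2)), (0, (-2)), (0, (-2)), (0, (-2))],
      [(2, (-2)), (0, (-2)), (0, (-2)), (2, 2), (0, (-2)), (0, 2), (5, 2), (0, (-2)), (2, (-2)), (0, 2), (0, 2), (0, (-2)), (0, 4)],
      [(2, (-2)), (0, (-2)), (0, (-2)), (0, (-4)), (1, 2), (0, 2), (0, (-2)), (5, (-2)), (0, (-2)), (2, (-2)), (0, (-2)), (0, (-2)), (0, 2)],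
      [(0, 2), (0, 2), (3, (-2)), (0, 2), (3, 2), (0, (-2)), (0, (-2)), (0, 2), (0, (-2)), (0, 4), (1, 2), (0, 2), (4, (-2))],
      [(0, 2), (0, 2), (3, 2), (0, (-2)), (1, 4), (1, 2), (0, 2), (0, (-2)), (0, (-2)), (0, (-2)), (2, 2), (0, (-2)), (4, 2)],
      [(1, (-4)), (0, 2), (0, 2), (0, (-2)), (2, (-2)), (0, 2), (0, 2), (5, 2), (0, (-2)), (2, (-2)), (0, (-2)), (0, 2), (0, 2)],
      [(2, (-2)), (0, (-2)), (0, 2), (2, (-2)), (0, 2), (0, 2), (4, 4), (0, 2), (0, (-2)), (2, 2), (0, (-2)), (0, (-2)), (0, (-2))],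
      [(2, 2), (0, (-2)), (0, 2), (2, 2), (0, 2), (0, 2), (1, (-4)), (3, (-2)), (0, 2), (2, (-2)), (0, (-2)), (0, 2), (0, (-2))],
      [(0, (-2)), (0, 2), (3, (-2)), (0, (-2)), (0, (-4)), (2, (-2)), (0, (-2)), (0, 2), (0, 2), (0, (-2)), (2, 2), (0, (-2)), (4, 2)],
      [(0, 2), (0, (-2)), (3, (-2)), (0, (-2)), (3, 2), (0, 2), (0, 2), (0, 2), (0, (-2)), (2, (-2)), (0, (-2)), (3, (-4)), (0, (-2))],
      [(2, 2), (0, (-2)), (0, (-2)), (2, (-2)), (0, 2), (0, (-2)), (5, (-2)), (0, (-2)), (1, 4), (0, 2), (0, 2), (0, 2), (0, (-2))],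
      [(0, (-4)), (1, 2), (0, 2), (0, 2), (2, 2), (0, 2), (0, (-2)), (5, 2), (0, (-2)), (2, (-2)), (0, 2), (0, (-2)), (0, (-2))],
      [(2, 2), (0, (-2)), (0, 2), (1, (-4)), (0, 2), (0, (-2)), (0, (-2)), (5, 2), (0, (-2)), (2, 2), (0, (-2)), (0, 2), (0, 2)],
      [(0, 2), (0, (-2)), (2, 4), (0, (-2)), (0, 2), (3, (-2)), (0, 2), (0, 2), (0, (-2)), (0, (-2)), (2, 2), (0, 2), (4, 2)],
      [(0, 2), (0, 2), (1, 4), (1, (-2)), (0, (-2)), (3, 2), (0, (-2)), (0, 2), (0, (-2)), (0, 2), (2, (-2)), (0, 2), (4, 2)],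
      [(0, (-2)), (0, (-2)), (3, (-2)), (0, 2), (3, 2), (0, (-2)), (0, (-2)), (0, (-2)), (0, (-2)), (2, (-2)), (0, (-2)), (0, 4), (3, 2)],
      [(0, (-2)), (0, 2), (3, (-2)), (0, 2), (3, 2), (0, 2), (0, 2), (0, (-2)), (0, 2), (2, 2), (0, (-2)), (2, 4), (1, (-2))],
      [(0, (-2)), (0, 2), (3, 2), (0, 2), (3, 2), (0, 2), (0, 2), (0, 2), (0, (-2)), (2, (-2)), (0, 2), (1, (-4)), (2, 2)],
      [(2, (-2)), (0, (-2)), (0, 2), (2, (-2)), (0, 2), (0, (-2)), (5, 2), (0, 2), (0, (-4)), (1, (-2)), (0, 2), (0, 2), (0, 2)],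
      [(2, (-2)), (0, 2), (0, 2), (2, (-2)), (0, (-2)), (0, (-2)), (2, (-4)), (2, (-2)), (0, (-2)), (2, (-2)), (0, (-2)), (0, 2), (0, (-2))],
      [(0, 2), (0, (-2)), (3, 2), (0, 2), (2, (-4)), (0, 2), (0, (-2)), (0, 2), (0, 2), (0, 2), (2, 2), (0, (-2)), (4, 2)],
      [(0, 2), (0, 2), (0, 4), (2, (-2)), (0, 2), (3, (-2)), (0, 2), (0, (-2)), (0, 2), (0, 2), (2, (-2)), (0, (-2)), (4, 2)],
      [(2, 2), (0, (-2)), (0, 2), (2, (-2)), (0, (-2)), (0, 2), (0, 4), (4, (-2)), (0, (-2)), (2, (-2)), (0, 2), (0, (-2)), (0, 2)],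
      [(0, (-2)), (0, (-2)), (3, (-2)), (0, (-2)), (3, 2), (0, 2), (0, (-2)), (0, 2), (0, 2), (1, 4), (0, 2), (0, 2), (4, 2)]],
     [[(3, 2), (0, 2), (3, (-2)), (0, 2), (1, (-4)), (1, 2), (0, 2), (0, (-2)), (0, (-2)), (0, (-2)), (2, 2), (0, 2), (1, (-2))],
      [(3, 2), (0, 2), (0, (-4)), (2, 2), (0, (-2)), (3, (-2)), (0, 2), (0, (-2)), (0, 2), (0, 2), (2, (-2)), (0, 2), (1, (-2))],
      [(0, 2), (0, (-2)), (0, (-2)), (2, 2), (0, (-2)), (0, 2), (2, 2), (0, 2), (0, 2), (5, (-2)), (0, (-2)), (1, 4), (0, 2)],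
      [(0, (-2)), (0, (-2)), (0, (-2)), (2, 2), (0, (-2)), (0, (-2)), (2, (-2)), (0, 2), (0, (-2)), (1, 4), (3, (-2)), (0, 2), (2, (-2))],
      [(0, (-2)), (0, (-2)), (0, (-2)), (2, (-2)), (0, 2), (0, 2), (2, (-2)), (0, 2), (0, 2), (0, 4), (4, 2), (0, 2), (2, 2)],
      [(2, (-4)), (0, (-2)), (0, 2), (3, (-2)), (0, (-2)), (3, (-2)), (0, (-2)), (0, (-2)), (0, (-2)), (0, 2), (2, 2), (0, (-2)), (1, (-2))],
      [(3, 2), (0, (-2)), (3, (-2)), (0, (-2)), (2, (-4)), (0, 2), (0, (-2)), (0, 2), (0, 2), (0, 2), (2, 2), (0, 2), (1, (-2))],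
      [(0, (-2)), (0, 2), (0, 2), (2, (-2)), (0, (-2)), (0, 2), (0, (-4)), (1, (-2)), (0, 2), (0, 2), (5, (-2)), (0, (-2)), (2, (-2))],
      [(0, (-2)), (0, (-2)), (0, 2), (1, 4), (0, 2), (0, 2), (0, 2), (2, 2), (0, 2), (0, (-2)), (5, 2), (0, (-2)), (2, (-2))],
      [(0, (-2)), (0, 2), (0, (-2)), (2, 2), (0, 2), (0, 2), (2, (-2)), (0, (-2)), (0, (-2)), (5, (-2)), (0, (-2)), (0, (-4)), (1, 2)],
      [(3, 2), (0, 2), (3, (-2)), (0, 2), (3, (-2)), (0, 2), (0, 2), (0, 2), (0, 2), (2, 2), (0, (-2)), (0, 4), (0, 2)],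
      [(3, (-2)), (0, 2), (2, (-4)), (0, (-2)), (0, 2), (3, 2), (0, (-2)), (0, (-2)), (0, 2), (0, 2), (2, (-2)), (0, 2), (1, 2)],
      [(3, (-2)), (0, (-2)), (3, 2), (0, 2), (3, 2), (0, 2), (0, (-2)), (0, 2), (0, 2), (1, (-4)), (0, 2), (0, (-2)), (1, (-2))],
      [(0, (-4)), (2, 2), (0, (-2)), (3, 2), (0, 2), (3, (-2)), (0, (-2)), (0, (-2)), (0, (-2)), (0, 2), (2, 2), (0, 2), (1, 2)],
      [(3, (-2)), (0, (-2)), (1, 4), (1, (-2)), (0, (-2)), (3, (-2)), (0, 2), (0, (-2)), (0, 2), (0, (-2)), (2, 2), (0, 2), (1, 2)],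
      [(0, 2), (0, 2), (0, (-2)), (0, 4), (1, 2), (0, 2), (0, (-2)), (2, (-2)), (0, 2), (0, 2), (5, 2), (0, (-2)), (2, (-2))],
      [(0, 2), (0, (-2)), (0, (-2)), (2, (-2)), (0, (-2)), (0, 2), (2, (-2)), (0, (-2)), (0, (-2)), (5, 2), (0, (-2)), (2, (-2)), (0, 4)],
      [(3, 2), (0, 2), (3, 2), (0, (-2)), (3, 2), (0, (-2)), (0, (-2)), (0, 2), (0, (-2)), (0, (-4)), (1, 2), (0, (-2)), (1, 2)],
      [(3, 2), (0, (-2)), (3, (-2)), (0, (-2)), (0, 4), (2, 2), (0, 2), (0, (-2)), (0, (-2)), (0, 2), (2, (-2)), (0, (-2)), (1, 2)],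
      [(0, (-2)), (0, (-2)), (0, (-2)), (2, (-2)), (0, 2), (0, (-2)), (2, 2), (0, (-2)), (0, 2), (2, 4), (2, (-2)), (0, (-2)), (2, (-2))],
      [(0, (-2)), (0, 2), (0, (-2)), (2, (-2)), (0, (-2)), (0, (-2)), (2, 2), (0, 2), (0, (-2)), (4, (-4)), (0, 2), (0, (-2)), (2, 2)],
      [(0, (-2)), (0, 2), (0, (-2)), (2, 2), (0, (-2)), (0, 2), (2, 2), (0, (-2)), (0, 2), (3, 4), (1, 2), (0, 2), (2, (-2))],
      [(0, (-2)), (0, (-2)), (0, 2), (2, 2), (0, (-2)), (0, (-2)), (1, (-4)), (0, (-2)), (0, (-2)), (0, 2), (5, 2), (0, (-2)), (2, 2)],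
      [(1, 4), (1, (-2)), (0, 2), (3, 2), (0, (-2)), (3, 2), (0, 2), (0, 2), (0, (-2)), (0, 2), (2, 2), (0, 2), (1, 2)]]),
    ([[(0, 1), (0, (-1)), (0, 1), (0, 1), (0, (-3)), (0, 1), (0, (-1)), (0, 3), (0, (-1)), (0, (-1)), (0, (-1)), (0, (-1)), (0, (-1)), (0, 3), (0, (-1)), (0, 1), (0, (-1)), (0, 3), (0, (-1)), (0, (-1)), (0, 1), (0, (-1)), (0, (-3)), (0, (-1))],
      [(0, 1), (0, 3), (0, (-3)), (0, 1), (0, 1), (0, (-3)), (0, 3), (0, (-1)), (0, (-1)), (0, (-1)), (0, (-1)), (0, (-1)), (0, (-1)), (0, 3), (0, (-1)), (0, 1), (0, (-1)), (0, (-1)), (0, (-1)), (0, (-1)), (0, 1), (0, (-1)), (0, 1), (0, (-1))],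
      [(0, (-1)), (0, 1), (0, 3), (0, 3), (0, (-1)), (0, (-1)), (0, 1), (0, 1), (0, 1), (0, (-3)), (0, 1), (0, 1), (0, 1), (0, 1), (0, 1), (0, (-1)), (0, 1), (0, (-3)), (0, (-3)), (0, 1), (0, (-1)), (0, 1), (0, (-1)), (0, 1)],
      [(0, (-1)), (0, (-3)), (0, (-1)), (0, 3), (0, (-1)), (0, (-1)), (0, 1), (0, 1), (0, 1), (0, 1), (0, 1), (0, 1), (0, 1), (0, 1), (0, 1), (0, (-1)), (0, 1), (0, 1), (0, 1), (0, 1), (0, (-1)), (0, (-3)), (0, 3), (0, (-3))],
      [(0, 1), (0, (-1)), (0, 1), (0, 1), (0, 1), (0, 1), (0, 3), (0, 3), (0, (-1)), (0, (-1)), (0, 3), (0, (-1)), (0, (-1)), (0, (-1)), (0, (-1)), (0, 1), (0, (-1)), (0, (-1)), (0, 3), (0, (-1)), (0, 1), (0, (-1)), (0, 1), (0, 3)],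
      [(0, (-1)), (0, 1), (0, (-1)), (0, (-1)), (0, (-1)), (0, 3), (0, 1), (0, 1), (0, (-3)), (0, 1), (0, 1), (0, 1), (0, 1), (0, 1), (0, 1), (0, (-1)), (0, 1), (0, 1), (0, (-3)), (0, (-3)), (0, (-1)), (0, 1), (0, 3), (0, 1)],
      [(0, 1), (0, (-1)), (0, 1), (0, (-3)), (0, (-3)), (0, 1), (0, 3), (0, (-1)), (0, 3), (0, (-1)), (0, (-1)), (0, 3), (0, (-1)), (0, (-1)), (0, (-1)), (0, 1), (0, (-1)), (0, (-1)), (0, (-1)), (0, (-1)), (0, 1), (0, (-1)), (0, 1), (0, (-1))],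
      [(0, (-5)), (0, 1), (0, (-1)), (0, (-1)), (0, (-1)), (0, (-1)), (0, 1), (0, 1), (0, 1), (0, 1), (0, 1), (0, 1), (0, (-3)), (0, 1), (0, 1), (0, 3), (0, 1), (0, 1), (0, 1), (0, 1), (0, (-1)), (0, 1), (0, (-1)), (0, 1)],
      [(0, 1), (0, 3), (0, 1), (0, 1), (0, 1), (0, 1), (0, (-1)), (0, (-1)), (0, 3), (0, (-1)), (0, 3), (0, (-1)), (0, (-1)), (0, (-1)), (0, 3), (0, 1), (0, (-1)), (0, 3), (0, (-1)), (0, (-1)), (0, 1), (0, (-1)), (0, 1), (0, (-1))],
      [(0, 1), (0, (-1)), (0, 1), (0, 1), (0, 1), (0, 1), (0, (-1)), (0, (-1)), (0, 3), (0, 3), (0, (-1)), (0, (-1)), (0, (-1)), (0, 3), (0, (-1)), (0, 1), (0, 3), (0, (-1)), (0, (-1)), (0, (-1)), (0, 1), (0, (-1)), (0, 1), (0, 3)],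
      [(0, 1), (0, (-1)), (0, 1), (0, 1), (0, (-3)), (0, (-3)), (0, (-1)), (0, (-1)), (0, (-1)), (0, 3), (0, 3), (0, (-1)), (0, (-1)), (0, (-1)), (0, (-1)), (0, 1), (0, (-1)), (0, (-1)), (0, (-1)), (0, (-1)), (0, 1), (0, 3), (0, 1), (0, (-1))],
      [(0, 1), (0, (-1)), (0, 1), (0, 1), (0, 1), (0, 1), (0, (-1)), (0, (-1)), (0, (-1)), (0, (-1)), (0, (-1)), (0, 3), (0, (-1)), (0, 3), (0, 3), (0, 1), (0, (-1)), (0, (-1)), (0, 3), (0, (-1)), (0, 1), (0, 3), (0, 1), (0, (-1))],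
      [(0, 3), (0, 1), (0, (-1)), (0, (-1)), (0, (-1)), (0, (-1)), (0, 1), (0, 1), (0, 1), (0, 1), (0, 1), (0, 1), (0, 5), (0, 1), (0, 1), (0, 3), (0, 1), (0, 1), (0, 1), (0, 1), (0, (-1)), (0, 1), (0, (-1)), (0, 1)],
      [(0, (-1)), (0, (-3)), (0, (-1)), (0, (-1)), (0, (-1)), (0, (-1)), (0, 1), (0, (-3)), (0, 1), (0, (-3)), (0, 1), (0, (-3)), (0, 1), (0, 1), (0, 1), (0, (-1)), (0, 1), (0, 1), (0, 1), (0, (-3)), (0, (-1)), (0, 1), (0, (-1)), (0, 1)],
      [(0, 1), (0, (-1)), (0, 1), (0, 1), (0, 1), (0, 1), (0, 3), (0, (-1)), (0, (-1)), (0, 3), (0, (-1)), (0, (-1)), (0, (-1)), (0, (-1)), (0, 3), (0, 1), (0, (-1)), (0, (-1)), (0, (-1)), (0, (-1)), (0, (-3)), (0, (-1)), (0, (-3)), (0, (-1))],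
      [(0, (-3)), (0, (-1)), (0, 1), (0, 1), (0, 1), (0, 1), (0, (-1)), (0, (-1)), (0, (-1)), (0, (-1)), (0, (-1)), (0, (-1)), (0, 3), (0, (-1)), (0, (-1)), (0, 5), (0, (-1)), (0, (-1)), (0, (-1)), (0, (-1)), (0, 1), (0, (-1)), (0, 1), (0, (-1))],
      [(0, 1), (0, (-1)), (0, (-3)), (0, 1), (0, 1), (0, 1), (0, (-1)), (0, (-1)), (0, (-1)), (0, (-1)), (0, 3), (0, 3), (0, (-1)), (0, (-1)), (0, (-1)), (0, 1), (0, 3), (0, (-1)), (0, (-1)), (0, (-1)), (0, 1), (0, (-1)), (0, (-3)), (0, (-1))],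
      [(0, (-1)), (0, 1), (0, 3), (0, (-1)), (0, (-1)), (0, (-1)), (0, 1), (0, (-3)), (0, (-3)), (0, 1), (0, 1), (0, 1), (0, 1), (0, 1), (0, 1), (0, (-1)), (0, 1), (0, 1), (0, 1), (0, 1), (0, 3), (0, (-3)), (0, (-1)), (0, 1)],
      [(0, 1), (0, 3), (0, 1), (0, 1), (0, (-3)), (0, 1), (0, (-1)), (0, (-1)), (0, (-1)), (0, (-1)), (0, (-1)), (0, (-1)), (0, (-1)), (0, (-1)), (0, (-1)), (0, 1), (0, 3), (0, (-1)), (0, 3), (0, (-1)), (0, (-3)), (0, (-1)), (0, 1), (0, (-1))],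
      [(0, 1), (0, (-1)), (0, 1), (0, (-3)), (0, 1), (0, 1), (0, (-1)), (0, (-1)), (0, (-1)), (0, (-1)), (0, 3), (0, (-1)), (0, (-1)), (0, 3), (0, (-1)), (0, 1), (0, (-1)), (0, (-1)), (0, (-1)), (0, 3), (0, (-3)), (0, (-1)), (0, 1), (0, (-1))],
      [(0, (-1)), (0, 1), (0, (-1)), (0, (-1)), (0, (-1)), (0, 3), (0, 1), (0, 1), (0, 1), (0, 1), (0, 1), (0, (-3)), (0, 1), (0, 1), (0, 1), (0, (-1)), (0, 1), (0, (-3)), (0, 1), (0, 1), (0, 3), (0, 1), (0, (-1)), (0, (-3))],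
      [(0, 1), (0, (-1)), (0, 1), (0, 1), (0, 1), (0, 1), (0, 3), (0, (-1)), (0, (-1)), (0, (-1)), (0, (-1)), (0, (-1)), (0, (-1)), (0, (-1)), (0, (-1)), (0, 1), (0, 3), (0, 3), (0, (-1)), (0, 3), (0, 1), (0, 3), (0, 1), (0, (-1))],
      [(0, 1), (0, (-1)), (0, 1), (0, (-3)), (0, 1), (0, (-3)), (0, (-1)), (0, 3), (0, (-1)), (0, (-1)), (0, (-1)), (0, (-1)), (0, (-1)), (0, (-1)), (0, 3), (0, 1), (0, 3), (0, (-1)), (0, (-1)), (0, (-1)), (0, 1), (0, (-1)), (0, 1), (0, (-1))],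
      [(0, 1), (0, (-1)), (0, (-3)), (0, 1), (0, (-3)), (0, 1), (0, (-1)), (0, (-1)), (0, (-1)), (0, (-1)), (0, (-1)), (0, (-1)), (0, (-1)), (0, (-1)), (0, 3), (0, 1), (0, (-1)), (0, (-1)), (0, (-1)), (0, 3), (0, 1), (0, (-1)), (0, 1), (0, 3)]],
     [[(0, 1), (0, 1), (0, (-1)), (0, (-1)), (0, 1), (0, (-1)), (0, 1), (0, (-5)), (0, 1), (0, 1), (0, 1), (0, 1), (0, 3), (0, (-1)), (0, 1), (0, (-3)), (0, 1), (0, (-1)), (0, 1), (0, 1), (0, (-1)), (0, 1), (0, 1), (0, 1)],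
      [(0, (-1)), (0, 3), (0, 1), (0, (-3)), (0, (-1)), (0, 1), (0, (-1)), (0, 1), (0, 3), (0, (-1)), (0, (-1)), (0, (-1)), (0, 1), (0, (-3)), (0, (-1)), (0, (-1)), (0, (-1)), (0, 1), (0, 3), (0, (-1)), (0, 1), (0, (-1)), (0, (-1)), (0, (-1))],
      [(0, 1), (0, (-3)), (0, 3), (0, (-1)), (0, 1), (0, (-1)), (0, 1), (0, (-1)), (0, 1), (0, 1), (0, 1), (0, 1), (0, (-1)), (0, (-1)), (0, 1), (0, 1), (0, (-3)), (0, 3), (0, 1), (0, 1), (0, (-1)), (0, 1), (0, 1), (0, (-3))],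
      [(0, 1), (0, 1), (0, 3), (0, 3), (0, 1), (0, (-1)), (0, (-3)), (0, (-1)), (0, 1), (0, 1), (0, 1), (0, 1), (0, (-1)), (0, (-1)), (0, 1), (0, 1), (0, 1), (0, (-1)), (0, 1), (0, (-3)), (0, (-1)), (0, 1), (0, (-3)), (0, 1)],
      [(0, (-3)), (0, 1), (0, (-1)), (0, (-1)), (0, 1), (0, (-1)), (0, (-3)), (0, (-1)), (0, 1), (0, 1), (0, (-3)), (0, 1), (0, (-1)), (0, (-1)), (0, 1), (0, 1), (0, 1), (0, (-1)), (0, (-3)), (0, 1), (0, (-1)), (0, 1), (0, 1), (0, (-3))],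
      [(0, 1), (0, (-3)), (0, (-1)), (0, (-1)), (0, 1), (0, 3), (0, 1), (0, (-1)), (0, 1), (0, 1), (0, (-3)), (0, 1), (0, (-1)), (0, (-1)), (0, 1), (0, 1), (0, 1), (0, (-1)), (0, 1), (0, 1), (0, 3), (0, 1), (0, (-3)), (0, 1)],
      [(0, (-1)), (0, 3), (0, 1), (0, 1), (0, 3), (0, 1), (0, 3), (0, 1), (0, (-1)), (0, (-1)), (0, (-1)), (0, (-1)), (0, 1), (0, 1), (0, 3), (0, (-1)), (0, (-1)), (0, 1), (0, (-1)), (0, (-1)), (0, 1), (0, 3), (0, (-1)), (0, (-1))],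
      [(0, 3), (0, (-1)), (0, 1), (0, 1), (0, 3), (0, 1), (0, (-1)), (0, 1), (0, (-1)), (0, (-1)), (0, (-1)), (0, (-1)), (0, 1), (0, (-3)), (0, (-1)), (0, (-1)), (0, (-1)), (0, (-3)), (0, (-1)), (0, (-1)), (0, 1), (0, (-1)), (0, 3), (0, (-1))],
      [(0, (-1)), (0, (-1)), (0, 1), (0, 1), (0, (-1)), (0, (-3)), (0, 3), (0, 1), (0, 3), (0, 3), (0, (-1)), (0, (-1)), (0, 1), (0, 1), (0, (-1)), (0, (-1)), (0, (-1)), (0, (-3)), (0, (-1)), (0, (-1)), (0, 1), (0, (-1)), (0, (-1)), (0, (-1))],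
      [(0, (-1)), (0, (-1)), (0, (-3)), (0, 1), (0, (-1)), (0, 1), (0, (-1)), (0, 1), (0, (-1)), (0, 3), (0, 3), (0, (-1)), (0, 1), (0, (-3)), (0, 3), (0, (-1)), (0, (-1)), (0, 1), (0, (-1)), (0, (-1)), (0, 1), (0, (-1)), (0, (-1)), (0, (-1))],
      [(0, (-1)), (0, (-1)), (0, 1), (0, 1), (0, 3), (0, 1), (0, (-1)), (0, 1), (0, 3), (0, (-1)), (0, 3), (0, (-1)), (0, 1), (0, 1), (0, (-1)), (0, (-1)), (0, 3), (0, 1), (0, (-1)), (0, 3), (0, 1), (0, (-1)), (0, (-1)), (0, (-1))],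
      [(0, (-1)), (0, (-1)), (0, 1), (0, 1), (0, (-1)), (0, 1), (0, 3), (0, 1), (0, (-1)), (0, (-1)), (0, (-1)), (0, 3), (0, 1), (0, (-3)), (0, (-1)), (0, (-1)), (0, 3), (0, 1), (0, (-1)), (0, (-1)), (0, (-3)), (0, (-1)), (0, (-1)), (0, (-1))],
      [(0, (-1)), (0, (-1)), (0, 1), (0, 1), (0, (-1)), (0, 1), (0, (-1)), (0, (-3)), (0, (-1)), (0, (-1)), (0, (-1)), (0, (-1)), (0, 5), (0, 1), (0, (-1)), (0, 3), (0, (-1)), (0, 1), (0, (-1)), (0, (-1)), (0, 1), (0, (-1)), (0, (-1)), (0, (-1))],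
      [(0, 3), (0, 3), (0, 1), (0, 1), (0, (-1)), (0, 1), (0, (-1)), (0, 1), (0, (-1)), (0, 3), (0, (-1)), (0, 3), (0, 1), (0, 1), (0, (-1)), (0, (-1)), (0, (-1)), (0, 1), (0, (-1)), (0, 3), (0, 1), (0, (-1)), (0, (-1)), (0, (-1))],
      [(0, (-1)), (0, (-1)), (0, 1), (0, 1), (0, (-1)), (0, 1), (0, (-1)), (0, 1), (0, 3), (0, (-1)), (0, (-1)), (0, 3), (0, 1), (0, 1), (0, 3), (0, (-1)), (0, (-1)), (0, 1), (0, (-1)), (0, (-1)), (0, 1), (0, (-1)), (0, 3), (0, 3)],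
      [(0, 1), (0, 1), (0, (-1)), (0, (-1)), (0, 1), (0, (-1)), (0, 1), (0, 3), (0, 1), (0, 1), (0, 1), (0, 1), (0, 3), (0, (-1)), (0, 1), (0, 5), (0, 1), (0, (-1)), (0, 1), (0, 1), (0, (-1)), (0, 1), (0, 1), (0, 1)],
      [(0, (-1)), (0, (-1)), (0, 1), (0, 1), (0, (-1)), (0, 1), (0, (-1)), (0, 1), (0, (-1)), (0, 3), (0, (-1)), (0, (-1)), (0, 1), (0, 1), (0, (-1)), (0, (-1)), (0, 3), (0, 1), (0, 3), (0, (-1)), (0, 1), (0, 3), (0, 3), (0, (-1))],
      [(0, 3), (0, (-1)), (0, (-3)), (0, 1), (0, (-1)), (0, 1), (0, (-1)), (0, 1), (0, 3), (0, (-1)), (0, (-1)), (0, (-1)), (0, 1), (0, 1), (0, (-1)), (0, (-1)), (0, (-1)), (0, 1), (0, (-1)), (0, (-1)), (0, (-3)), (0, 3), (0, (-1)), (0, (-1))],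
      [(0, (-1)), (0, (-1)), (0, (-3)), (0, 1), (0, 3), (0, (-3)), (0, (-1)), (0, 1), (0, (-1)), (0, (-1)), (0, (-1)), (0, 3), (0, 1), (0, 1), (0, (-1)), (0, (-1)), (0, (-1)), (0, 1), (0, 3), (0, (-1)), (0, 1), (0, (-1)), (0, (-1)), (0, (-1))],
      [(0, (-1)), (0, (-1)), (0, 1), (0, 1), (0, (-1)), (0, (-3)), (0, (-1)), (0, 1), (0, (-1)), (0, (-1)), (0, (-1)), (0, (-1)), (0, 1), (0, (-3)), (0, (-1)), (0, (-1)), (0, (-1)), (0, 1), (0, (-1)), (0, 3), (0, 1), (0, 3), (0, (-1)), (0, 3)],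
      [(0, 1), (0, 1), (0, (-1)), (0, (-1)), (0, 1), (0, (-1)), (0, 1), (0, (-1)), (0, 1), (0, 1), (0, 1), (0, 1), (0, (-1)), (0, (-1)), (0, (-3)), (0, 1), (0, 1), (0, 3), (0, (-3)), (0, (-3)), (0, 3), (0, 1), (0, 1), (0, 1)],
      [(0, (-1)), (0, (-1)), (0, 1), (0, (-3)), (0, (-1)), (0, 1), (0, (-1)), (0, 1), (0, (-1)), (0, (-1)), (0, 3), (0, 3), (0, 1), (0, 1), (0, (-1)), (0, (-1)), (0, (-1)), (0, (-3)), (0, (-1)), (0, (-1)), (0, 1), (0, 3), (0, (-1)), (0, (-1))],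
      [(0, (-3)), (0, 1), (0, (-1)), (0, 3), (0, 1), (0, 3), (0, 1), (0, (-1)), (0, 1), (0, 1), (0, 1), (0, 1), (0, (-1)), (0, (-1)), (0, (-3)), (0, 1), (0, (-3)), (0, (-1)), (0, 1), (0, 1), (0, (-1)), (0, 1), (0, 1), (0, 1)],
      [(0, (-1)), (0, (-1)), (0, 1), (0, (-3)), (0, 3), (0, 1), (0, (-1)), (0, 1), (0, (-1)), (0, 3), (0, (-1)), (0, (-1)), (0, 1), (0, 1), (0, (-1)), (0, (-1)), (0, (-1)), (0, 1), (0, (-1)), (0, (-1)), (0, (-3)), (0, (-1)), (0, (-1)), (0, 3)]])]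

/-- part of the generators and their transposes -/
def twoW4 : List (List (List (ℕ × ℤ)) × List (List (ℕ × ℤ))) :=
  [([[(0, 6), (3, 2), (3, 2), (2, 2), (1, 2), (0, (-2)), (2, 2), (5, 2)],
      [(1, 2), (0, 2), (0, 2), (1, 2), (0, (-2)), (0, (-2)), (1, 2), (0, 2), (1, 2), (2, 2), (0, (-2)), (1, (-2)), (0, 2), (0, (-2)), (0, (-2)), (0, 2)],
      [(1, 2), (0, 2), (0, 2), (1, 2), (0, 2), (0, (-2)), (1, 2), (0, (-2)), (1, (-2)), (2, 2), (0, 2), (1, 2), (0, (-2)), (0, 2), (0, (-2)), (0, (-2))],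
      [(1, 2), (0, 2), (0, 2), (1, 2), (0, 2), (0, 2), (1, (-2)), (0, (-2)), (1, 2), (2, (-2)), (0, (-2)), (1, (-2)), (0, (-2)), (0, 2), (0, 2), (0, 2)],
      [(0, 2), (3, 6), (3, (-2)), (2, (-2)), (1, (-2)), (0, 2), (2, (-2)), (5, (-2))],
      [(1, 2), (0, 2), (0, 2), (1, 2), (0, (-2)), (0, 2), (1, (-2)), (0, 2), (1, (-2)), (2, (-2)), (0, 2), (1, 2), (0, 2), (0, (-2)), (0, 2), (0, (-2))],
      [(1, (-2)), (0, 2), (0, 2), (1, (-2)), (0, 2), (0, 2), (1, 2), (0, 2), (1, 2), (2, (-2)), (0, 2), (1, 2), (0, (-2)), (0, (-2)), (0, (-2)), (0, 2)],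
      [(1, (-2)), (0, (-2)), (0, 2), (1, 2), (0, 2), (0, 2), (1, (-2)), (0, 2), (1, (-2)), (2, 2), (0, (-2)), (1, 2), (0, 2), (0, 2), (0, (-2)), (0, 2)],
      [(0, 2), (3, (-2)), (3, 6), (2, (-2)), (1, (-2)), (0, 2), (2, (-2)), (5, (-2))],
      [(1, 2), (0, 2), (0, (-2)), (1, (-2)), (0, 2), (0, (-2)), (1, 2), (0, 2), (1, (-2)), (2, (-2)), (0, (-2)), (1, 2), (0, 2), (0, 2), (0, 2), (0, 2)],
      [(1, 2), (0, (-2)), (0, (-2)), (1, 2), (0, 2), (0, 2), (1, 2), (0, 2), (1, (-2)), (2, (-2)), (0, (-2)), (1, (-2)), (0, (-2)), (0, (-2)), (0, (-2)), (0, (-2))],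
      [(0, 2), (3, (-2)), (3, (-2)), (2, 6), (1, (-2)), (0, 2), (2, (-2)), (5, (-2))],
      [(1, 2), (0, (-2)), (0, 2), (1, (-2)), (0, 2), (0, (-2)), (1, (-2)), (0, (-2)), (1, 2), (2, (-2)), (0, (-2)), (1, 2), (0, 2), (0, (-2)), (0, (-2)), (0, (-2))],
      [(0, 2), (3, (-2)), (3, (-2)), (2, (-2)), (1, 6), (0, 2), (2, (-2)), (5, (-2))],
      [(0, (-2)), (3, 2), (3, 2), (2, 2), (1, 2), (0, (-2)), (2, 2), (5, (-6))],
      [(1, 2), (0, 2), (0, (-2)), (1, (-2)), (0, (-2)), (0, 2), (1, (-2)), (0, (-2)), (1, (-2)), (2, 2), (0, (-2)), (1, 2), (0, (-2)), (0, (-2)), (0, (-2)), (0, 2)],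
      [(1, (-2)), (0, 2), (0, (-2)), (1, 2), (0, 2), (0, (-2)), (1, (-2)), (0, (-2)), (1, (-2)), (2, (-2)), (0, 2), (1, (-2)), (0, 2), (0, (-2)), (0, (-2)), (0, 2)],
      [(0, 2), (3, (-2)), (3, (-2)), (2, (-2)), (1, (-2)), (0, 2), (2, 6), (5, (-2))],
      [(1, (-2)), (0, 2), (0, (-2)), (1, 2), (0, 2), (0, 2), (1, 2), (0, (-2)), (1, 2), (2, 2), (0, (-2)), (1, 2), (0, 2), (0, (-2)), (0, 2), (0, (-2))],
      [(1, 2), (0, (-2)), (0, (-2)), (1, 2), (0, (-2)), (0, 2), (1, 2), (0, (-2)), (1, 2), (2, (-2)), (0, 2), (1, 2), (0, 2), (0, 2), (0, (-2)), (0, 2)],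
      [(1, (-2)), (0, 2), (0, 2), (1, (-2)), (0, (-2)), (0, 2), (1, 2), (0, (-2)), (1, (-2)), (2, (-2)), (0, (-2)), (1, (-2)), (0, 2), (0, 2), (0, (-2)), (0, (-2))],
      [(1, (-2)), (0, (-2)), (0, 2), (1, 2), (0, (-2)), (0, (-2)), (1, 2), (0, (-2)), (1, (-2)), (2, (-2)), (0, (-2)), (1, 2), (0, (-2)), (0, (-2)), (0, 2), (0, 2)],
      [(1, 2), (0, (-2)), (0, 2), (1, (-2)), (0, 2), (0, 2), (1, 2), (0, (-2)), (1, (-2)), (2, 2), (0, 2), (1, (-2)), (0, 2), (0, (-2)), (0, 2), (0, 2)],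
      [(0, 2), (3, (-2)), (3, (-2)), (2, (-2)), (1, (-2)), (0, (-6)), (2, (-2)), (5, (-2))]],
     [[(0, 6), (3, 2), (3, 2), (2, 2), (1, 2), (0, (-2)), (2, 2), (5, 2)],
      [(1, 2), (0, 2), (0, 2), (1, 2), (0, (-2)), (0, (-2)), (1, 2), (0, 2), (1, 2), (2, 2), (0, (-2)), (1, (-2)), (0, 2), (0, (-2)), (0, (-2)), (0, 2)],
      [(1, 2), (0, 2), (0, 2), (1, 2), (0, 2), (0, (-2)), (1, 2), (0, (-2)), (1, (-2)), (2, 2), (0, 2), (1, 2), (0, (-2)), (0, 2), (0, (-2)), (0, (-2))],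
      [(1, 2), (0, 2), (0, 2), (1, 2), (0, 2), (0, 2), (1, (-2)), (0, (-2)), (1, 2), (2, (-2)), (0, (-2)), (1, (-2)), (0, (-2)), (0, 2), (0, 2), (0, 2)],
      [(0, 2), (3, 6), (3, (-2)), (2, (-2)), (1, (-2)), (0, 2), (2, (-2)), (5, (-2))],
      [(1, 2), (0, 2), (0, 2), (1, 2), (0, (-2)), (0, 2), (1, (-2)), (0, 2), (1, (-2)), (2, (-2)), (0, 2), (1, 2), (0, 2), (0, (-2)), (0, 2), (0, (-2))],
      [(1, (-2)), (0, 2), (0, 2), (1, (-2)), (0, 2), (0, 2), (1, 2), (0, 2), (1, 2), (2, (-2)), (0, 2), (1, 2), (0, (-2)), (0, (-2)), (0, (-2)), (0, 2)],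
      [(1, (-2)), (0, (-2)), (0, 2), (1, 2), (0, 2), (0, 2), (1, (-2)), (0, 2), (1, (-2)), (2, 2), (0, (-2)), (1, 2), (0, 2), (0, 2), (0, (-2)), (0, 2)],
      [(0, 2), (3, (-2)), (3, 6), (2, (-2)), (1, (-2)), (0, 2), (2, (-2)), (5, (-2))],
      [(1, 2), (0, 2), (0, (-2)), (1, (-2)), (0, 2), (0, (-2)), (1, 2), (0, 2), (1, (-2)), (2, (-2)), (0, (-2)), (1, 2), (0, 2), (0, 2), (0, 2), (0, 2)],
      [(1, 2), (0, (-2)), (0, (-2)), (1, 2), (0, 2), (0, 2), (1, 2), (0, 2), (1, (-2)), (2, (-2)), (0, (-2)), (1, (-2)), (0, (-2)), (0, (-2)), (0, (-2)), (0, (-2))],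
      [(0, 2), (3, (-2)), (3, (-2)), (2, 6), (1, (-2)), (0, 2), (2, (-2)), (5, (-2))],
      [(1, 2), (0, (-2)), (0, 2), (1, (-2)), (0, 2), (0, (-2)), (1, (-2)), (0, (-2)), (1, 2), (2, (-2)), (0, (-2)), (1, 2), (0, 2), (0, (-2)), (0, (-2)), (0, (-2))],
      [(0, 2), (3, (-2)), (3, (-2)), (2, (-2)), (1, 6), (0, 2), (2, (-2)), (5, (-2))],
      [(0, (-2)), (3, 2), (3, 2), (2, 2), (1, 2), (0, (-2)), (2, 2), (5, (-6))],
      [(1, 2), (0, 2), (0, (-2)), (1, (-2)), (0, (-2)), (0, 2), (1, (-2)), (0, (-2)), (1, (-2)), (2, 2), (0, (-2)), (1, 2), (0, (-2)), (0, (-2)), (0, (-2)), (0, 2)],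
      [(1, (-2)), (0, 2), (0, (-2)), (1, 2), (0, 2), (0, (-2)), (1, (-2)), (0, (-2)), (1, (-2)), (2, (-2)), (0, 2), (1, (-2)), (0, 2), (0, (-2)), (0, (-2)), (0, 2)],
      [(0, 2), (3, (-2)), (3, (-2)), (2, (-2)), (1, (-2)), (0, 2), (2, 6), (5, (-2))],
      [(1, (-2)), (0, 2), (0, (-2)), (1, 2), (0, 2), (0, 2), (1, 2), (0, (-2)), (1, 2), (2, 2), (0, (-2)), (1, 2), (0, 2), (0, (-2)), (0, 2), (0, (-2))],
      [(1, 2), (0, (-2)), (0, (-2)), (1, 2), (0, (-2)), (0, 2), (1, 2), (0, (-2)), (1, 2), (2, (-2)), (0, 2), (1, 2), (0, 2), (0, 2), (0, (-2)), (0, 2)],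
      [(1, (-2)), (0, 2), (0, 2), (1, (-2)), (0, (-2)), (0, 2), (1, 2), (0, (-2)), (1, (-2)), (2, (-2)), (0, (-2)), (1, (-2)), (0, 2), (0, 2), (0, (-2)), (0, (-2))],
      [(1, (-2)), (0, (-2)), (0, 2), (1, 2), (0, (-2)), (0, (-2)), (1, 2), (0, (-2)), (1, (-2)), (2, (-2)), (0, (-2)), (1, 2), (0, (-2)), (0, (-2)), (0, 2), (0, 2)],
      [(1, 2), (0, (-2)), (0, 2), (1, (-2)), (0, 2), (0, 2), (1, 2), (0, (-2)), (1, (-2)), (2, 2), (0, 2), (1, (-2)), (0, 2), (0, (-2)), (0, 2), (0, 2)],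
      [(0, 2), (3, (-2)), (3, (-2)), (2, (-2)), (1, (-2)), (0, (-6)), (2, (-2)), (5, (-2))]]),
    ([[(2, 2), (0, 2), (0, (-2)), (2, 2), (0, (-2)), (0, (-2)), (1, (-4)), (3, 2), (0, (-2)), (2, (-2)), (0, 2), (0, (-2)), (0, (-2))],
      [(2, (-2)), (0, 2), (0, 2), (0, (-4)), (1, 2), (0, (-2)), (0, 2), (5, 2), (0, 2), (2, (-2)), (0, 2), (0, 2), (0, 2)],
      [(2, (-2)), (0, (-2)), (0, (-2)), (2, 2), (0, 2), (0, (-2)), (5, (-2)), (0, (-2)), (1, (-4)), (0, (-2)), (0, 2), (0, 2), (0, 2)],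
      [(0, (-2)), (0, (-2)), (3, (-2)), (0, 2), (3, 2), (0, (-2)), (0, (-2)), (0, 2), (0, 2), (2, 2), (0, (-2)), (0, 4), (3, (-2))],
      [(0, 2), (0, (-2)), (3, 2), (0, 2), (0, 4), (2, 2), (0, 2), (0, (-2)), (0, 2), (0, (-2)), (2, 2), (0, 2), (4, 2)],
      [(2, (-2)), (0, 2), (0, (-2)), (2, (-2)), (0, (-2)), (0, 2), (5, (-2)), (0, (-2)), (0, 4), (1, (-2)), (0, (-2)), (0, (-2)), (0, 2)],
      [(2, (-2)), (0, (-2)), (0, (-2)), (2, (-2)), (0, 2), (0, 2), (2, (-4)), (2, 2), (0, 2), (2, (-2)), (0, 2), (0, (-2)), (0, (-2))],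
      [(0, (-4)), (1, 2), (0, (-2)), (0, (-2)), (2, 2), (0, (-2)), (0, 2), (5, (-2)), (0, 2), (2, (-2)), (0, (-2)), (0, 2), (0, (-2))],
      [(0, (-2)), (0, 2), (2, 4), (0, 2), (0, (-2)), (3, 2), (0, (-2)), (0, (-2)), (0, (-2)), (0, (-2)), (2, 2), (0, (-2)), (4, 2)],
      [(0, 2), (0, (-2)), (3, (-2)), (0, (-2)), (3, (-2)), (0, (-2)), (0, (-2)), (0, 2), (0, (-2)), (2, (-2)), (0, (-2)), (1, (-4)), (2, 2)],
      [(2, 2), (0, (-2)), (0, (-2)), (2, (-2)), (0, (-2)), (0, 2), (5, 2), (0, (-2)), (2, 2), (0, 2), (0, 2), (0, 2), (0, 4)],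
      [(2, 2), (0, 2), (0, 2), (2, (-2)), (0, 2), (0, 2), (3, 4), (1, (-2)), (0, (-2)), (2, (-2)), (0, 2), (0, 2), (0, (-2))],
      [(2, 2), (0, (-2)), (0, 2), (2, 2), (0, 2), (0, 2), (4, 4), (0, 2), (0, (-2)), (2, (-2)), (0, (-2)), (0, (-2)), (0, 2)],
      [(0, (-2)), (0, (-2)), (3, (-2)), (0, 2), (1, 4), (1, (-2)), (0, (-2)), (0, 2), (0, (-2)), (0, (-2)), (2, 2), (0, 2), (4, 2)],
      [(0, 2), (0, 2), (3, (-2)), (0, 2), (3, 2), (0, (-2)), (0, (-2)), (0, (-2)), (0, 2), (0, (-4)), (1, (-2)), (0, 2), (4, 2)],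
      [(0, (-2)), (0, (-2)), (1, 4), (1, 2), (0, 2), (3, (-2)), (0, 2), (0, (-2)), (0, (-2)), (0, 2), (2, (-2)), (0, (-2)), (4, 2)],
      [(0, 2), (0, (-2)), (3, (-2)), (0, (-2)), (3, 2), (0, 2), (0, 2), (0, (-2)), (0, 2), (2, 2), (0, (-2)), (3, (-4)), (0, 2)],
      [(0, (-2)), (0, 2), (3, (-2)), (0, 2), (3, 2), (0, 2), (0, 2), (0, 2), (0, (-2)), (2, (-2)), (0, (-2)), (2, (-4)), (1, 2)],
      [(2, 2), (0, 2), (0, (-2)), (2, (-2)), (0, 2), (0, (-2)), (0, 4), (4, 2), (0, 2), (2, (-2)), (0, (-2)), (0, 2), (0, 2)],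
      [(2, (-2)), (0, (-2)), (0, 2), (1, 4), (0, (-2)), (0, (-2)), (0, (-2)), (5, 2), (0, (-2)), (2, (-2)), (0, (-2)), (0, 2), (0, (-2))],
      [(0, (-2)), (0, (-2)), (0, (-4)), (2, 2), (0, (-2)), (3, 2), (0, (-2)), (0, 2), (0, 2), (0, 2), (2, (-2)), (0, 2), (4, 2)],
      [(0, 2), (0, 2), (3, 2), (0, 2), (3, (-2)), (0, (-2)), (0, 2), (0, 2), (0, 2), (1, 4), (0, 2), (0, (-2)), (4, 2)],
      [(1, (-4)), (0, 2), (0, (-2)), (0, 2), (2, (-2)), (0, (-2)), (0, (-2)), (5, (-2)), (0, 2), (2, (-2)), (0, 2), (0, (-2)), (0, 2)],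
      [(0, (-2)), (0, 2), (3, (-2)), (0, (-2)), (2, (-4)), (0, (-2)), (0, 2), (0, (-2)), (0, 2), (0, 2), (2, 2), (0, 2), (4, 2)]],
     [[(3, (-2)), (0, 2), (2, (-4)), (0, (-2)), (0, 2), (3, (-2)), (0, 2), (0, (-2)), (0, 2), (0, (-2)), (2, (-2)), (0, 2), (1, (-2))],
      [(3, (-2)), (0, (-2)), (3, 2), (0, (-2)), (3, (-2)), (0, 2), (0, (-2)), (0, (-2)), (0, 2), (2, (-2)), (0, 2), (0, (-4)), (0, 2)],
      [(0, 2), (0, (-2)), (0, (-2)), (2, (-2)), (0, (-2)), (0, 2), (2, 2), (0, 2), (0, 2), (5, 2), (0, (-2)), (0, (-4)), (1, 2)],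
      [(0, 2), (0, 2), (0, (-2)), (2, 2), (0, (-2)), (0, (-2)), (2, (-2)), (0, 2), (0, (-2)), (2, 4), (2, 2), (0, (-2)), (2, (-2))],
      [(0, (-2)), (0, 2), (0, (-2)), (2, (-2)), (0, (-2)), (0, (-2)), (0, 4), (1, (-2)), (0, 2), (0, 2), (5, (-2)), (0, 2), (2, 2)],
      [(1, (-4)), (1, (-2)), (0, 2), (3, 2), (0, (-2)), (3, (-2)), (0, (-2)), (0, 2), (0, (-2)), (0, (-2)), (2, 2), (0, 2), (1, (-2))],
      [(3, 2), (0, 2), (3, (-2)), (0, (-2)), (3, 2), (0, 2), (0, 2), (0, (-2)), (0, 2), (1, 4), (0, (-2)), (0, 2), (1, (-2))],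
      [(0, 2), (0, 2), (0, 2), (1, 4), (0, (-2)), (0, (-2)), (0, 2), (2, (-2)), (0, (-2)), (0, 2), (5, (-2)), (0, (-2)), (2, (-2))],
      [(0, (-2)), (0, (-2)), (0, 2), (2, (-2)), (0, 2), (0, (-2)), (2, (-2)), (0, 2), (0, 2), (0, 4), (4, 2), (0, (-2)), (2, (-2))],
      [(0, (-2)), (0, 2), (0, (-2)), (2, 2), (0, 2), (0, 2), (2, 2), (0, 2), (0, 2), (5, (-2)), (0, (-2)), (2, (-2)), (0, (-4))],
      [(3, 2), (0, 2), (3, 2), (0, (-2)), (3, (-2)), (0, 2), (0, (-2)), (0, 2), (0, 2), (0, 4), (1, 2), (0, (-2)), (1, (-2))],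
      [(0, (-4)), (2, (-2)), (0, 2), (3, (-2)), (0, (-2)), (3, (-2)), (0, (-2)), (0, 2), (0, 2), (0, 2), (2, (-2)), (0, (-2)), (1, 2)],
      [(3, (-2)), (0, (-2)), (1, (-4)), (1, (-2)), (0, (-2)), (3, 2), (0, (-2)), (0, (-2)), (0, 2), (0, 2), (2, 2), (0, 2), (1, (-2))],
      [(3, 2), (0, 2), (3, (-2)), (0, 2), (1, 4), (1, (-2)), (0, (-2)), (0, (-2)), (0, (-2)), (0, 2), (2, 2), (0, 2), (1, 2)],
      [(3, 2), (0, (-2)), (3, (-2)), (0, (-2)), (2, 4), (0, (-2)), (0, 2), (0, 2), (0, 2), (0, (-2)), (2, 2), (0, 2), (1, 2)],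
      [(0, 2), (0, 2), (0, (-2)), (2, (-2)), (0, 2), (0, (-2)), (2, 2), (0, (-2)), (0, 2), (1, (-4)), (3, 2), (0, 2), (2, (-2))],
      [(0, (-2)), (0, 2), (0, (-2)), (2, (-2)), (0, 2), (0, 2), (2, (-2)), (0, (-2)), (0, (-2)), (5, 2), (0, (-2)), (1, 4), (0, 2)],
      [(3, 2), (0, 2), (0, 4), (2, 2), (0, (-2)), (3, 2), (0, (-2)), (0, (-2)), (0, 2), (0, (-2)), (2, (-2)), (0, 2), (1, 2)],
      [(2, (-4)), (0, (-2)), (0, 2), (3, (-2)), (0, (-2)), (3, 2), (0, 2), (0, (-2)), (0, (-2)), (0, (-2)), (2, 2), (0, (-2)), (1, 2)],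
      [(0, (-2)), (0, (-2)), (0, (-2)), (0, 4), (1, (-2)), (0, (-2)), (0, (-2)), (2, 2), (0, (-2)), (0, (-2)), (5, (-2)), (0, (-2)), (2, (-2))],
      [(0, 2), (0, 2), (0, 2), (2, (-2)), (0, 2), (0, (-2)), (1, (-4)), (0, 2), (0, 2), (0, (-2)), (5, (-2)), (0, (-2)), (2, 2)],
      [(0, (-2)), (0, 2), (0, 2), (2, (-2)), (0, (-2)), (0, 2), (2, 2), (0, 2), (0, (-2)), (4, (-4)), (0, 2), (0, 2), (2, (-2))],
      [(0, (-2)), (0, 2), (0, 2), (2, 2), (0, (-2)), (0, (-2)), (2, 2), (0, (-2)), (0, 2), (3, (-4)), (1, 2), (0, (-2)), (2, 2)],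
      [(3, (-2)), (0, 2), (3, 2), (0, 2), (0, 4), (2, 2), (0, 2), (0, 2), (0, 2), (0, 2), (2, 2), (0, 2), (1, 2)]])]

/-- part of the generators and their transposes -/
def twoW5 : List (List (List (ℕ × ℤ)) × List (List (ℕ × ℤ))) :=
  [([[(0, (-2)), (0, 2), (0, 2), (1, 2), (0, 2), (3, 2), (0, 2), (1, (-2)), (1, (-2)), (0, 2), (0, (-2)), (1, 2), (0, (-2)), (0, (-2)), (0, 2), (1, 2)],
      [(0, 2), (0, (-2)), (0, (-2)), (1, 2), (0, 2), (3, (-2)), (0, (-2)), (1, (-2)), (1, (-2)), (0, (-2)), (0, (-2)), (1, 2), (0, (-2)), (0, 2), (0, 2), (1, (-2))],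
      [(0, 2), (0, (-2)), (0, (-2)), (1, (-2)), (0, (-2)), (3, (-2)), (0, 2), (1, (-2)), (1, (-2)), (0, 2), (0, (-2)), (1, (-2)), (0, 2), (0, (-2)), (0, 2), (1, 2)],
      [(3, 2), (2, (-6)), (0, 2), (0, (-2)), (2, (-2)), (1, 2), (3, 2), (4, 2)],
      [(0, 2), (0, 2), (0, (-2)), (1, (-2)), (0, 2), (3, 2), (0, 2), (1, 2), (1, 2), (0, (-2)), (0, (-2)), (1, 2), (0, 2), (0, (-2)), (0, 2), (1, (-2))],
      [(0, 2), (0, 2), (0, (-2)), (1, 2), (0, (-2)), (3, 2), (0, (-2)), (1, 2), (1, 2), (0, 2), (0, (-2)), (1, (-2)), (0, (-2)), (0, 2), (0, 2), (1, 2)],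
      [(3, (-6)), (2, 2), (0, 2), (0, (-2)), (2, (-2)), (1, 2), (3, 2), (4, 2)],
      [(3, 2), (2, 2), (0, (-6)), (0, (-2)), (2, (-2)), (1, 2), (3, 2), (4, 2)],
      [(3, (-2)), (2, (-2)), (0, (-2)), (0, (-6)), (2, 2), (1, (-2)), (3, (-2)), (4, (-2))],
      [(0, 2), (0, (-2)), (0, (-2)), (1, 2), (0, 2), (3, (-2)), (0, 2), (1, 2), (1, 2), (0, 2), (0, 2), (1, 2), (0, (-2)), (0, (-2)), (0, (-2)), (1, 2)],
      [(0, 2), (0, (-2)), (0, 2), (1, 2), (0, (-2)), (3, 2), (0, (-2)), (1, 2), (1, (-2)), (0, 2), (0, 2), (1, 2), (0, 2), (0, (-2)), (0, 2), (1, (-2))],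
      [(3, (-2)), (2, (-2)), (0, (-2)), (0, 2), (2, (-6)), (1, (-2)), (3, (-2)), (4, (-2))],
      [(0, (-2)), (0, (-2)), (0, (-2)), (1, 2), (0, 2), (3, 2), (0, 2), (1, (-2)), (1, 2), (0, 2), (0, 2), (1, (-2)), (0, 2), (0, 2), (0, 2), (1, (-2))],
      [(3, 2), (2, 2), (0, 2), (0, (-2)), (2, (-2)), (1, (-6)), (3, 2), (4, 2)],
      [(0, (-2)), (0, (-2)), (0, (-2)), (1, 2), (0, 2), (3, 2), (0, (-2)), (1, 2), (1, (-2)), (0, (-2)), (0, (-2)), (1, (-2)), (0, 2), (0, (-2)), (0, (-2)), (1, 2)],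
      [(0, 2), (0, (-2)), (0, 2), (1, (-2)), (0, 2), (3, 2), (0, 2), (1, 2), (1, (-2)), (0, (-2)), (0, 2), (1, (-2)), (0, (-2)), (0, 2), (0, 2), (1, 2)],
      [(0, (-2)), (0, (-2)), (0, (-2)), (1, (-2)), (0, (-2)), (3, 2), (0, 2), (1, 2), (1, (-2)), (0, 2), (0, (-2)), (1, 2), (0, (-2)), (0, 2), (0, (-2)), (1, (-2))],
      [(3, 2), (2, 2), (0, 2), (0, (-2)), (2, (-2)), (1, 2), (3, (-6)), (4, 2)],
      [(0, 2), (0, 2), (0, (-2)), (1, 2), (0, (-2)), (3, 2), (0, 2), (1, (-2)), (1, (-2)), (0, (-2)), (0, 2), (1, (-2)), (0, (-2)), (0, (-2)), (0, (-2)), (1, (-2))],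
      [(0, (-2)), (0, (-2)), (0, 2), (1, 2), (0, (-2)), (3, (-2)), (0, 2), (1, 2), (1, 2), (0, (-2)), (0, (-2)), (1, (-2)), (0, (-2)), (0, (-2)), (0, 2), (1, (-2))],
      [(0, (-2)), (0, 2), (0, (-2)), (1, (-2)), (0, 2), (3, (-2)), (0, (-2)), (1, 2), (1, (-2)), (0, 2), (0, 2), (1, (-2)), (0, (-2)), (0, (-2)), (0, 2), (1, (-2))],
      [(0, 2), (0, 2), (0, 2), (1, 2), (0, 2), (3, (-2)), (0, 2), (1, 2), (1, (-2)), (0, 2), (0, (-2)), (1, (-2)), (0, 2), (0, 2), (0, (-2)), (1, (-2))],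
      [(3, 2), (2, 2), (0, 2), (0, (-2)), (2, (-2)), (1, 2), (3, 2), (4, (-6))],
      [(0, 2), (0, (-2)), (0, 2), (1, (-2)), (0, 2), (3, 2), (0, (-2)), (1, (-2)), (1, 2), (0, 2), (0, (-2)), (1, (-2)), (0, (-2)), (0, (-2)), (0, (-2)), (1, (-2))]],
     [[(0, (-2)), (0, 2), (0, 2), (1, 2), (0, 2), (3, 2), (0, 2), (1, (-2)), (1, (-2)), (0, 2), (0, (-2)), (1, 2), (0, (-2)), (0, (-2)), (0, 2), (1, 2)],
      [(0, 2), (0, (-2)), (0, (-2)), (1, 2), (0, 2), (3, (-2)), (0, (-2)), (1, (-2)), (1, (-2)), (0, (-2)), (0, (-2)), (1, 2), (0, (-2)), (0, 2), (0, 2), (1, (-2))],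
      [(0, 2), (0, (-2)), (0, (-2)), (1, (-2)), (0, (-2)), (3, (-2)), (0, 2), (1, (-2)), (1, (-2)), (0, 2), (0, (-2)), (1, (-2)), (0, 2), (0, (-2)), (0, 2), (1, 2)],
      [(3, 2), (2, (-6)), (0, 2), (0, (-2)), (2, (-2)), (1, 2), (3, 2), (4, 2)],
      [(0, 2), (0, 2), (0, (-2)), (1, (-2)), (0, 2), (3, 2), (0, 2), (1, 2), (1, 2), (0, (-2)), (0, (-2)), (1, 2), (0, 2), (0, (-2)), (0, 2), (1, (-2))],
      [(0, 2), (0, 2), (0, (-2)), (1, 2), (0, (-2)), (3, 2), (0, (-2)), (1, 2), (1, 2), (0, 2), (0, (-2)), (1, (-2)), (0, (-2)), (0, 2), (0, 2), (1, 2)],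
      [(3, (-6)), (2, 2), (0, 2), (0, (-2)), (2, (-2)), (1, 2), (3, 2), (4, 2)],
      [(3, 2), (2, 2), (0, (-6)), (0, (-2)), (2, (-2)), (1, 2), (3, 2), (4, 2)],
      [(3, (-2)), (2, (-2)), (0, (-2)), (0, (-6)), (2, 2), (1, (-2)), (3, (-2)), (4, (-2))],
      [(0, 2), (0, (-2)), (0, (-2)), (1, 2), (0, 2), (3, (-2)), (0, 2), (1, 2), (1, 2), (0, 2), (0, 2), (1, 2), (0, (-2)), (0, (-2)), (0, (-2)), (1, 2)],
      [(0, 2), (0, (-2)), (0, 2), (1, 2), (0, (-2)), (3, 2), (0, (-2)), (1, 2), (1, (-2)), (0, 2), (0, 2), (1, 2), (0, 2), (0, (-2)), (0, 2), (1, (-2))],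
      [(3, (-2)), (2, (-2)), (0, (-2)), (0, 2), (2, (-6)), (1, (-2)), (3, (-2)), (4, (-2))],
      [(0, (-2)), (0, (-2)), (0, (-2)), (1, 2), (0, 2), (3, 2), (0, 2), (1, (-2)), (1, 2), (0, 2), (0, 2), (1, (-2)), (0, 2), (0, 2), (0, 2), (1, (-2))],
      [(3, 2), (2, 2), (0, 2), (0, (-2)), (2, (-2)), (1, (-6)), (3, 2), (4, 2)],
      [(0, (-2)), (0, (-2)), (0, (-2)), (1, 2), (0, 2), (3, 2), (0, (-2)), (1, 2), (1, (-2)), (0, (-2)), (0, (-2)), (1, (-2)), (0, 2), (0, (-2)), (0, (-2)), (1, 2)],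
      [(0, 2), (0, (-2)), (0, 2), (1, (-2)), (0, 2), (3, 2), (0, 2), (1, 2), (1, (-2)), (0, (-2)), (0, 2), (1, (-2)), (0, (-2)), (0, 2), (0, 2), (1, 2)],
      [(0, (-2)), (0, (-2)), (0, (-2)), (1, (-2)), (0, (-2)), (3, 2), (0, 2), (1, 2), (1, (-2)), (0, 2), (0, (-2)), (1, 2), (0, (-2)), (0, 2), (0, (-2)), (1, (-2))],
      [(3, 2), (2, 2), (0, 2), (0, (-2)), (2, (-2)), (1, 2), (3, (-6)), (4, 2)],
      [(0, 2), (0, 2), (0, (-2)), (1, 2), (0, (-2)), (3, 2), (0, 2), (1, (-2)), (1, (-2)), (0, (-2)), (0, 2), (1, (-2)), (0, (-2)), (0, (-2)), (0, (-2)), (1, (-2))],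
      [(0, (-2)), (0, (-2)), (0, 2), (1, 2), (0, (-2)), (3, (-2)), (0, 2), (1, 2), (1, 2), (0, (-2)), (0, (-2)), (1, (-2)), (0, (-2)), (0, (-2)), (0, 2), (1, (-2))],
      [(0, (-2)), (0, 2), (0, (-2)), (1, (-2)), (0, 2), (3, (-2)), (0, (-2)), (1, 2), (1, (-2)), (0, 2), (0, 2), (1, (-2)), (0, (-2)), (0, (-2)), (0, 2), (1, (-2))],
      [(0, 2), (0, 2), (0, 2), (1, 2), (0, 2), (3, (-2)), (0, 2), (1, 2), (1, (-2)), (0, 2), (0, (-2)), (1, (-2)), (0, 2), (0, 2), (0, (-2)), (1, (-2))],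
      [(3, 2), (2, 2), (0, 2), (0, (-2)), (2, (-2)), (1, 2), (3, 2), (4, (-6))],
      [(0, 2), (0, (-2)), (0, 2), (1, (-2)), (0, 2), (3, 2), (0, (-2)), (1, (-2)), (1, 2), (0, 2), (0, (-2)), (1, (-2)), (0, (-2)), (0, (-2)), (0, (-2)), (1, (-2))]]),
    ([[(0, 6), (3, 2), (2, 2), (4, (-2)), (0, (-2)), (1, 2), (1, (-2)), (4, 2)],
      [(1, 2), (0, 2), (0, 2), (1, 2), (0, (-2)), (1, (-2)), (0, 2), (0, 2), (0, 2), (2, 2), (1, 2), (1, (-2)), (0, 2), (0, (-2)), (0, 2), (1, 2)],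
      [(1, 2), (0, 2), (0, (-2)), (1, 2), (0, (-2)), (1, (-2)), (0, 2), (0, (-2)), (0, (-2)), (2, (-2)), (1, 2), (1, 2), (0, (-2)), (0, 2), (0, (-2)), (1, 2)],
      [(1, 2), (0, (-2)), (0, 2), (1, 2), (0, 2), (1, (-2)), (0, (-2)), (0, (-2)), (0, (-2)), (2, (-2)), (1, (-2)), (1, (-2)), (0, 2), (0, 2), (0, 2), (1, 2)],
      [(0, 2), (3, 6), (2, (-2)), (4, 2), (0, 2), (1, (-2)), (1, 2), (4, (-2))],
      [(1, 2), (0, 2), (0, 2), (1, 2), (0, (-2)), (1, 2), (0, (-2)), (0, 2), (0, (-2)), (2, (-2)), (1, (-2)), (1, 2), (0, 2), (0, (-2)), (0, (-2)), (1, (-2))],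
      [(1, (-2)), (0, (-2)), (0, 2), (1, (-2)), (0, 2), (1, (-2)), (0, 2), (0, 2), (0, (-2)), (2, (-2)), (1, 2), (1, 2), (0, 2), (0, (-2)), (0, (-2)), (1, 2)],
      [(0, 2), (3, (-2)), (2, 6), (4, 2), (0, 2), (1, (-2)), (1, 2), (4, (-2))],
      [(1, (-2)), (0, (-2)), (0, (-2)), (1, 2), (0, (-2)), (1, 2), (0, (-2)), (0, (-2)), (0, 2), (2, (-2)), (1, 2), (1, 2), (0, 2), (0, (-2)), (0, 2), (1, 2)],
      [(1, 2), (0, 2), (0, (-2)), (1, (-2)), (0, 2), (1, (-2)), (0, 2), (0, (-2)), (0, 2), (2, (-2)), (1, (-2)), (1, 2), (0, 2), (0, (-2)), (0, 2), (1, (-2))],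
      [(1, 2), (0, (-2)), (0, (-2)), (1, 2), (0, 2), (1, (-2)), (0, (-2)), (0, 2), (0, 2), (2, 2), (1, (-2)), (1, 2), (0, (-2)), (0, (-2)), (0, (-2)), (1, 2)],
      [(1, 2), (0, (-2)), (0, (-2)), (1, (-2)), (0, (-2)), (1, 2), (0, 2), (0, 2), (0, 2), (2, (-2)), (1, (-2)), (1, (-2)), (0, 2), (0, 2), (0, (-2)), (1, 2)],
      [(0, (-2)), (3, 2), (2, 2), (4, (-2)), (0, (-2)), (1, (-6)), (1, (-2)), (4, 2)],
      [(0, (-2)), (3, 2), (2, 2), (4, (-2)), (0, 6), (1, 2), (1, (-2)), (4, 2)],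
      [(1, 2), (0, (-2)), (0, (-2)), (1, (-2)), (0, (-2)), (1, (-2)), (0, (-2)), (0, 2), (0, (-2)), (2, 2), (1, 2), (1, 2), (0, 2), (0, 2), (0, 2), (1, (-2))],
      [(0, 2), (3, (-2)), (2, (-2)), (4, (-6)), (0, 2), (1, (-2)), (1, 2), (4, (-2))],
      [(1, 2), (0, 2), (0, (-2)), (1, (-2)), (0, 2), (1, 2), (0, (-2)), (0, (-2)), (0, (-2)), (2, 2), (1, 2), (1, (-2)), (0, 2), (0, (-2)), (0, (-2)), (1, 2)],
      [(0, (-2)), (3, 2), (2, 2), (4, (-2)), (0, (-2)), (1, 2), (1, 6), (4, 2)],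
      [(1, (-2)), (0, 2), (0, (-2)), (1, 2), (0, 2), (1, 2), (0, 2), (0, 2), (0, (-2)), (2, 2), (1, (-2)), (1, 2), (0, 2), (0, 2), (0, 2), (1, 2)],
      [(1, 2), (0, (-2)), (0, 2), (1, 2), (0, 2), (1, 2), (0, 2), (0, (-2)), (0, 2), (2, 2), (1, 2), (1, 2), (0, 2), (0, 2), (0, (-2)), (1, (-2))],
      [(1, (-2)), (0, 2), (0, 2), (1, (-2)), (0, (-2)), (1, (-2)), (0, (-2)), (0, (-2)), (0, 2), (2, 2), (1, (-2)), (1, 2), (0, 2), (0, 2), (0, (-2)), (1, 2)],
      [(1, 2), (0, (-2)), (0, 2), (1, (-2)), (0, (-2)), (1, 2), (0, 2), (0, (-2)), (0, (-2)), (2, 2), (1, (-2)), (1, 2), (0, (-2)), (0, (-2)), (0, 2), (1, 2)],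
      [(0, 2), (3, (-2)), (2, (-2)), (4, 2), (0, 2), (1, (-2)), (1, 2), (4, 6)],
      [(1, 2), (0, 2), (0, 2), (1, (-2)), (0, 2), (1, 2), (0, (-2)), (0, 2), (0, 2), (2, (-2)), (1, 2), (1, 2), (0, (-2)), (0, 2), (0, 2), (1, 2)]],
     [[(0, 6), (3, 2), (2, 2), (4, (-2)), (0, (-2)), (1, 2), (1, (-2)), (4, 2)],
      [(1, 2), (0, 2), (0, 2), (1, 2), (0, (-2)), (1, (-2)), (0, 2), (0, 2), (0, 2), (2, 2), (1, 2), (1, (-2)), (0, 2), (0, (-2)), (0, 2), (1, 2)],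
      [(1, 2), (0, 2), (0, (-2)), (1, 2), (0, (-2)), (1, (-2)), (0, 2), (0, (-2)), (0, (-2)), (2, (-2)), (1, 2), (1, 2), (0, (-2)), (0, 2), (0, (-2)), (1, 2)],
      [(1, 2), (0, (-2)), (0, 2), (1, 2), (0, 2), (1, (-2)), (0, (-2)), (0, (-2)), (0, (-2)), (2, (-2)), (1, (-2)), (1, (-2)), (0, 2), (0, 2), (0, 2), (1, 2)],
      [(0, 2), (3, 6), (2, (-2)), (4, 2), (0, 2), (1, (-2)), (1, 2), (4, (-2))],
      [(1, 2), (0, 2), (0, 2), (1, 2), (0, (-2)), (1, 2), (0, (-2)), (0, 2), (0, (-2)), (2, (-2)), (1, (-2)), (1, 2), (0, 2), (0, (-2)), (0, (-2)), (1, (-2))],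
      [(1, (-2)), (0, (-2)), (0, 2), (1, (-2)), (0, 2), (1, (-2)), (0, 2), (0, 2), (0, (-2)), (2, (-2)), (1, 2), (1, 2), (0, 2), (0, (-2)), (0, (-2)), (1, 2)],
      [(0, 2), (3, (-2)), (2, 6), (4, 2), (0, 2), (1, (-2)), (1, 2), (4, (-2))],
      [(1, (-2)), (0, (-2)), (0, (-2)), (1, 2), (0, (-2)), (1, 2), (0, (-2)), (0, (-2)), (0, 2), (2, (-2)), (1, 2), (1, 2), (0, 2), (0, (-2)), (0, 2), (1, 2)],
      [(1, 2), (0, 2), (0, (-2)), (1, (-2)), (0, 2), (1, (-2)), (0, 2), (0, (-2)), (0, 2), (2, (-2)), (1, (-2)), (1, 2), (0, 2), (0, (-2)), (0, 2), (1, (-2))],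
      [(1, 2), (0, (-2)), (0, (-2)), (1, 2), (0, 2), (1, (-2)), (0, (-2)), (0, 2), (0, 2), (2, 2), (1, (-2)), (1, 2), (0, (-2)), (0, (-2)), (0, (-2)), (1, 2)],
      [(1, 2), (0, (-2)), (0, (-2)), (1, (-2)), (0, (-2)), (1, 2), (0, 2), (0, 2), (0, 2), (2, (-2)), (1, (-2)), (1, (-2)), (0, 2), (0, 2), (0, (-2)), (1, 2)],
      [(0, (-2)), (3, 2), (2, 2), (4, (-2)), (0, (-2)), (1, (-6)), (1, (-2)), (4, 2)],
      [(0, (-2)), (3, 2), (2, 2), (4, (-2)), (0, 6), (1, 2), (1, (-2)), (4, 2)],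
      [(1, 2), (0, (-2)), (0, (-2)), (1, (-2)), (0, (-2)), (1, (-2)), (0, (-2)), (0, 2), (0, (-2)), (2, 2), (1, 2), (1, 2), (0, 2), (0, 2), (0, 2), (1, (-2))],
      [(0, 2), (3, (-2)), (2, (-2)), (4, (-6)), (0, 2), (1, (-2)), (1, 2), (4, (-2))],
      [(1, 2), (0, 2), (0, (-2)), (1, (-2)), (0, 2), (1, 2), (0, (-2)), (0, (-2)), (0, (-2)), (2, 2), (1, 2), (1, (-2)), (0, 2), (0, (-2)), (0, (-2)), (1, 2)],
      [(0, (-2)), (3, 2), (2, 2), (4, (-2)), (0, (-2)), (1, 2), (1, 6), (4, 2)],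
      [(1, (-2)), (0, 2), (0, (-2)), (1, 2), (0, 2), (1, 2), (0, 2), (0, 2), (0, (-2)), (2, 2), (1, (-2)), (1, 2), (0, 2), (0, 2), (0, 2), (1, 2)],
      [(1, 2), (0, (-2)), (0, 2), (1, 2), (0, 2), (1, 2), (0, 2), (0, (-2)), (0, 2), (2, 2), (1, 2), (1, 2), (0, 2), (0, 2), (0, (-2)), (1, (-2))],
      [(1, (-2)), (0, 2), (0, 2), (1, (-2)), (0, (-2)), (1, (-2)), (0, (-2)), (0, (-2)), (0, 2), (2, 2), (1, (-2)), (1, 2), (0, 2), (0, 2), (0, (-2)), (1, 2)],
      [(1, 2), (0, (-2)), (0, 2), (1, (-2)), (0, (-2)), (1, 2), (0, 2), (0, (-2)), (0, (-2)), (2, 2), (1, (-2)), (1, 2), (0, (-2)), (0, (-2)), (0, 2), (1, 2)],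
      [(0, 2), (3, (-2)), (2, (-2)), (4, 2), (0, 2), (1, (-2)), (1, 2), (4, 6)],
      [(1, 2), (0, 2), (0, 2), (1, (-2)), (0, 2), (1, 2), (0, (-2)), (0, 2), (0, 2), (2, (-2)), (1, 2), (1, 2), (0, (-2)), (0, 2), (0, 2), (1, 2)]])]

/-- part of the generators and their transposes -/
def twoW6 : List (List (List (ℕ × ℤ)) × List (List (ℕ × ℤ))) :=
  [([[(0, (-8))],
      [(1, (-8))],
      [(2, (-8))],
      [(3, (-8))],
      [(4, (-8))],
      [(5, (-8))],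
      [(6, (-8))],
      [(7, (-8))],
      [(8, (-8))],
      [(9, (-8))],
      [(10, (-8))],
      [(11, (-8))],
      [(12, (-8))],
      [(13, (-8))],
      [(14, (-8))],
      [(15, (-8))],
      [(16, (-8))],
      [(17, (-8))],
      [(18, (-8))],
      [(19, (-8))],
      [(20, (-8))],
      [(21, (-8))],
      [(22, (-8))],
      [(23, (-8))]],
     [[(0, (-8))],
      [(1, (-8))],
      [(2, (-8))],
      [(3, (-8))],
      [(4, (-8))],
      [(5, (-8))],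
      [(6, (-8))],
      [(7, (-8))],
      [(8, (-8))],
      [(9, (-8))],
      [(10, (-8))],
      [(11, (-8))],
      [(12, (-8))],
      [(13, (-8))],
      [(14, (-8))],
      [(15, (-8))],
      [(16, (-8))],
      [(17, (-8))],
      [(18, (-8))],
      [(19, (-8))],
      [(20, (-8))],
      [(21, (-8))],
      [(22, (-8))],
      [(23, (-8))]]),
    ([[(0, 4), (1, 2), (1, 4), (2, (-2)), (5, 2), (0, (-2)), (2, 2), (1, (-2)), (2, (-2)), (0, 2)],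
      [(1, 4), (0, (-2)), (4, (-2)), (5, (-2)), (0, (-2)), (1, (-4)), (0, 2), (1, (-2)), (2, 2), (0, (-2))],
      [(0, 2), (0, (-2)), (1, 2), (0, (-2)), (0, (-2)), (0, 2), (1, 2), (0, (-2)), (0, 2), (0, 2), (0, (-2)), (2, 2), (0, (-2)), (1, (-2)), (1, (-2)), (0, 2)],
      [(2, 2), (0, 4), (2, (-4)), (0, 2), (5, 2), (0, 2), (2, 2), (1, (-2)), (2, 2), (0, (-2))],
      [(0, 4), (1, (-2)), (1, 4), (2, 2), (5, (-2)), (0, 2), (2, (-2)), (1, 2), (2, 2), (0, (-2))],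
      [(2, (-2)), (2, 4), (1, 2), (5, (-2)), (0, 2), (2, 2), (1, (-2)), (1, 4), (0, (-2)), (0, 2)],
      [(2, 2), (0, (-4)), (2, 4), (0, 2), (5, 2), (0, 2), (2, 2), (1, (-2)), (2, 2), (0, (-2))],
      [(0, (-2)), (0, (-2)), (1, 2), (0, 2), (0, 2), (0, 2), (1, (-2)), (0, (-2)), (0, 2), (0, (-2)), (0, (-2)), (2, 2), (0, (-2)), (1, 2), (1, 2), (0, (-2))],
      [(2, 2), (4, (-2)), (0, 4), (2, (-4)), (1, (-2)), (0, 2), (2, (-2)), (1, (-2)), (2, (-2)), (0, (-2))],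
      [(2, (-2)), (4, (-2)), (1, 4), (0, 4), (2, 2), (0, 2), (2, (-2)), (1, (-2)), (2, 2), (0, 2)],
      [(2, 2), (4, 2), (1, 4), (0, 4), (2, (-2)), (0, (-2)), (2, 2), (1, 2), (2, (-2)), (0, (-2))],
      [(2, 2), (4, (-2)), (0, (-4)), (2, 4), (1, (-2)), (0, 2), (2, (-2)), (1, (-2)), (2, (-2)), (0, (-2))],
      [(2, (-2)), (4, (-2)), (4, 4), (0, 2), (0, 2), (0, 4), (1, 2), (1, 2), (2, (-2)), (0, (-2))],
      [(0, 2), (0, (-2)), (1, 2), (0, (-2)), (0, (-2)), (0, 2), (1, (-2)), (0, 2), (0, (-2)), (0, (-2)), (0, 2), (2, (-2)), (0, (-2)), (1, 2), (1, 2), (0, 2)],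
      [(0, (-2)), (0, (-2)), (1, 2), (0, 2), (0, 2), (0, 2), (1, 2), (0, 2), (0, (-2)), (0, 2), (0, 2), (2, (-2)), (0, (-2)), (1, (-2)), (1, (-2)), (0, (-2))],
      [(2, 2), (4, 2), (4, 4), (0, (-2)), (0, (-2)), (0, 4), (1, (-2)), (1, (-2)), (2, 2), (0, 2)],
      [(1, (-4)), (0, (-2)), (4, (-2)), (5, (-2)), (0, (-2)), (1, 4), (0, 2), (1, (-2)), (2, 2), (0, (-2))],
      [(0, 2), (0, 2), (1, 2), (0, (-2)), (0, 2), (0, 2), (1, (-2)), (0, (-2)), (0, 2), (0, (-2)), (0, 2), (2, (-2)), (0, 2), (1, (-2)), (1, (-2)), (0, (-2))],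
      [(2, (-2)), (4, 2), (5, 2), (0, (-2)), (2, (-2)), (0, 4), (0, (-2)), (0, (-4)), (1, (-2)), (0, (-2))],
      [(0, (-2)), (0, (-2)), (1, (-2)), (0, 2), (0, (-2)), (0, (-2)), (1, (-2)), (0, (-2)), (0, 2), (0, (-2)), (0, 2), (2, (-2)), (0, (-2)), (1, (-2)), (1, (-2)), (0, 2)],
      [(2, (-2)), (4, 2), (5, 2), (0, (-2)), (2, (-2)), (0, (-4)), (0, (-2)), (0, 4), (1, (-2)), (0, (-2))],
      [(2, 2), (2, 4), (1, (-2)), (5, 2), (0, (-2)), (2, (-2)), (1, 2), (1, 4), (0, 2), (0, (-2))],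
      [(0, (-2)), (0, 2), (1, 2), (0, 2), (0, (-2)), (0, 2), (1, (-2)), (0, 2), (0, (-2)), (0, (-2)), (0, (-2)), (2, 2), (0, 2), (1, (-2)), (1, (-2)), (0, 2)],
      [(0, 2), (0, (-2)), (1, (-2)), (0, (-2)), (0, 2), (0, (-2)), (1, (-2)), (0, 2), (0, (-2)), (0, (-2)), (0, (-2)), (2, 2), (0, (-2)), (1, (-2)), (1, (-2)), (0, (-2))]],
     [[(0, 4), (1, 2), (1, 4), (2, (-2)), (5, 2), (0, (-2)), (2, 2), (1, (-2)), (2, (-2)), (0, 2)],
      [(1, 4), (0, (-2)), (4, (-2)), (5, (-2)), (0, (-2)), (1, (-4)), (0, 2), (1, (-2)), (2, 2), (0, (-2))],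
      [(0, 2), (0, (-2)), (1, 2), (0, (-2)), (0, (-2)), (0, 2), (1, 2), (0, (-2)), (0, 2), (0, 2), (0, (-2)), (2, 2), (0, (-2)), (1, (-2)), (1, (-2)), (0, 2)],
      [(2, 2), (0, 4), (2, (-4)), (0, 2), (5, 2), (0, 2), (2, 2), (1, (-2)), (2, 2), (0, (-2))],
      [(0, 4), (1, (-2)), (1, 4), (2, 2), (5, (-2)), (0, 2), (2, (-2)), (1, 2), (2, 2), (0, (-2))],
      [(2, (-2)), (2, 4), (1, 2), (5, (-2)), (0, 2), (2, 2), (1, (-2)), (1, 4), (0, (-2)), (0, 2)],
      [(2, 2), (0, (-4)), (2, 4), (0, 2), (5, 2), (0, 2), (2, 2), (1, (-2)), (2, 2), (0, (-2))],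
      [(0, (-2)), (0, (-2)), (1, 2), (0, 2), (0, 2), (0, 2), (1, (-2)), (0, (-2)), (0, 2), (0, (-2)), (0, (-2)), (2, 2), (0, (-2)), (1, 2), (1, 2), (0, (-2))],
      [(2, 2), (4, (-2)), (0, 4), (2, (-4)), (1, (-2)), (0, 2), (2, (-2)), (1, (-2)), (2, (-2)), (0, (-2))],
      [(2, (-2)), (4, (-2)), (1, 4), (0, 4), (2, 2), (0, 2), (2, (-2)), (1, (-2)), (2, 2), (0, 2)],
      [(2, 2), (4, 2), (1, 4), (0, 4), (2, (-2)), (0, (-2)), (2, 2), (1, 2), (2, (-2)), (0, (-2))],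
      [(2, 2), (4, (-2)), (0, (-4)), (2, 4), (1, (-2)), (0, 2), (2, (-2)), (1, (-2)), (2, (-2)), (0, (-2))],
      [(2, (-2)), (4, (-2)), (4, 4), (0, 2), (0, 2), (0, 4), (1, 2), (1, 2), (2, (-2)), (0, (-2))],
      [(0, 2), (0, (-2)), (1, 2), (0, (-2)), (0, (-2)), (0, 2), (1, (-2)), (0, 2), (0, (-2)), (0, (-2)), (0, 2), (2, (-2)), (0, (-2)), (1, 2), (1, 2), (0, 2)],
      [(0, (-2)), (0, (-2)), (1, 2), (0, 2), (0, 2), (0, 2), (1, 2), (0, 2), (0, (-2)), (0, 2), (0, 2), (2, (-2)), (0, (-2)), (1, (-2)), (1, (-2)), (0, (-2))],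
      [(2, 2), (4, 2), (4, 4), (0, (-2)), (0, (-2)), (0, 4), (1, (-2)), (1, (-2)), (2, 2), (0, 2)],
      [(1, (-4)), (0, (-2)), (4, (-2)), (5, (-2)), (0, (-2)), (1, 4), (0, 2), (1, (-2)), (2, 2), (0, (-2))],
      [(0, 2), (0, 2), (1, 2), (0, (-2)), (0, 2), (0, 2), (1, (-2)), (0, (-2)), (0, 2), (0, (-2)), (0, 2), (2, (-2)), (0, 2), (1, (-2)), (1, (-2)), (0, (-2))],
      [(2, (-2)), (4, 2), (5, 2), (0, (-2)), (2, (-2)), (0, 4), (0, (-2)), (0, (-4)), (1, (-2)), (0, (-2))],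
      [(0, (-2)), (0, (-2)), (1, (-2)), (0, 2), (0, (-2)), (0, (-2)), (1, (-2)), (0, (-2)), (0, 2), (0, (-2)), (0, 2), (2, (-2)), (0, (-2)), (1, (-2)), (1, (-2)), (0, 2)],
      [(2, (-2)), (4, 2), (5, 2), (0, (-2)), (2, (-2)), (0, (-4)), (0, (-2)), (0, 4), (1, (-2)), (0, (-2))],
      [(2, 2), (2, 4), (1, (-2)), (5, 2), (0, (-2)), (2, (-2)), (1, 2), (1, 4), (0, 2), (0, (-2))],
      [(0, (-2)), (0, 2), (1, 2), (0, 2), (0, (-2)), (0, 2), (1, (-2)), (0, 2), (0, (-2)), (0, (-2)), (0, (-2)), (2, 2), (0, 2), (1, (-2)), (1, (-2)), (0, 2)],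
      [(0, 2), (0, (-2)), (1, (-2)), (0, (-2)), (0, 2), (0, (-2)), (1, (-2)), (0, 2), (0, (-2)), (0, (-2)), (0, (-2)), (2, 2), (0, (-2)), (1, (-2)), (1, (-2)), (0, (-2))]])]

/-- part of the generators and their transposes -/
def twoW7 : List (List (List (ℕ × ℤ)) × List (List (ℕ × ℤ))) :=
  [([[(1, 2), (0, 2), (1, (-2)), (2, (-2)), (0, 2), (0, 2), (1, (-2)), (1, 2), (0, (-2)), (0, (-2)), (0, 2), (1, 2), (0, (-2)), (0, 2), (0, (-2)), (1, (-2))],
      [(0, (-2)), (2, 2), (1, (-2)), (0, (-2)), (3, (-2)), (0, (-4)), (0, 2), (3, (-4)), (0, 2), (4, 2)],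
      [(1, (-2)), (0, (-2)), (1, (-2)), (2, (-2)), (0, 2), (0, (-2)), (1, 2), (1, (-2)), (0, (-2)), (0, 2), (0, (-2)), (1, (-2)), (0, (-2)), (0, 2), (0, (-2)), (1, (-2))],
      [(0, (-2)), (2, (-2)), (1, (-2)), (0, (-2)), (2, (-4)), (0, 2), (1, 2), (4, (-2)), (0, 4), (3, (-2))],
      [(0, 2), (1, (-4)), (0, 2), (1, (-2)), (0, (-2)), (3, 2), (1, (-2)), (2, (-4)), (1, 2), (4, (-2))],
      [(1, 2), (0, (-2)), (1, 2), (2, (-2)), (0, (-2)), (0, 2), (1, 2), (1, 2), (0, (-2)), (0, 2), (0, (-2)), (1, 2), (0, (-2)), (0, (-2)), (0, (-2)), (1, 2)],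
      [(1, 2), (0, 2), (1, (-2)), (2, (-2)), (0, (-2)), (0, (-2)), (1, 2), (1, 2), (0, 2), (0, (-2)), (0, (-2)), (1, (-2)), (0, (-2)), (0, 2), (0, 2), (1, 2)],
      [(0, 2), (2, (-2)), (1, 2), (0, (-2)), (1, (-4)), (1, (-2)), (1, 2), (4, 2), (4, (-2)), (0, (-4))],
      [(0, (-2)), (2, 2), (1, 2), (0, (-2)), (0, 4), (2, (-2)), (1, (-2)), (4, (-2)), (1, (-4)), (2, (-2))],
      [(0, 2), (2, (-2)), (1, 2), (0, 2), (3, 2), (0, (-4)), (0, (-2)), (3, (-4)), (0, (-2)), (4, (-2))],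
      [(0, 2), (2, (-2)), (1, 2), (0, (-2)), (1, 4), (1, (-2)), (1, 2), (4, 2), (4, (-2)), (0, 4)],
      [(0, (-2)), (2, (-2)), (1, (-2)), (0, (-2)), (2, 4), (0, 2), (1, 2), (4, (-2)), (0, (-4)), (3, (-2))],
      [(0, 2), (0, (-4)), (1, (-2)), (1, (-2)), (0, (-2)), (3, (-2)), (1, (-2)), (0, 4), (3, (-2)), (4, 2)],
      [(0, (-2)), (2, (-2)), (1, (-2)), (0, 2), (3, (-2)), (1, (-2)), (1, (-4)), (2, 2), (3, 4), (0, (-2))],
      [(1, (-2)), (0, 2), (1, (-2)), (2, 2), (0, (-2)), (0, 2), (1, 2), (1, (-2)), (0, (-2)), (0, (-2)), (0, (-2)), (1, 2), (0, 2), (0, 2), (0, (-2)), (1, 2)],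
      [(0, 2), (2, 2), (0, 4), (0, (-2)), (0, 2), (3, (-2)), (1, 2), (4, (-2)), (2, 4), (1, (-2))],
      [(1, (-2)), (0, 2), (1, 2), (2, (-2)), (0, 2), (0, 2), (1, 2), (1, (-2)), (0, 2), (0, (-2)), (0, (-2)), (1, 2), (0, (-2)), (0, (-2)), (0, 2), (1, (-2))],
      [(0, 2), (2, 2), (0, (-4)), (0, (-2)), (0, 2), (3, (-2)), (1, 2), (4, (-2)), (2, (-4)), (1, (-2))],
      [(0, (-2)), (1, (-4)), (0, (-2)), (1, 2), (0, 2), (3, (-2)), (1, 2), (2, (-4)), (1, (-2)), (4, 2)],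
      [(1, (-2)), (0, 2), (1, 2), (2, (-2)), (0, (-2)), (0, (-2)), (1, (-2)), (1, (-2)), (0, (-2)), (0, (-2)), (0, 2), (1, (-2)), (0, (-2)), (0, (-2)), (0, (-2)), (1, 2)],
      [(0, 2), (2, 2), (1, 2), (0, (-2)), (3, 2), (1, 2), (1, (-4)), (2, (-2)), (3, 4), (0, 2)],
      [(0, 2), (0, 4), (1, (-2)), (1, (-2)), (0, (-2)), (3, (-2)), (1, (-2)), (0, (-4)), (3, (-2)), (4, 2)],
      [(1, 2), (0, 2), (1, 2), (2, 2), (0, 2), (0, (-2)), (1, 2), (1, 2), (0, (-2)), (0, (-2)), (0, (-2)), (1, (-2)), (0, 2), (0, (-2)), (0, (-2)), (1, (-2))],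
      [(0, 2), (2, (-2)), (1, (-2)), (0, 2), (0, 4), (2, 2), (1, 2), (4, 2), (1, (-4)), (2, 2)]],
     [[(1, (-2)), (1, (-2)), (0, 2), (2, 2), (0, (-2)), (0, 2), (0, 2), (0, (-2)), (0, 2), (0, (-2)), (1, 2), (1, 2), (0, (-2)), (1, 2), (0, 2), (1, 2)],
      [(0, 2), (1, (-2)), (2, 2), (0, 2), (5, (-4)), (1, (-2)), (1, (-2)), (2, (-2)), (1, 4), (0, 2)],
      [(0, 2), (1, (-2)), (1, (-4)), (0, (-2)), (0, 2), (7, 2), (1, 2), (1, (-4)), (0, 2), (2, 2)],
      [(1, 2), (1, (-2)), (0, 2), (2, (-2)), (0, 2), (0, (-2)), (0, (-2)), (0, (-2)), (0, (-2)), (0, (-2)), (1, 2), (1, 2), (0, (-2)), (1, 2), (0, (-2)), (1, (-2))],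
      [(0, (-2)), (1, (-2)), (2, 2), (0, (-2)), (7, (-2)), (0, 4), (0, 2), (0, (-4)), (1, 2), (2, 2)],
      [(1, (-2)), (1, (-2)), (0, (-2)), (2, 2), (0, 2), (0, 2), (0, 2), (0, (-2)), (0, (-2)), (0, (-2)), (1, (-2)), (1, (-2)), (0, 2), (1, 2), (0, (-2)), (1, (-2))],
      [(1, (-2)), (1, (-2)), (0, (-2)), (2, (-2)), (0, (-2)), (0, 2), (0, (-2)), (0, (-2)), (0, (-2)), (0, 2), (1, 2), (1, 2), (0, 2), (1, (-2)), (0, (-2)), (1, 2)],
      [(0, (-2)), (1, (-2)), (2, (-2)), (0, (-2)), (1, 4), (5, 2), (1, (-2)), (2, (-2)), (2, 2), (0, 4)],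
      [(0, 2), (1, 2), (2, (-2)), (0, (-2)), (0, (-4)), (2, 4), (3, (-2)), (1, 2), (2, (-2)), (2, 2)],
      [(0, 2), (1, (-2)), (0, (-4)), (1, 2), (0, (-2)), (4, 4), (2, 2), (1, 2), (2, (-2)), (2, (-2))],
      [(1, (-2)), (1, 2), (0, 2), (2, (-2)), (0, (-2)), (0, 2), (0, (-2)), (0, 2), (0, (-2)), (0, (-2)), (1, (-2)), (1, (-2)), (0, (-2)), (1, 2), (0, (-2)), (1, 2)],
      [(0, (-2)), (0, (-4)), (0, 2), (2, 2), (0, 2), (2, (-4)), (4, 2), (1, 2), (2, (-2)), (2, 2)],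
      [(1, 2), (1, 2), (0, (-2)), (2, 2), (0, (-2)), (0, (-2)), (0, 2), (0, 2), (0, (-2)), (0, (-2)), (1, 2), (1, 2), (0, 2), (1, 2), (0, (-2)), (1, 2)],
      [(0, 2), (1, (-2)), (2, 2), (0, 2), (5, 4), (1, (-2)), (1, (-2)), (2, (-2)), (1, (-4)), (0, 2)],
      [(0, (-2)), (1, (-2)), (2, (-2)), (0, 2), (6, (-4)), (0, (-2)), (1, 2), (2, (-2)), (0, (-4)), (1, (-2))],
      [(0, (-2)), (1, 2), (1, (-4)), (0, 2), (0, (-2)), (7, (-2)), (1, (-2)), (1, (-4)), (0, (-2)), (2, (-2))],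
      [(0, 2), (0, (-4)), (0, (-2)), (2, (-2)), (0, (-2)), (2, (-4)), (4, (-2)), (1, (-2)), (2, 2), (2, (-2))],
      [(1, 2), (1, (-2)), (0, 2), (2, 2), (0, (-2)), (0, (-2)), (0, 2), (0, (-2)), (0, (-2)), (0, 2), (1, (-2)), (1, (-2)), (0, (-2)), (1, (-2)), (0, (-2)), (1, 2)],
      [(0, 2), (1, (-2)), (0, 4), (1, 2), (0, (-2)), (4, (-4)), (2, 2), (1, 2), (2, (-2)), (2, (-2))],
      [(0, (-2)), (1, (-2)), (2, (-2)), (0, (-2)), (1, (-4)), (5, 2), (1, (-2)), (2, (-2)), (2, 2), (0, (-4))],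
      [(0, 2), (1, 2), (2, (-2)), (0, 2), (7, 2), (0, 4), (0, (-2)), (0, (-4)), (1, (-2)), (2, (-2))],
      [(0, (-2)), (1, (-2)), (2, (-2)), (0, 2), (6, 4), (0, (-2)), (1, 2), (2, (-2)), (0, 4), (1, (-2))],
      [(1, 2), (1, (-2)), (0, (-2)), (2, (-2)), (0, (-2)), (0, (-2)), (0, (-2)), (0, (-2)), (0, 2), (0, (-2)), (1, (-2)), (1, (-2)), (0, 2), (1, 2), (0, 2), (1, 2)],
      [(0, (-2)), (1, (-2)), (2, 2), (0, 2), (0, (-4)), (2, 4), (3, 2), (1, (-2)), (2, 2), (2, (-2))]]),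
    ([[(0, 2), (0, (-2)), (4, 2), (3, 2), (1, 2), (0, 2), (1, 2), (0, (-2)), (0, 2), (0, (-4)), (1, (-2)), (1, 2), (0, 2)],
      [(0, (-2)), (0, (-2)), (4, 2), (3, (-2)), (1, 2), (0, 2), (1, (-2)), (0, (-2)), (0, (-2)), (2, 2), (0, (-4)), (0, (-2)), (0, 2)],
      [(2, 2), (0, 2), (0, (-2)), (0, 2), (1, 2), (0, 2), (0, 2), (1, (-2)), (1, (-4)), (0, (-2)), (3, (-2)), (0, 2), (1, (-2))],
      [(0, (-2)), (0, (-2)), (1, (-4)), (2, (-2)), (3, 2), (1, 2), (0, (-2)), (1, (-2)), (0, 2), (0, 2), (2, (-2)), (1, (-2)), (0, 2)],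
      [(2, 2), (0, (-2)), (0, 2), (0, 2), (0, 4), (0, 2), (0, (-2)), (0, 2), (1, (-2)), (2, 2), (3, 2), (0, 2), (1, 2)],
      [(2, (-2)), (0, 2), (0, (-2)), (0, (-2)), (1, 2), (0, (-2)), (0, (-2)), (1, (-2)), (0, 4), (1, (-2)), (3, 2), (0, 2), (1, 2)],
      [(2, 2), (0, (-2)), (0, 2), (0, (-2)), (1, 2), (0, 2), (0, (-2)), (1, (-2)), (2, (-2)), (3, (-2)), (0, (-2)), (0, 4), (0, 2)],
      [(0, (-2)), (0, (-2)), (4, 2), (3, 2), (1, (-2)), (0, 2), (0, (-4)), (0, 2), (0, 2), (0, (-2)), (2, (-2)), (1, (-2)), (0, (-2))],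
      [(0, (-2)), (0, 2), (4, 2), (2, (-4)), (0, (-2)), (1, (-2)), (0, (-2)), (1, 2), (0, (-2)), (0, 2), (2, (-2)), (1, (-2)), (0, 2)],
      [(1, 4), (0, (-2)), (0, (-2)), (0, 2), (0, (-2)), (1, 2), (0, (-2)), (0, 2), (1, 2), (2, (-2)), (3, (-2)), (0, 2), (1, (-2))],
      [(0, (-2)), (0, (-2)), (4, (-2)), (1, (-4)), (1, 2), (1, (-2)), (0, (-2)), (1, 2), (0, (-2)), (0, (-2)), (2, 2), (1, 2), (0, 2)],
      [(0, (-4)), (1, (-2)), (0, 2), (0, 2), (0, (-2)), (1, (-2)), (0, 2), (0, 2), (1, (-2)), (2, 2), (3, (-2)), (0, 2), (1, 2)],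
      [(0, 2), (0, (-2)), (2, 4), (1, (-2)), (3, (-2)), (1, 2), (0, (-2)), (1, 2), (0, (-2)), (0, (-2)), (2, (-2)), (1, (-2)), (0, (-2))],
      [(0, 2), (0, 2), (4, 2), (0, (-4)), (2, 2), (1, 2), (0, (-2)), (1, 2), (0, 2), (0, (-2)), (2, 2), (1, (-2)), (0, 2)],
      [(2, (-2)), (0, (-2)), (0, 2), (0, 2), (1, (-2)), (0, 2), (0, (-2)), (1, (-2)), (2, (-2)), (3, 2), (0, 2), (1, (-2)), (0, 4)],
      [(2, 2), (0, 2), (0, 2), (0, (-2)), (1, 2), (0, 2), (0, (-2)), (0, 4), (0, 2), (2, 2), (3, 2), (0, 2), (1, (-2))],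
      [(2, 2), (0, 2), (0, 2), (0, 2), (1, (-2)), (0, (-2)), (0, (-2)), (1, 2), (2, (-2)), (0, (-4)), (2, (-2)), (0, 2), (1, 2)],
      [(0, 2), (0, (-2)), (4, (-2)), (3, (-2)), (1, (-2)), (0, 2), (1, 2), (0, 2), (0, 2), (1, 4), (0, 2), (1, (-2)), (0, 2)],
      [(2, 2), (0, (-2)), (0, (-2)), (0, (-2)), (1, (-2)), (0, 2), (0, 2), (1, 2), (2, (-2)), (1, (-4)), (1, 2), (0, 2), (1, 2)],
      [(2, (-2)), (0, 2), (0, 2), (0, 2), (1, 2), (0, 2), (0, 2), (1, 2), (2, (-2)), (3, 2), (0, (-2)), (1, 2), (1, 4)],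
      [(0, (-2)), (0, (-2)), (4, 2), (3, (-2)), (0, 4), (0, 2), (0, (-2)), (1, 2), (0, 2), (0, 2), (2, 2), (1, 2), (0, (-2))],
      [(0, (-2)), (0, 2), (3, 4), (0, (-2)), (3, 2), (1, 2), (0, 2), (1, 2), (0, (-2)), (0, 2), (2, 2), (1, (-2)), (0, (-2))],
      [(0, 2), (0, (-2)), (0, (-4)), (3, 2), (3, 2), (1, (-2)), (0, (-2)), (1, (-2)), (0, (-2)), (0, 2), (2, 2), (1, (-2)), (0, (-2))],
      [(2, 2), (0, 2), (0, 2), (0, (-2)), (1, (-2)), (0, (-2)), (0, 2), (1, (-2)), (2, (-2)), (2, 4), (0, 2), (0, (-2)), (1, (-2))]],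
     [[(0, 2), (0, (-2)), (1, (-2)), (3, (-2)), (0, (-2)), (1, (-2)), (0, (-4)), (0, 2), (0, 2), (3, 2), (2, (-2)), (0, (-2)), (0, 2)],
      [(0, (-2)), (0, (-2)), (1, (-2)), (3, (-2)), (0, 2), (0, 4), (0, (-2)), (1, (-2)), (0, 2), (3, (-2)), (2, (-2)), (0, 2), (0, (-2))],
      [(2, 2), (1, 2), (0, (-2)), (0, 2), (2, (-2)), (1, (-2)), (2, (-2)), (0, 2), (0, 2), (1, 2), (0, (-2)), (2, (-4)), (0, 2)],
      [(2, 2), (0, (-4)), (0, (-2)), (0, 2), (0, (-2)), (2, (-2)), (1, 2), (2, (-2)), (0, 2), (0, 2), (1, (-2)), (0, 2), (3, 2)],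
      [(2, (-2)), (1, 2), (0, (-2)), (0, 2), (2, 2), (1, 2), (0, 4), (1, 2), (0, 2), (0, 2), (1, (-2)), (0, 2), (3, 2)],
      [(2, 2), (1, 2), (0, (-2)), (0, (-2)), (2, (-2)), (1, (-2)), (2, 2), (0, (-2)), (0, 2), (1, (-2)), (0, 2), (1, 4), (1, (-2))],
      [(0, 2), (0, 2), (1, (-2)), (0, 4), (2, 2), (0, 2), (1, (-2)), (1, (-2)), (0, 2), (3, (-2)), (2, 2), (0, (-2)), (0, 2)],
      [(2, 2), (1, 2), (0, 2), (0, 2), (2, 2), (1, (-2)), (1, (-4)), (0, (-2)), (0, 2), (0, (-2)), (1, (-2)), (0, 2), (3, (-2))],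
      [(2, 2), (1, (-2)), (0, (-2)), (0, 2), (2, (-2)), (0, (-4)), (0, 2), (2, 2), (0, 2), (0, (-2)), (1, 2), (0, 2), (3, (-2))],
      [(2, 2), (1, 2), (0, (-2)), (0, (-2)), (1, (-4)), (0, 2), (1, 2), (2, (-2)), (0, (-2)), (0, (-2)), (1, 2), (0, 2), (3, 2)],
      [(0, 2), (0, (-2)), (1, 2), (3, 2), (0, (-2)), (1, 2), (1, (-2)), (0, 2), (1, 4), (1, (-2)), (2, (-2)), (0, 2), (0, 2)],
      [(2, (-2)), (1, (-2)), (0, (-2)), (0, (-2)), (2, 2), (1, (-2)), (2, (-2)), (0, 2), (0, 2), (1, 2), (0, 2), (0, 4), (2, (-2))],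
      [(0, 2), (0, 2), (1, 2), (1, 4), (1, (-2)), (0, (-2)), (1, (-2)), (1, 2), (0, 2), (3, (-2)), (2, 2), (0, 2), (0, (-2))],
      [(0, 2), (0, 2), (0, (-4)), (0, (-2)), (3, 2), (0, (-2)), (1, (-2)), (1, (-2)), (0, (-2)), (3, 2), (2, (-2)), (0, 2), (0, (-2))],
      [(2, (-2)), (1, 2), (0, (-2)), (0, (-2)), (0, (-4)), (1, (-2)), (1, 2), (2, (-2)), (0, 2), (0, (-2)), (1, (-2)), (0, (-2)), (3, (-2))],
      [(0, 2), (0, (-2)), (1, (-2)), (3, 2), (0, 2), (1, 2), (1, 2), (0, 2), (2, (-4)), (0, 2), (2, 2), (0, 2), (0, (-2))],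
      [(0, (-2)), (0, (-2)), (1, 2), (3, 2), (0, (-2)), (1, (-2)), (1, (-2)), (0, 2), (3, 2), (0, (-4)), (1, 2), (0, (-2)), (0, (-2))],
      [(0, 2), (0, (-2)), (1, 2), (3, (-2)), (0, 2), (1, (-2)), (1, (-2)), (0, (-2)), (3, 2), (2, 2), (0, 2), (0, 2), (0, 4)],
      [(0, (-4)), (1, (-2)), (1, 2), (0, 2), (0, (-2)), (2, (-2)), (1, (-2)), (2, 2), (0, 2), (0, (-2)), (1, 2), (0, 2), (3, 2)],
      [(2, 2), (1, 2), (0, 2), (0, (-2)), (2, 2), (1, 2), (2, 2), (0, 2), (0, 2), (0, 4), (0, 2), (0, (-2)), (3, (-2))],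
      [(0, (-2)), (0, 2), (1, (-2)), (2, 4), (0, (-2)), (0, (-2)), (1, 2), (1, (-2)), (0, 2), (3, 2), (2, 2), (0, 2), (0, 2)],
      [(1, (-4)), (0, (-2)), (1, 2), (0, 2), (0, 2), (2, (-2)), (1, 2), (2, (-2)), (0, (-2)), (0, 2), (1, 2), (0, 2), (3, (-2))],
      [(0, 2), (0, (-2)), (1, (-2)), (3, (-2)), (0, (-2)), (1, 2), (1, (-2)), (0, (-2)), (0, 4), (2, (-2)), (2, 2), (0, (-2)), (0, (-2))],
      [(0, 2), (0, 2), (1, 2), (3, (-2)), (0, 2), (1, 2), (1, (-2)), (0, 2), (3, 2), (1, 4), (0, (-2)), (0, (-2)), (0, (-2))]])]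

/-- part of the generators and their transposes -/
def twoW8 : List (List (List (ℕ × ℤ)) × List (List (ℕ × ℤ))) :=
  [([[(0, (-2)), (0, (-2)), (0, 2), (0, 2), (2, 2), (2, 2), (0, 2), (1, 2), (0, 2), (0, 2), (2, (-2)), (2, 2), (1, 4)],
      [(0, 2), (0, 2), (0, 2), (0, (-2)), (2, 2), (2, 2), (0, (-2)), (1, 2), (0, 2), (0, (-2)), (1, (-4)), (0, (-2)), (2, (-2))],
      [(0, (-2)), (0, (-2)), (0, 2), (0, 2), (2, 2), (2, 2), (0, (-2)), (0, 4), (0, (-2)), (0, (-2)), (0, (-2)), (2, 2), (2, (-2))],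
      [(4, (-2)), (0, (-2)), (1, (-2)), (0, 2), (2, (-2)), (3, (-2)), (0, 2), (1, (-2)), (0, (-2)), (0, (-4)), (0, 2), (0, 2), (0, 2)],
      [(0, (-4)), (3, (-2)), (0, (-2)), (1, 2), (0, 2), (2, (-2)), (3, 2), (0, (-2)), (1, (-2)), (0, 2), (1, 2), (0, (-2)), (0, (-2))],
      [(3, 4), (0, 2), (0, (-2)), (1, (-2)), (0, 2), (2, (-2)), (3, (-2)), (0, (-2)), (1, 2), (0, (-2)), (1, (-2)), (0, (-2)), (0, (-2))],
      [(4, (-2)), (0, (-2)), (1, 2), (0, (-2)), (1, 4), (0, 2), (3, (-2)), (0, (-2)), (1, (-2)), (0, (-2)), (1, (-2)), (0, (-2)), (0, 2)],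
      [(4, (-2)), (0, 2), (0, (-4)), (0, (-2)), (0, 2), (2, 2), (3, (-2)), (0, (-2)), (1, (-2)), (0, 2), (1, (-2)), (0, 2), (0, (-2))],
      [(0, 2), (0, (-2)), (0, 2), (0, 2), (2, (-2)), (2, (-2)), (0, 2), (1, (-2)), (0, 2), (0, (-2)), (0, 4), (1, (-2)), (2, (-2))],
      [(0, 2), (0, (-2)), (0, (-2)), (0, (-2)), (2, 2), (1, 4), (0, 2), (0, 2), (1, (-2)), (0, (-2)), (0, (-2)), (2, (-2)), (2, 2)],
      [(0, (-2)), (0, 2), (0, 2), (0, (-2)), (0, 4), (1, (-2)), (2, 2), (0, 2), (1, (-2)), (0, (-2)), (0, 2), (2, (-2)), (2, (-2))],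
      [(0, (-2)), (0, (-2)), (0, (-2)), (0, (-2)), (2, 2), (2, (-2)), (0, (-2)), (1, (-2)), (0, 2), (0, 2), (2, (-2)), (2, (-2)), (0, (-4))],
      [(4, 2), (0, 2), (1, 2), (0, 2), (2, (-2)), (3, 2), (0, (-2)), (0, 4), (0, (-2)), (0, (-2)), (1, (-2)), (0, 2), (0, 2)],
      [(4, (-2)), (0, 2), (1, (-2)), (0, (-2)), (0, 4), (1, (-2)), (3, 2), (0, 2), (1, (-2)), (0, (-2)), (1, (-2)), (0, (-2)), (0, (-2))],
      [(2, 4), (1, (-2)), (0, 2), (1, 2), (0, 2), (2, (-2)), (3, (-2)), (0, 2), (1, 2), (0, 2), (1, (-2)), (0, (-2)), (0, 2)],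
      [(0, 2), (0, 2), (0, 2), (0, 2), (2, 2), (2, (-2)), (0, (-2)), (1, (-2)), (0, (-2)), (0, 2), (2, (-2)), (0, (-4)), (1, 2)],
      [(4, 2), (0, (-2)), (1, 2), (0, (-2)), (2, (-2)), (2, (-4)), (0, (-2)), (0, 2), (1, (-2)), (0, 2), (1, (-2)), (0, 2), (0, (-2))],
      [(0, 2), (0, 2), (0, (-2)), (0, 2), (2, 2), (2, 2), (0, 2), (1, (-2)), (0, 2), (0, 2), (2, 2), (1, 4), (0, (-2))],
      [(0, (-2)), (0, 2), (0, (-2)), (0, 2), (2, (-2)), (2, 2), (0, (-2)), (1, (-2)), (0, 2), (0, (-2)), (2, (-2)), (2, 2), (2, 4)],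
      [(0, (-2)), (0, 2), (0, (-2)), (0, 2), (1, 4), (0, 2), (2, (-2)), (0, 2), (1, 2), (0, (-2)), (0, (-2)), (2, (-2)), (2, (-2))],
      [(4, 2), (0, (-2)), (1, (-2)), (0, 2), (2, 2), (0, 4), (2, 2), (0, 2), (1, (-2)), (0, 2), (1, (-2)), (0, (-2)), (0, 2)],
      [(1, 4), (2, (-2)), (0, (-2)), (1, 2), (0, 2), (2, 2), (3, 2), (0, 2), (1, 2), (0, (-2)), (1, (-2)), (0, 2), (0, (-2))],
      [(0, (-2)), (0, 2), (0, 2), (0, (-2)), (2, 2), (0, (-4)), (1, (-2)), (0, 2), (1, (-2)), (0, 2), (0, (-2)), (2, 2), (2, 2)],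
      [(4, 2), (0, 2), (1, 2), (0, 2), (2, 2), (1, 4), (1, (-2)), (0, 2), (1, (-2)), (0, (-2)), (1, 2), (0, (-2)), (0, (-2))]],
     [[(0, (-2)), (0, 2), (0, (-2)), (1, (-4)), (3, 2), (0, 2), (0, (-2)), (0, (-2)), (3, 2), (1, 2), (0, (-2)), (0, (-2)), (2, (-2))],
      [(0, (-2)), (0, 2), (0, (-2)), (5, (-2)), (0, (-2)), (0, 2), (0, (-2)), (3, 2), (1, 2), (0, 2), (0, 2), (1, 4), (0, 2)],
      [(0, 2), (0, 2), (0, 2), (5, 2), (0, (-2)), (0, 2), (0, (-2)), (2, 4), (0, 2), (1, (-2)), (0, (-2)), (0, (-2)), (2, 2)],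
      [(0, 2), (0, (-2)), (0, 2), (2, 4), (2, 2), (0, (-2)), (0, (-2)), (0, (-2)), (3, 2), (1, 2), (0, 2), (0, 2), (2, (-2))],
      [(3, (-2)), (0, (-2)), (0, 2), (0, (-2)), (0, (-2)), (2, 4), (1, 2), (0, (-2)), (0, (-2)), (1, 2), (3, 2), (0, (-2)), (1, 2)],
      [(3, (-2)), (0, (-2)), (0, (-2)), (0, (-2)), (0, 2), (4, 2), (0, 2), (0, 2), (1, (-2)), (2, 4), (0, (-2)), (0, (-2)), (1, 2)],
      [(0, 2), (0, 2), (0, 2), (4, (-4)), (0, (-2)), (0, 2), (0, (-2)), (0, 2), (3, 2), (1, 2), (0, (-2)), (0, 2), (2, 2)],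
      [(3, (-2)), (0, 2), (0, (-2)), (0, 2), (0, (-2)), (4, 2), (0, (-2)), (0, 2), (1, 2), (3, (-2)), (0, 2), (0, (-4)), (0, 2)],
      [(3, 2), (0, 2), (0, 2), (0, (-2)), (0, 2), (1, 4), (2, 2), (0, (-2)), (0, 2), (1, (-2)), (3, 2), (0, 2), (1, 2)],
      [(0, 2), (0, 2), (0, 2), (5, (-2)), (0, 2), (0, 2), (0, (-2)), (1, 4), (1, (-2)), (1, 2), (0, 2), (0, (-2)), (2, (-2))],
      [(0, 2), (0, (-2)), (0, (-2)), (3, 4), (1, 2), (0, 2), (0, 2), (0, (-2)), (3, (-2)), (1, 2), (0, (-2)), (0, 2), (2, 2)],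
      [(2, 4), (0, (-2)), (0, (-2)), (0, (-2)), (0, 2), (0, 2), (4, (-2)), (0, (-2)), (0, (-2)), (1, (-2)), (3, 2), (0, 2), (1, 2)],
      [(0, 2), (0, 2), (0, (-2)), (5, (-2)), (0, (-2)), (0, (-2)), (0, (-2)), (3, (-2)), (1, (-2)), (0, (-2)), (0, 2), (0, 4), (1, (-2))],
      [(0, 2), (0, 2), (0, (-2)), (5, 2), (0, (-2)), (0, (-2)), (0, 2), (3, (-2)), (1, 2), (0, 2), (0, (-2)), (2, 2), (0, 4)],
      [(0, 2), (0, (-2)), (0, (-2)), (5, (-2)), (0, (-2)), (0, 2), (0, 2), (3, 2), (0, (-4)), (0, 2), (0, (-2)), (0, (-2)), (2, (-2))],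
      [(3, (-2)), (0, 2), (0, (-2)), (0, (-2)), (0, (-2)), (0, 4), (3, 2), (0, 2), (0, (-2)), (1, (-2)), (3, 2), (0, 2), (1, (-2))],
      [(1, (-4)), (1, 2), (0, (-2)), (0, (-2)), (0, (-2)), (0, (-2)), (4, (-2)), (0, 2), (0, 2), (1, 2), (3, 2), (0, 2), (1, 2)],
      [(0, (-2)), (0, (-2)), (0, 2), (5, (-2)), (0, (-2)), (0, (-2)), (0, (-2)), (0, 4), (2, (-2)), (1, 2), (0, (-2)), (0, (-2)), (2, 2)],
      [(3, (-2)), (0, (-2)), (0, 2), (0, (-2)), (0, (-2)), (4, (-2)), (0, (-2)), (0, 2), (0, (-4)), (0, (-2)), (3, (-2)), (0, 2), (1, (-2))],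
      [(3, (-2)), (0, 2), (0, (-2)), (0, (-2)), (0, 2), (4, (-2)), (0, (-2)), (0, 2), (1, 2), (0, 4), (2, 2), (0, (-2)), (1, (-2))],
      [(0, 2), (0, (-2)), (0, (-2)), (0, (-4)), (4, (-2)), (0, 2), (0, (-2)), (0, (-2)), (3, 2), (1, (-2)), (0, 2), (0, (-2)), (2, 2)],
      [(3, 2), (0, 2), (0, (-2)), (0, (-2)), (0, (-2)), (3, (-4)), (0, (-2)), (0, (-2)), (0, (-2)), (1, (-2)), (3, (-2)), (0, (-2)), (1, 2)],
      [(0, 4), (2, 2), (0, (-2)), (0, (-2)), (0, (-2)), (0, 2), (4, 2), (0, (-2)), (0, (-2)), (1, 2), (3, (-2)), (0, 2), (1, (-2))],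
      [(3, 2), (0, (-2)), (0, (-2)), (0, 2), (0, (-2)), (4, 2), (0, (-2)), (0, 2), (1, (-2)), (1, 4), (1, 2), (0, (-2)), (1, (-2))]]),
    ([[(0, 1), (0, 1), (0, 1), (0, 3), (0, (-3)), (0, 1), (0, 1), (0, 1), (0, (-1)), (0, 3), (0, 1), (0, 1), (0, 3), (0, 1), (0, 3), (0, (-1)), (0, 1), (0, 1), (0, 1), (0, (-1)), (0, 1), (0, (-1)), (0, 1), (0, 1)],
      [(0, (-1)), (0, (-1)), (0, (-1)), (0, (-3)), (0, (-1)), (0, (-1)), (0, (-1)), (0, (-1)), (0, 1), (0, 1), (0, (-1)), (0, 3), (0, 1), (0, (-1)), (0, 1), (0, (-3)), (0, 3), (0, 3), (0, (-1)), (0, 1), (0, (-1)), (0, 1), (0, (-1)), (0, (-1))],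
      [(0, (-1)), (0, (-1)), (0, (-1)), (0, 1), (0, (-1)), (0, (-1)), (0, (-1)), (0, 3), (0, 1), (0, (-3)), (0, (-1)), (0, 3), (0, 1), (0, 3), (0, 1), (0, 1), (0, (-1)), (0, (-1)), (0, (-1)), (0, (-3)), (0, (-1)), (0, 1), (0, (-1)), (0, (-1))],
      [(0, 1), (0, 1), (0, 1), (0, 3), (0, 1), (0, 1), (0, 1), (0, 1), (0, (-1)), (0, (-1)), (0, 1), (0, 1), (0, (-1)), (0, (-3)), (0, (-1)), (0, (-1)), (0, 1), (0, 1), (0, 1), (0, (-1)), (0, 1), (0, 3), (0, (-3)), (0, (-3))],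
      [(0, (-1)), (0, (-1)), (0, (-1)), (0, 1), (0, (-1)), (0, (-1)), (0, (-1)), (0, (-1)), (0, (-3)), (0, 1), (0, 3), (0, (-1)), (0, 1), (0, 3), (0, (-3)), (0, 1), (0, (-1)), (0, 3), (0, (-1)), (0, 1), (0, (-1)), (0, 1), (0, (-1)), (0, (-1))],
      [(0, 3), (0, (-1)), (0, (-1)), (0, 1), (0, (-1)), (0, (-1)), (0, (-1)), (0, (-1)), (0, 1), (0, 1), (0, (-1)), (0, (-1)), (0, 1), (0, (-1)), (0, (-3)), (0, 1), (0, 3), (0, (-1)), (0, (-1)), (0, (-3)), (0, (-1)), (0, 1), (0, 3), (0, (-1))],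
      [(0, (-1)), (0, (-1)), (0, 3), (0, 1), (0, (-1)), (0, (-5)), (0, 3), (0, (-1)), (0, 1), (0, 1), (0, (-1)), (0, (-1)), (0, 1), (0, (-1)), (0, 1), (0, 1), (0, (-1)), (0, (-1)), (0, (-1)), (0, 1), (0, (-1)), (0, 1), (0, (-1)), (0, (-1))],
      [(0, 1), (0, 1), (0, 5), (0, (-1)), (0, 1), (0, (-3)), (0, (-3)), (0, 1), (0, (-1)), (0, (-1)), (0, 1), (0, 1), (0, (-1)), (0, 1), (0, (-1)), (0, (-1)), (0, 1), (0, 1), (0, 1), (0, (-1)), (0, 1), (0, (-1)), (0, 1), (0, 1)],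
      [(0, 1), (0, 1), (0, 1), (0, (-1)), (0, 1), (0, 1), (0, 1), (0, (-3)), (0, (-1)), (0, (-1)), (0, (-3)), (0, 1), (0, 3), (0, 1), (0, (-1)), (0, (-1)), (0, (-3)), (0, 1), (0, 1), (0, (-1)), (0, 1), (0, 3), (0, 1), (0, 1)],
      [(0, 1), (0, 1), (0, 1), (0, (-1)), (0, 1), (0, 1), (0, 1), (0, 1), (0, 3), (0, (-1)), (0, 1), (0, (-3)), (0, 3), (0, 1), (0, (-1)), (0, (-1)), (0, 1), (0, 1), (0, 1), (0, (-1)), (0, (-3)), (0, (-1)), (0, (-3)), (0, 1)],
      [(0, 3), (0, (-1)), (0, (-1)), (0, 1), (0, (-1)), (0, (-1)), (0, (-1)), (0, (-1)), (0, 1), (0, (-3)), (0, (-1)), (0, (-1)), (0, 1), (0, (-1)), (0, 1), (0, 1), (0, (-1)), (0, 3), (0, (-1)), (0, 1), (0, 3), (0, (-3)), (0, (-1)), (0, (-1))],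
      [(0, (-3)), (0, (-3)), (0, 1), (0, (-1)), (0, 1), (0, 1), (0, 1), (0, 1), (0, (-1)), (0, (-1)), (0, 1), (0, 1), (0, 3), (0, (-3)), (0, (-1)), (0, 3), (0, 1), (0, 1), (0, 1), (0, (-1)), (0, 1), (0, (-1)), (0, 1), (0, 1)],
      [(0, 1), (0, (-3)), (0, 1), (0, (-1)), (0, 1), (0, 1), (0, 1), (0, 1), (0, (-1)), (0, (-1)), (0, 1), (0, (-3)), (0, (-1)), (0, 1), (0, 3), (0, (-1)), (0, 1), (0, 1), (0, (-3)), (0, (-1)), (0, 1), (0, 3), (0, 1), (0, 1)],
      [(0, 1), (0, (-3)), (0, 1), (0, (-1)), (0, 1), (0, 1), (0, 1), (0, 1), (0, 3), (0, 3), (0, 1), (0, 1), (0, (-1)), (0, 1), (0, (-1)), (0, (-1)), (0, (-3)), (0, 1), (0, 1), (0, (-1)), (0, 1), (0, (-1)), (0, 1), (0, (-3))],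
      [(0, 1), (0, 1), (0, 1), (0, (-1)), (0, (-3)), (0, 1), (0, 1), (0, 1), (0, 3), (0, (-1)), (0, 1), (0, 1), (0, (-1)), (0, 1), (0, (-1)), (0, 3), (0, 1), (0, 1), (0, 1), (0, 3), (0, 1), (0, 3), (0, 1), (0, 1)],
      [(0, 1), (0, (-3)), (0, 1), (0, 3), (0, 1), (0, 1), (0, 1), (0, 1), (0, (-1)), (0, (-1)), (0, (-3)), (0, 1), (0, (-1)), (0, 1), (0, (-1)), (0, (-1)), (0, 1), (0, 1), (0, 1), (0, 3), (0, (-3)), (0, (-1)), (0, 1), (0, 1)],
      [(0, (-1)), (0, 3), (0, (-1)), (0, 1), (0, 3), (0, (-1)), (0, (-1)), (0, 3), (0, 1), (0, 1), (0, (-1)), (0, (-1)), (0, 1), (0, (-1)), (0, 1), (0, 1), (0, (-1)), (0, 3), (0, (-1)), (0, 1), (0, (-1)), (0, 1), (0, 3), (0, (-1))],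
      [(0, (-3)), (0, 1), (0, 1), (0, 3), (0, 1), (0, 1), (0, 1), (0, (-3)), (0, 3), (0, (-1)), (0, 1), (0, 1), (0, (-1)), (0, 1), (0, (-1)), (0, (-1)), (0, 1), (0, 1), (0, (-3)), (0, (-1)), (0, 1), (0, (-1)), (0, 1), (0, 1)],
      [(0, 3), (0, (-1)), (0, (-1)), (0, 1), (0, 3), (0, (-1)), (0, (-1)), (0, (-1)), (0, 1), (0, 1), (0, 3), (0, 3), (0, 1), (0, (-1)), (0, 1), (0, 1), (0, (-1)), (0, (-1)), (0, (-1)), (0, 1), (0, (-1)), (0, 1), (0, (-1)), (0, 3)],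
      [(0, (-1)), (0, (-1)), (0, (-1)), (0, 1), (0, (-1)), (0, (-1)), (0, (-1)), (0, 3), (0, 1), (0, 1), (0, (-1)), (0, (-1)), (0, 1), (0, (-1)), (0, (-3)), (0, (-3)), (0, (-1)), (0, (-1)), (0, (-1)), (0, 1), (0, 3), (0, 1), (0, (-1)), (0, 3)],
      [(0, 1), (0, 1), (0, (-3)), (0, (-1)), (0, 1), (0, (-3)), (0, 5), (0, 1), (0, (-1)), (0, (-1)), (0, 1), (0, 1), (0, (-1)), (0, 1), (0, (-1)), (0, (-1)), (0, 1), (0, 1), (0, 1), (0, (-1)), (0, 1), (0, (-1)), (0, 1), (0, 1)],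
      [(0, (-1)), (0, (-1)), (0, (-1)), (0, 1), (0, 3), (0, (-1)), (0, (-1)), (0, (-1)), (0, 1), (0, 1), (0, (-1)), (0, (-1)), (0, 1), (0, 3), (0, 1), (0, 1), (0, 3), (0, (-1)), (0, 3), (0, 1), (0, 3), (0, 1), (0, (-1)), (0, (-1))],
      [(0, (-1)), (0, (-1)), (0, (-1)), (0, 1), (0, (-1)), (0, (-1)), (0, (-1)), (0, (-1)), (0, 1), (0, (-3)), (0, 3), (0, (-1)), (0, 1), (0, (-1)), (0, 1), (0, (-3)), (0, (-1)), (0, (-1)), (0, 3), (0, 1), (0, (-1)), (0, 1), (0, 3), (0, (-1))],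
      [(0, (-1)), (0, (-1)), (0, (-1)), (0, 1), (0, (-1)), (0, (-1)), (0, (-1)), (0, (-1)), (0, 1), (0, 1), (0, (-1)), (0, (-1)), (0, (-3)), (0, (-1)), (0, 1), (0, 1), (0, (-1)), (0, 3), (0, 3), (0, (-3)), (0, (-1)), (0, 1), (0, (-1)), (0, 3)]],
     [[(0, 1), (0, (-1)), (0, (-1)), (0, 1), (0, (-1)), (0, 3), (0, (-1)), (0, 1), (0, 1), (0, 1), (0, 3), (0, (-3)), (0, 1), (0, 1), (0, 1), (0, 1), (0, (-1)), (0, (-3)), (0, 3), (0, (-1)), (0, 1), (0, (-1)), (0, (-1)), (0, (-1))],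
      [(0, 1), (0, (-1)), (0, (-1)), (0, 1), (0, (-1)), (0, (-1)), (0, (-1)), (0, 1), (0, 1), (0, 1), (0, (-1)), (0, (-3)), (0, (-3)), (0, (-3)), (0, 1), (0, (-3)), (0, 3), (0, 1), (0, (-1)), (0, (-1)), (0, 1), (0, (-1)), (0, (-1)), (0, (-1))],
      [(0, 1), (0, (-1)), (0, (-1)), (0, 1), (0, (-1)), (0, (-1)), (0, 3), (0, 5), (0, 1), (0, 1), (0, (-1)), (0, 1), (0, 1), (0, 1), (0, 1), (0, 1), (0, (-1)), (0, 1), (0, (-1)), (0, (-1)), (0, (-3)), (0, (-1)), (0, (-1)), (0, (-1))],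
      [(0, 3), (0, (-3)), (0, 1), (0, 3), (0, 1), (0, 1), (0, 1), (0, (-1)), (0, (-1)), (0, (-1)), (0, 1), (0, (-1)), (0, (-1)), (0, (-1)), (0, (-1)), (0, 3), (0, 1), (0, 3), (0, 1), (0, 1), (0, (-1)), (0, 1), (0, 1), (0, 1)],
      [(0, (-3)), (0, (-1)), (0, (-1)), (0, 1), (0, (-1)), (0, (-1)), (0, (-1)), (0, 1), (0, 1), (0, 1), (0, (-1)), (0, 1), (0, 1), (0, 1), (0, (-3)), (0, 1), (0, 3), (0, 1), (0, 3), (0, (-1)), (0, 1), (0, 3), (0, (-1)), (0, (-1))],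
      [(0, 1), (0, (-1)), (0, (-1)), (0, 1), (0, (-1)), (0, (-1)), (0, (-5)), (0, (-3)), (0, 1), (0, 1), (0, (-1)), (0, 1), (0, 1), (0, 1), (0, 1), (0, 1), (0, (-1)), (0, 1), (0, (-1)), (0, (-1)), (0, (-3)), (0, (-1)), (0, (-1)), (0, (-1))],
      [(0, 1), (0, (-1)), (0, (-1)), (0, 1), (0, (-1)), (0, (-1)), (0, 3), (0, (-3)), (0, 1), (0, 1), (0, (-1)), (0, 1), (0, 1), (0, 1), (0, 1), (0, 1), (0, (-1)), (0, 1), (0, (-1)), (0, (-1)), (0, 5), (0, (-1)), (0, (-1)), (0, (-1))],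
      [(0, 1), (0, (-1)), (0, 3), (0, 1), (0, (-1)), (0, (-1)), (0, (-1)), (0, 1), (0, (-3)), (0, 1), (0, (-1)), (0, 1), (0, 1), (0, 1), (0, 1), (0, 1), (0, 3), (0, (-3)), (0, (-1)), (0, 3), (0, 1), (0, (-1)), (0, (-1)), (0, (-1))],
      [(0, (-1)), (0, 1), (0, 1), (0, (-1)), (0, (-3)), (0, 1), (0, 1), (0, (-1)), (0, (-1)), (0, 3), (0, 1), (0, (-1)), (0, (-1)), (0, 3), (0, 3), (0, (-1)), (0, 1), (0, 3), (0, 1), (0, 1), (0, (-1)), (0, 1), (0, 1), (0, 1)],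
      [(0, 3), (0, 1), (0, (-3)), (0, (-1)), (0, 1), (0, 1), (0, 1), (0, (-1)), (0, (-1)), (0, (-1)), (0, (-3)), (0, (-1)), (0, (-1)), (0, 3), (0, (-1)), (0, (-1)), (0, 1), (0, (-1)), (0, 1), (0, 1), (0, (-1)), (0, 1), (0, (-3)), (0, 1)],
      [(0, 1), (0, (-1)), (0, (-1)), (0, 1), (0, 3), (0, (-1)), (0, (-1)), (0, 1), (0, (-3)), (0, 1), (0, (-1)), (0, 1), (0, 1), (0, 1), (0, 1), (0, (-3)), (0, (-1)), (0, 1), (0, 3), (0, (-1)), (0, 1), (0, (-1)), (0, 3), (0, (-1))],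
      [(0, 1), (0, 3), (0, 3), (0, 1), (0, (-1)), (0, (-1)), (0, (-1)), (0, 1), (0, 1), (0, (-3)), (0, (-1)), (0, 1), (0, (-3)), (0, 1), (0, 1), (0, 1), (0, (-1)), (0, 1), (0, 3), (0, (-1)), (0, 1), (0, (-1)), (0, (-1)), (0, (-1))],
      [(0, 3), (0, 1), (0, 1), (0, (-1)), (0, 1), (0, 1), (0, 1), (0, (-1)), (0, 3), (0, 3), (0, 1), (0, 3), (0, (-1)), (0, (-1)), (0, (-1)), (0, (-1)), (0, 1), (0, (-1)), (0, 1), (0, 1), (0, (-1)), (0, 1), (0, 1), (0, (-3))],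
      [(0, 1), (0, (-1)), (0, 3), (0, (-3)), (0, 3), (0, (-1)), (0, (-1)), (0, 1), (0, 1), (0, 1), (0, (-1)), (0, (-3)), (0, 1), (0, 1), (0, 1), (0, 1), (0, (-1)), (0, 1), (0, (-1)), (0, (-1)), (0, 1), (0, 3), (0, (-1)), (0, (-1))],
      [(0, 3), (0, 1), (0, 1), (0, (-1)), (0, (-3)), (0, (-3)), (0, 1), (0, (-1)), (0, (-1)), (0, (-1)), (0, 1), (0, (-1)), (0, 3), (0, (-1)), (0, (-1)), (0, (-1)), (0, 1), (0, (-1)), (0, 1), (0, (-3)), (0, (-1)), (0, 1), (0, 1), (0, 1)],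
      [(0, (-1)), (0, (-3)), (0, 1), (0, (-1)), (0, 1), (0, 1), (0, 1), (0, (-1)), (0, (-1)), (0, (-1)), (0, 1), (0, 3), (0, (-1)), (0, (-1)), (0, 3), (0, (-1)), (0, 1), (0, (-1)), (0, 1), (0, (-3)), (0, (-1)), (0, 1), (0, (-3)), (0, 1)],
      [(0, 1), (0, 3), (0, (-1)), (0, 1), (0, (-1)), (0, 3), (0, (-1)), (0, 1), (0, (-3)), (0, 1), (0, (-1)), (0, 1), (0, 1), (0, (-3)), (0, 1), (0, 1), (0, (-1)), (0, 1), (0, (-1)), (0, (-1)), (0, 1), (0, 3), (0, (-1)), (0, (-1))],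
      [(0, 1), (0, 3), (0, (-1)), (0, 1), (0, 3), (0, (-1)), (0, (-1)), (0, 1), (0, 1), (0, 1), (0, 3), (0, 1), (0, 1), (0, 1), (0, 1), (0, 1), (0, 3), (0, 1), (0, (-1)), (0, (-1)), (0, 1), (0, (-1)), (0, (-1)), (0, 3)],
      [(0, 1), (0, (-1)), (0, (-1)), (0, 1), (0, (-1)), (0, (-1)), (0, (-1)), (0, 1), (0, 1), (0, 1), (0, (-1)), (0, 1), (0, (-3)), (0, 1), (0, 1), (0, 1), (0, (-1)), (0, (-3)), (0, (-1)), (0, (-1)), (0, 1), (0, 3), (0, 3), (0, 3)],
      [(0, (-1)), (0, 1), (0, (-3)), (0, (-1)), (0, 1), (0, (-3)), (0, 1), (0, (-1)), (0, (-1)), (0, (-1)), (0, 1), (0, (-1)), (0, (-1)), (0, (-1)), (0, 3), (0, 3), (0, 1), (0, (-1)), (0, 1), (0, 1), (0, (-1)), (0, 1), (0, 1), (0, (-3))],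
      [(0, 1), (0, (-1)), (0, (-1)), (0, 1), (0, (-1)), (0, (-1)), (0, (-1)), (0, 1), (0, 1), (0, (-3)), (0, 3), (0, 1), (0, 1), (0, 1), (0, 1), (0, (-3)), (0, (-1)), (0, 1), (0, (-1)), (0, 3), (0, 1), (0, 3), (0, (-1)), (0, (-1))],
      [(0, (-1)), (0, 1), (0, 1), (0, 3), (0, 1), (0, 1), (0, 1), (0, (-1)), (0, 3), (0, (-1)), (0, (-3)), (0, (-1)), (0, 3), (0, (-1)), (0, 3), (0, (-1)), (0, 1), (0, (-1)), (0, 1), (0, 1), (0, (-1)), (0, 1), (0, 1), (0, 1)],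
      [(0, 1), (0, (-1)), (0, (-1)), (0, (-3)), (0, (-1)), (0, 3), (0, (-1)), (0, 1), (0, 1), (0, (-3)), (0, (-1)), (0, 1), (0, 1), (0, 1), (0, 1), (0, 1), (0, 3), (0, 1), (0, (-1)), (0, (-1)), (0, 1), (0, (-1)), (0, 3), (0, (-1))],
      [(0, 1), (0, (-1)), (0, (-1)), (0, (-3)), (0, (-1)), (0, (-1)), (0, (-1)), (0, 1), (0, 1), (0, 1), (0, (-1)), (0, 1), (0, 1), (0, (-3)), (0, 1), (0, 1), (0, (-1)), (0, 1), (0, 3), (0, 3), (0, 1), (0, (-1)), (0, (-1)), (0, 3)]])]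

/-- part of the generators and their transposes -/
def twoW9 : List (List (List (ℕ × ℤ)) × List (List (ℕ × ℤ))) :=
  [([[(3, (-2)), (1, 4), (1, 2), (0, (-2)), (2, 2), (1, (-2)), (0, (-2)), (0, (-2)), (1, 2), (0, (-2)), (0, 2), (1, (-2)), (1, 2)],
      [(0, 2), (0, 2), (0, 2), (1, 2), (0, 2), (0, 2), (2, 2), (0, 2), (1, (-2)), (3, (-2)), (3, 2), (1, (-2)), (0, (-4))],
      [(3, 2), (0, (-4)), (2, 2), (0, (-2)), (2, (-2)), (1, (-2)), (0, 2), (0, 2), (1, 2), (0, (-2)), (0, 2), (1, 2), (1, (-2))],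
      [(0, (-2)), (0, (-2)), (0, 2), (1, (-2)), (0, 2), (0, (-2)), (2, (-2)), (0, 2), (1, 2), (3, (-2)), (0, (-4)), (2, 2), (1, (-2))],
      [(0, 2), (0, (-2)), (0, (-2)), (1, 2), (0, (-2)), (0, (-2)), (1, (-4)), (0, (-2)), (0, 2), (1, (-2)), (3, 2), (3, 2), (1, (-2))],
      [(0, 2), (0, (-2)), (0, (-2)), (1, (-2)), (0, (-2)), (0, 2), (2, 2), (0, 2), (1, 2), (3, (-2)), (3, (-2)), (0, (-4)), (0, (-2))],
      [(0, 2), (0, (-2)), (0, 2), (1, 2), (0, 2), (0, 2), (2, (-2)), (0, 2), (0, (-4)), (0, 2), (3, 2), (3, (-2)), (1, 2)],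
      [(3, (-2)), (2, (-4)), (0, 2), (0, 2), (2, (-2)), (1, 2), (0, (-2)), (0, 2), (1, 2), (0, 2), (0, 2), (1, (-2)), (1, (-2))],
      [(3, (-2)), (3, (-2)), (0, (-2)), (2, 2), (0, 4), (0, 2), (0, (-2)), (0, 2), (1, 2), (0, (-2)), (0, (-2)), (1, 2), (1, (-2))],
      [(3, (-2)), (3, 2), (0, 2), (2, 2), (1, (-2)), (0, 2), (0, 2), (0, 4), (0, (-2)), (0, (-2)), (0, (-2)), (1, (-2)), (1, (-2))],
      [(3, 2), (3, (-2)), (0, 2), (2, (-2)), (1, (-2)), (0, (-2)), (0, 2), (1, 2), (0, (-2)), (0, (-2)), (0, 4), (0, (-2)), (1, 2)],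
      [(0, (-2)), (0, (-2)), (0, 2), (1, 2), (0, (-2)), (0, (-2)), (2, 2), (0, 2), (1, (-2)), (3, (-2)), (1, (-4)), (1, (-2)), (1, 2)],
      [(0, 2), (0, (-2)), (0, 2), (0, (-4)), (0, (-2)), (0, (-2)), (0, 2), (2, (-2)), (0, (-2)), (1, (-2)), (3, (-2)), (3, 2), (1, 2)],
      [(0, (-2)), (0, (-2)), (0, (-2)), (1, 2), (0, 2), (0, 2), (2, (-2)), (0, (-2)), (1, (-2)), (2, 4), (0, (-2)), (3, (-2)), (1, (-2))],
      [(0, (-2)), (0, (-2)), (0, 2), (1, 2), (0, (-2)), (0, 2), (2, 2), (0, (-2)), (1, 2), (3, 2), (2, 4), (0, 2), (1, (-2))],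
      [(0, (-2)), (0, 2), (0, 2), (1, (-2)), (0, (-2)), (0, 2), (2, (-2)), (0, 2), (1, (-2)), (1, (-4)), (1, 2), (3, (-2)), (1, (-2))],
      [(0, 2), (0, (-2)), (0, 2), (1, (-2)), (0, 2), (0, (-2)), (0, (-4)), (1, 2), (0, (-2)), (1, (-2)), (3, 2), (3, (-2)), (1, (-2))],
      [(3, (-2)), (3, 2), (0, 2), (2, (-2)), (1, 2), (0, 2), (0, (-2)), (1, 2), (0, (-2)), (0, (-2)), (1, 2), (0, (-4)), (0, 2)],
      [(0, 2), (0, 2), (0, 2), (1, 2), (0, (-2)), (0, (-2)), (2, (-2)), (0, (-2)), (1, 2), (0, (-4)), (2, (-2)), (3, (-2)), (1, (-2))],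
      [(3, 2), (3, 2), (0, (-2)), (1, (-4)), (0, (-2)), (1, 2), (0, (-2)), (0, (-2)), (1, (-2)), (0, (-2)), (0, (-2)), (1, (-2)), (1, (-2))],
      [(3, (-2)), (3, 2), (0, (-2)), (0, 4), (1, (-2)), (1, (-2)), (0, (-2)), (0, 2), (1, (-2)), (0, 2), (0, (-2)), (1, 2), (1, 2)],
      [(2, 4), (0, 2), (3, 2), (0, (-2)), (2, 2), (1, 2), (0, 2), (0, 2), (1, 2), (0, 2), (0, (-2)), (1, (-2)), (1, 2)],
      [(1, (-4)), (1, 2), (3, 2), (0, 2), (2, 2), (1, (-2)), (0, (-2)), (0, (-2)), (1, 2), (0, 2), (0, (-2)), (1, 2), (1, (-2))],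
      [(0, (-4)), (2, (-2)), (3, (-2)), (0, (-2)), (2, (-2)), (1, (-2)), (0, 2), (0, (-2)), (1, 2), (0, 2), (0, (-2)), (1, (-2)), (1, (-2))]],
     [[(1, 2), (1, (-2)), (0, 2), (0, 2), (0, 2), (4, (-2)), (0, 2), (0, (-2)), (0, (-2)), (0, (-2)), (0, 2), (1, 2), (4, (-4))],
      [(1, 2), (1, (-2)), (0, (-2)), (0, (-2)), (0, (-2)), (4, (-2)), (0, (-2)), (0, (-2)), (0, (-2)), (0, 2), (0, (-2)), (1, 2), (3, (-4))],
      [(1, 2), (1, 2), (0, (-2)), (0, (-2)), (0, 2), (4, 2), (0, 2), (0, (-2)), (0, 2), (0, 2), (0, 2), (1, 2), (2, 4)],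
      [(0, (-2)), (1, 2), (4, (-2)), (0, (-2)), (0, (-2)), (0, 2), (1, (-4)), (4, (-2)), (1, 2), (0, (-2)), (0, 2), (0, 2), (0, (-2))],
      [(1, 2), (0, (-4)), (0, (-2)), (0, 2), (0, (-2)), (0, 2), (4, 2), (0, (-2)), (0, 2), (0, 2), (0, (-2)), (0, (-2)), (1, 2)],
      [(0, 4), (0, 2), (1, 2), (0, (-2)), (0, (-2)), (0, 2), (4, (-2)), (0, (-2)), (0, 2), (0, (-2)), (0, (-2)), (0, 2), (1, (-2))],
      [(1, 2), (1, (-2)), (0, (-2)), (0, 2), (0, 2), (0, (-4)), (3, (-2)), (0, 2), (0, 2), (0, 2), (0, 2), (0, (-2)), (1, (-2))],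
      [(0, 2), (1, 2), (4, 2), (0, (-2)), (0, 2), (0, (-2)), (5, (-4)), (0, 2), (1, 2), (0, 2), (0, 2), (0, 2), (0, (-2))],
      [(0, (-2)), (1, (-2)), (1, (-4)), (2, 2), (0, (-2)), (0, 2), (0, 2), (6, 2), (1, (-2)), (0, (-2)), (0, (-2)), (0, 2), (0, (-2))],
      [(1, 2), (1, (-2)), (0, (-2)), (0, 2), (0, (-2)), (4, 2), (0, (-2)), (0, (-2)), (0, 2), (0, (-2)), (0, 2), (1, (-2)), (1, 4)],
      [(1, 2), (1, 2), (0, 2), (0, 2), (0, 2), (4, 2), (0, (-2)), (0, (-2)), (0, (-2)), (0, 2), (0, (-2)), (1, (-2)), (0, (-4))],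
      [(0, 2), (1, (-2)), (3, (-4)), (0, (-2)), (0, 2), (0, 2), (0, (-2)), (6, (-2)), (1, (-2)), (0, (-2)), (0, 2), (0, 2), (0, (-2))],
      [(1, (-2)), (1, 2), (0, (-2)), (0, 2), (0, 2), (1, 4), (2, (-2)), (0, (-2)), (0, (-2)), (0, 2), (0, (-2)), (0, (-2)), (1, 2)],
      [(0, (-2)), (1, (-2)), (4, 2), (0, 2), (0, (-2)), (0, (-2)), (6, 2), (0, (-4)), (0, 2), (0, (-2)), (0, 2), (0, (-2)), (0, (-2))],
      [(0, (-2)), (1, 2), (4, (-2)), (0, (-2)), (0, 2), (0, (-2)), (4, (-4)), (1, 2), (1, (-2)), (0, (-2)), (0, 2), (0, (-2)), (0, 2)],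
      [(0, (-2)), (1, 2), (4, 2), (0, 2), (0, 2), (0, 2), (2, 4), (3, (-2)), (1, (-2)), (0, 2), (0, 2), (0, (-2)), (0, (-2))],
      [(1, (-2)), (1, (-2)), (0, 2), (0, (-2)), (0, 2), (2, 4), (1, (-2)), (0, (-2)), (0, (-2)), (0, 2), (0, 2), (0, 2), (1, (-2))],
      [(0, 2), (1, 2), (0, (-4)), (3, 2), (0, 2), (0, (-2)), (0, 2), (6, 2), (1, (-2)), (0, (-2)), (0, 2), (0, 2), (0, 2)],
      [(0, (-2)), (1, (-2)), (4, 2), (0, (-2)), (0, (-2)), (0, (-2)), (0, (-4)), (5, (-2)), (1, (-2)), (0, 2), (0, 2), (0, 2), (0, 2)],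
      [(0, 2), (1, 2), (4, 2), (0, (-2)), (0, (-2)), (0, (-2)), (3, 4), (2, (-2)), (1, (-2)), (0, (-2)), (0, (-2)), (0, (-2)), (0, (-2))],
      [(1, 2), (1, 2), (0, 2), (0, (-2)), (0, (-2)), (3, 4), (0, (-2)), (0, 2), (0, (-2)), (0, 2), (0, (-2)), (0, (-2)), (1, (-2))],
      [(0, (-2)), (1, 2), (2, (-4)), (1, (-2)), (0, 2), (0, (-2)), (0, (-2)), (6, 2), (1, (-2)), (0, 2), (0, (-2)), (0, 2), (0, (-2))],
      [(1, (-2)), (1, (-2)), (0, (-2)), (0, (-2)), (0, 2), (4, 2), (0, 2), (0, (-2)), (0, (-2)), (0, (-2)), (0, (-2)), (0, (-4)), (0, (-2))],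
      [(0, 2), (0, (-4)), (0, (-2)), (4, (-2)), (0, (-2)), (0, (-2)), (0, 2), (6, 2), (1, (-2)), (0, 2), (0, 2), (0, (-2)), (0, (-2))]])]

/-- the generators and their transposes -/
def twoW : List (List (List (ℕ × ℤ)) × List (List (ℕ × ℤ))) := twoW0 ++ twoW1 ++ twoW2 ++ twoW3 ++ twoW4 ++ twoW5 ++ twoW6 ++ twoW7 ++ twoW8 ++ twoW9

/-- part of the relations -/
def twoRels0 : List Rule :=
  [([0, 0], [3, 8, 9, 11, 13]),
    ([1, 0], [0, 1, 7, 8, 9, 11, 13]),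
    ([1, 1], [3, 7, 11]),
    ([2, 0], [0, 2, 3, 5, 9, 10, 12]),
    ([2, 1], [1, 2, 3, 5, 7, 13]),
    ([2, 2], [5, 12, 13]),
    ([3, 0], [0, 3, 11]),
    ([3, 1], [1, 3, 8, 9, 12, 13]),
    ([3, 2], [2, 3, 6, 13]),
    ([3, 3], [12]),
    ([4, 0], [0, 4, 5, 9, 13]),
    ([4, 1], [1, 4, 5, 12, 13]),
    ([4, 2], [2, 4, 5, 12, 13]),
    ([4, 3], [3, 4, 6, 12]),
    ([4, 4], [12]),
    ([5, 0], [0, 5, 6, 11, 12]),
    ([5, 1], [1, 5, 6, 9, 11, 13]),
    ([5, 2], [2, 5]),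
    ([5, 3], [3, 5, 11, 13]),
    ([5, 4], [4, 5, 13])]

/-- part of the relations -/
def twoRels1 : List Rule :=
  [([5, 5], [13]),
    ([6, 0], [0, 6, 13]),
    ([6, 1], [1, 6, 10, 11]),
    ([6, 2], [2, 6, 11, 12]),
    ([6, 3], [3, 6, 12, 13]),
    ([6, 4], [4, 6, 12, 13]),
    ([6, 5], [5, 6, 12, 13]),
    ([6, 6], [12, 13]),
    ([7, 0], [0, 7, 8, 9, 11, 12]),
    ([7, 1], [1, 7, 8, 9, 12, 13]),
    ([7, 2], [2, 7, 9, 11, 12]),
    ([7, 3], [3, 7, 11, 12, 13]),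
    ([7, 4], [4, 7, 9, 12]),
    ([7, 5], [5, 7, 13]),
    ([7, 6], [6, 7, 11, 12, 13]),
    ([7, 7], [11, 12]),
    ([8, 0], [0, 8, 10, 11]),
    ([8, 1], [1, 8, 10, 11]),
    ([8, 2], [2, 8, 10, 11]),
    ([8, 3], [3, 8, 11])]

/-- part of the relations -/
def twoRels2 : List Rule :=
  [([8, 4], [4, 8, 10, 11, 13]),
    ([8, 5], [5, 8, 11]),
    ([8, 6], [6, 8]),
    ([8, 7], [7, 8]),
    ([8, 8], []),
    ([9, 0], [0, 9, 10, 12, 13]),
    ([9, 1], [1, 9, 10]),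
    ([9, 2], [2, 9, 13]),
    ([9, 3], [3, 9, 11, 12, 13]),
    ([9, 4], [4, 9, 12, 13]),
    ([9, 5], [5, 9]),
    ([9, 6], [6, 9, 12, 13]),
    ([9, 7], [7, 9]),
    ([9, 8], [8, 9]),
    ([9, 9], [12, 13]),
    ([10, 0], [0, 10, 11, 12, 13]),
    ([10, 1], [1, 10, 11, 12, 13]),
    ([10, 2], [2, 10, 11, 12, 13]),
    ([10, 3], [3, 10, 12, 13]),
    ([10, 4], [4, 10, 12, 13])]

/-- part of the relations -/
def twoRels3 : List Rule :=
  [([10, 5], [5, 10, 12, 13]),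
    ([10, 6], [6, 10]),
    ([10, 7], [7, 10]),
    ([10, 8], [8, 10]),
    ([10, 9], [9, 10]),
    ([10, 10], []),
    ([11, 0], [0, 11, 12, 13]),
    ([11, 1], [1, 11, 12, 13]),
    ([11, 2], [2, 11, 12, 13]),
    ([11, 3], [3, 11]),
    ([11, 4], [4, 11, 12, 13]),
    ([11, 5], [5, 11]),
    ([11, 6], [6, 11]),
    ([11, 7], [7, 11]),
    ([11, 8], [8, 11]),
    ([11, 9], [9, 11]),
    ([11, 10], [10, 11]),
    ([11, 11], []),
    ([12, 0], [0, 12]),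
    ([12, 1], [1, 12])]

/-- part of the relations -/
def twoRels4 : List Rule :=
  [([12, 2], [2, 12]),
    ([12, 3], [3, 12]),
    ([12, 4], [4, 12]),
    ([12, 5], [5, 12]),
    ([12, 6], [6, 12]),
    ([12, 7], [7, 12]),
    ([12, 8], [8, 12]),
    ([12, 9], [9, 12]),
    ([12, 10], [10, 12]),
    ([12, 11], [11, 12]),
    ([12, 12], []),
    ([13, 0], [0, 13]),
    ([13, 1], [1, 13]),
    ([13, 2], [2, 13]),
    ([13, 3], [3, 13]),
    ([13, 4], [4, 13]),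
    ([13, 5], [5, 13]),
    ([13, 6], [6, 13]),
    ([13, 7], [7, 13]),
    ([13, 8], [8, 13])]

/-- part of the relations -/
def twoRels5 : List Rule :=
  [([13, 9], [9, 13]),
    ([13, 10], [10, 13]),
    ([13, 11], [11, 13]),
    ([13, 12], [12, 13]),
    ([13, 13], []),
    ([14, 1], [1, 6, 7, 8, 11, 14]),
    ([14, 2, 4], [6, 7, 9, 10, 11, 14]),
    ([14, 3], [2, 4, 7, 9, 11, 12, 13, 14]),
    ([14, 5], [2, 4, 5, 6, 8, 11, 12, 13, 14]),
    ([14, 6], [2, 3, 4, 5, 6, 8, 10, 12, 14]),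
    ([14, 7], [2, 3, 4, 6, 8, 14]),
    ([14, 8], [2, 3, 4, 5, 14]),
    ([14, 9], [2, 4, 5, 7, 8, 10, 11, 13, 14]),
    ([14, 10], [3, 7, 8, 9, 10, 14]),
    ([14, 11], [11, 12, 13, 14]),
    ([14, 12], [12, 14]),
    ([14, 13], [13, 14]),
    ([15, 1, 2, 4, 5], [10, 13, 15]),
    ([15, 3, 7], [1, 2, 3, 4, 5, 7, 8, 11, 12, 15]),
    ([15, 6, 8], [6, 8, 12, 13, 15])]

/-- part of the relations -/
def twoRels6 : List Rule :=
  [([15, 8, 9], [3, 6, 7, 9, 11, 15]),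
    ([15, 10], [3, 6, 7, 8, 13, 15]),
    ([15, 11], [1, 2, 4, 5, 10, 11, 13, 15]),
    ([15, 12], [12, 15]),
    ([15, 13], [13, 15]),
    ([16, 0, 1], [1, 2, 10, 11, 13, 16]),
    ([16, 1, 2], [0, 2, 4, 5, 6, 9, 11, 13, 16]),
    ([16, 3, 7], [1, 2, 4, 5, 6, 9, 11, 12, 16]),
    ([16, 4, 5], [0, 1, 3, 7, 16]),
    ([16, 6, 8], [1, 2, 3, 4, 5, 6, 7, 8, 9, 12, 16]),
    ([16, 8, 9], [1, 2, 3, 4, 5, 6, 7, 11, 16]),
    ([16, 10], [10, 12, 13, 16]),
    ([16, 11], [1, 2, 3, 4, 5, 7, 9, 12, 16]),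
    ([16, 12], [12, 16]),
    ([16, 13], [13, 16]),
    ([17, 1, 3], [3, 4, 6, 7, 10, 12, 17]),
    ([17, 2, 4], [0, 1, 3, 10, 11, 13, 17]),
    ([17, 3, 5], [0, 1, 3, 4, 6, 8, 10, 11, 12, 17]),
    ([17, 5, 6], [0, 2, 4, 5, 7, 8, 10, 12, 13, 17]),
    ([17, 6, 7], [4, 6, 10, 11, 17])]

/-- part of the relations -/
def twoRels7 : List Rule :=
  [([17, 7, 8], [4, 8, 10, 17]),
    ([17, 8, 9], [1, 2, 4, 5, 6, 8, 10, 11, 13, 17]),
    ([17, 10], [1, 2, 4, 5, 8, 9, 10, 11, 13, 17]),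
    ([17, 11], [10, 11, 12, 17]),
    ([17, 12], [12, 17]),
    ([17, 13], [13, 17]),
    ([18, 0, 1], [1, 2, 4, 6, 8, 10, 18]),
    ([18, 1, 2], [1, 2, 4, 7, 12, 18]),
    ([18, 3], [4, 5, 9, 18]),
    ([18, 4], [0, 1, 3, 4, 8, 9, 12, 13, 18]),
    ([18, 5], [0, 1, 3, 4, 5, 6, 7, 8, 10, 13, 18]),
    ([18, 6], [9, 10, 18]),
    ([18, 7], [1, 2, 3, 7, 9, 11, 18]),
    ([18, 8], [8, 11, 13, 18]),
    ([18, 9], [6, 8, 9, 10, 13, 18]),
    ([18, 10], [11, 12, 18]),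
    ([18, 11], [10, 13, 18]),
    ([18, 12], [12, 18]),
    ([18, 13], [13, 18])]

/-- the relations -/
def twoRels : List Rule := twoRels0 ++ twoRels1 ++ twoRels2 ++ twoRels3 ++ twoRels4 ++ twoRels5 ++ twoRels6 ++ twoRels7

/-- part of the pairs -/
def twoEqs0 : List Pair :=
  [([3, 3, 3], [(0, 9, true), (0, 81, true)], [(1, 9, true)]),
    ([4, 4, 4], [(0, 14, true), (0, 82, true)], [(1, 14, true)]),
    ([5, 5, 5], [(0, 20, true), (0, 96, true)], [(1, 20, true)]),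
    ([6, 6, 6], [(0, 27, true), (1, 97, true), (0, 84, true)], [(1, 27, true)]),
    ([7, 7, 7], [(0, 35, true), (1, 85, true), (0, 73, true)], [(1, 35, true)]),
    ([9, 9, 9], [(0, 54, true), (1, 100, true), (0, 87, true)], [(1, 54, true)]),
    ([2, 2, 2], [(0, 5, true), (2, 93, true), (1, 80, true), (0, 17, true)], [(1, 5, true)]),
    ([5, 5, 2], [(0, 20, true), (0, 93, true)], [(1, 17, true), (0, 17, true), (1, 20, true)]),
    ([9, 5, 5], [(0, 50, true), (1, 50, true), (0, 20, true), (0, 100, true)], [(1, 20, true)]),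
    ([11, 3, 3], [(0, 69, true), (1, 69, true), (0, 9, true), (0, 89, true)], [(1, 9, true)])]

/-- part of the pairs -/
def twoEqs1 : List Pair :=
  [([11, 5, 5], [(0, 71, true), (1, 71, true), (0, 20, true), (0, 102, true)], [(1, 20, true)]),
    ([12, 5, 5], [(0, 83, true), (1, 83, true), (0, 20, true), (0, 103, true)], [(1, 20, true)]),
    ([8, 8, 3], [(0, 44, true)], [(1, 39, true), (0, 39, true), (2, 74, true), (1, 44, true), (1, 77, true)]),
    ([8, 6, 6], [(0, 42, true), (1, 42, true), (0, 27, true), (1, 99, true), (0, 86, true)], [(1, 27, true)]),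
    ([8, 7, 7], [(0, 43, true), (1, 43, true), (0, 35, true), (1, 86, true), (0, 74, true)], [(1, 35, true)]),
    ([9, 9, 5], [(0, 54, true), (1, 96, true), (0, 83, true)], [(1, 50, true), (0, 50, true), (1, 54, true)]),
    ([9, 9, 7], [(0, 54, true), (1, 98, true), (0, 85, true)], [(1, 52, true), (0, 52, true), (1, 54, true)]),
    ([9, 7, 7], [(0, 52, true), (1, 52, true), (0, 35, true), (1, 87, true), (0, 75, true)], [(1, 35, true)]),
    ([10, 6, 6], [(0, 61, true), (1, 61, true), (0, 27, true), (1, 101, true), (0, 88, true)], [(1, 27, true)]),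
    ([10, 7, 7], [(0, 62, true), (1, 62, true), (0, 35, true), (1, 88, true), (0, 76, true)], [(1, 35, true)])]

/-- part of the pairs -/
def twoEqs2 : List Pair :=
  [([5, 5, 4], [(0, 20, true), (0, 95, true)], [(1, 19, true), (0, 19, true), (2, 96, true), (1, 20, true), (1, 104, true)]),
    ([7, 5, 5], [(0, 33, true), (2, 96, true), (1, 33, true), (0, 20, true), (0, 98, true), (1, 104, true)], [(1, 20, true)]),
    ([12, 1, 1], [(0, 79, true), (1, 79, true), (0, 2, true)], [(1, 2, true), (0, 81, true), (1, 85, true), (2, 89, true)]),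
    ([12, 9, 1], [(0, 87, true), (1, 79, true), (0, 46, true)], [(1, 46, true), (0, 79, true), (1, 87, true), (2, 88, true)]),
    ([13, 1, 1], [(0, 92, true), (1, 92, true), (0, 2, true)], [(1, 2, true), (0, 94, true), (1, 98, true), (2, 102, true)]),
    ([6, 6, 0], [(0, 27, true), (1, 91, true), (0, 78, true)], [(1, 21, true), (0, 21, true), (2, 97, true), (1, 27, true), (2, 104, true)]),
    ([7, 7, 5], [(0, 35, true), (1, 83, true), (0, 71, true)], [(1, 33, true), (0, 33, true), (2, 98, true), (1, 35, true), (3, 104, true)]),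
    ([9, 9, 2], [(0, 54, true), (1, 93, true), (0, 80, true)], [(1, 47, true), (0, 47, true), (2, 100, true), (1, 54, true), (2, 104, true)]),
    ([12, 3, 2], [(0, 81, true), (1, 80, true), (0, 8, true), (3, 103, true)], [(1, 8, true), (0, 80, true), (1, 81, true), (2, 84, true)]),
    ([3, 3, 0], [(0, 9, true), (0, 78, true)], [(1, 6, true), (0, 6, true), (2, 69, true), (1, 9, true), (1, 89, true), (2, 89, true), (1, 77, true)])]

/-- part of the pairs -/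
def twoEqs3 : List Pair :=
  [([8, 8, 0], [(0, 44, true)], [(1, 36, true), (0, 36, true), (3, 74, true), (2, 63, true), (1, 44, true), (2, 76, true), (1, 65, true), (1, 77, true)]),
    ([8, 3, 3], [(0, 39, true), (2, 69, true), (1, 39, true), (0, 9, true), (0, 86, true), (1, 89, true), (2, 89, true), (1, 77, true)], [(1, 9, true)]),
    ([8, 7, 5], [(0, 43, true), (1, 41, true), (0, 33, true), (2, 99, true), (3, 102, true)], [(1, 33, true), (0, 41, true), (2, 73, true), (1, 43, true)]),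
    ([9, 2, 2], [(0, 47, true), (2, 93, true), (1, 47, true), (0, 5, true), (2, 100, true), (1, 87, true), (3, 104, true)], [(1, 5, true), (0, 50, true)]),
    ([10, 10, 3], [(0, 65, true)], [(1, 58, true), (0, 58, true), (3, 101, true), (2, 88, true), (1, 65, true), (2, 103, true), (1, 90, true), (1, 104, true)]),
    ([8, 6, 0], [(0, 42, true), (1, 36, true), (0, 21, true), (2, 99, true), (3, 101, true), (4, 102, true)], [(1, 21, true), (0, 36, true), (3, 72, true), (2, 61, true), (1, 42, true)]),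
    ([8, 6, 3], [(0, 42, true), (1, 39, true), (0, 24, true), (3, 99, true), (2, 86, true), (4, 102, true), (3, 89, true)], [(1, 24, true), (0, 39, true), (2, 72, true), (1, 42, true)]),
    ([9, 8, 2], [(0, 53, true), (1, 47, true), (0, 38, true), (3, 75, true), (2, 64, true)], [(1, 38, true), (0, 47, true), (2, 99, true), (1, 53, true), (3, 101, true), (4, 102, true)]),
    ([3, 3, 2], [(0, 9, true), (0, 80, true)], [(1, 8, true), (0, 8, true), (3, 94, true), (2, 24, true), (1, 9, true), (1, 84, true), (2, 90, true), (2, 104, true), (1, 27, true), (2, 104, true)]),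
    ([9, 9, 1], [(0, 54, true), (1, 92, true), (0, 79, true)], [(1, 46, true), (0, 46, true), (2, 64, true), (1, 54, true), (2, 101, true), (1, 88, true), (3, 101, true), (2, 88, true), (1, 65, true)])]

/-- part of the pairs -/
def twoEqs4 : List Pair :=
  [([9, 8, 1], [(0, 53, true), (1, 46, true), (0, 37, true), (3, 75, true), (2, 64, true), (4, 76, true), (3, 65, true)], [(1, 37, true), (0, 46, true), (2, 63, true), (1, 53, true), (3, 65, true)]),
    ([7, 4, 4], [(0, 32, true), (3, 82, true), (2, 49, true), (1, 32, true), (0, 14, true), (0, 85, true), (1, 87, true), (2, 90, true), (1, 54, true), (2, 103, true), (1, 90, true), (1, 104, true)], [(1, 14, true)]),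
    ([8, 5, 2], [(0, 41, true), (2, 68, true), (1, 38, true), (0, 17, true), (4, 77, true)], [(1, 17, true), (0, 38, true), (3, 71, true), (2, 60, true), (1, 41, true), (3, 76, true), (6, 102, true), (5, 89, true), (4, 77, true)]),
    ([4, 4, 1], [(0, 14, true), (0, 79, true)], [(1, 11, true), (0, 11, true), (4, 95, true), (3, 82, true), (2, 19, true), (1, 14, true), (1, 83, true), (3, 103, true), (2, 90, true), (2, 104, true), (1, 20, true), (1, 103, true), (2, 104, true)]),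
    ([4, 4, 2], [(0, 14, true), (0, 80, true)], [(1, 12, true), (0, 12, true), (4, 95, true), (3, 82, true), (2, 19, true), (1, 14, true), (1, 83, true), (3, 103, true), (2, 90, true), (2, 104, true), (1, 20, true), (1, 103, true), (2, 104, true)]),
    ([4, 4, 3], [(0, 14, true), (0, 81, true)], [(1, 13, true), (0, 13, true), (3, 82, true), (2, 25, true), (1, 14, true), (1, 84, true), (2, 90, true), (2, 103, true), (3, 97, true), (2, 84, true), (1, 27, true), (2, 103, true), (1, 90, true), (1, 104, true)]),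
    ([0, 0, 0], [(0, 0, true), (4, 91, true), (3, 66, true), (2, 45, true), (1, 36, true), (0, 6, true), (2, 74, true), (3, 76, true), (4, 77, true), (3, 64, true), (4, 65, true), (5, 102, true), (4, 89, true), (6, 103, true), (5, 90, true), (5, 104, true)], [(1, 0, true)]),
    ([5, 3, 2], [(0, 18, true), (3, 93, true), (2, 68, true), (1, 17, true), (0, 8, true), (3, 96, true), (2, 26, true), (5, 104, true), (4, 89, true), (5, 90, true), (5, 104, true)], [(1, 8, true), (0, 17, true), (1, 18, true), (4, 97, true), (3, 72, true), (5, 104, true)]),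
    ([8, 7, 4], [(0, 43, true), (1, 40, true), (0, 32, true), (3, 86, true), (2, 53, true), (4, 88, true), (5, 89, true)], [(1, 32, true), (0, 40, true), (4, 98, true), (3, 73, true), (2, 62, true), (1, 43, true), (5, 100, true), (4, 75, true), (3, 64, true), (6, 103, true)]),
    ([8, 3, 0], [(0, 39, true), (2, 66, true), (1, 36, true), (0, 6, true), (2, 74, true), (3, 76, true), (4, 77, true)], [(1, 6, true), (0, 36, true), (3, 69, true), (2, 58, true), (1, 39, true), (3, 76, true), (6, 102, true), (5, 89, true), (4, 77, true), (5, 102, true), (4, 89, true)])]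

/-- part of the pairs -/
def twoEqs5 : List Pair :=
  [([9, 1, 1], [(0, 46, true), (2, 56, true), (1, 46, true), (0, 2, true), (2, 75, true), (3, 76, true), (4, 76, true), (3, 65, true), (3, 77, true)], [(1, 2, true), (0, 48, true), (4, 98, true), (3, 85, true), (2, 73, true), (1, 52, true), (5, 102, true), (4, 89, true), (3, 77, true)]),
    ([7, 7, 4], [(0, 35, true), (1, 82, true), (0, 70, true), (3, 103, true), (2, 90, true)], [(1, 32, true), (0, 32, true), (3, 85, true), (2, 52, true), (1, 35, true), (2, 87, true), (1, 75, true), (3, 90, true), (2, 75, true), (1, 54, true), (2, 102, true), (1, 89, true), (3, 103, true), (2, 90, true)]),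
    ([8, 4, 4], [(0, 40, true), (4, 95, true), (3, 70, true), (2, 59, true), (1, 40, true), (0, 14, true), (0, 86, true), (1, 88, true), (2, 89, true), (4, 101, true), (3, 88, true), (2, 76, true), (1, 65, true), (3, 103, true), (2, 90, true), (2, 104, true), (1, 77, true), (2, 104, true)], [(1, 14, true)]),
    ([8, 1, 1], [(0, 37, true), (3, 67, true), (2, 56, true), (1, 37, true), (0, 2, true), (2, 74, true), (3, 76, true), (4, 77, true), (3, 65, true), (5, 102, true), (4, 89, true), (3, 77, true), (4, 103, true), (3, 90, true), (3, 104, true)], [(1, 2, true), (0, 39, true), (2, 73, true), (1, 43, true), (3, 77, true)]),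
    ([8, 5, 4], [(0, 41, true), (2, 70, true), (1, 40, true), (0, 19, true), (2, 99, true), (3, 101, true), (4, 102, true), (5, 104, true), (4, 77, true)], [(1, 19, true), (0, 40, true), (4, 96, true), (3, 71, true), (2, 60, true), (1, 41, true), (3, 76, true), (6, 102, true), (5, 89, true), (4, 77, true), (5, 104, true)]),
    ([10, 1, 1], [(0, 56, true), (4, 92, true), (3, 79, true), (2, 67, true), (1, 56, true), (0, 2, true), (2, 76, true), (3, 77, true), (4, 102, true), (3, 89, true), (5, 103, true), (4, 90, true), (4, 104, true)], [(1, 2, true), (0, 58, true), (3, 98, true), (2, 85, true), (1, 62, true), (4, 102, true), (3, 89, true)]),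
    ([6, 0, 0], [(0, 21, true), (2, 91, true), (1, 21, true), (0, 0, true), (4, 97, true), (3, 72, true), (2, 51, true), (1, 42, true), (5, 102, true), (4, 89, true), (6, 104, true), (6, 104, true)], [(1, 0, true), (0, 24, true), (3, 99, true), (2, 86, true), (4, 100, true), (3, 87, true), (5, 102, true), (4, 89, true), (6, 104, true)]),
    ([5, 5, 0], [(0, 20, true), (0, 91, true)], [(1, 15, true), (0, 15, true), (4, 83, true), (3, 71, true), (2, 26, true), (1, 20, true), (1, 97, true), (2, 103, true), (3, 104, true), (2, 89, true), (3, 90, true), (2, 72, true), (1, 27, true), (2, 102, true), (1, 89, true), (3, 102, true), (2, 89, true), (1, 77, true), (2, 103, true), (1, 90, true)]),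
    ([6, 4, 0], [(0, 25, true), (3, 91, true), (2, 78, true), (1, 21, true), (0, 10, true), (4, 97, true), (3, 51, true), (6, 104, true), (6, 103, true), (5, 90, true), (5, 104, true)], [(1, 10, true), (0, 21, true), (2, 95, true), (1, 25, true), (4, 104, true), (3, 83, true), (2, 26, true), (5, 103, true), (4, 90, true), (4, 100, true), (5, 104, true)]),
    ([3, 2, 2], [(0, 8, true), (3, 93, true), (2, 23, true), (1, 8, true), (0, 5, true), (2, 94, true), (1, 81, true), (0, 18, true), (3, 103, true), (4, 104, true), (3, 84, true), (2, 72, true), (5, 97, true), (4, 84, true), (3, 72, true), (2, 27, true), (3, 102, true), (2, 89, true), (4, 103, true), (3, 90, true), (3, 104, true), (2, 77, true)], [(1, 5, true)])]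

/-- part of the pairs -/
def twoEqs6 : List Pair :=
  [([8, 2, 2], [(0, 38, true), (3, 68, true), (2, 57, true), (1, 38, true), (0, 5, true), (2, 99, true), (1, 86, true), (3, 101, true), (2, 88, true), (4, 102, true), (3, 89, true), (5, 101, true), (4, 88, true), (3, 76, true), (2, 65, true), (4, 102, true), (3, 89, true), (2, 77, true), (3, 103, true), (2, 90, true), (2, 104, true)], [(1, 5, true), (0, 41, true)]),
    ([1, 1, 1], [(0, 2, true), (2, 67, true), (1, 29, true), (0, 7, true), (5, 98, true), (4, 85, true), (3, 52, true), (2, 43, true), (6, 99, true), (5, 86, true), (4, 53, true), (3, 44, true), (5, 100, true), (4, 87, true), (3, 54, true), (4, 103, true), (3, 90, true), (3, 104, true), (4, 102, true), (3, 89, true), (5, 103, true), (4, 90, true), (4, 104, true)], [(1, 2, true)]),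
    ([3, 0, 0], [(0, 6, true), (2, 66, true), (1, 6, true), (0, 0, true), (4, 94, true), (3, 69, true), (2, 48, true), (1, 39, true), (0, 9, true), (0, 86, true), (1, 89, true), (2, 87, true), (1, 75, true), (3, 89, true), (2, 77, true), (2, 90, true), (2, 102, true), (3, 104, true), (2, 77, true)], [(1, 0, true), (0, 9, true), (0, 86, true), (1, 87, true), (2, 89, true)]),
    ([5, 3, 0], [(0, 18, true), (3, 91, true), (2, 66, true), (1, 15, true), (0, 6, true), (2, 71, true), (3, 72, true), (4, 77, true), (4, 89, true), (5, 90, true), (5, 104, true)], [(1, 6, true), (0, 15, true), (4, 81, true), (3, 69, true), (2, 24, true), (1, 18, true), (4, 97, true), (3, 72, true), (5, 103, true), (6, 104, true), (5, 89, true), (4, 77, true), (4, 90, true)]),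
    ([7, 7, 0], [(0, 35, true), (1, 78, true), (0, 66, true), (3, 103, true), (2, 90, true)], [(1, 28, true), (0, 28, true), (5, 85, true), (4, 73, true), (3, 52, true), (2, 43, true), (1, 35, true), (2, 86, true), (1, 74, true), (3, 87, true), (2, 75, true), (4, 89, true), (3, 77, true), (3, 90, true), (2, 53, true), (1, 44, true), (1, 54, true), (2, 102, true), (1, 89, true), (3, 103, true), (2, 90, true)]),
    ([3, 3, 1], [(0, 9, true), (0, 79, true)], [(1, 7, true), (0, 7, true), (5, 94, true), (4, 81, true), (3, 48, true), (2, 39, true), (1, 9, true), (1, 86, true), (2, 89, true), (3, 87, true), (2, 75, true), (4, 89, true), (3, 77, true), (3, 90, true), (3, 103, true), (4, 104, true), (3, 86, true), (2, 53, true), (1, 44, true), (2, 87, true), (1, 54, true), (2, 103, true), (1, 90, true), (1, 103, true), (2, 104, true)]),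
    ([8, 0, 0], [(0, 36, true), (3, 66, true), (2, 55, true), (1, 36, true), (0, 0, true), (4, 99, true), (3, 74, true), (2, 53, true), (1, 44, true), (3, 101, true), (2, 76, true), (4, 102, true), (3, 77, true), (3, 101, true), (2, 65, true), (2, 102, true), (3, 103, true), (4, 104, true), (3, 89, true), (2, 77, true), (2, 90, true)], [(1, 0, true), (0, 39, true), (2, 74, true), (1, 44, true), (1, 75, true), (2, 77, true)]),
    ([6, 1, 1], [(0, 22, true), (3, 67, true), (2, 56, true), (1, 22, true), (0, 2, true), (2, 72, true), (1, 34, true), (5, 102, true), (4, 89, true), (3, 77, true), (4, 101, true), (3, 88, true), (5, 102, true), (4, 89, true), (6, 101, true), (5, 88, true), (4, 76, true), (3, 65, true), (5, 102, true), (4, 89, true), (3, 77, true), (4, 103, true), (3, 90, true), (3, 104, true)], [(1, 2, true), (0, 24, true), (3, 98, true), (2, 85, true), (4, 102, true), (3, 89, true)]),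
    ([7, 2, 2], [(0, 30, true), (4, 80, true), (3, 68, true), (2, 47, true), (1, 30, true), (0, 5, true), (2, 98, true), (1, 85, true), (3, 100, true), (2, 87, true), (4, 102, true), (3, 89, true), (5, 103, true), (4, 90, true), (4, 100, true), (3, 75, true), (2, 54, true), (3, 102, true), (2, 89, true), (4, 104, true), (4, 102, true), (3, 89, true), (2, 77, true), (3, 103, true), (2, 90, true), (2, 104, true)], [(1, 5, true), (0, 33, true), (2, 103, true), (3, 104, true)]),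
    ([5, 5, 1], [(0, 20, true), (0, 92, true)], [(1, 16, true), (0, 16, true), (5, 96, true), (4, 71, true), (3, 50, true), (2, 26, true), (1, 20, true), (1, 97, true), (2, 103, true), (3, 104, true), (2, 87, true), (3, 89, true), (5, 97, true), (4, 84, true), (3, 72, true), (2, 51, true), (1, 27, true), (2, 100, true), (1, 87, true), (3, 103, true), (2, 90, true), (2, 104, true), (4, 100, true), (3, 87, true), (2, 75, true), (1, 54, true), (2, 102, true), (1, 89, true), (3, 103, true), (2, 90, true), (2, 104, true), (1, 77, true)])]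

/-- part of the pairs -/
def twoEqs7 : List Pair :=
  [([9, 2, 1], [(0, 47, true), (2, 92, true), (1, 46, true), (0, 4, true), (5, 100, true), (6, 101, true), (7, 104, true)], [(1, 4, true), (0, 46, true), (2, 57, true), (1, 47, true), (3, 101, true), (4, 102, true), (5, 103, true), (6, 104, true), (5, 81, true), (4, 69, true), (3, 58, true), (2, 48, true), (6, 101, true), (5, 88, true), (4, 76, true), (7, 103, true), (6, 90, true), (6, 104, true), (5, 77, true), (5, 83, true), (4, 60, true), (3, 50, true), (7, 103, true), (6, 90, true), (6, 98, true), (5, 62, true), (4, 52, true), (7, 104, true)]),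
    ([4, 3, 0], [(0, 13, true), (3, 78, true), (2, 21, true), (1, 10, true), (0, 6, true), (2, 70, true), (5, 96, true), (4, 83, true), (3, 71, true), (6, 100, true), (5, 87, true), (4, 75, true), (7, 104, true), (6, 84, true), (5, 72, true), (4, 51, true), (7, 102, true), (6, 89, true), (8, 103, true), (7, 90, true), (7, 104, true)], [(1, 6, true), (0, 10, true), (4, 94, true), (3, 48, true), (2, 18, true), (1, 13, true), (4, 83, true), (3, 26, true), (6, 103, true), (5, 90, true), (5, 102, true), (6, 104, true), (5, 75, true), (6, 77, true), (7, 104, true), (6, 89, true)]),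
    ([7, 1, 1], [(0, 29, true), (5, 92, true), (4, 79, true), (3, 46, true), (2, 37, true), (1, 29, true), (0, 2, true), (2, 73, true), (1, 35, true), (2, 89, true), (1, 77, true), (1, 86, true), (2, 87, true), (3, 90, true), (3, 99, true), (2, 53, true), (1, 44, true), (2, 101, true), (3, 102, true), (4, 100, true), (3, 75, true), (2, 64, true), (1, 54, true), (2, 101, true), (1, 88, true), (3, 102, true), (2, 89, true), (4, 104, true), (3, 88, true), (2, 76, true), (1, 65, true), (2, 90, true)], [(1, 2, true), (0, 31, true), (4, 98, true), (3, 85, true), (2, 73, true), (1, 35, true), (2, 89, true), (1, 77, true), (1, 90, true), (1, 102, true)]),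
    ([1, 1, 0], [(0, 2, true), (2, 66, true), (1, 28, true), (0, 6, true), (2, 73, true), (3, 74, true), (4, 75, true), (5, 77, true), (5, 89, true), (6, 90, true)], [(1, 1, true), (0, 1, true), (6, 92, true), (5, 67, true), (4, 46, true), (3, 37, true), (2, 29, true), (1, 2, true), (3, 73, true), (2, 35, true), (3, 89, true), (2, 77, true), (2, 86, true), (3, 87, true), (4, 90, true), (4, 99, true), (3, 53, true), (2, 44, true), (3, 101, true), (4, 102, true), (5, 100, true), (4, 75, true), (3, 64, true), (2, 54, true), (3, 101, true), (2, 88, true), (4, 102, true), (3, 89, true), (5, 104, true), (4, 88, true), (3, 76, true), (2, 65, true), (3, 89, true), (2, 77, true), (2, 90, true), (2, 104, true)]),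
    ([7, 0, 0], [(0, 28, true), (5, 78, true), (4, 66, true), (3, 45, true), (2, 36, true), (1, 28, true), (0, 0, true), (4, 98, true), (3, 73, true), (2, 52, true), (1, 43, true), (5, 99, true), (4, 74, true), (3, 53, true), (2, 44, true), (4, 100, true), (3, 75, true), (2, 54, true), (3, 102, true), (2, 89, true), (4, 104, true), (3, 89, true), (2, 77, true), (2, 90, true), (4, 75, true), (3, 64, true), (5, 76, true), (4, 65, true), (6, 102, true), (5, 89, true), (4, 77, true), (5, 103, true), (4, 90, true), (4, 104, true)], [(1, 0, true), (0, 31, true), (4, 99, true), (3, 86, true), (2, 74, true), (5, 100, true), (4, 87, true), (3, 75, true), (6, 102, true), (5, 89, true), (4, 77, true), (5, 104, true)]),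
    ([4, 1, 1], [(0, 11, true), (4, 92, true), (3, 79, true), (2, 16, true), (1, 11, true), (0, 2, true), (2, 70, true), (1, 32, true), (4, 89, true), (5, 90, true), (5, 96, true), (4, 71, true), (3, 50, true), (2, 33, true), (4, 100, true), (5, 102, true), (6, 104, true), (7, 96, true), (6, 83, true), (5, 71, true), (4, 50, true), (3, 33, true), (2, 20, true), (2, 98, true), (3, 104, true), (6, 97, true), (5, 84, true), (4, 72, true), (3, 51, true), (2, 34, true), (6, 100, true), (5, 87, true), (4, 75, true), (7, 103, true), (6, 90, true), (6, 104, true), (5, 77, true), (6, 100, true), (5, 87, true), (4, 54, true), (5, 103, true), (4, 90, true), (4, 104, true), (5, 103, true), (6, 104, true)], [(1, 2, true), (0, 13, true), (3, 85, true), (4, 89, true)]),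
    ([7, 4, 1], [(0, 32, true), (3, 79, true), (2, 46, true), (1, 29, true), (0, 11, true), (4, 98, true), (3, 85, true), (5, 99, true), (4, 86, true), (6, 100, true), (5, 87, true), (7, 103, true), (6, 90, true), (6, 104, true), (5, 54, true), (6, 101, true), (5, 88, true), (7, 103, true), (6, 90, true)], [(1, 11, true), (0, 29, true), (5, 95, true), (4, 82, true), (3, 49, true), (2, 40, true), (1, 32, true), (4, 86, true), (3, 53, true), (5, 88, true), (6, 89, true), (8, 100, true), (7, 87, true), (6, 75, true), (5, 64, true), (4, 54, true), (5, 101, true), (4, 88, true), (6, 102, true), (5, 89, true), (7, 103, true), (6, 90, true), (6, 104, true), (7, 103, true), (6, 90, true), (6, 104, true), (5, 71, true), (4, 60, true), (3, 41, true), (2, 33, true), (4, 99, true), (5, 102, true), (6, 101, true), (5, 76, true), (7, 103, true), (8, 104, true), (7, 89, true), (6, 77, true), (6, 90, true)]),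
    ([4, 3, 1], [(0, 13, true), (3, 79, true), (2, 22, true), (1, 11, true), (0, 7, true), (5, 95, true), (4, 82, true), (3, 49, true), (2, 40, true), (6, 100, true), (5, 75, true), (4, 64, true), (7, 103, true), (8, 104, true), (7, 90, true), (7, 96, true), (6, 71, true), (5, 60, true), (4, 50, true), (3, 41, true), (5, 75, true), (6, 76, true), (9, 102, true), (8, 89, true), (7, 77, true), (8, 104, true), (7, 90, true), (7, 97, true), (6, 61, true), (5, 51, true), (4, 42, true), (8, 101, true), (7, 88, true), (9, 104, true), (8, 88, true), (7, 65, true), (7, 89, true), (8, 90, true)], [(1, 7, true), (0, 11, true), (4, 94, true), (3, 81, true), (2, 18, true), (1, 13, true), (4, 83, true), (3, 26, true), (6, 103, true), (5, 90, true), (5, 102, true), (6, 104, true), (7, 99, true), (6, 86, true), (5, 74, true), (8, 100, true), (7, 87, true), (6, 75, true), (9, 103, true), (8, 90, true), (8, 104, true)]),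
    ([7, 4, 0], [(0, 32, true), (3, 78, true), (2, 45, true), (1, 28, true), (0, 10, true), (4, 98, true), (3, 52, true), (5, 99, true), (4, 53, true), (6, 100, true), (5, 54, true), (6, 104, true), (5, 89, true), (6, 90, true), (5, 75, true), (6, 76, true), (9, 103, true), (8, 90, true)], [(1, 10, true), (0, 28, true), (5, 82, true), (4, 70, true), (3, 49, true), (2, 40, true), (1, 32, true), (4, 86, true), (3, 53, true), (5, 88, true), (6, 89, true), (8, 100, true), (7, 87, true), (6, 75, true), (5, 64, true), (4, 54, true), (5, 101, true), (4, 88, true), (6, 102, true), (5, 89, true), (7, 103, true), (6, 90, true), (6, 104, true), (7, 102, true), (6, 89, true), (5, 77, true), (6, 103, true), (5, 90, true), (5, 104, true), (5, 83, true), (4, 60, true), (3, 41, true), (2, 33, true), (4, 99, true), (5, 102, true), (6, 101, true), (5, 76, true), (7, 103, true), (8, 104, true), (7, 90, true), (6, 75, true),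 (5, 64, true)]),
    ([4, 0, 0], [(0, 10, true), (4, 91, true), (3, 45, true), (2, 15, true), (1, 10, true), (0, 0, true), (4, 95, true), (3, 70, true), (2, 49, true), (1, 40, true), (5, 100, true), (4, 75, true), (3, 64, true), (6, 103, true), (7, 104, true), (6, 89, true), (5, 77, true), (5, 90, true), (5, 104, true), (4, 60, true), (3, 50, true), (2, 41, true), (4, 75, true), (5, 76, true), (8, 100, true), (7, 87, true), (6, 75, true), (5, 64, true), (4, 54, true), (5, 101, true), (4, 88, true), (6, 102, true), (5, 89, true), (7, 103, true), (6, 90, true), (6, 104, true), (6, 96, true), (5, 71, true), (4, 60, true), (3, 41, true), (2, 20, true), (2, 99, true), (3, 102, true), (4, 101, true), (3, 76, true), (5, 103, true), (6, 104, true), (5, 89, true), (4, 77, true), (5, 97, true), (4, 84, true), (3, 61, true), (2, 42, true), (6, 102, true), (5, 89, true), (7, 103, true), (6, 90, true), (6, 100, true),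 (5, 75, true), (4, 64, true), (7, 101, true), (6, 76, true), (5, 65, true), (6, 103, true), (7, 104, true)], [(1, 0, true), (0, 13, true), (3, 86, true), (4, 87, true), (5, 89, true)])]

/-- part of the pairs -/
def twoEqs8 : List Pair :=
  [([2, 2, 1], [(0, 5, true), (2, 92, true), (1, 79, true), (0, 16, true), (5, 103, true), (6, 104, true)], [(1, 4, true), (0, 4, true), (5, 93, true), (4, 30, true), (3, 17, true), (2, 8, true), (1, 5, true), (3, 94, true), (2, 81, true), (1, 18, true), (4, 103, true), (5, 104, true), (4, 84, true), (3, 72, true), (6, 96, true), (5, 83, true), (4, 71, true), (3, 26, true), (2, 20, true), (2, 97, true), (3, 103, true), (4, 104, true), (3, 89, true), (4, 90, true), (4, 98, true), (3, 73, true), (5, 100, true), (4, 75, true), (6, 102, true), (5, 77, true), (5, 103, true), (6, 104, true), (5, 81, true), (4, 48, true), (3, 31, true), (2, 24, true), (1, 9, true), (1, 84, true),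 (2, 90, true), (2, 98, true), (3, 102, true), (4, 103, true), (5, 104, true), (4, 87, true), (3, 75, true), (5, 89, true), (4, 77, true), (4, 90, true), (4, 103, true), (5, 96, true), (4, 83, true), (3, 50, true), (2, 33, true), (1, 26, true), (4, 98, true), (3, 85, true), (5, 104, true), (4, 87, true), (5, 90, true), (5, 98, true), (4, 52, true), (3, 35, true), (4, 87, true), (3, 75, true), (6, 104, true)]),
    ([2, 2, 0], [(0, 5, true), (2, 91, true), (1, 78, true), (0, 15, true), (4, 90, true)], [(1, 3, true), (0, 3, true), (6, 80, true), (5, 57, true), (4, 47, true), (3, 17, true), (2, 8, true), (1, 5, true), (3, 94, true), (2, 81, true), (1, 18, true), (4, 103, true), (5, 104, true), (4, 84, true), (3, 72, true), (6, 96, true), (5, 83, true), (4, 71, true), (3, 26, true), (2, 20, true), (2, 97, true), (3, 103, true), (4, 104, true), (3, 89, true), (4, 90, true), (4, 100, true), (3, 75, true), (5,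 104, true), (4, 76, true), (5, 77, true), (6, 103, true), (5, 90, true), (5, 94, true), (4, 58, true), (3, 48, true), (2, 24, true), (1, 9, true), (1, 84, true), (2, 90, true), (2, 100, true), (3, 102, true), (4, 103, true), (5, 104, true), (4, 88, true), (3, 76, true), (5, 90, true), (5, 104, true), (4, 71, true), (3, 60, true), (2, 50, true), (1, 26, true), (4, 100, true), (3, 87, true), (5, 101, true), (4, 88, true), (6, 103, true), (5, 90, true), (5, 104, true), (5, 75, true), (4, 64, true), (3, 54, true), (4, 101, true), (3, 88, true), (5, 102, true), (4, 89, true), (6, 101, true), (5, 88, true), (4, 76, true), (3, 65, true), (5, 103, true), (4, 90, true)]),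
    ([7, 2, 1], [(0, 30, true), (4, 79, true), (3, 67, true), (2, 46, true), (1, 29, true), (0, 4, true), (5, 98, true), (4, 35, true), (6, 99, true), (5, 86, true), (4, 74, true), (7, 100, true), (6, 87, true), (5, 75, true), (8, 103, true), (7, 90, true), (7, 104, true), (6, 75, true), (5, 54, true), (6, 102, true), (5, 89, true), (7, 101, true), (6, 88, true), (5, 76, true), (8, 102, true), (7, 89, true), (6, 77, true), (7, 103, true), (6, 90, true), (6, 104, true)], [(1, 4, true), (0, 29, true), (5, 93, true), (4, 80, true), (3, 47, true), (2, 38, true), (1, 30, true), (5, 86, true), (4, 74, true), (3, 53, true), (6, 88, true), (5, 76, true), (7, 89, true), (6, 77, true), (6, 87, true), (5, 64, true), (4, 54, true), (5, 101, true), (4, 88, true), (6, 103, true), (5, 90, true), (5, 104, true), (6, 94, true), (5, 81, true), (4, 58, true), (3, 39, true), (2, 31, true), (6, 99, true), (5, 86, true), (4,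 74, true), (7, 102, true), (6, 89, true), (5, 77, true), (6, 101, true), (5, 88, true), (7, 103, true), (6, 90, true), (6, 104, true), (7, 96, true), (6, 83, true), (5, 60, true), (4, 41, true), (3, 33, true), (5, 99, true), (6, 102, true), (7, 101, true), (6, 76, true), (8, 103, true), (9, 104, true), (8, 90, true), (8, 98, true), (7, 73, true), (6, 62, true), (5, 43, true), (4, 35, true), (5, 86, true), (4, 74, true), (6, 88, true), (5, 76, true), (7, 89, true), (6, 77, true), (7, 104, true)]),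
    ([14, 1, 1], [(0, 105, true), (5, 105, true), (4, 67, true), (3, 37, true), (2, 29, true), (1, 22, true), (0, 2, true), (2, 72, true), (1, 34, true), (5, 102, true), (4, 89, true), (3, 77, true), (4, 101, true), (3, 88, true), (5, 102, true), (4, 89, true), (6, 98, true), (5, 85, true), (4, 73, true), (3, 62, true), (2, 35, true), (3, 88, true), (2, 76, true), (4, 89, true), (3, 77, true), (3, 90, true), (3, 99, true), (2, 63, true), (4, 100, true), (3, 64, true), (5, 103, true), (6, 104, true), (5, 86, true), (4, 63, true), (3, 53, true), (2, 44, true), (4, 88, true), (3, 65, true), (3, 89, true), (4, 89, true), (3, 77, true), (3, 90, true), (3, 97, true), (2, 51, true), (1, 27, true), (2, 100, true), (1, 87, true), (3, 103, true), (2, 90, true), (2, 104, true), (2, 98, true), (1, 52, true), (3, 99, true), (2, 53, true), (4, 102, true)], [(1, 2, true), (0, 107, true), (7, 110, true), (12, 114, true),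 (6, 93, true), (5, 80, true), (4, 68, true), (3, 47, true), (2, 30, true), (1, 12, true), (0, 5, true), (2, 95, true), (1, 82, true), (0, 19, true), (2, 103, true), (3, 104, true), (2, 83, true), (1, 20, true), (1, 103, true), (2, 103, true), (1, 90, true), (1, 104, true), (4, 87, true), (3, 75, true), (2, 54, true), (3, 102, true), (2, 89, true), (4, 103, true), (3, 90, true), (3, 104, true), (2, 77, true), (3, 103, true), (2, 90, true), (2, 104, true), (1, 31, true), (0, 13, true), (3, 85, true), (4, 89, true), (5, 90, true), (5, 95, true), (4, 70, true), (3, 32, true), (2, 25, true), (1, 14, true), (1, 84, true), (2, 90, true), (2, 98, true), (3, 100, true), (4, 103, true), (5, 102, true), (4, 89, true), (6, 103, true), (5, 90, true), (5, 104, true), (5, 97, true), (4, 72, true), (3, 51, true), (2, 34, true), (1, 27, true), (2, 98, true), (1, 85, true), (3, 102, true), (2, 89, true), (4, 103, true),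 (3, 90, true), (3, 104, true), (2, 75, true), (5, 102, true), (4, 89, true), (3, 77, true), (4, 104, true), (3, 86, true), (2, 53, true), (4, 89, true), (5, 90, true)]),
    ([14, 2, 4, 1], [(0, 106, true), (5, 105, true), (4, 67, true), (3, 56, true), (2, 46, true), (1, 29, true), (0, 22, true), (3, 73, true), (2, 62, true), (4, 74, true), (3, 63, true), (5, 75, true), (4, 64, true), (8, 100, true), (7, 87, true), (6, 75, true), (5, 64, true), (4, 54, true), (5, 101, true), (4, 88, true), (6, 102, true), (5, 89, true), (7, 103, true), (6, 90, true), (6, 104, true), (5, 76, true), (4, 65, true), (4, 76, true), (5, 77, true), (6, 102, true), (5, 89, true), (7, 103, true), (6, 90, true), (6, 104, true), (5, 72, true), (4, 61, true), (3, 42, true), (2, 34, true), (1, 27, true), (2, 98, true), (1, 85, true), (3, 102, true), (2, 89, true), (4, 103, true), (3, 90, true), (3, 104, true), (2, 74, true), (3, 76,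 true), (4, 77, true), (3, 62, true), (2, 43, true), (1, 35, true), (2, 86, true), (1, 74, true), (3, 88, true), (2, 76, true), (4, 86, true), (3, 74, true), (2, 63, true), (1, 44, true), (3, 89, true), (2, 77, true)], [(2, 11, true), (1, 4, true), (6, 95, true), (5, 32, true), (4, 19, true), (6, 98, true), (7, 100, true), (8, 103, true), (9, 104, true), (8, 83, true), (7, 50, true), (6, 33, true), (5, 20, true), (5, 98, true), (6, 104, true), (7, 90, true), (6, 100, false), (5, 98, false), (5, 90, false), (6, 103, false), (5, 27, false), (6, 84, false), (3, 13, false), (0, 105, true), (5, 106, true), (10, 107, true), (17, 109, true), (25, 110, true), (30, 112, true), (4, 72, true), (3, 42, true), (2, 34, true), (1, 27, true), (2, 98, true), (1, 85, true), (3, 102, true), (2, 89, true), (4, 103, true), (3, 90, true), (3, 104, true), (2, 74, true), (3, 77, true), (2, 43, true), (1, 35, true), (2, 86, true),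 (1, 74, true), (3, 87, true), (2, 75, true), (4, 88, true), (3, 76, true), (5, 89, true), (4, 77, true), (4, 80, true), (3, 57, true), (2, 47, true), (1, 38, true), (4, 75, true), (3, 64, true), (6, 101, true), (5, 76, true), (4, 65, true), (5, 102, true), (4, 77, true), (4, 103, true), (5, 104, true), (4, 90, true), (3, 49, true), (2, 40, true), (6, 100, true), (5, 75, true), (4, 64, true), (7, 103, true), (8, 104, true), (7, 85, true), (6, 73, true), (5, 62, true), (4, 52, true), (3, 43, true), (8, 87, true), (7, 75, true), (6, 64, true), (5, 54, true), (6, 101, true), (5, 88, true), (7, 102, true), (6, 89, true), (8, 103, true), (7, 90, true), (7, 102, true), (6, 77, true), (6, 103, true), (7, 104, true), (6, 80, true), (5, 57, true), (4, 38, true), (3, 30, true), (2, 12, true), (1, 5, true), (3, 95, true), (2, 82, true), (1, 19, true), (3, 103, true), (4, 104, true), (3, 83, true), (2, 20, true), (2,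 103, true), (3, 103, true), (2, 90, true), (2, 104, true), (5, 86, true), (4, 74, true), (3, 53, true), (6, 88, true), (5, 76, true), (7, 89, true), (6, 77, true), (6, 88, true), (5, 65, true), (5, 89, true), (6, 90, true), (6, 103, true), (7, 94, true), (6, 81, true), (5, 69, true), (4, 48, true), (3, 39, true), (2, 31, true), (1, 13, true), (4, 85, true), (5, 89, true), (6, 90, true), (6, 99, true), (5, 74, true), (7, 102, true), (6, 77, true), (6, 100, true), (7, 102, true), (8, 103, true), (9, 104, true), (8, 89, true), (7, 77, true), (7, 90, true), (7, 95, true), (6, 49, true), (5, 40, true), (4, 32, true), (3, 25, true), (2, 14, true), (2, 84, true), (3, 90, true), (3, 98, true), (4, 100, true), (5, 103, true), (6, 99, true), (5, 86, true), (4, 53, true), (7, 101, true), (6, 88, true), (8, 102, true), (7, 89, true), (9, 104, true), (8, 87, true), (7, 75, true), (6, 64, true), (5, 54, true), (6, 101,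 true), (5, 88, true), (7, 102, true), (6, 89, true), (8, 103, true), (7, 90, true), (7, 103, true), (8, 104, true), (8, 96, true), (7, 83, true), (6, 71, true), (5, 60, true), (4, 41, true), (3, 33, true), (2, 26, true), (5, 98, true), (4, 85, true), (6, 104, true), (5, 86, true), (6, 89, true), (7, 88, true), (6, 76, true), (8, 90, true), (8, 102, true), (7, 77, true), (7, 103, true), (8, 104, true), (7, 84, true), (6, 61, true), (5, 42, true), (4, 34, true), (3, 27, true), (4, 98, true), (3, 85, true), (5, 102, true), (4, 89, true), (6, 103, true), (5, 90, true), (5, 104, true), (4, 74, true), (5, 76, true), (7, 86, true), (6, 74, true), (5, 63, true), (4, 44, true), (6, 88, true), (5, 76, true), (4, 65, true), (5, 90, true), (4, 68, true), (3, 30, true), (2, 17, true), (1, 8, true), (4, 96, true), (3, 26, true), (6, 104, true), (5, 85, true), (6, 87, true), (7, 89, true), (8, 90, true), (7, 77, true),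 (8, 94, true), (7, 81, true), (6, 48, true), (5, 31, true), (4, 24, true), (3, 18, true), (2, 9, true), (2, 83, true), (3, 89, true), (5, 97, true), (4, 84, true), (3, 72, true), (6, 103, true), (5, 90, true), (5, 104, true), (4, 73, true), (5, 77, true), (6, 100, true), (5, 87, true), (7, 102, true), (6, 89, true), (8, 103, true), (7, 90, true), (7, 104, true), (8, 95, true), (7, 82, true), (6, 70, true), (5, 49, true), (4, 32, true), (3, 25, true), (2, 19, true), (4, 97, true), (5, 103, true), (6, 104, true), (5, 85, true), (6, 87, true), (7, 90, true), (6, 54, true), (7, 103, true), (6, 90, true), (6, 104, true), (8, 103, true), (7, 90, true), (7, 104, true), (6, 72, true), (5, 34, true), (4, 27, true), (5, 98, true), (4, 85, true), (6, 102, true), (5, 89, true), (7, 103, true), (6, 90, true), (6, 104, true), (5, 77, true), (5, 38, true), (4, 30, true), (3, 17, true), (2, 12, true), (1, 5, true), (3,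 95, true), (2, 82, true), (1, 19, true), (3, 103, true), (4, 104, true), (3, 83, true), (2, 20, true), (2, 103, true), (3, 103, true), (2, 90, true), (2, 104, true), (6, 86, true), (5, 74, true), (4, 53, true), (7, 88, true), (6, 76, true), (8, 89, true), (7, 77, true), (7, 82, true), (6, 59, true), (5, 49, true), (4, 40, true), (3, 32, true), (2, 19, true), (1, 14, true), (1, 83, true), (3, 98, true), (2, 85, true), (4, 100, true), (3, 87, true), (5, 103, true), (4, 90, true), (4, 99, true), (3, 53, true), (5, 101, true), (6, 102, true), (7, 104, true), (6, 75, true), (5, 64, true), (4, 54, true), (5, 101, true), (4, 88, true), (6, 102, true), (5, 89, true), (7, 103, true), (6, 90, true), (6, 104, true), (5, 76, true), (4, 65, true), (6, 103, true), (5, 90, true), (5, 96, true), (4, 71, true), (3, 41, true), (2, 33, true), (1, 20, true), (1, 98, true), (2, 104, true), (3, 77, true), (3, 98, true), (2,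 43, true), (1, 35, true), (2, 86, true), (1, 74, true), (4, 99, true), (3, 86, true), (2, 74, true), (1, 44, true), (3, 101, true), (2, 88, true), (1, 76, true), (4, 102, true), (3, 89, true), (2, 77, true), (3, 104, true)]),
    ([14, 2, 4, 2, 4], [(0, 106, true), (5, 106, true), (4, 72, true), (3, 61, true), (2, 51, true), (1, 34, true), (0, 27, true), (1, 98, true), (0, 85, true), (2, 102, true), (1, 89, true), (3, 103, true), (2, 90, true), (2, 104, true), (1, 75, true), (4, 101, true), (3, 88, true), (2, 76, true), (5, 102, true), (4, 89, true), (3, 77, true), (4, 98, true), (3, 85, true), (2, 62, true), (1, 52, true), (0, 35, true), (1, 87, true), (0, 75, true), (2, 88, true), (1, 76, true), (3, 90, true), (3, 100, true), (2, 75, true), (1, 64, true), (0, 54, true), (1, 101, true), (0, 88, true), (2, 102, true), (1, 89, true), (3, 104, true), (2, 88, true), (1, 76, true), (0, 65, true), (1, 89, true),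 (0, 77, true)], [(2, 12, true), (1, 5, true), (3, 95, true), (2, 82, true), (1, 19, true), (3, 103, true), (4, 104, true), (3, 83, true), (2, 20, true), (2, 103, true), (3, 103, true), (2, 90, true), (2, 104, true), (1, 14, true), (0, 115, true)]),
    ([14, 3, 1], [(0, 107, true), (7, 105, true), (6, 92, true), (5, 79, true), (4, 67, true), (3, 46, true), (2, 29, true), (1, 11, true), (0, 4, true), (5, 95, true), (4, 32, true), (3, 19, true), (5, 98, true), (6, 100, true), (7, 103, true), (8, 104, true), (7, 83, true), (6, 50, true), (5, 33, true), (4, 20, true), (4, 98, true), (5, 104, true), (6, 90, true), (6, 98, true), (5, 52, true), (4, 35, true), (5, 87, true), (4, 75, true), (7, 99, true), (6, 86, true), (5, 74, true), (4, 53, true), (8, 100, true), (7, 87, true), (6, 75, true), (5, 54, true), (6, 102, true), (5, 89, true), (7, 103, true), (6, 90, true), (6, 104, true), (7, 100, true), (6, 87,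 true), (5, 75, true), (8, 101, true), (7, 88, true), (6, 76, true), (9, 102, true), (8, 89, true), (7, 77, true), (8, 103, true), (7, 90, true), (7, 104, true), (8, 97, true), (7, 84, true), (6, 61, true), (5, 51, true), (4, 42, true), (8, 101, true), (7, 88, true), (9, 103, true), (8, 90, true), (8, 104, true), (7, 62, true), (6, 52, true), (5, 43, true), (8, 63, true), (7, 53, true), (6, 44, true)], [(1, 7, true), (0, 105, true), (5, 107, true), (12, 111, true), (16, 112, true), (24, 115, true), (25, 116, true), (4, 68, true), (3, 38, true), (2, 30, true), (1, 23, true), (4, 85, true), (3, 73, true), (5, 87, true), (4, 75, true), (6, 89, true), (5, 77, true), (5, 90, true), (4, 53, true), (7, 77, true), (8, 95, true), (7, 82, true), (6, 59, true), (5, 49, true), (4, 40, true), (3, 32, true), (2, 25, true), (5, 98, true), (4, 85, true), (6, 100, true), (5, 87, true), (7, 103, true), (6, 90, true), (6,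 99, true), (5, 53, true), (7, 101, true), (8, 102, true), (9, 104, true), (8, 75, true), (7, 64, true), (6, 54, true), (7, 101, true), (6, 88, true), (8, 102, true), (7, 89, true), (9, 103, true), (8, 90, true), (8, 104, true), (7, 76, true), (6, 65, true), (8, 103, true), (7, 90, true), (7, 104, true), (6, 73, true), (5, 43, true), (4, 35, true), (5, 86, true), (4, 74, true), (6, 89, true), (5, 77, true), (5, 87, true), (6, 89, true), (7, 90, true), (7, 93, true), (6, 68, true), (5, 47, true), (4, 38, true), (3, 23, true), (2, 12, true), (1, 5, true), (3, 95, true), (2, 82, true), (1, 19, true), (3, 103, true), (4, 104, true), (3, 83, true), (2, 20, true), (2, 103, true), (3, 103, true), (2, 90, true), (2, 104, true), (4, 86, true), (3, 74, true), (5, 88, true), (4, 76, true), (6, 89, true), (5, 77, true), (5, 87, true), (4, 64, true), (7, 102, true), (6, 89, true), (8, 103, true), (7, 90, true), (7,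 104, true), (7, 94, true), (6, 69, true), (5, 58, true), (4, 48, true), (3, 39, true), (2, 24, true), (1, 13, true), (4, 84, true), (3, 27, true), (4, 103, true), (3, 90, true), (3, 103, true), (4, 104, true), (3, 86, true), (4, 89, true), (5, 87, true), (4, 75, true), (6, 89, true), (5, 77, true), (5, 90, true), (5, 101, true), (6, 103, true), (7, 104, true), (6, 89, true), (8, 95, true), (7, 82, true), (6, 70, true), (5, 59, true), (4, 49, true), (3, 40, true), (2, 14, true), (2, 86, true), (3, 88, true), (4, 89, true), (6, 100, true), (5, 87, true), (4, 75, true), (3, 64, true), (7, 103, true), (6, 90, true), (6, 104, true), (5, 76, true), (4, 65, true), (6, 102, true), (5, 89, true), (4, 77, true), (5, 103, true), (4, 90, true), (4, 104, true), (5, 96, true), (4, 83, true), (3, 50, true), (2, 41, true), (4, 75, true), (7, 93, true), (6, 80, true), (5, 68, true), (4, 47, true), (3, 38, true), (2, 17,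 true), (1, 8, true), (4, 96, true), (3, 26, true), (6, 104, true), (5, 86, true), (6, 88, true), (7, 89, true), (8, 87, true), (7, 75, true), (6, 64, true), (10, 102, true), (9, 89, true), (8, 77, true), (9, 103, true), (8, 90, true), (8, 104, true), (9, 95, true), (8, 82, true), (7, 59, true), (6, 49, true), (5, 40, true), (4, 25, true), (3, 19, true), (5, 97, true), (6, 103, true), (7, 104, true), (6, 86, true), (7, 88, true), (8, 89, true), (10, 100, true), (9, 87, true), (8, 75, true), (7, 64, true), (11, 103, true), (10, 90, true), (10, 104, true), (9, 76, true), (8, 65, true), (10, 103, true), (9, 90, true), (9, 104, true), (8, 71, true), (7, 50, true), (6, 41, true), (5, 26, true), (4, 20, true), (4, 97, true), (5, 103, true), (6, 104, true), (5, 86, true), (6, 89, true), (7, 87, true), (6, 75, true), (8, 89, true), (7, 77, true), (7, 85, true), (6, 52, true), (5, 43, true), (8, 86, true), (7, 53,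 true), (6, 44, true), (7, 88, true), (8, 89, true), (10, 103, true), (9, 90, true), (9, 104, true)]),
    ([14, 3, 2, 4], [(0, 107, true), (7, 106, true), (6, 97, true), (5, 84, true), (4, 72, true), (3, 51, true), (2, 34, true), (6, 100, true), (5, 87, true), (4, 75, true), (7, 103, true), (6, 90, true), (6, 104, true), (5, 77, true), (6, 98, true), (5, 85, true), (4, 52, true), (3, 35, true), (4, 87, true), (3, 75, true), (5, 90, true), (5, 100, true), (4, 75, true), (3, 54, true), (4, 102, true), (3, 89, true), (5, 104, true), (4, 88, true), (3, 76, true), (5, 89, true), (4, 77, true)], [(1, 8, true), (4, 95, true), (3, 25, true), (6, 104, true), (2, 13, false), (0, 106, true), (5, 107, true), (4, 68, true), (3, 57, true), (2, 47, true), (1, 30, true), (0, 23, true), (3, 85, true), (2, 73, true), (4, 87, true), (3, 75, true), (5, 89, true), (4, 77, true), (4, 90, true), (3, 54, true), (4, 104, true),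 (3, 88, true), (4, 89, true), (5, 90, true), (5, 102, true), (4, 77, true), (4, 103, true), (5, 104, true), (4, 82, true), (3, 59, true), (2, 32, true), (1, 25, true), (4, 98, true), (3, 85, true), (5, 100, true), (4, 87, true), (6, 103, true), (5, 90, true), (5, 101, true), (6, 103, true), (7, 104, true), (6, 90, true), (5, 62, true), (4, 52, true), (3, 35, true), (4, 87, true), (3, 75, true), (5, 88, true), (4, 76, true), (6, 87, true), (5, 75, true), (4, 64, true), (3, 54, true), (4, 101, true), (3, 88, true), (5, 102, true), (4, 89, true), (6, 103, true), (5, 90, true), (5, 102, true), (4, 77, true), (4, 103, true), (5, 104, true)]),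
    ([14, 5, 1], [(0, 108, true), (8, 105, true), (7, 92, true), (6, 79, true), (5, 67, true), (4, 37, true), (3, 22, true), (2, 16, true), (1, 11, true), (0, 4, true), (5, 95, true), (4, 32, true), (3, 19, true), (5, 98, true), (6, 100, true), (7, 103, true), (8, 104, true), (7, 83, true), (6, 50, true), (5, 33, true), (4, 20, true), (4, 98, true), (5, 104, true), (6, 90, true), (6, 96, true), (5, 50, true), (4, 33, true), (6, 100, true), (7, 104, true), (6, 51, true), (5, 34, true), (9, 100, true), (8, 87, true), (7, 75, true), (10, 103, true), (9, 90, true), (9, 104, true), (8, 75, true), (7, 54, true), (8, 102, true), (7, 89, true), (9, 102, true), (8, 89, true), (7, 77, true), (8, 104, true), (7, 84, true), (6, 34, true), (5, 27, true), (6, 98, true), (5, 85, true), (7, 102, true), (6, 89, true), (8, 103, true), (7, 90, true), (7, 104, true), (7, 88, true), (6, 76, true), (8, 89, true), (7, 77, true),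 (7, 86, true), (6, 63, true), (8, 88, true), (7, 65, true), (7, 89, true), (8, 89, true), (7, 77, true), (7, 90, true), (7, 103, true), (8, 104, true), (7, 84, true), (6, 42, true), (5, 34, true), (9, 99, true), (8, 86, true), (7, 74, true), (10, 103, true), (9, 90, true), (9, 98, true), (8, 73, true), (7, 43, true), (6, 35, true), (7, 86, true), (6, 74, true), (8, 89, true), (7, 77, true), (8, 99, true), (7, 86, true), (6, 44, true), (7, 102, true), (6, 89, true)], [(1, 16, true), (0, 105, true), (5, 108, true), (13, 109, true), (21, 112, true), (29, 114, true), (32, 116, true), (4, 68, true), (3, 38, true), (2, 30, true), (1, 23, true), (4, 85, true), (3, 73, true), (5, 87, true), (4, 75, true), (6, 89, true), (5, 77, true), (5, 90, true), (4, 53, true), (7, 77, true), (8, 95, true), (7, 82, true), (6, 59, true), (5, 49, true), (4, 40, true), (3, 32, true), (2, 25, true), (5, 98, true), (4, 85, true),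 (6, 100, true), (5, 87, true), (7, 103, true), (6, 90, true), (6, 99, true), (5, 53, true), (7, 101, true), (8, 102, true), (9, 104, true), (8, 75, true), (7, 64, true), (6, 54, true), (7, 101, true), (6, 88, true), (8, 102, true), (7, 89, true), (9, 103, true), (8, 90, true), (8, 104, true), (7, 76, true), (6, 65, true), (8, 103, true), (7, 90, true), (7, 104, true), (6, 71, true), (5, 41, true), (4, 33, true), (3, 26, true), (6, 98, true), (5, 85, true), (7, 104, true), (6, 86, true), (7, 89, true), (8, 89, true), (7, 77, true), (7, 84, true), (6, 42, true), (5, 34, true), (4, 27, true), (5, 98, true), (4, 85, true), (6, 102, true), (5, 89, true), (7, 103, true), (6, 90, true), (6, 104, true), (5, 74, true), (7, 86, true), (6, 74, true), (5, 44, true), (6, 89, true), (5, 77, true), (5, 90, true), (5, 93, true), (4, 30, true), (3, 17, true), (2, 12, true), (1, 5, true), (3, 95, true), (2, 82, true), (1,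 19, true), (3, 103, true), (4, 104, true), (3, 83, true), (2, 20, true), (2, 103, true), (3, 103, true), (2, 90, true), (2, 104, true), (7, 94, true), (6, 81, true), (5, 69, true), (4, 48, true), (3, 31, true), (2, 18, true), (1, 13, true), (4, 83, true), (3, 26, true), (6, 103, true), (5, 90, true), (5, 102, true), (6, 104, true), (5, 73, true), (6, 77, true), (7, 100, true), (6, 87, true), (8, 102, true), (7, 89, true), (9, 103, true), (8, 90, true), (8, 104, true), (7, 77, true), (8, 95, true), (7, 82, true), (6, 49, true), (5, 32, true), (4, 25, true), (3, 19, true), (2, 14, true), (2, 83, true), (4, 97, true), (3, 84, true), (5, 103, true), (4, 90, true), (4, 104, true), (6, 87, true), (5, 54, true), (6, 103, true), (5, 90, true), (5, 103, true), (6, 104, true), (5, 90, true), (5, 96, true), (4, 33, true), (3, 26, true), (2, 20, true), (2, 97, true), (3, 103, true), (4, 104, true), (3, 85, true),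 (5, 104, true), (4, 84, true), (3, 34, true), (2, 27, true), (3, 98, true), (2, 85, true), (4, 102, true), (3, 89, true), (5, 103, true), (4, 90, true), (4, 104, true), (4, 86, true), (3, 74, true), (5, 88, true), (4, 76, true), (6, 90, true), (5, 68, true), (4, 57, true), (3, 38, true), (2, 30, true), (1, 8, true), (4, 98, true), (5, 100, true), (6, 102, true), (7, 103, true), (8, 99, true), (7, 86, true), (6, 74, true), (5, 53, true), (9, 101, true), (8, 88, true), (7, 76, true), (10, 102, true), (9, 89, true), (8, 77, true), (9, 101, true), (8, 88, true), (7, 65, true), (8, 102, true), (7, 89, true), (9, 103, true), (8, 90, true), (8, 104, true), (7, 77, true), (8, 95, true), (7, 82, true), (6, 49, true), (5, 40, true), (4, 32, true), (3, 25, true), (6, 98, true), (5, 85, true), (7, 100, true), (6, 87, true), (8, 103, true), (7, 90, true), (7, 99, true), (6, 53, true), (8, 101, true), (9, 102, true),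 (10, 104, true), (9, 75, true), (8, 64, true), (7, 54, true), (8, 101, true), (7, 88, true), (9, 102, true), (8, 89, true), (10, 103, true), (9, 90, true), (9, 104, true), (10, 96, true), (9, 83, true), (8, 71, true), (7, 60, true), (6, 41, true), (5, 33, true), (4, 26, true), (7, 98, true), (6, 85, true), (8, 104, true), (7, 86, true), (8, 89, true), (9, 88, true), (8, 76, true), (10, 90, true), (10, 102, true), (9, 77, true), (9, 103, true), (10, 104, true), (9, 85, true), (8, 62, true), (7, 43, true), (6, 35, true), (7, 86, true), (6, 74, true), (8, 88, true), (7, 76, true), (9, 90, true), (8, 74, true), (7, 63, true), (6, 44, true), (7, 76, true), (6, 65, true), (6, 77, true), (6, 102, true), (7, 103, true), (8, 104, true)]),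
    ([14, 5, 2, 4], [(0, 108, true), (8, 106, true), (7, 97, true), (6, 84, true), (5, 72, true), (4, 42, true), (3, 27, true), (4, 99, true), (3, 86, true), (5, 102, true), (4, 89, true), (6, 103, true), (5, 90, true), (5, 104, true), (4, 73, true), (3, 43, true), (5, 75, true), (6, 76, true), (7, 77, true)], [(1, 17, true), (2, 19, true), (0, 106, true), (5, 108, true), (13, 116, true), (4, 68, true), (3, 57, true), (2, 47, true), (1, 30, true), (0, 23, true), (3, 85, true), (2, 73, true), (4, 87, true), (3, 75, true), (5, 89, true), (4, 77, true), (4, 90, true), (3, 54, true), (4, 104, true), (3, 88, true), (4, 89, true), (5, 90, true), (5, 102, true), (4, 77, true), (4, 103, true), (5, 104, true), (4, 82, true), (3, 59, true), (2, 32, true), (1, 25, true), (4, 98, true), (3, 85, true), (5, 100, true), (4, 87, true), (6, 103, true), (5, 90, true), (5, 101, true), (6, 103, true), (7, 104, true), (6,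 90, true), (5, 60, true), (4, 50, true), (3, 33, true), (2, 26, true), (5, 98, true), (4, 85, true), (6, 104, true), (5, 87, true), (6, 88, true), (7, 90, true), (7, 97, true), (6, 61, true), (5, 51, true), (4, 34, true), (3, 27, true), (4, 98, true), (3, 85, true), (5, 102, true), (4, 89, true), (6, 103, true), (5, 90, true), (5, 104, true), (4, 75, true), (7, 101, true), (6, 88, true), (5, 76, true), (8, 104, true), (7, 86, true), (6, 74, true), (5, 63, true), (4, 53, true), (8, 89, true), (7, 77, true), (7, 90, true), (7, 104, true)])]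

/-- part of the pairs -/
def twoEqs9 : List Pair :=
  [([14, 5, 3], [(0, 108, true), (8, 107, true), (7, 93, true), (6, 80, true), (5, 68, true), (4, 38, true), (3, 23, true), (2, 17, true), (1, 12, true), (0, 5, true), (2, 95, true), (1, 82, true), (0, 19, true), (2, 103, true), (3, 104, true), (2, 83, true), (1, 20, true), (1, 103, true), (2, 103, true), (1, 90, true), (1, 104, true), (4, 86, true), (3, 74, true), (5, 88, true), (4, 76, true), (6, 89, true), (5, 77, true), (5, 89, true), (6, 90, true), (6, 103, true), (7, 104, true), (6, 82, true), (5, 70, true), (4, 59, true), (3, 40, true), (2, 25, true), (1, 19, true), (0, 14, true), (0, 83, true), (2, 97, true), (1, 84, true), (3, 103, true), (2, 90, true), (2, 104, true), (5, 101, true), (4, 76, true), (3, 65, true), (4, 103, true), (5, 104, true), (4, 89, true), (3, 77, true), (3, 90, true), (3, 103, true), (4, 98, true), (3, 85, true), (2, 43,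 true), (5, 100, true), (4, 87, true), (6, 102, true), (5, 89, true), (7, 103, true), (6, 90, true), (6, 104, true)], [(1, 18, true), (0, 107, true), (7, 108, true), (15, 114, true), (18, 116, true), (6, 93, true), (5, 80, true), (4, 68, true), (3, 47, true), (2, 30, true), (1, 12, true), (0, 5, true), (2, 95, true), (1, 82, true), (0, 19, true), (2, 103, true), (3, 104, true), (2, 83, true), (1, 20, true), (1, 103, true), (2, 103, true), (1, 90, true), (1, 104, true), (4, 87, true), (3, 75, true), (2, 54, true), (3, 102, true), (2, 89, true), (4, 103, true), (3, 90, true), (3, 104, true), (2, 77, true), (3, 103, true), (2, 90, true), (2, 104, true), (1, 32, true), (0, 14, true), (0, 85, true), (1, 87, true), (2, 90, true), (1, 50, true), (0, 33, true), (2, 100, true), (3, 97, true), (2, 51, true), (1, 34, true), (5, 100, true), (4, 87, true), (3, 75, true), (6, 103, true), (5, 90, true), (5, 104, true),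 (5, 99, true), (4, 74, true), (3, 53, true), (6, 102, true), (5, 77, true), (5, 103, true), (6, 104, true), (5, 89, true), (6, 90, true), (6, 104, true)]),
    ([14, 5, 5], [(0, 108, true), (8, 108, true), (7, 93, true), (6, 80, true), (5, 68, true), (4, 38, true), (3, 23, true), (2, 17, true), (1, 12, true), (0, 5, true), (2, 95, true), (1, 82, true), (0, 19, true), (2, 103, true), (3, 104, true), (2, 83, true), (1, 20, true), (1, 103, true), (2, 103, true), (1, 90, true), (1, 104, true), (4, 86, true), (3, 74, true), (5, 88, true), (4, 76, true), (6, 89, true), (5, 77, true), (5, 89, true), (6, 90, true), (6, 103, true), (7, 104, true), (6, 82, true), (5, 70, true), (4, 59, true), (3, 40, true), (2, 25, true), (1, 19, true), (0, 14, true), (0, 83, true), (2, 97, true), (1, 84, true), (3, 103, true), (2, 90, true), (2, 104, true), (5, 101, true), (4, 76, true), (3, 65, true), (4, 103, true), (5, 104,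 true), (4, 89, true), (3, 77, true), (3, 90, true), (3, 103, true), (4, 96, true), (3, 83, true), (2, 41, true), (1, 26, true), (0, 20, true), (0, 97, true), (1, 103, true), (2, 104, true), (1, 86, true), (2, 89, true), (3, 90, true), (3, 97, true), (2, 72, true), (1, 42, true), (0, 27, true), (1, 99, true), (0, 86, true), (2, 102, true), (1, 89, true), (3, 104, true), (2, 86, true), (1, 74, true), (0, 44, true), (1, 89, true), (0, 77, true), (0, 90, true)], [(1, 20, true), (0, 116, true)]),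
    ([14, 6, 1], [(0, 109, true), (8, 105, true), (7, 79, true), (6, 56, true), (5, 37, true), (4, 22, true), (3, 16, true), (2, 11, true), (1, 7, true), (0, 4, true), (5, 94, true), (4, 31, true), (3, 18, true), (2, 9, true), (2, 83, true), (3, 89, true), (5, 98, true), (4, 85, true), (3, 73, true), (6, 102, true), (5, 89, true), (4, 77, true), (5, 103, true), (4, 90, true), (4, 104, true), (4, 99, true), (5, 100, true), (6, 103, true), (7, 104, true), (6, 82, true), (5, 49, true), (4, 40, true), (3, 32, true), (2, 19, true), (4, 98, true), (5, 100, true), (6, 103, true), (7, 99, true), (6, 86, true), (5, 53, true), (8, 101, true), (7, 88, true), (9, 102, true), (8, 89, true), (10, 104, true), (9, 87, true), (8, 75, true), (7, 64, true), (6, 54, true), (7, 101, true), (6, 88, true), (8, 102, true), (7, 89, true), (9, 103, true), (8, 90, true), (8, 103, true), (9, 104, true), (8, 90, true), (7, 71, true),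 (6, 60, true), (5, 41, true), (4, 33, true), (3, 20, true), (3, 98, true), (4, 104, true), (5, 76, true), (8, 102, true), (7, 89, true), (6, 77, true), (7, 103, true), (6, 90, true), (6, 104, true), (5, 60, true), (4, 41, true), (3, 33, true), (5, 99, true), (6, 102, true), (7, 101, true), (6, 76, true), (8, 103, true), (9, 104, true), (8, 84, true), (7, 72, true), (6, 61, true), (5, 42, true), (4, 34, true), (8, 99, true), (7, 86, true), (6, 74, true), (9, 101, true), (8, 88, true), (7, 76, true), (10, 102, true), (9, 89, true), (8, 77, true), (9, 103, true), (8, 90, true), (8, 100, true), (7, 64, true), (9, 102, true), (10, 104, true), (9, 72, true), (8, 61, true), (7, 51, true), (6, 42, true), (5, 34, true), (4, 27, true), (5, 98, true), (4, 85, true), (6, 102, true), (5, 89, true), (7, 103, true), (6, 90, true), (6, 104, true), (5, 74, true), (6, 75, true), (9, 101, true), (8, 88, true), (7, 76, true),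 (10, 102, true), (9, 89, true), (8, 77, true), (9, 101, true), (8, 88, true), (7, 65, true), (8, 102, true), (7, 89, true), (9, 99, true), (8, 86, true), (7, 74, true), (6, 53, true), (5, 44, true), (8, 101, true), (7, 88, true), (6, 76, true), (9, 102, true), (8, 89, true), (7, 77, true), (8, 101, true), (7, 88, true), (6, 65, true), (7, 102, true), (6, 89, true), (8, 103, true), (7, 90, true), (7, 104, true), (7, 84, true), (6, 72, true), (5, 51, true), (4, 34, true), (8, 100, true), (7, 87, true), (6, 75, true), (9, 103, true), (8, 90, true), (8, 104, true), (7, 77, true), (7, 85, true), (6, 52, true), (5, 35, true), (6, 87, true), (5, 75, true), (7, 90, true), (6, 74, true), (5, 53, true), (7, 77, true)], [(1, 22, true), (0, 105, true), (5, 109, true), (13, 113, true), (18, 114, true), (4, 68, true), (3, 38, true), (2, 30, true), (1, 23, true), (4, 85, true), (3, 73, true), (5, 87, true), (4, 75, true),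 (6, 89, true), (5, 77, true), (5, 90, true), (4, 53, true), (7, 77, true), (8, 94, true), (7, 81, true), (6, 58, true), (5, 48, true), (4, 39, true), (3, 31, true), (2, 24, true), (5, 98, true), (4, 85, true), (6, 102, true), (5, 89, true), (7, 103, true), (6, 90, true), (6, 104, true), (5, 74, true), (6, 77, true), (9, 101, true), (8, 88, true), (7, 76, true), (10, 103, true), (9, 90, true), (9, 104, true), (10, 95, true), (9, 82, true), (8, 70, true), (7, 59, true), (6, 49, true), (5, 40, true), (4, 32, true), (3, 25, true), (6, 98, true), (5, 85, true), (7, 100, true), (6, 87, true), (8, 103, true), (7, 90, true), (7, 99, true), (6, 53, true), (8, 101, true), (9, 102, true), (10, 104, true), (9, 75, true), (8, 64, true), (7, 54, true), (8, 101, true), (7, 88, true), (9, 102, true), (8, 89, true), (10, 103, true), (9, 90, true), (9, 104, true), (8, 76, true), (7, 65, true), (9, 102, true), (8, 89, true),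 (7, 77, true), (8, 103, true), (7, 90, true), (7, 104, true), (8, 96, true), (7, 83, true), (6, 41, true), (5, 33, true), (4, 26, true), (7, 98, true), (6, 85, true), (8, 104, true), (7, 86, true), (8, 89, true), (9, 90, true), (9, 97, true), (8, 72, true), (7, 42, true), (6, 34, true), (5, 27, true), (6, 98, true), (5, 85, true), (7, 102, true), (6, 89, true), (8, 103, true), (7, 90, true), (7, 104, true), (6, 74, true), (7, 77, true), (7, 99, true), (6, 44, true), (6, 101, true), (7, 103, true), (8, 94, true), (7, 81, true), (6, 58, true), (5, 31, true), (4, 18, true), (3, 13, true), (2, 9, true), (2, 82, true), (3, 84, true), (4, 90, true), (3, 26, true), (6, 102, true), (5, 89, true), (7, 104, true), (6, 85, true), (5, 73, true), (7, 89, true), (6, 77, true), (6, 90, true), (6, 101, true), (7, 103, true), (8, 104, true), (7, 90, true), (7, 98, true), (6, 62, true), (5, 35, true), (6, 88, true), (5,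 76, true), (8, 99, true), (7, 86, true), (6, 74, true), (5, 63, true), (9, 100, true), (8, 87, true), (7, 75, true), (6, 64, true), (10, 101, true), (9, 88, true), (8, 76, true), (7, 65, true), (9, 102, true), (8, 89, true), (7, 77, true), (8, 103, true), (7, 90, true), (7, 104, true)]),
    ([14, 6, 2, 4], [(0, 109, true), (8, 106, true), (7, 84, true), (6, 61, true), (5, 42, true), (4, 27, true), (5, 99, true), (4, 86, true), (6, 101, true), (5, 88, true), (7, 103, true), (6, 90, true), (6, 98, true), (5, 62, true), (4, 43, true), (7, 100, true), (6, 64, true), (8, 101, true), (7, 65, true), (7, 102, true)], [(1, 23, true), (4, 82, true), (3, 70, true), (2, 25, true), (5, 102, true), (4, 89, true), (6, 103, true), (5, 90, true), (5, 104, true), (0, 106, true), (5, 109, true), (13, 114, true), (16, 115, true), (4, 68, true), (3, 57, true), (2, 47, true), (1, 30, true), (0, 23, true), (3, 85, true), (2,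 73, true), (4, 87, true), (3, 75, true), (5, 89, true), (4, 77, true), (4, 90, true), (3, 54, true), (4, 104, true), (3, 88, true), (4, 89, true), (5, 90, true), (5, 102, true), (4, 77, true), (4, 103, true), (5, 104, true), (4, 81, true), (3, 58, true), (2, 31, true), (1, 24, true), (4, 98, true), (3, 85, true), (5, 102, true), (4, 89, true), (6, 103, true), (5, 90, true), (5, 104, true), (4, 76, true), (7, 103, true), (6, 90, true), (6, 95, true), (5, 70, true), (4, 59, true), (3, 32, true), (2, 25, true), (5, 98, true), (4, 85, true), (6, 100, true), (5, 87, true), (7, 103, true), (6, 90, true), (6, 101, true), (7, 103, true), (8, 104, true), (7, 89, true), (8, 90, true), (8, 104, true), (7, 71, true), (6, 60, true), (5, 50, true), (4, 33, true), (3, 26, true), (6, 98, true), (5, 85, true), (7, 104, true), (6, 87, true), (7, 88, true), (8, 90, true), (8, 102, true), (9, 97, true), (8, 72, true), (7,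 61, true), (6, 51, true), (5, 34, true), (4, 27, true), (5, 98, true), (4, 85, true), (6, 102, true), (5, 89, true), (7, 103, true), (6, 90, true), (6, 104, true), (5, 75, true), (8, 101, true), (7, 88, true), (6, 76, true), (9, 102, true), (8, 89, true), (7, 77, true), (8, 104, true), (7, 86, true), (6, 63, true), (5, 53, true), (8, 88, true), (7, 65, true), (7, 90, true), (9, 103, true), (8, 90, true)]),
    ([14, 6, 3], [(0, 109, true), (8, 107, true), (7, 80, true), (6, 57, true), (5, 38, true), (4, 23, true), (3, 17, true), (2, 12, true), (1, 8, true), (0, 5, true), (2, 94, true), (1, 81, true), (0, 18, true), (3, 103, true), (4, 104, true), (3, 84, true), (2, 72, true), (5, 95, true), (4, 82, true), (3, 70, true), (2, 25, true), (1, 19, true), (3, 97, true), (4, 103, true), (5, 104, true), (4, 89, true), (5, 90, true), (5, 103, true), (6, 104, true), (5, 83, true), (4, 71, true), (3, 26, true), (2,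 20, true), (2, 97, true), (3, 103, true), (4, 104, true), (3, 89, true), (4, 90, true), (5, 96, true), (4, 83, true), (3, 71, true), (2, 26, true), (5, 102, true), (4, 89, true), (6, 103, true), (5, 90, true), (5, 104, true), (4, 72, true), (3, 27, true), (4, 102, true), (3, 89, true), (5, 102, true), (4, 89, true), (3, 77, true), (4, 103, true), (3, 90, true), (3, 99, true), (4, 101, true), (5, 102, true), (6, 101, true), (5, 76, true), (4, 65, true), (5, 102, true), (4, 77, true), (4, 103, true), (5, 104, true), (4, 90, true), (3, 40, true), (2, 19, true), (1, 14, true), (1, 83, true), (3, 99, true), (2, 86, true), (4, 101, true), (3, 88, true), (5, 102, true), (4, 89, true), (6, 104, true), (5, 85, true), (4, 73, true), (3, 62, true), (2, 43, true), (6, 87, true), (5, 75, true), (4, 64, true), (7, 89, true), (6, 77, true), (6, 90, true)], [(1, 24, true), (0, 107, true), (7, 109, true), (15, 115, true),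 (16, 116, true), (6, 93, true), (5, 80, true), (4, 68, true), (3, 47, true), (2, 30, true), (1, 12, true), (0, 5, true), (2, 95, true), (1, 82, true), (0, 19, true), (2, 103, true), (3, 104, true), (2, 83, true), (1, 20, true), (1, 103, true), (2, 103, true), (1, 90, true), (1, 104, true), (4, 87, true), (3, 75, true), (2, 54, true), (3, 102, true), (2, 89, true), (4, 103, true), (3, 90, true), (3, 104, true), (2, 77, true), (3, 103, true), (2, 90, true), (2, 104, true), (1, 31, true), (0, 13, true), (3, 85, true), (4, 89, true), (5, 90, true), (5, 95, true), (4, 70, true), (3, 32, true), (2, 25, true), (1, 14, true), (1, 84, true), (2, 90, true), (2, 98, true), (3, 100, true), (4, 103, true), (5, 102, true), (4, 89, true), (6, 103, true), (5, 90, true), (5, 104, true), (5, 96, true), (4, 71, true), (3, 50, true), (2, 33, true), (1, 26, true), (4, 98, true), (3, 85, true), (5, 104, true), (4, 87, true),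 (5, 89, true), (7, 97, true), (6, 84, true), (5, 72, true), (4, 51, true), (3, 34, true), (2, 27, true), (3, 98, true), (2, 85, true), (4, 102, true), (3, 89, true), (5, 103, true), (4, 90, true), (4, 104, true), (3, 75, true), (6, 102, true), (5, 89, true), (4, 77, true), (5, 103, true), (4, 90, true), (4, 104, true), (3, 53, true), (6, 90, true)]),
    ([14, 6, 5], [(0, 109, true), (8, 108, true), (7, 80, true), (6, 57, true), (5, 38, true), (4, 23, true), (3, 17, true), (2, 12, true), (1, 8, true), (0, 5, true), (2, 94, true), (1, 81, true), (0, 18, true), (3, 103, true), (4, 104, true), (3, 84, true), (2, 72, true), (5, 95, true), (4, 82, true), (3, 70, true), (2, 25, true), (1, 19, true), (3, 97, true), (4, 103, true), (5, 104, true), (4, 89, true), (5, 90, true), (5, 103, true), (6, 104, true), (5, 83, true), (4, 71, true), (3, 26, true), (2, 20, true), (2, 97, true), (3, 103, true), (4, 104, true),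 (3, 89, true), (4, 90, true), (5, 96, true), (4, 83, true), (3, 71, true), (2, 26, true), (5, 102, true), (4, 89, true), (6, 103, true), (5, 90, true), (5, 104, true), (4, 72, true), (3, 27, true), (4, 102, true), (3, 89, true), (5, 102, true), (4, 89, true), (3, 77, true), (4, 103, true), (3, 90, true), (3, 99, true), (4, 101, true), (5, 102, true), (6, 101, true), (5, 76, true), (4, 65, true), (5, 102, true), (4, 77, true), (4, 103, true), (5, 104, true), (4, 90, true), (3, 40, true), (2, 19, true), (1, 14, true), (1, 83, true), (3, 99, true), (2, 86, true), (4, 101, true), (3, 88, true), (5, 102, true), (4, 89, true), (6, 104, true), (5, 83, true), (4, 71, true), (3, 60, true), (2, 41, true), (1, 20, true), (1, 99, true), (2, 102, true), (3, 101, true), (2, 76, true), (4, 103, true), (5, 104, true), (4, 89, true), (3, 77, true), (3, 90, true), (2, 61, true), (1, 42, true), (3, 63, true), (2, 44, true)],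 [(1, 26, true), (0, 108, true), (8, 109, true), (16, 115, true), (17, 116, true), (7, 93, true), (6, 80, true), (5, 68, true), (4, 38, true), (3, 23, true), (2, 17, true), (1, 12, true), (0, 5, true), (2, 95, true), (1, 82, true), (0, 19, true), (2, 103, true), (3, 104, true), (2, 83, true), (1, 20, true), (1, 103, true), (2, 103, true), (1, 90, true), (1, 104, true), (4, 86, true), (3, 74, true), (5, 88, true), (4, 76, true), (6, 89, true), (5, 77, true), (5, 89, true), (6, 90, true), (6, 103, true), (7, 104, true), (6, 81, true), (5, 69, true), (4, 58, true), (3, 39, true), (2, 24, true), (1, 18, true), (0, 13, true), (3, 83, true), (2, 26, true), (5, 103, true), (4, 90, true), (4, 102, true), (5, 104, true), (4, 72, true), (3, 27, true), (4, 102, true), (3, 89, true), (5, 103, true), (4, 90, true), (4, 104, true), (3, 74, true), (4, 77, true), (6, 102, true), (5, 89, true), (7, 103, true), (6, 90, true),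 (6, 95, true), (5, 70, true), (4, 59, true), (3, 40, true), (2, 19, true), (1, 14, true), (1, 83, true), (3, 99, true), (2, 86, true), (4, 101, true), (3, 88, true), (5, 102, true), (4, 89, true), (6, 104, true), (5, 88, true), (4, 76, true), (3, 65, true), (4, 90, true), (4, 102, true), (3, 77, true), (3, 103, true), (4, 104, true), (4, 96, true), (3, 83, true), (2, 41, true), (1, 20, true), (1, 99, true), (2, 102, true), (3, 103, true), (4, 104, true), (3, 84, true), (2, 72, true), (1, 42, true), (4, 86, true), (3, 74, true), (2, 44, true), (3, 88, true), (2, 76, true), (4, 90, true)]),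
    ([15, 1, 2, 4, 5, 1, 2, 4, 5], [(0, 117, true), (2, 117, true), (1, 101, true), (0, 65, true), (0, 104, true)], [(4, 16, true), (3, 11, true), (2, 4, true), (1, 2, true), (3, 68, true), (2, 30, true), (1, 8, true), (4, 98, true), (5, 100, true), (6, 102, true), (7, 103, true), (8, 102, true), (7, 89, true), (6, 77, true), (7, 103, true), (6, 90, true), (6, 104, true), (5, 48, true), (4, 31, true), (3, 24, true), (2, 9, true), (2, 84, true), (3, 90, true), (3, 98, true), (4, 102, true), (5, 103, true), (6, 104, true), (5, 87, true), (4, 75, true), (6, 89, true), (5, 77, true), (5, 90, true), (5, 96, true), (4, 50, true), (3, 33, true), (2, 26, true), (5, 98, true), (4, 85, true), (6, 104, true), (5, 87, true), (7, 98, true), (6, 85, true), (5, 52, true), (4, 35, true), (5, 87, true), (4, 75, true), (6, 90, true), (6, 104, true), (5, 70, true), (4, 49, true), (3, 25, true), (2, 19, true), (4, 97, true),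 (5, 103, true), (6, 104, true), (5, 87, true), (6, 90, true), (6, 102, true), (7, 103, true), (8, 104, true), (7, 83, true), (6, 71, true), (5, 50, true), (4, 26, true), (3, 20, true), (3, 97, true), (4, 103, true), (5, 104, true), (4, 87, true), (5, 89, true), (6, 90, true), (7, 96, true), (6, 83, true), (5, 71, true), (4, 50, true), (3, 26, true), (6, 100, true), (5, 87, true), (7, 102, true), (6, 89, true), (8, 103, true), (7, 90, true), (7, 104, true), (6, 72, true), (5, 51, true), (4, 27, true), (5, 100, true), (4, 87, true), (6, 103, true), (5, 90, true), (5, 104, true), (5, 75, true), (4, 54, true), (5, 102, true), (4, 89, true), (6, 102, true), (5, 89, true), (4, 77, true), (5, 104, true), (4, 80, true), (3, 17, true), (2, 12, true), (1, 5, true), (3, 95, true), (2, 82, true), (1, 19, true), (3, 103, true), (4, 104, true), (3, 83, true), (2, 20, true), (2, 103, true), (3, 103, true), (2, 90, true),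 (2, 104, true), (3, 82, true), (2, 19, true), (1, 14, true), (1, 83, true), (3, 103, true), (2, 90, true), (2, 96, true), (1, 20, true), (1, 104, true)]),
    ([15, 3, 7, 3, 7], [(0, 118, true), (9, 118, true), (8, 79, true), (7, 67, true), (6, 37, true), (5, 29, true), (4, 16, true), (3, 11, true), (2, 7, true), (1, 4, true), (0, 2, true), (2, 68, true), (1, 30, true), (0, 8, true), (3, 98, true), (4, 100, true), (5, 102, true), (6, 103, true), (7, 102, true), (6, 89, true), (5, 77, true), (6, 103, true), (5, 90, true), (5, 104, true), (4, 48, true), (3, 31, true), (2, 24, true), (1, 9, true), (1, 84, true), (2, 90, true), (2, 98, true), (3, 102, true), (4, 103, true), (5, 104, true), (4, 87, true), (3, 75, true), (5, 89, true), (4, 77, true), (4, 90, true), (4, 96, true), (3, 50, true), (2, 33, true), (1, 26, true), (4, 98, true), (3, 85, true), (5, 104, true), (4, 87, true), (6, 98, true), (5, 85, true),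 (4, 52, true), (3, 35, true), (4, 87, true), (3, 75, true), (5, 90, true), (5, 104, true), (4, 69, true), (3, 48, true), (2, 24, true), (1, 18, true), (4, 97, true), (3, 72, true), (5, 103, true), (6, 104, true), (5, 87, true), (4, 75, true), (6, 89, true), (5, 77, true), (5, 90, true), (5, 102, true), (6, 99, true), (5, 74, true), (4, 53, true), (7, 100, true), (6, 75, true), (5, 54, true), (6, 102, true), (5, 89, true), (7, 104, true), (6, 90, true), (6, 95, true), (5, 70, true), (4, 40, true), (3, 25, true), (2, 19, true), (4, 97, true), (5, 103, true), (6, 104, true), (5, 86, true), (6, 88, true), (7, 89, true), (9, 102, true), (8, 89, true), (7, 77, true), (8, 103, true), (7, 90, true), (7, 104, true), (7, 96, true), (6, 60, true), (5, 41, true), (4, 26, true), (3, 20, true), (3, 97, true), (4, 103, true), (5, 104, true), (4, 86, true), (5, 89, true), (6, 88, true), (5, 76, true), (7, 90, true), (7,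 104, true), (8, 96, true), (7, 83, true), (6, 71, true), (5, 60, true), (4, 41, true), (3, 26, true), (6, 99, true), (5, 86, true), (7, 102, true), (6, 89, true), (8, 101, true), (7, 88, true), (6, 76, true), (9, 103, true), (8, 90, true), (8, 104, true), (7, 77, true), (8, 97, true), (7, 84, true), (6, 61, true), (5, 42, true), (4, 27, true), (5, 99, true), (4, 86, true), (6, 101, true), (5, 88, true), (7, 103, true), (6, 90, true), (6, 104, true), (5, 64, true), (8, 98, true), (7, 73, true), (6, 62, true), (5, 52, true), (4, 43, true), (9, 99, true), (8, 74, true), (7, 63, true), (6, 53, true), (5, 44, true), (8, 100, true), (7, 75, true), (6, 64, true), (5, 54, true), (6, 101, true), (5, 88, true), (7, 102, true), (6, 89, true), (8, 104, true), (7, 90, true), (7, 99, true), (6, 74, true), (5, 63, true), (8, 101, true), (7, 76, true), (6, 65, true), (7, 102, true), (6, 77, true), (6, 102, true), (7,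 103, true), (8, 104, true), (7, 90, true), (6, 68, true), (5, 38, true), (4, 30, true), (3, 17, true), (2, 12, true), (1, 8, true), (0, 5, true), (2, 94, true), (1, 81, true), (0, 18, true), (3, 103, true), (4, 104, true), (3, 84, true), (2, 72, true), (5, 95, true), (4, 82, true), (3, 70, true), (2, 25, true), (1, 19, true), (3, 97, true), (4, 103, true), (5, 104, true), (4, 89, true), (5, 90, true), (5, 103, true), (6, 104, true), (5, 83, true), (4, 71, true), (3, 26, true), (2, 20, true), (2, 97, true), (3, 103, true), (4, 104, true), (3, 89, true), (4, 90, true), (5, 96, true), (4, 83, true), (3, 71, true), (2, 26, true), (5, 102, true), (4, 89, true), (6, 103, true), (5, 90, true), (5, 104, true), (4, 73, true), (5, 75, true), (6, 77, true), (6, 86, true), (5, 53, true), (7, 88, true), (8, 89, true), (9, 89, true), (8, 77, true), (8, 90, true), (8, 94, true), (7, 58, true), (6, 48, true), (5, 39,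 true), (4, 31, true), (3, 24, true), (2, 18, true), (1, 13, true), (0, 9, true), (0, 82, true), (1, 84, true), (2, 90, true), (1, 26, true), (4, 102, true), (3, 89, true), (5, 104, true), (4, 84, true), (3, 72, true), (2, 27, true), (3, 102, true), (2, 89, true), (4, 103, true), (3, 90, true), (3, 103, true), (4, 104, true), (3, 85, true), (2, 73, true), (4, 89, true), (3, 77, true), (3, 90, true), (3, 99, true), (4, 102, true), (5, 100, true), (4, 75, true), (6, 102, true), (5, 77, true), (5, 103, true), (6, 104, true), (5, 88, true), (6, 90, true), (6, 104, true), (5, 59, true), (4, 49, true), (3, 40, true), (2, 32, true), (1, 19, true), (0, 14, true), (0, 83, true), (2, 98, true), (1, 85, true), (3, 100, true), (2, 87, true), (4, 103, true), (3, 90, true), (3, 99, true), (2, 53, true), (4, 101, true), (5, 102, true), (6, 104, true), (5, 75, true), (4, 64, true), (3, 54, true), (4, 101, true), (3, 88,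 true), (5, 102, true), (4, 89, true), (6, 103, true), (5, 90, true), (5, 104, true), (4, 76, true), (3, 65, true), (5, 96, true), (4, 83, true), (3, 71, true), (2, 41, true), (1, 33, true), (0, 20, true), (0, 98, true), (1, 104, true), (2, 77, true), (3, 98, true), (2, 85, true), (1, 43, true), (0, 35, true), (1, 86, true), (0, 74, true), (2, 90, true), (2, 99, true), (1, 74, true), (0, 44, true), (1, 102, true), (0, 77, true), (0, 103, true)], [(2, 31, true), (1, 9, true), (1, 85, true), (2, 89, true), (3, 90, true), (3, 98, true), (2, 73, true), (1, 35, true), (2, 89, true), (1, 77, true), (0, 123, true), (1, 124, true)]),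
    ([16, 0, 1, 0, 1], [(0, 125, true), (5, 125, true), (4, 92, true), (3, 67, true), (2, 56, true), (1, 4, true), (0, 2, true), (2, 68, true), (1, 30, true), (0, 8, true), (3, 98, true), (4, 100, true), (5, 102, true), (6, 103, true), (7, 102, true), (6, 89, true), (5, 77, true), (6, 103, true), (5, 90, true), (5, 104, true), (4, 48, true), (3, 31, true), (2, 24, true), (1, 9, true), (1, 84, true), (2, 90, true), (2, 98, true), (3, 102, true), (4, 103, true), (5, 104, true), (4, 87, true), (3, 75, true), (5, 89, true), (4, 77, true), (4, 90, true), (4, 96, true), (3, 50, true), (2, 33, true), (1, 26, true), (4, 98, true), (3, 85, true), (5, 104, true), (4, 87, true), (6, 98, true), (5, 85, true), (4, 52, true), (3, 35, true), (4, 87, true), (3, 75, true), (5, 90, true), (5, 104, true), (4, 76, true), (5, 77, true), (6, 102, true), (5, 89, true), (7, 103, true), (6, 90, true), (6, 104, true), (6, 93, true),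 (5, 68, true), (4, 57, true), (3, 47, true), (2, 23, true), (1, 17, true), (0, 5, true), (2, 96, true), (1, 83, true), (0, 20, true), (0, 103, true), (1, 104, true), (0, 84, true), (1, 89, true), (2, 90, true), (1, 75, true), (3, 101, true), (2, 76, true), (4, 102, true), (3, 77, true), (3, 103, true), (4, 104, true), (3, 89, true), (4, 90, true), (4, 104, true), (3, 76, true), (2, 65, true), (2, 77, true)], [(2, 1, true), (1, 0, true), (5, 92, true), (4, 67, true), (3, 46, true), (2, 37, true), (1, 7, true), (6, 99, true), (5, 86, true), (4, 53, true), (3, 44, true), (5, 101, true), (4, 88, true), (6, 102, true), (5, 89, true), (7, 100, true), (6, 87, true), (5, 75, true), (4, 64, true), (3, 54, true), (4, 101, true), (3, 88, true), (5, 102, true), (4, 89, true), (6, 103, true), (5, 90, true), (5, 104, true), (4, 76, true), (3, 65, true), (3, 77, true), (4, 104, true), (3, 85, true), (4, 86, true), (5,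 87, true), (6, 89, true), (8, 92, true), (7, 79, true), (6, 67, true), (5, 46, true), (4, 37, true), (3, 29, true), (2, 7, true), (1, 2, true), (3, 69, true), (2, 31, true), (1, 9, true), (1, 85, true), (2, 89, true), (3, 90, true), (3, 102, true), (2, 77, true), (2, 99, true), (3, 100, true), (4, 103, true), (5, 104, true), (4, 85, true), (3, 52, true), (2, 43, true), (1, 35, true), (2, 86, true), (1, 74, true), (3, 87, true), (2, 75, true), (4, 90, true), (3, 74, true), (2, 53, true), (1, 44, true), (2, 75, true), (1, 54, true), (2, 102, true), (1, 89, true), (3, 103, true), (2, 90, true), (2, 104, true), (1, 74, true), (2, 76, true), (3, 77, true), (2, 64, true), (3, 65, true), (5, 103, true), (4, 90, true), (4, 104, true), (0, 130, true), (8, 132, true), (7, 67, true), (6, 29, true), (5, 22, true), (4, 16, true), (3, 11, true), (2, 7, true), (1, 4, true), (0, 2, true), (2, 68, true), (1, 30, true),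 (0, 8, true), (3, 98, true), (4, 100, true), (5, 102, true), (6, 103, true), (7, 102, true), (6, 89, true), (5, 77, true), (6, 103, true), (5, 90, true), (5, 104, true), (4, 48, true), (3, 31, true), (2, 24, true), (1, 9, true), (1, 84, true), (2, 90, true), (2, 98, true), (3, 102, true), (4, 103, true), (5, 104, true), (4, 87, true), (3, 75, true), (5, 89, true), (4, 77, true), (4, 90, true), (4, 96, true), (3, 50, true), (2, 33, true), (1, 26, true), (4, 98, true), (3, 85, true), (5, 104, true), (4, 87, true), (6, 98, true), (5, 85, true), (4, 52, true), (3, 35, true), (4, 87, true), (3, 75, true), (5, 90, true), (5, 104, true), (4, 69, true), (3, 48, true), (2, 24, true), (1, 18, true), (4, 97, true), (3, 72, true), (5, 103, true), (6, 104, true), (5, 87, true), (4, 75, true), (6, 89, true), (5, 77, true), (5, 90, true), (5, 102, true), (6, 99, true), (5, 74, true), (4, 53, true), (7, 100, true), (6,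 75, true), (5, 54, true), (6, 102, true), (5, 89, true), (7, 104, true), (6, 90, true), (6, 95, true), (5, 70, true), (4, 40, true), (3, 25, true), (2, 19, true), (4, 97, true), (5, 103, true), (6, 104, true), (5, 86, true), (6, 88, true), (7, 89, true), (9, 102, true), (8, 89, true), (7, 77, true), (8, 103, true), (7, 90, true), (7, 104, true), (7, 96, true), (6, 60, true), (5, 41, true), (4, 26, true), (3, 20, true), (3, 97, true), (4, 103, true), (5, 104, true), (4, 86, true), (5, 89, true), (6, 88, true), (5, 76, true), (7, 90, true), (7, 104, true), (8, 96, true), (7, 83, true), (6, 71, true), (5, 60, true), (4, 41, true), (3, 26, true), (6, 99, true), (5, 86, true), (7, 102, true), (6, 89, true), (8, 101, true), (7, 88, true), (6, 76, true), (9, 103, true), (8, 90, true), (8, 104, true), (7, 77, true), (8, 97, true), (7, 84, true), (6, 61, true), (5, 42, true), (4, 27, true), (5, 99, true), (4, 86,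 true), (6, 101, true), (5, 88, true), (7, 103, true), (6, 90, true), (6, 104, true), (5, 64, true), (8, 97, true), (7, 72, true), (6, 61, true), (5, 51, true), (4, 42, true), (8, 101, true), (7, 88, true), (9, 102, true), (8, 89, true), (10, 104, true), (9, 88, true), (8, 76, true), (7, 65, true), (8, 89, true), (7, 77, true), (7, 85, true), (6, 52, true), (5, 43, true), (8, 86, true), (7, 53, true), (6, 44, true), (7, 87, true), (6, 54, true), (7, 103, true), (6, 90, true), (6, 103, true), (7, 104, true), (6, 89, true), (7, 90, true), (7, 93, true), (6, 68, true), (5, 30, true), (4, 23, true), (3, 17, true), (2, 12, true), (1, 8, true), (0, 5, true), (2, 94, true), (1, 81, true), (0, 18, true), (3, 103, true), (4, 104, true), (3, 84, true), (2, 72, true), (5, 95, true), (4, 82, true), (3, 70, true), (2, 25, true), (1, 19, true), (3, 97, true), (4, 103, true), (5, 104, true), (4, 89, true), (5, 90, true),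 (5, 103, true), (6, 104, true), (5, 83, true), (4, 71, true), (3, 26, true), (2, 20, true), (2, 97, true), (3, 103, true), (4, 104, true), (3, 89, true), (4, 90, true), (5, 96, true), (4, 83, true), (3, 71, true), (2, 26, true), (5, 102, true), (4, 89, true), (6, 103, true), (5, 90, true), (5, 104, true), (4, 72, true), (3, 27, true), (4, 102, true), (3, 89, true), (5, 102, true), (4, 89, true), (3, 77, true), (4, 103, true), (3, 90, true), (3, 98, true), (4, 100, true), (5, 102, true), (6, 103, true), (7, 102, true), (6, 89, true), (5, 77, true), (6, 103, true), (5, 90, true), (5, 104, true), (5, 94, true), (4, 48, true), (3, 31, true), (2, 18, true), (1, 13, true), (0, 9, true), (0, 82, true), (1, 84, true), (2, 90, true), (1, 26, true), (4, 102, true), (3, 89, true), (5, 104, true), (4, 85, true), (3, 73, true), (5, 89, true), (4, 77, true), (4, 90, true), (4, 100, true), (5, 102, true), (6, 103, true),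 (7, 104, true), (7, 95, true), (6, 82, true), (5, 70, true), (4, 49, true), (3, 32, true), (2, 25, true), (1, 19, true), (0, 14, true), (0, 83, true), (2, 97, true), (1, 84, true), (3, 103, true), (2, 90, true), (2, 104, true), (4, 87, true), (3, 54, true), (4, 103, true), (3, 90, true), (3, 103, true), (4, 104, true), (3, 89, true), (4, 90, true), (4, 103, true), (5, 104, true), (4, 83, true), (3, 71, true), (2, 33, true), (1, 26, true), (0, 20, true), (0, 97, true), (1, 103, true), (2, 104, true), (1, 85, true), (3, 102, true), (2, 89, true), (4, 103, true), (3, 90, true), (3, 98, true), (2, 73, true), (1, 35, true), (2, 89, true), (1, 77, true), (2, 100, true), (1, 87, true), (3, 103, true), (2, 90, true)]),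
    ([16, 1, 2, 0, 1], [(0, 126, true), (8, 125, true), (7, 92, true), (6, 67, true), (5, 46, true), (4, 22, true), (3, 16, true), (2, 11, true), (1, 4, true), (6, 95, true), (5, 32, true), (4, 19, true), (6, 98, true), (7, 100, true), (8, 103, true), (9, 104, true), (8, 83, true), (7, 50, true), (6, 33, true), (5, 20, true), (5, 98, true), (6, 104, true), (7, 90, true), (7, 96, true), (6, 50, true), (5, 33, true), (7, 100, true), (8, 104, true), (7, 51, true), (6, 34, true), (10, 100, true), (9, 87, true), (8, 75, true), (11, 103, true), (10, 90, true), (10, 104, true), (9, 75, true), (8, 54, true), (9, 102, true), (8, 89, true), (10, 102, true), (9, 89, true), (8, 77, true), (9, 104, true), (8, 84, true), (7, 34, true), (6, 27, true), (7, 98, true), (6, 85, true), (8, 102, true), (7, 89, true), (9, 103, true), (8, 90, true), (8, 104, true), (8, 88, true), (7, 76, true), (9, 89, true), (8, 77, true),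 (8, 87, true), (7, 64, true), (9, 88, true), (8, 65, true), (8, 89, true), (9, 90, true), (9, 104, true), (8, 68, true), (7, 47, true), (6, 30, true), (5, 17, true), (4, 12, true), (3, 8, true), (2, 5, true), (4, 94, true), (3, 81, true), (2, 18, true), (5, 103, true), (6, 104, true), (5, 84, true), (4, 72, true), (7, 95, true), (6, 82, true), (5, 70, true), (4, 25, true), (3, 19, true), (5, 97, true), (6, 103, true), (7, 104, true), (6, 89, true), (7, 90, true), (7, 103, true), (8, 104, true), (7, 83, true), (6, 71, true), (5, 26, true), (4, 20, true), (4, 97, true), (5, 103, true), (6, 104, true), (5, 89, true), (6, 90, true), (7, 96, true), (6, 83, true), (5, 71, true), (4, 26, true), (7, 102, true), (6, 89, true), (8, 103, true), (7, 90, true), (7, 104, true), (6, 73, true), (7, 75, true), (8, 77, true), (8, 87, true), (7, 54, true), (8, 103, true), (7, 90, true), (7, 104, true), (9, 101, true), (8,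 88, true), (7, 76, true), (10, 102, true), (9, 89, true), (8, 77, true), (9, 104, true)], [(2, 3, true), (1, 1, true), (7, 93, true), (6, 68, true), (5, 47, true), (4, 38, true), (3, 30, true), (7, 86, true), (6, 74, true), (5, 53, true), (8, 88, true), (7, 76, true), (9, 89, true), (8, 77, true), (8, 87, true), (7, 64, true), (6, 54, true), (7, 101, true), (6, 88, true), (8, 103, true), (7, 90, true), (7, 104, true), (9, 104, true), (8, 81, true), (7, 69, true), (6, 58, true), (5, 39, true), (4, 31, true), (8, 99, true), (7, 86, true), (6, 74, true), (9, 102, true), (8, 89, true), (7, 77, true), (8, 101, true), (7, 88, true), (9, 103, true), (8, 90, true), (8, 104, true), (9, 83, true), (8, 71, true), (7, 60, true), (6, 41, true), (5, 33, true), (7, 99, true), (8, 102, true), (9, 101, true), (8, 76, true), (10, 103, true), (11, 104, true), (10, 89, true), (9, 77, true), (9, 90, true), (8, 64, true), (9,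 65, true), (9, 79, true), (8, 46, true), (7, 37, true), (6, 29, true), (5, 16, true), (4, 7, true), (3, 4, true), (2, 2, true), (4, 68, true), (3, 30, true), (2, 8, true), (5, 98, true), (6, 100, true), (7, 102, true), (8, 103, true), (9, 102, true), (8, 89, true), (7, 77, true), (8, 103, true), (7, 90, true), (7, 104, true), (6, 48, true), (5, 31, true), (4, 24, true), (3, 9, true), (3, 84, true), (4, 90, true), (4, 98, true), (5, 102, true), (6, 103, true), (7, 104, true), (6, 87, true), (5, 75, true), (7, 89, true), (6, 77, true), (6, 90, true), (6, 96, true), (5, 50, true), (4, 33, true), (3, 26, true), (6, 98, true), (5, 85, true), (7, 104, true), (6, 87, true), (8, 98, true), (7, 85, true), (6, 52, true), (5, 35, true), (6, 87, true), (5, 75, true), (7, 90, true), (7, 104, true), (6, 69, true), (5, 48, true), (4, 24, true), (3, 18, true), (6, 97, true), (5, 72, true), (7, 103, true), (8, 104, true),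 (7, 87, true), (6, 75, true), (8, 89, true), (7, 77, true), (7, 90, true), (7, 102, true), (8, 99, true), (7, 74, true), (6, 53, true), (9, 100, true), (8, 75, true), (7, 54, true), (8, 102, true), (7, 89, true), (9, 104, true), (8, 90, true), (8, 96, true), (7, 71, true), (6, 41, true), (5, 26, true), (4, 20, true), (4, 97, true), (5, 103, true), (6, 104, true), (5, 86, true), (6, 89, true), (7, 89, true), (6, 77, true), (7, 97, true), (6, 84, true), (5, 42, true), (4, 27, true), (5, 99, true), (4, 86, true), (6, 103, true), (5, 90, true), (5, 104, true), (7, 98, true), (6, 73, true), (5, 52, true), (4, 43, true), (8, 99, true), (7, 74, true), (6, 53, true), (5, 44, true), (7, 100, true), (6, 75, true), (5, 54, true), (6, 102, true), (5, 89, true), (7, 104, true), (6, 90, true), (6, 99, true), (5, 74, true), (7, 101, true), (6, 76, true), (8, 102, true), (7, 77, true), (7, 100, true), (6, 64, true), (8,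 101, true), (7, 65, true), (7, 103, true), (7, 77, false), (8, 89, false), (9, 102, false), (5, 53, false), (6, 74, false), (7, 86, false), (8, 99, false), (5, 75, false), (6, 104, false), (6, 90, false), (7, 103, false), (5, 89, false), (6, 102, false), (4, 85, false), (5, 98, false), (4, 27, false), (5, 34, false), (6, 51, false), (7, 104, false), (7, 90, false), (8, 103, false), (7, 77, false), (8, 89, false), (9, 102, false), (8, 103, false), (7, 102, false), (6, 100, false), (5, 98, false), (2, 8, false), (3, 30, false), (4, 68, false), (2, 2, false), (0, 125, true), (5, 126, true), (13, 129, true), (23, 132, true), (4, 91, true), (3, 66, true), (2, 55, true), (1, 3, true), (0, 1, true), (6, 93, true), (5, 68, true), (4, 47, true), (3, 38, true), (2, 30, true), (6, 86, true), (5, 74, true), (4, 53, true), (7, 88, true), (6, 76, true), (8, 89, true), (7, 77, true), (7, 87, true), (6, 64, true), (5,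 54, true), (6, 101, true), (5, 88, true), (7, 103, true), (6, 90, true), (6, 104, true), (8, 104, true), (7, 81, true), (6, 69, true), (5, 58, true), (4, 39, true), (3, 31, true), (7, 99, true), (6, 86, true), (5, 74, true), (8, 102, true), (7, 89, true), (6, 77, true), (7, 101, true), (6, 88, true), (8, 103, true), (7, 90, true), (7, 104, true), (8, 83, true), (7, 71, true), (6, 60, true), (5, 41, true), (4, 33, true), (6, 99, true), (7, 102, true), (8, 101, true), (7, 76, true), (9, 103, true), (10, 104, true), (9, 89, true), (8, 77, true), (8, 90, true), (7, 64, true), (8, 65, true), (8, 88, true), (9, 89, true), (10, 90, true), (10, 102, true), (9, 77, true), (9, 103, true), (10, 104, true), (10, 93, true), (9, 80, true), (8, 57, true), (7, 47, true), (6, 38, true), (5, 30, true), (4, 17, true), (3, 8, true), (2, 5, true), (4, 94, true), (3, 81, true), (2, 18, true), (5, 103, true), (6, 104, true),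 (5, 84, true), (4, 72, true), (7, 96, true), (6, 83, true), (5, 71, true), (4, 26, true), (3, 20, true), (3, 97, true), (4, 103, true), (5, 104, true), (4, 89, true), (5, 90, true), (5, 98, true), (4, 73, true), (6, 100, true), (5, 75, true), (7, 102, true), (6, 77, true), (6, 103, true), (7, 99, true), (6, 86, true), (5, 53, true), (8, 101, true), (7, 88, true), (9, 102, true), (8, 89, true), (10, 100, true), (9, 87, true), (8, 75, true), (7, 64, true), (6, 54, true), (7, 101, true), (6, 88, true), (8, 102, true), (7, 89, true), (9, 103, true), (8, 90, true), (8, 104, true), (8, 101, true), (7, 76, true), (6, 65, true), (7, 102, true), (6, 77, true), (6, 103, true), (7, 104, true), (6, 90, true), (6, 95, true), (5, 40, true), (4, 32, true), (3, 25, true), (6, 98, true), (5, 85, true), (7, 100, true), (6, 87, true), (8, 103, true), (7, 90, true), (7, 99, true), (6, 53, true), (8, 101, true), (9, 102, true),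 (10, 104, true), (10, 96, true), (9, 71, true), (8, 60, true), (7, 50, true), (6, 41, true), (5, 33, true), (4, 26, true), (7, 98, true), (6, 85, true), (8, 104, true), (7, 86, true), (8, 89, true), (9, 87, true), (8, 75, true), (10, 88, true), (9, 76, true), (11, 90, true), (11, 102, true), (10, 77, true), (10, 104, true), (9, 61, true), (8, 51, true), (7, 42, true), (6, 34, true), (5, 27, true), (6, 98, true), (5, 85, true), (7, 102, true), (6, 89, true), (8, 103, true), (7, 90, true), (7, 104, true), (6, 74, true), (7, 75, true), (10, 101, true), (9, 88, true), (8, 76, true), (11, 100, true), (10, 87, true), (9, 75, true), (8, 64, true), (7, 54, true), (8, 101, true), (7, 88, true), (9, 102, true), (8, 89, true), (10, 103, true), (9, 90, true), (9, 104, true), (8, 77, true), (8, 92, true), (7, 56, true), (6, 37, true), (5, 29, true), (4, 16, true), (3, 11, true), (2, 7, true), (1, 2, true), (3, 69,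 true), (2, 31, true), (1, 9, true), (1, 85, true), (2, 89, true), (3, 90, true), (3, 102, true), (2, 77, true), (2, 99, true), (3, 100, true), (4, 103, true), (5, 104, true), (4, 82, true), (3, 49, true), (2, 40, true), (1, 32, true), (4, 86, true), (3, 53, true), (5, 88, true), (6, 89, true), (8, 100, true), (7, 87, true), (6, 75, true), (5, 64, true), (4, 54, true), (5, 101, true), (4, 88, true), (6, 102, true), (5, 89, true), (7, 103, true), (6, 90, true), (6, 104, true), (7, 103, true), (6, 90, true), (6, 96, true), (5, 71, true), (4, 60, true), (3, 41, true), (2, 33, true), (4, 99, true), (5, 102, true), (6, 101, true), (5, 76, true), (7, 103, true), (8, 104, true), (7, 89, true), (6, 77, true), (7, 103, true), (6, 90, true), (6, 104, true), (5, 60, true), (4, 41, true), (3, 33, true), (2, 20, true), (2, 98, true), (3, 104, true), (4, 76, true), (7, 97, true), (6, 84, true), (5, 72, true), (4, 61,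 true), (3, 42, true), (2, 34, true), (6, 99, true), (5, 86, true), (4, 74, true), (7, 101, true), (6, 88, true), (5, 76, true), (8, 102, true), (7, 89, true), (6, 77, true), (7, 103, true), (6, 90, true), (6, 104, true), (5, 64, true), (8, 98, true), (7, 73, true), (6, 62, true), (5, 52, true), (4, 43, true), (3, 35, true), (4, 86, true), (3, 74, true), (5, 87, true), (4, 75, true), (6, 88, true), (5, 76, true), (7, 89, true), (6, 77, true), (7, 99, true), (6, 86, true), (5, 63, true), (4, 53, true), (3, 44, true), (6, 100, true), (5, 87, true), (4, 64, true), (3, 54, true), (4, 101, true), (3, 88, true), (5, 103, true), (4, 90, true), (4, 104, true), (5, 99, true), (4, 86, true), (3, 63, true), (6, 101, true), (5, 88, true), (4, 65, true), (5, 102, true), (4, 89, true), (6, 101, true), (5, 88, true), (4, 76, true), (7, 102, true), (6, 89, true), (5, 77, true), (6, 103, true), (5, 90, true), (5, 104, true),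 (5, 93, true), (4, 57, true), (3, 38, true), (2, 23, true), (1, 12, true), (5, 97, true), (4, 84, true), (6, 102, true), (5, 89, true), (7, 103, true), (6, 90, true), (6, 99, true), (5, 74, true), (7, 101, true), (6, 76, true), (8, 102, true), (7, 77, true), (7, 101, true), (6, 65, true), (6, 102, true), (7, 103, true), (8, 104, true), (8, 94, true), (7, 81, true), (6, 69, true), (5, 39, true), (4, 24, true), (3, 18, true), (2, 13, true), (5, 83, true), (4, 26, true), (7, 103, true), (6, 90, true), (6, 102, true), (7, 104, true), (6, 72, true), (5, 27, true), (6, 102, true), (5, 89, true), (7, 103, true), (6, 90, true), (6, 104, true), (5, 74, true), (6, 77, true), (8, 95, true), (7, 82, true), (6, 70, true), (5, 40, true), (4, 19, true), (3, 14, true), (3, 83, true), (5, 99, true), (4, 86, true), (6, 101, true), (5, 88, true), (7, 102, true), (6, 89, true), (8, 104, true), (7, 89, true), (6, 77, true),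 (6, 90, true), (6, 103, true), (7, 104, true), (6, 83, true), (5, 60, true), (4, 41, true), (3, 20, true), (3, 99, true), (4, 102, true), (5, 101, true), (4, 76, true), (6, 103, true), (7, 104, true), (6, 90, true), (5, 72, true), (4, 61, true), (3, 42, true), (6, 73, true), (5, 62, true), (4, 43, true), (7, 74, true), (6, 63, true), (5, 44, true), (6, 75, true), (5, 64, true), (8, 79, true), (7, 67, true), (6, 56, true), (5, 46, true), (4, 29, true), (3, 22, true), (2, 7, true), (1, 4, true), (6, 94, true), (5, 31, true), (4, 18, true), (3, 9, true), (3, 83, true), (4, 89, true), (6, 98, true), (5, 85, true), (4, 73, true), (7, 102, true), (6, 89, true), (5, 77, true), (6, 103, true), (5, 90, true), (5, 104, true), (5, 99, true), (6, 100, true), (7, 103, true), (8, 104, true), (7, 84, true), (6, 51, true), (5, 42, true), (4, 34, true), (8, 99, true), (7, 86, true), (6, 74, true), (9, 100, true), (8, 87,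 true), (7, 75, true), (10, 103, true), (9, 90, true), (9, 104, true), (9, 88, true), (8, 76, true), (10, 89, true), (9, 77, true), (9, 85, true), (8, 62, true), (7, 52, true), (6, 43, true), (5, 35, true), (6, 86, true), (5, 74, true), (7, 87, true), (6, 75, true), (8, 88, true), (7, 76, true), (9, 90, true), (8, 74, true), (7, 63, true), (6, 53, true), (5, 44, true), (7, 75, true), (6, 64, true), (5, 54, true), (6, 101, true), (5, 88, true), (7, 102, true), (6, 89, true), (8, 103, true), (7, 90, true), (7, 104, true), (6, 75, true), (5, 64, true), (7, 76, true), (6, 65, true), (6, 76, true), (7, 77, true), (8, 102, true), (7, 89, true), (9, 103, true), (8, 90, true), (8, 104, true), (8, 80, true), (7, 68, true), (6, 57, true), (5, 47, true), (4, 23, true), (3, 17, true), (2, 5, true), (4, 96, true), (3, 83, true), (2, 20, true), (2, 103, true), (3, 104, true), (2, 84, true), (3, 89, true), (4, 90, true),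 (3, 75, true), (5, 101, true), (4, 76, true), (6, 102, true), (5, 77, true), (5, 103, true), (6, 104, true), (5, 89, true), (6, 90, true), (6, 103, true), (7, 94, true), (6, 81, true), (5, 69, true), (4, 58, true), (3, 48, true), (2, 24, true), (5, 100, true), (4, 87, true), (6, 102, true), (5, 89, true), (7, 103, true), (6, 90, true), (6, 104, true), (5, 76, true), (8, 102, true), (7, 89, true), (6, 77, true), (7, 103, true), (6, 90, true), (6, 104, true), (5, 59, true), (4, 49, true), (3, 25, true), (6, 100, true), (5, 87, true), (7, 103, true), (6, 90, true), (6, 104, true), (8, 96, true), (7, 83, true), (6, 60, true), (5, 50, true), (4, 26, true), (7, 100, true), (6, 87, true), (8, 101, true), (7, 88, true), (9, 103, true), (8, 90, true), (8, 104, true), (9, 98, true), (8, 85, true), (7, 62, true), (6, 52, true), (10, 100, true), (9, 87, true), (8, 64, true), (7, 54, true), (8, 101, true), (7, 88,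 true), (9, 103, true), (8, 90, true), (8, 104, true)])]

/-- part of the pairs -/
def twoEqs10 : List Pair :=
  [([16, 1, 2, 1, 2], [(0, 126, true), (8, 126, true), (7, 91, true), (6, 66, true), (5, 45, true), (4, 21, true), (3, 15, true), (2, 10, true), (1, 3, true), (0, 0, true), (4, 93, true), (3, 68, true), (2, 47, true), (1, 38, true), (0, 8, true), (3, 99, true), (4, 101, true), (5, 102, true), (6, 100, true), (5, 75, true), (4, 64, true), (7, 104, true), (6, 77, true), (7, 104, true), (6, 81, true), (5, 58, true), (4, 48, true), (3, 39, true), (2, 24, true), (1, 9, true), (1, 84, true), (2, 90, true), (2, 99, true), (3, 102, true), (4, 100, true), (3, 75, true), (5, 102, true), (4, 77, true), (4, 103, true), (5, 104, true), (4, 88, true), (5, 90, true), (5, 103, true), (6, 96, true), (5, 83, true), (4, 60, true), (3, 50, true), (2, 41, true), (1, 26, true), (4, 99, true), (3, 86, true), (5, 102,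 true), (4, 89, true), (6, 100, true), (5, 87, true), (4, 75, true), (7, 101, true), (6, 88, true), (5, 76, true), (8, 103, true), (7, 90, true), (7, 104, true), (8, 100, true), (7, 87, true), (6, 75, true), (5, 64, true), (4, 54, true), (5, 101, true), (4, 88, true), (6, 102, true), (5, 89, true), (7, 103, true), (6, 90, true), (6, 104, true), (5, 76, true), (4, 65, true), (5, 82, true), (4, 70, true), (3, 40, true), (2, 25, true), (1, 19, true), (3, 97, true), (4, 103, true), (5, 104, true), (4, 86, true), (5, 88, true), (6, 89, true), (8, 102, true), (7, 89, true), (6, 77, true), (7, 103, true), (6, 90, true), (6, 104, true), (6, 83, true), (5, 60, true), (4, 41, true), (3, 26, true), (2, 20, true), (2, 97, true), (3, 103, true), (4, 104, true), (3, 86, true), (4, 89, true), (5, 88, true), (4, 76, true), (6, 90, true), (6, 103, true), (7, 100, true), (6, 87, true), (5, 75, true), (4, 64, true), (8, 104,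 true), (7, 83, true), (6, 71, true), (5, 60, true), (4, 50, true), (3, 41, true), (2, 26, true), (5, 99, true), (4, 86, true), (6, 102, true), (5, 89, true), (7, 100, true), (6, 87, true), (5, 75, true), (8, 101, true), (7, 88, true), (6, 76, true), (9, 103, true), (8, 90, true), (8, 104, true), (7, 77, true), (7, 84, true), (6, 61, true), (5, 51, true), (4, 42, true), (3, 27, true), (4, 99, true), (3, 86, true), (5, 100, true), (4, 87, true), (6, 103, true), (5, 90, true), (5, 104, true), (6, 89, true), (7, 90, true), (6, 72, true), (5, 61, true), (4, 51, true), (3, 42, true), (7, 101, true), (6, 88, true), (8, 102, true), (7, 89, true), (9, 104, true), (8, 87, true), (7, 75, true), (6, 64, true), (5, 54, true), (6, 101, true), (5, 88, true), (7, 102, true), (6, 89, true), (8, 103, true), (7, 90, true), (7, 101, true), (6, 76, true), (5, 65, true), (6, 103, true), (7, 104, true), (6, 89, true), (5, 77,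 true), (5, 90, true), (5, 104, true), (4, 38, true), (3, 23, true), (2, 17, true), (1, 12, true), (0, 5, true), (2, 95, true), (1, 82, true), (0, 19, true), (2, 103, true), (3, 104, true), (2, 83, true), (1, 20, true), (1, 103, true), (2, 103, true), (1, 90, true), (1, 104, true), (4, 86, true), (3, 74, true), (5, 88, true), (4, 76, true), (6, 89, true), (5, 77, true), (5, 82, true), (4, 59, true), (3, 40, true), (2, 25, true), (1, 19, true), (0, 14, true), (0, 83, true), (2, 97, true), (1, 84, true), (3, 103, true), (2, 90, true), (2, 104, true), (5, 101, true), (4, 76, true), (3, 65, true), (4, 103, true), (5, 104, true), (4, 90, true), (3, 71, true), (2, 41, true), (1, 26, true), (0, 20, true), (0, 97, true), (1, 103, true), (2, 104, true), (1, 86, true), (2, 89, true), (3, 89, true), (2, 77, true), (2, 84, true), (1, 42, true), (0, 27, true), (1, 99, true), (0, 86, true), (2, 103, true), (1, 90, true),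 (1, 100, true), (2, 102, true), (3, 104, true)], [(2, 4, true), (1, 2, true), (3, 68, true), (2, 30, true), (1, 8, true), (4, 98, true), (5, 100, true), (6, 102, true), (7, 103, true), (8, 102, true), (7, 89, true), (6, 77, true), (7, 103, true), (6, 90, true), (6, 104, true), (5, 48, true), (4, 31, true), (3, 24, true), (2, 9, true), (2, 84, true), (3, 90, true), (3, 98, true), (4, 102, true), (5, 103, true), (6, 104, true), (5, 87, true), (4, 75, true), (6, 89, true), (5, 77, true), (5, 90, true), (5, 96, true), (4, 50, true), (3, 33, true), (2, 26, true), (5, 98, true), (4, 85, true), (6, 104, true), (5, 87, true), (7, 98, true), (6, 85, true), (5, 52, true), (4, 35, true), (5, 87, true), (4, 75, true), (6, 90, true), (6, 104, true), (5, 68, true), (4, 47, true), (3, 23, true), (2, 17, true), (1, 5, true), (3, 96, true), (2, 83, true), (1, 20, true), (1, 103, true), (2, 104, true), (1, 84, true), (2,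 89, true), (3, 90, true), (2, 75, true), (4, 102, true), (3, 77, true), (3, 103, true), (4, 104, true), (2, 44, false), (0, 129, true), (10, 130, true), (18, 133, true), (9, 79, true), (8, 46, true), (7, 37, true), (6, 29, true), (5, 22, true), (4, 16, true), (3, 11, true), (2, 7, true), (1, 4, true), (0, 2, true), (2, 68, true), (1, 30, true), (0, 8, true), (3, 98, true), (4, 100, true), (5, 102, true), (6, 103, true), (7, 102, true), (6, 89, true), (5, 77, true), (6, 103, true), (5, 90, true), (5, 104, true), (4, 48, true), (3, 31, true), (2, 24, true), (1, 9, true), (1, 84, true), (2, 90, true), (2, 98, true), (3, 102, true), (4, 103, true), (5, 104, true), (4, 87, true), (3, 75, true), (5, 89, true), (4, 77, true), (4, 90, true), (4, 96, true), (3, 50, true), (2, 33, true), (1, 26, true), (4, 98, true), (3, 85, true), (5, 104, true), (4, 87, true), (6, 98, true), (5, 85, true), (4, 52, true), (3, 35,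 true), (4, 87, true), (3, 75, true), (5, 90, true), (5, 104, true), (4, 69, true), (3, 48, true), (2, 24, true), (1, 18, true), (4, 97, true), (3, 72, true), (5, 103, true), (6, 104, true), (5, 87, true), (4, 75, true), (6, 89, true), (5, 77, true), (5, 90, true), (5, 102, true), (6, 99, true), (5, 74, true), (4, 53, true), (7, 100, true), (6, 75, true), (5, 54, true), (6, 102, true), (5, 89, true), (7, 104, true), (6, 90, true), (6, 95, true), (5, 70, true), (4, 40, true), (3, 25, true), (2, 19, true), (4, 97, true), (5, 103, true), (6, 104, true), (5, 86, true), (6, 88, true), (7, 89, true), (9, 102, true), (8, 89, true), (7, 77, true), (8, 103, true), (7, 90, true), (7, 104, true), (7, 96, true), (6, 60, true), (5, 41, true), (4, 26, true), (3, 20, true), (3, 97, true), (4, 103, true), (5, 104, true), (4, 86, true), (5, 89, true), (6, 88, true), (5, 76, true), (7, 90, true), (7, 104, true), (8, 96,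 true), (7, 83, true), (6, 71, true), (5, 60, true), (4, 41, true), (3, 26, true), (6, 99, true), (5, 86, true), (7, 102, true), (6, 89, true), (8, 101, true), (7, 88, true), (6, 76, true), (9, 103, true), (8, 90, true), (8, 104, true), (7, 77, true), (8, 97, true), (7, 84, true), (6, 61, true), (5, 42, true), (4, 27, true), (5, 99, true), (4, 86, true), (6, 101, true), (5, 88, true), (7, 103, true), (6, 90, true), (6, 104, true), (5, 64, true), (8, 97, true), (7, 72, true), (6, 61, true), (5, 51, true), (4, 42, true), (8, 101, true), (7, 88, true), (9, 102, true), (8, 89, true), (10, 104, true), (9, 88, true), (8, 76, true), (7, 65, true), (8, 89, true), (7, 77, true), (7, 85, true), (6, 52, true), (5, 43, true), (8, 86, true), (7, 53, true), (6, 44, true), (7, 87, true), (6, 54, true), (7, 103, true), (6, 90, true), (6, 103, true), (7, 104, true), (6, 86, true), (7, 88, true), (8, 89, true), (9, 87, true),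 (8, 75, true), (7, 64, true), (10, 88, true), (9, 76, true), (8, 65, true), (9, 90, true), (8, 68, true), (7, 47, true), (6, 38, true), (5, 30, true), (4, 23, true), (3, 17, true), (2, 12, true), (1, 8, true), (0, 5, true), (2, 94, true), (1, 81, true), (0, 18, true), (3, 103, true), (4, 104, true), (3, 84, true), (2, 72, true), (5, 95, true), (4, 82, true), (3, 70, true), (2, 25, true), (1, 19, true), (3, 97, true), (4, 103, true), (5, 104, true), (4, 89, true), (5, 90, true), (5, 103, true), (6, 104, true), (5, 83, true), (4, 71, true), (3, 26, true), (2, 20, true), (2, 97, true), (3, 103, true), (4, 104, true), (3, 89, true), (4, 90, true), (5, 96, true), (4, 83, true), (3, 71, true), (2, 26, true), (5, 102, true), (4, 89, true), (6, 103, true), (5, 90, true), (5, 104, true), (4, 72, true), (3, 27, true), (4, 102, true), (3, 89, true), (5, 102, true), (4, 89, true), (3, 77, true), (4, 103, true), (3,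 90, true), (3, 98, true), (4, 100, true), (5, 102, true), (6, 103, true), (7, 99, true), (6, 86, true), (5, 74, true), (4, 53, true), (8, 101, true), (7, 88, true), (6, 76, true), (9, 102, true), (8, 89, true), (7, 77, true), (8, 100, true), (7, 87, true), (6, 64, true), (5, 54, true), (6, 101, true), (5, 88, true), (7, 103, true), (6, 90, true), (6, 104, true), (6, 102, true), (7, 103, true), (8, 104, true), (7, 81, true), (6, 69, true), (5, 58, true), (4, 39, true), (3, 31, true), (2, 18, true), (1, 13, true), (0, 9, true), (0, 82, true), (1, 84, true), (2, 90, true), (1, 26, true), (4, 102, true), (3, 89, true), (5, 104, true), (4, 85, true), (3, 73, true), (5, 89, true), (4, 77, true), (4, 90, true), (4, 99, true), (5, 102, true), (6, 101, true), (5, 76, true), (7, 103, true), (8, 104, true), (7, 89, true), (6, 77, true), (6, 90, true), (5, 59, true), (4, 40, true), (3, 32, true), (2, 25, true), (1,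 19, true), (0, 14, true), (0, 83, true), (2, 97, true), (1, 84, true), (3, 103, true), (2, 90, true), (2, 104, true), (4, 86, true), (3, 53, true), (5, 88, true), (6, 89, true), (8, 101, true), (7, 88, true), (6, 76, true), (5, 65, true), (7, 103, true), (6, 90, true), (6, 104, true), (5, 71, true), (4, 50, true), (3, 41, true), (2, 33, true), (1, 26, true), (0, 20, true), (0, 97, true), (1, 103, true), (2, 104, true), (1, 85, true), (3, 99, true), (2, 86, true), (4, 102, true), (3, 89, true), (5, 100, true), (4, 87, true), (3, 75, true), (6, 102, true), (5, 89, true), (4, 77, true), (5, 97, true), (4, 84, true), (3, 51, true), (2, 42, true), (1, 34, true), (0, 27, true), (1, 98, true), (0, 85, true), (2, 102, true), (1, 89, true), (3, 103, true), (2, 90, true), (2, 104, true), (1, 74, true), (2, 75, true), (5, 103, true), (4, 90, true), (4, 104, true), (3, 73, true), (2, 52, true), (1, 43, true), (0,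 35, true), (1, 86, true), (0, 74, true), (2, 87, true), (1, 75, true), (3, 89, true), (2, 77, true), (2, 89, true), (3, 90, true)]),
    ([16, 3, 7, 0, 1], [(0, 127, true), (8, 125, true), (7, 79, true), (6, 67, true), (5, 46, true), (4, 22, true), (3, 16, true), (2, 11, true), (1, 4, true), (0, 2, true), (2, 68, true), (1, 30, true), (0, 8, true), (3, 98, true), (4, 100, true), (5, 102, true), (6, 103, true), (7, 102, true), (6, 89, true), (5, 77, true), (6, 103, true), (5, 90, true), (5, 104, true), (4, 48, true), (3, 31, true), (2, 24, true), (1, 9, true), (1, 84, true), (2, 90, true), (2, 98, true), (3, 102, true), (4, 103, true), (5, 104, true), (4, 87, true), (3, 75, true), (5, 89, true), (4, 77, true), (4, 90, true), (4, 96, true), (3, 50, true), (2, 33, true), (1, 26, true), (4, 98, true), (3, 85, true), (5, 104, true), (4, 87, true), (6, 98, true), (5, 85, true), (4, 52, true), (3, 35, true),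 (4, 87, true), (3, 75, true), (5, 90, true), (5, 104, true), (4, 70, true), (3, 49, true), (2, 25, true), (1, 19, true), (3, 97, true), (4, 103, true), (5, 104, true), (4, 87, true), (5, 90, true), (5, 102, true), (6, 103, true), (7, 104, true), (6, 83, true), (5, 71, true), (4, 50, true), (3, 26, true), (2, 20, true), (2, 97, true), (3, 103, true), (4, 104, true), (3, 87, true), (4, 89, true), (5, 90, true), (6, 96, true), (5, 83, true), (4, 71, true), (3, 50, true), (2, 26, true), (5, 100, true), (4, 87, true), (6, 102, true), (5, 89, true), (7, 103, true), (6, 90, true), (6, 104, true), (5, 72, true), (4, 51, true), (3, 27, true), (4, 100, true), (3, 87, true), (5, 103, true), (4, 90, true), (4, 104, true), (4, 75, true), (3, 54, true), (4, 102, true), (3, 89, true), (5, 102, true), (4, 89, true), (3, 77, true), (4, 104, true), (3, 84, true), (4, 88, true), (5, 89, true), (6, 87, true), (5, 75, true),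 (4, 64, true), (7, 88, true), (6, 76, true), (5, 65, true), (6, 89, true), (5, 77, true), (5, 90, true), (5, 103, true), (6, 93, true), (5, 80, true), (4, 47, true), (3, 23, true), (2, 17, true), (1, 12, true), (0, 5, true), (2, 95, true), (1, 82, true), (0, 19, true), (2, 103, true), (3, 104, true), (2, 83, true), (1, 20, true), (1, 103, true), (2, 103, true), (1, 90, true), (1, 104, true), (4, 87, true), (3, 75, true), (6, 103, true), (5, 90, true), (5, 104, true), (4, 76, true), (5, 77, true)], [(2, 28, true), (1, 6, true), (3, 73, true), (4, 74, true), (5, 75, true), (6, 77, true), (6, 79, true), (5, 46, true), (4, 37, true), (3, 29, true), (2, 7, true), (7, 98, true), (6, 85, true), (5, 52, true), (4, 43, true), (8, 99, true), (7, 86, true), (6, 53, true), (5, 44, true), (7, 100, true), (6, 87, true), (5, 54, true), (6, 103, true), (5, 90, true), (5, 104, true), (6, 99, true), (5, 86, true), (7, 101,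 true), (6, 88, true), (8, 102, true), (7, 89, true), (9, 100, true), (8, 87, true), (7, 75, true), (6, 64, true), (10, 101, true), (9, 88, true), (8, 76, true), (7, 65, true), (9, 103, true), (8, 90, true), (0, 125, true), (5, 127, true), (13, 130, true), (21, 132, true), (29, 134, true), (4, 92, true), (3, 67, true), (2, 56, true), (1, 4, true), (0, 2, true), (2, 68, true), (1, 30, true), (0, 8, true), (3, 98, true), (4, 100, true), (5, 102, true), (6, 103, true), (7, 102, true), (6, 89, true), (5, 77, true), (6, 103, true), (5, 90, true), (5, 104, true), (4, 48, true), (3, 31, true), (2, 24, true), (1, 9, true), (1, 84, true), (2, 90, true), (2, 98, true), (3, 102, true), (4, 103, true), (5, 104, true), (4, 87, true), (3, 75, true), (5, 89, true), (4, 77, true), (4, 90, true), (4, 96, true), (3, 50, true), (2, 33, true), (1, 26, true), (4, 98, true), (3, 85, true), (5, 104, true), (4, 87, true), (6,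 98, true), (5, 85, true), (4, 52, true), (3, 35, true), (4, 87, true), (3, 75, true), (5, 90, true), (5, 104, true), (4, 76, true), (5, 77, true), (6, 102, true), (5, 89, true), (7, 103, true), (6, 90, true), (6, 104, true), (6, 93, true), (5, 68, true), (4, 57, true), (3, 47, true), (2, 23, true), (1, 17, true), (0, 5, true), (2, 96, true), (1, 83, true), (0, 20, true), (0, 103, true), (1, 104, true), (0, 84, true), (1, 89, true), (2, 90, true), (1, 75, true), (3, 101, true), (2, 76, true), (4, 102, true), (3, 77, true), (3, 103, true), (4, 104, true), (3, 89, true), (4, 90, true), (4, 104, true), (3, 70, true), (2, 59, true), (1, 49, true), (0, 25, true), (3, 100, true), (2, 87, true), (4, 103, true), (3, 90, true), (3, 104, true), (5, 102, true), (4, 89, true), (6, 103, true), (5, 90, true), (5, 104, true), (4, 71, true), (3, 60, true), (2, 50, true), (1, 26, true), (4, 100, true), (3, 87, true), (5,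 101, true), (4, 88, true), (6, 103, true), (5, 90, true), (5, 104, true), (5, 72, true), (4, 61, true), (3, 51, true), (2, 27, true), (3, 100, true), (2, 87, true), (4, 103, true), (3, 90, true), (3, 104, true), (4, 75, true), (3, 64, true), (2, 54, true), (3, 101, true), (2, 88, true), (4, 102, true), (3, 89, true), (5, 102, true), (4, 89, true), (3, 77, true), (4, 103, true), (3, 90, true), (3, 92, true), (2, 56, true), (1, 16, true), (0, 11, true), (4, 96, true), (3, 83, true), (2, 20, true), (2, 103, true), (3, 104, true), (2, 84, true), (3, 87, true), (4, 89, true), (6, 101, true), (5, 88, true), (4, 76, true), (7, 102, true), (6, 89, true), (5, 77, true), (6, 103, true), (5, 90, true), (5, 104, true), (5, 93, true), (4, 57, true), (3, 47, true), (2, 23, true), (1, 12, true), (5, 97, true), (4, 84, true), (6, 102, true), (5, 89, true), (7, 103, true), (6, 90, true), (6, 100, true), (5, 75, true),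 (7, 104, true), (6, 76, true), (7, 77, true), (8, 104, true), (7, 81, true), (6, 58, true), (5, 48, true), (4, 24, true), (3, 18, true), (2, 13, true), (5, 83, true), (4, 26, true), (7, 103, true), (6, 90, true), (6, 102, true), (7, 104, true), (6, 72, true), (5, 27, true), (6, 102, true), (5, 89, true), (7, 103, true), (6, 90, true), (6, 104, true), (5, 75, true), (6, 77, true), (7, 101, true), (6, 88, true), (8, 103, true), (7, 90, true), (7, 104, true), (7, 82, true), (6, 59, true), (5, 49, true), (4, 19, true), (3, 14, true), (3, 83, true), (5, 100, true), (4, 87, true), (6, 103, true), (5, 90, true), (5, 104, true), (7, 103, true), (6, 90, true), (6, 96, true), (5, 60, true), (4, 50, true), (3, 20, true), (3, 100, true), (4, 101, true), (5, 103, true), (6, 104, true), (6, 97, true), (5, 84, true), (4, 61, true), (3, 51, true), (6, 101, true), (5, 88, true), (7, 103, true), (6, 90, true), (6, 104,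 true), (5, 62, true), (4, 52, true), (7, 67, true), (6, 56, true), (5, 46, true), (4, 29, true), (3, 22, true), (2, 7, true), (1, 4, true), (0, 2, true), (2, 68, true), (1, 30, true), (0, 8, true), (3, 98, true), (4, 100, true), (5, 102, true), (6, 103, true), (7, 102, true), (6, 89, true), (5, 77, true), (6, 103, true), (5, 90, true), (5, 104, true), (4, 48, true), (3, 31, true), (2, 24, true), (1, 9, true), (1, 84, true), (2, 90, true), (2, 98, true), (3, 102, true), (4, 103, true), (5, 104, true), (4, 87, true), (3, 75, true), (5, 89, true), (4, 77, true), (4, 90, true), (4, 96, true), (3, 50, true), (2, 33, true), (1, 26, true), (4, 98, true), (3, 85, true), (5, 104, true), (4, 87, true), (6, 98, true), (5, 85, true), (4, 52, true), (3, 35, true), (4, 87, true), (3, 75, true), (5, 90, true), (5, 104, true), (4, 69, true), (3, 48, true), (2, 24, true), (1, 18, true), (4, 97, true), (3, 72, true), (5,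 103, true), (6, 104, true), (5, 87, true), (4, 75, true), (6, 89, true), (5, 77, true), (5, 90, true), (5, 102, true), (6, 99, true), (5, 74, true), (4, 53, true), (7, 100, true), (6, 75, true), (5, 54, true), (6, 102, true), (5, 89, true), (7, 104, true), (6, 90, true), (6, 97, true), (5, 72, true), (4, 42, true), (3, 27, true), (4, 99, true), (3, 86, true), (5, 102, true), (4, 89, true), (6, 104, true), (5, 88, true), (4, 76, true), (6, 89, true), (5, 77, true), (5, 85, true), (4, 62, true), (3, 43, true), (6, 86, true), (5, 63, true), (4, 44, true), (5, 87, true), (4, 64, true), (6, 90, true), (6, 100, true), (5, 64, true), (4, 54, true), (5, 101, true), (4, 88, true), (6, 104, true), (5, 88, true), (4, 65, true), (4, 88, true), (5, 89, true), (6, 90, true), (6, 102, true), (5, 77, true), (5, 103, true), (6, 104, true), (5, 80, true), (4, 57, true), (3, 30, true), (2, 17, true), (1, 8, true), (0, 5,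 true), (2, 94, true), (1, 81, true), (0, 18, true), (3, 103, true), (4, 104, true), (3, 84, true), (2, 72, true), (5, 96, true), (4, 83, true), (3, 71, true), (2, 26, true), (1, 20, true), (1, 97, true), (2, 103, true), (3, 104, true), (2, 89, true), (3, 90, true), (3, 98, true), (2, 73, true), (4, 100, true), (3, 75, true), (5, 102, true), (4, 77, true), (4, 103, true), (5, 101, true), (4, 88, true), (6, 102, true), (5, 89, true), (7, 103, true), (6, 90, true), (6, 104, true), (6, 81, true), (5, 69, true), (4, 58, true), (3, 48, true), (2, 31, true), (1, 24, true), (0, 9, true), (0, 84, true), (1, 90, true), (1, 98, true), (2, 102, true), (3, 103, true), (4, 104, true), (3, 87, true), (2, 75, true), (4, 89, true), (3, 77, true), (3, 90, true), (3, 101, true), (4, 103, true), (5, 104, true), (4, 89, true), (5, 90, true), (4, 70, true), (3, 59, true), (2, 49, true), (1, 32, true), (0, 25, true), (3, 98,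 true), (2, 85, true), (4, 100, true), (3, 87, true), (5, 103, true), (4, 90, true), (4, 100, true), (3, 54, true), (4, 104, true), (3, 90, true), (3, 101, true), (4, 103, true), (5, 104, true), (4, 89, true), (5, 90, true), (5, 96, true), (4, 71, true), (3, 60, true), (2, 33, true), (1, 26, true), (4, 98, true), (3, 85, true), (5, 104, true), (4, 88, true), (5, 90, true), (5, 102, true), (6, 104, true), (5, 73, true), (4, 62, true), (3, 35, true), (4, 88, true), (3, 76, true), (5, 89, true), (4, 77, true), (4, 87, true), (3, 64, true), (5, 90, true)]),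
    ([16, 3, 7, 1, 2], [(0, 127, true), (8, 126, true), (7, 78, true), (6, 66, true), (5, 45, true), (4, 21, true), (3, 15, true), (2, 10, true), (1, 3, true), (0, 1, true), (6, 93, true), (5, 68, true), (4, 47, true), (3, 38, true), (2, 30, true), (6, 86, true), (5, 74, true), (4, 53, true), (7, 88, true), (6, 76, true), (8, 89, true), (7, 77, true), (7, 87, true), (6, 64, true), (5, 54, true), (6, 101, true), (5, 88, true), (7, 103, true), (6, 90, true), (6, 104, true), (8, 104, true), (7, 81, true), (6, 69, true), (5, 58, true), (4, 39, true), (3, 31, true), (7, 99, true), (6, 86, true), (5, 74, true), (8, 102, true), (7, 89, true), (6, 77, true), (7, 101, true), (6, 88, true), (8, 103, true), (7, 90, true), (7, 104, true), (8, 83, true), (7, 71, true), (6, 60, true), (5, 41, true), (4, 33, true), (6, 99, true), (7, 102, true), (8, 101, true), (7, 76, true), (9, 103, true), (10, 104, true), (9, 89,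 true), (8, 77, true), (8, 90, true), (7, 64, true), (8, 65, true), (8, 82, true), (7, 49, true), (6, 40, true), (5, 32, true), (4, 19, true), (6, 98, true), (7, 100, true), (8, 103, true), (9, 99, true), (8, 86, true), (7, 53, true), (10, 101, true), (9, 88, true), (11, 102, true), (10, 89, true), (12, 104, true), (11, 87, true), (10, 75, true), (9, 64, true), (8, 54, true), (9, 101, true), (8, 88, true), (10, 102, true), (9, 89, true), (11, 103, true), (10, 90, true), (10, 103, true), (11, 104, true), (10, 90, true), (9, 71, true), (8, 60, true), (7, 41, true), (6, 33, true), (5, 20, true), (5, 98, true), (6, 104, true), (7, 76, true), (10, 102, true), (9, 89, true), (8, 77, true), (9, 100, true), (8, 87, true), (7, 64, true), (10, 104, true), (9, 83, true), (8, 60, true), (7, 50, true), (6, 41, true), (5, 33, true), (7, 99, true), (8, 102, true), (9, 100, true), (8, 75, true), (10, 101, true), (9, 76,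 true), (11, 103, true), (12, 104, true), (11, 90, true), (10, 72, true), (9, 61, true), (8, 51, true), (7, 42, true), (6, 34, true), (10, 99, true), (9, 86, true), (8, 74, true), (11, 100, true), (10, 87, true), (9, 75, true), (12, 103, true), (11, 90, true), (11, 104, true), (10, 76, true), (11, 77, true), (12, 84, true), (11, 72, true), (10, 61, true), (9, 51, true), (8, 42, true), (7, 34, true), (6, 27, true), (7, 98, true), (6, 85, true), (8, 102, true), (7, 89, true), (9, 103, true), (8, 90, true), (8, 104, true), (7, 74, true), (8, 75, true), (11, 101, true), (10, 88, true), (9, 76, true), (12, 102, true), (11, 89, true), (10, 77, true), (11, 103, true), (10, 90, true), (10, 104, true), (9, 64, true), (8, 54, true), (9, 101, true), (8, 88, true), (10, 101, true), (9, 88, true), (8, 65, true), (9, 103, true), (8, 90, true), (8, 104, true), (10, 103, true), (9, 90, true), (9, 93, true), (8, 68, true),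 (7, 38, true), (6, 30, true), (5, 17, true), (4, 12, true), (3, 8, true), (2, 5, true), (4, 94, true), (3, 81, true), (2, 18, true), (5, 103, true), (6, 104, true), (5, 84, true), (4, 72, true), (7, 95, true), (6, 82, true), (5, 70, true), (4, 25, true), (3, 19, true), (5, 97, true), (6, 103, true), (7, 104, true), (6, 89, true), (7, 90, true), (7, 103, true), (8, 104, true), (7, 83, true), (6, 71, true), (5, 26, true), (4, 20, true), (4, 97, true), (5, 103, true), (6, 104, true), (5, 89, true), (6, 90, true), (7, 96, true), (6, 83, true), (5, 71, true), (4, 26, true), (7, 102, true), (6, 89, true), (8, 103, true), (7, 90, true), (7, 104, true), (6, 73, true), (7, 75, true), (8, 77, true), (8, 86, true), (7, 53, true), (9, 88, true), (10, 89, true), (11, 89, true), (10, 77, true), (10, 90, true), (10, 104, true), (9, 59, true), (8, 49, true), (7, 40, true), (6, 32, true), (5, 25, true), (4, 19, true),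 (3, 14, true), (3, 83, true), (5, 97, true), (4, 84, true), (6, 103, true), (5, 90, true), (5, 104, true), (7, 86, true), (6, 53, true), (8, 88, true), (9, 89, true), (11, 100, true), (10, 87, true), (9, 75, true), (8, 64, true), (7, 54, true), (8, 101, true), (7, 88, true), (9, 102, true), (8, 89, true), (10, 103, true), (9, 90, true), (9, 104, true), (10, 101, true), (9, 88, true), (8, 76, true), (7, 65, true), (9, 103, true), (8, 90, true), (8, 104, true), (7, 71, true), (6, 41, true), (5, 33, true), (4, 26, true), (3, 20, true), (3, 97, true), (4, 103, true), (5, 104, true), (4, 85, true), (6, 99, true), (5, 86, true), (7, 102, true), (6, 89, true), (8, 102, true), (7, 89, true), (6, 77, true), (7, 97, true), (6, 84, true), (5, 42, true), (4, 34, true), (3, 27, true), (4, 98, true), (3, 85, true), (5, 102, true), (4, 89, true), (6, 103, true), (5, 90, true), (5, 104, true), (4, 74, true), (7, 100,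 true), (6, 87, true), (5, 75, true), (8, 102, true), (7, 89, true), (6, 77, true), (7, 104, true)], [(2, 29, true), (1, 7, true), (6, 98, true), (5, 85, true), (4, 52, true), (3, 43, true), (7, 99, true), (6, 86, true), (5, 53, true), (4, 44, true), (6, 100, true), (5, 87, true), (4, 54, true), (5, 103, true), (4, 90, true), (4, 104, true), (5, 93, true), (4, 80, true), (3, 30, true), (2, 8, true), (5, 98, true), (6, 100, true), (7, 102, true), (8, 103, true), (9, 103, true), (8, 90, true), (8, 104, true), (8, 104, false), (8, 90, false), (9, 103, false), (6, 75, false), (7, 87, false), (8, 100, false), (6, 44, false), (7, 74, false), (8, 86, false), (9, 99, false), (6, 74, false), (7, 86, false), (8, 99, false), (4, 34, false), (0, 126, true), (8, 127, true), (16, 129, true), (26, 130, true), (34, 133, true), (35, 134, true), (7, 92, true), (6, 67, true), (5, 46, true), (4, 22, true), (3, 16, true), (2,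 11, true), (1, 4, true), (6, 95, true), (5, 32, true), (4, 19, true), (6, 98, true), (7, 100, true), (8, 103, true), (9, 104, true), (8, 83, true), (7, 50, true), (6, 33, true), (5, 20, true), (5, 98, true), (6, 104, true), (7, 90, true), (7, 96, true), (6, 50, true), (5, 33, true), (7, 100, true), (8, 104, true), (7, 51, true), (6, 34, true), (10, 100, true), (9, 87, true), (8, 75, true), (11, 103, true), (10, 90, true), (10, 104, true), (9, 75, true), (8, 54, true), (9, 102, true), (8, 89, true), (10, 102, true), (9, 89, true), (8, 77, true), (9, 104, true), (8, 84, true), (7, 34, true), (6, 27, true), (7, 98, true), (6, 85, true), (8, 102, true), (7, 89, true), (9, 103, true), (8, 90, true), (8, 104, true), (8, 88, true), (7, 76, true), (9, 89, true), (8, 77, true), (8, 87, true), (7, 64, true), (9, 88, true), (8, 65, true), (8, 89, true), (9, 90, true), (9, 104, true), (8, 68, true), (7, 47, true),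 (6, 30, true), (5, 17, true), (4, 12, true), (3, 8, true), (2, 5, true), (4, 94, true), (3, 81, true), (2, 18, true), (5, 103, true), (6, 104, true), (5, 84, true), (4, 72, true), (7, 95, true), (6, 82, true), (5, 70, true), (4, 25, true), (3, 19, true), (5, 97, true), (6, 103, true), (7, 104, true), (6, 89, true), (7, 90, true), (7, 103, true), (8, 104, true), (7, 83, true), (6, 71, true), (5, 26, true), (4, 20, true), (4, 97, true), (5, 103, true), (6, 104, true), (5, 89, true), (6, 90, true), (7, 96, true), (6, 83, true), (5, 71, true), (4, 26, true), (7, 102, true), (6, 89, true), (8, 103, true), (7, 90, true), (7, 104, true), (6, 73, true), (7, 75, true), (8, 77, true), (8, 87, true), (7, 54, true), (8, 103, true), (7, 90, true), (7, 104, true), (9, 95, true), (8, 82, true), (7, 70, true), (6, 32, true), (5, 25, true), (4, 19, true), (3, 14, true), (3, 83, true), (5, 97, true), (4, 84, true), (6,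 103, true), (5, 90, true), (5, 104, true), (7, 89, true), (8, 90, true), (8, 103, true), (9, 104, true), (8, 83, true), (7, 71, true), (6, 50, true), (5, 33, true), (4, 26, true), (3, 20, true), (3, 97, true), (4, 103, true), (5, 104, true), (4, 85, true), (6, 100, true), (5, 87, true), (7, 102, true), (6, 89, true), (8, 103, true), (7, 90, true), (7, 97, true), (6, 72, true), (5, 51, true), (4, 34, true), (3, 27, true), (4, 98, true), (3, 85, true), (5, 102, true), (4, 89, true), (6, 103, true), (5, 90, true), (5, 104, true), (4, 75, true), (7, 102, true), (6, 89, true), (5, 77, true), (6, 104, true), (5, 87, true), (4, 54, true), (5, 103, true), (4, 90, true), (4, 102, true), (5, 103, true), (6, 92, true), (5, 79, true), (4, 67, true), (3, 29, true), (2, 7, true), (1, 2, true), (3, 69, true), (2, 31, true), (1, 9, true), (1, 85, true), (2, 89, true), (3, 90, true), (3, 102, true), (2, 77, true), (2,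 99, true), (3, 100, true), (4, 103, true), (5, 104, true), (4, 85, true), (3, 52, true), (2, 43, true), (1, 35, true), (2, 86, true), (1, 74, true), (3, 87, true), (2, 75, true), (4, 90, true), (3, 74, true), (2, 53, true), (1, 44, true), (2, 75, true), (1, 54, true), (2, 102, true), (1, 89, true), (3, 103, true), (2, 90, true), (2, 104, true), (1, 77, true), (2, 103, true), (1, 90, true), (1, 104, true), (9, 79, true), (8, 46, true), (7, 37, true), (6, 29, true), (5, 22, true), (4, 16, true), (3, 11, true), (2, 7, true), (1, 4, true), (6, 94, true), (5, 31, true), (4, 18, true), (3, 9, true), (3, 83, true), (4, 89, true), (6, 98, true), (5, 85, true), (4, 73, true), (7, 102, true), (6, 89, true), (5, 77, true), (6, 103, true), (5, 90, true), (5, 104, true), (5, 99, true), (6, 100, true), (7, 103, true), (8, 104, true), (7, 82, true), (6, 49, true), (5, 40, true), (4, 32, true), (3, 19, true), (5, 98,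 true), (6, 100, true), (7, 103, true), (8, 99, true), (7, 86, true), (6, 53, true), (9, 101, true), (8, 88, true), (10, 102, true), (9, 89, true), (11, 104, true), (10, 87, true), (9, 75, true), (8, 64, true), (7, 54, true), (8, 101, true), (7, 88, true), (9, 102, true), (8, 89, true), (10, 103, true), (9, 90, true), (9, 103, true), (10, 104, true), (9, 90, true), (8, 71, true), (7, 60, true), (6, 41, true), (5, 33, true), (4, 20, true), (4, 98, true), (5, 104, true), (6, 76, true), (9, 102, true), (8, 89, true), (7, 77, true), (8, 103, true), (7, 90, true), (7, 104, true), (6, 60, true), (5, 41, true), (4, 33, true), (6, 99, true), (7, 102, true), (8, 101, true), (7, 76, true), (9, 103, true), (10, 104, true), (9, 84, true), (8, 72, true), (7, 61, true), (6, 42, true), (5, 34, true), (9, 99, true), (8, 86, true), (7, 74, true), (10, 101, true), (9, 88, true), (8, 76, true), (11, 102, true), (10, 89, true),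 (9, 77, true), (10, 103, true), (9, 90, true), (9, 100, true), (8, 64, true), (10, 102, true), (11, 104, true), (10, 72, true), (9, 61, true), (8, 51, true), (7, 42, true), (6, 34, true), (5, 27, true), (6, 98, true), (5, 85, true), (7, 102, true), (6, 89, true), (8, 103, true), (7, 90, true), (7, 104, true), (6, 74, true), (7, 75, true), (10, 101, true), (9, 88, true), (8, 76, true), (11, 102, true), (10, 89, true), (9, 77, true), (10, 101, true), (9, 88, true), (8, 65, true), (9, 102, true), (8, 89, true), (10, 98, true), (9, 85, true), (8, 73, true), (7, 52, true), (6, 43, true), (5, 35, true), (6, 86, true), (5, 74, true), (7, 87, true), (6, 75, true), (8, 89, true), (7, 77, true), (7, 90, true), (7, 99, true), (6, 53, true), (5, 44, true), (6, 100, true), (5, 54, true), (6, 104, true), (5, 90, true), (5, 99, true), (6, 101, true), (7, 102, true), (8, 100, true), (7, 75, true), (6, 64, true), (9, 101,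 true), (8, 76, true), (7, 65, true), (8, 103, true), (9, 93, true), (8, 80, true), (7, 68, true), (6, 47, true), (5, 38, true), (4, 17, true), (3, 12, true), (2, 5, true), (4, 95, true), (3, 82, true), (2, 19, true), (4, 103, true), (5, 104, true), (4, 83, true), (3, 20, true), (3, 103, true), (4, 103, true), (3, 90, true), (3, 104, true), (6, 75, true), (5, 64, true), (8, 102, true), (7, 77, true), (7, 103, true), (8, 104, true), (7, 90, true), (7, 94, true), (6, 58, true), (5, 48, true), (4, 39, true), (3, 18, true), (2, 13, true), (5, 83, true), (4, 26, true), (7, 103, true), (6, 90, true), (6, 102, true), (7, 104, true), (6, 74, true), (7, 77, true), (10, 101, true), (9, 88, true), (8, 76, true), (11, 103, true), (10, 90, true), (10, 104, true), (10, 95, true), (9, 70, true), (8, 59, true), (7, 49, true), (6, 40, true), (5, 25, true), (4, 19, true), (3, 14, true), (3, 83, true), (5, 97, true), (4,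 84, true), (6, 103, true), (5, 90, true), (5, 104, true), (8, 100, true), (7, 75, true), (6, 64, true), (9, 103, true), (10, 104, true), (9, 88, true), (8, 76, true), (7, 65, true), (8, 90, true), (8, 102, true), (7, 77, true), (7, 103, true), (8, 104, true), (8, 96, true), (7, 83, true), (6, 50, true), (5, 41, true), (4, 26, true), (3, 20, true), (3, 97, true), (4, 103, true), (5, 104, true), (4, 86, true), (5, 89, true), (6, 87, true), (5, 75, true), (7, 90, true), (7, 97, true), (6, 72, true), (5, 51, true), (4, 42, true), (3, 27, true), (4, 99, true), (3, 86, true), (5, 100, true), (4, 87, true), (6, 103, true), (5, 90, true), (5, 104, true), (6, 98, true), (5, 73, true), (4, 52, true), (3, 43, true), (7, 102, true), (6, 77, true), (6, 103, true), (7, 104, true)]),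
    ([16, 3, 7, 3, 7], [(0, 127, true), (8, 127, true), (7, 79, true), (6, 67, true), (5, 46, true), (4, 22, true), (3, 16, true), (2, 11, true), (1, 4, true), (0, 2, true), (2, 68, true), (1, 30, true), (0, 8, true), (3, 98, true), (4, 100, true), (5, 102, true), (6, 103, true), (7, 102, true), (6, 89, true), (5, 77, true), (6, 103, true), (5, 90, true), (5, 104, true), (4, 48, true), (3, 31, true), (2, 24, true), (1, 9, true), (1, 84, true), (2, 90, true), (2, 98, true), (3, 102, true), (4, 103, true), (5, 104, true), (4, 87, true), (3, 75, true), (5, 89, true), (4, 77, true), (4, 90, true), (4, 96, true), (3, 50, true), (2, 33, true), (1, 26, true), (4, 98, true), (3, 85, true), (5, 104, true), (4, 87, true), (6, 98, true), (5, 85, true), (4, 52, true), (3, 35, true), (4, 87, true), (3, 75, true), (5, 90, true), (5, 104, true), (4, 70, true), (3, 49, true), (2, 25, true), (1, 19, true), (3, 97, true),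 (4, 103, true), (5, 104, true), (4, 87, true), (5, 90, true), (5, 102, true), (6, 103, true), (7, 104, true), (6, 83, true), (5, 71, true), (4, 50, true), (3, 26, true), (2, 20, true), (2, 97, true), (3, 103, true), (4, 104, true), (3, 87, true), (4, 89, true), (5, 90, true), (6, 96, true), (5, 83, true), (4, 71, true), (3, 50, true), (2, 26, true), (5, 100, true), (4, 87, true), (6, 102, true), (5, 89, true), (7, 103, true), (6, 90, true), (6, 104, true), (5, 72, true), (4, 51, true), (3, 27, true), (4, 100, true), (3, 87, true), (5, 103, true), (4, 90, true), (4, 104, true), (4, 75, true), (3, 54, true), (4, 102, true), (3, 89, true), (5, 102, true), (4, 89, true), (3, 77, true), (4, 104, true), (3, 84, true), (4, 88, true), (5, 89, true), (6, 87, true), (5, 75, true), (4, 64, true), (7, 88, true), (6, 76, true), (5, 65, true), (6, 89, true), (5, 77, true), (5, 90, true), (5, 103, true), (6, 93, true),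 (5, 80, true), (4, 47, true), (3, 23, true), (2, 17, true), (1, 12, true), (0, 5, true), (2, 95, true), (1, 82, true), (0, 19, true), (2, 103, true), (3, 104, true), (2, 83, true), (1, 20, true), (1, 103, true), (2, 103, true), (1, 90, true), (1, 104, true), (4, 87, true), (3, 75, true), (6, 103, true), (5, 90, true), (5, 104, true), (4, 70, true), (3, 49, true), (2, 25, true), (1, 19, true), (0, 14, true), (0, 83, true), (2, 97, true), (1, 84, true), (3, 103, true), (2, 90, true), (2, 104, true), (4, 102, true), (3, 89, true), (5, 103, true), (4, 90, true), (4, 104, true), (3, 71, true), (2, 50, true), (1, 26, true), (0, 20, true), (0, 97, true), (1, 103, true), (2, 104, true), (1, 87, true), (2, 89, true), (3, 84, true), (2, 72, true), (1, 51, true), (0, 27, true), (1, 100, true), (0, 87, true), (2, 103, true), (1, 90, true), (1, 104, true), (2, 87, true), (1, 75, true), (0, 54, true), (1, 102, true),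 (0, 89, true), (2, 103, true), (1, 90, true), (1, 102, true), (0, 77, true), (0, 103, true)], [(2, 31, true), (1, 9, true), (1, 85, true), (2, 89, true), (3, 90, true), (3, 98, true), (2, 73, true), (1, 35, true), (2, 89, true), (1, 77, true), (0, 133, true), (1, 134, true)]),
    ([16, 4, 5, 0, 1], [(0, 128, true), (4, 125, true), (3, 29, true), (2, 7, true), (1, 2, true), (3, 69, true), (2, 31, true), (1, 9, true), (1, 85, true), (2, 89, true), (3, 90, true), (3, 102, true), (2, 77, true), (2, 99, true), (3, 100, true), (4, 103, true), (5, 104, true), (4, 85, true), (3, 52, true), (2, 43, true), (1, 35, true), (2, 86, true), (1, 74, true), (3, 87, true), (2, 75, true), (4, 90, true), (3, 74, true), (2, 53, true), (1, 44, true), (2, 75, true), (1, 54, true), (2, 102, true), (1, 89, true), (3, 103, true), (2, 90, true), (2, 104, true), (1, 68, true), (4, 101, true), (3, 88, true), (2, 76, true), (5, 102,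 true), (4, 89, true), (3, 77, true), (4, 104, true)], [(2, 15, true), (1, 10, true), (5, 96, true), (4, 50, true), (3, 20, true), (3, 100, true), (4, 104, true), (3, 51, true), (6, 102, true), (5, 89, true), (7, 103, true), (6, 90, true), (6, 92, true), (5, 67, true), (4, 46, true), (3, 22, true), (2, 11, true), (6, 97, true), (5, 84, true), (7, 101, true), (6, 88, true), (8, 102, true), (7, 89, true), (9, 100, true), (8, 87, true), (7, 75, true), (6, 64, true), (10, 101, true), (9, 88, true), (8, 76, true), (7, 65, true), (9, 102, true), (8, 89, true), (7, 77, true), (8, 103, true), (7, 90, true), (7, 104, true), (6, 44, false), (0, 125, true), (5, 128, true), (9, 129, true), (19, 130, true), (27, 134, true), (4, 91, true), (3, 66, true), (2, 55, true), (1, 3, true), (0, 1, true), (6, 93, true), (5, 68, true), (4, 47, true), (3, 38, true), (2, 30, true), (6, 86, true), (5, 74, true), (4, 53, true), (7,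 88, true), (6, 76, true), (8, 89, true), (7, 77, true), (7, 87, true), (6, 64, true), (5, 54, true), (6, 101, true), (5, 88, true), (7, 103, true), (6, 90, true), (6, 104, true), (8, 104, true), (7, 81, true), (6, 69, true), (5, 58, true), (4, 39, true), (3, 31, true), (7, 99, true), (6, 86, true), (5, 74, true), (8, 102, true), (7, 89, true), (6, 77, true), (7, 101, true), (6, 88, true), (8, 103, true), (7, 90, true), (7, 104, true), (8, 83, true), (7, 71, true), (6, 60, true), (5, 41, true), (4, 33, true), (6, 99, true), (7, 102, true), (8, 101, true), (7, 76, true), (9, 103, true), (10, 104, true), (9, 89, true), (8, 77, true), (8, 90, true), (7, 64, true), (8, 65, true), (8, 88, true), (9, 89, true), (10, 90, true), (10, 102, true), (9, 77, true), (9, 103, true), (10, 104, true), (10, 92, true), (9, 79, true), (8, 56, true), (7, 46, true), (6, 37, true), (5, 29, true), (4, 16, true), (3, 7, true),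 (2, 4, true), (1, 2, true), (3, 68, true), (2, 30, true), (1, 8, true), (4, 98, true), (5, 100, true), (6, 102, true), (7, 103, true), (8, 102, true), (7, 89, true), (6, 77, true), (7, 103, true), (6, 90, true), (6, 104, true), (5, 48, true), (4, 31, true), (3, 24, true), (2, 9, true), (2, 84, true), (3, 90, true), (3, 98, true), (4, 102, true), (5, 103, true), (6, 104, true), (5, 87, true), (4, 75, true), (6, 89, true), (5, 77, true), (5, 90, true), (5, 96, true), (4, 50, true), (3, 33, true), (2, 26, true), (5, 98, true), (4, 85, true), (6, 104, true), (5, 87, true), (7, 98, true), (6, 85, true), (5, 52, true), (4, 35, true), (5, 87, true), (4, 75, true), (6, 90, true), (6, 104, true), (5, 69, true), (4, 48, true), (3, 24, true), (2, 18, true), (5, 97, true), (4, 72, true), (6, 103, true), (7, 104, true), (6, 87, true), (5, 75, true), (7, 89, true), (6, 77, true), (6, 90, true), (6, 102, true), (7, 99,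 true), (6, 74, true), (5, 53, true), (8, 100, true), (7, 75, true), (6, 54, true), (7, 102, true), (6, 89, true), (8, 104, true), (7, 90, true), (7, 96, true), (6, 71, true), (5, 41, true), (4, 26, true), (3, 20, true), (3, 97, true), (4, 103, true), (5, 104, true), (4, 86, true), (5, 89, true), (6, 89, true), (5, 77, true), (6, 97, true), (5, 84, true), (4, 42, true), (3, 27, true), (4, 99, true), (3, 86, true), (5, 103, true), (4, 90, true), (4, 104, true), (6, 98, true), (5, 73, true), (4, 52, true), (3, 43, true), (7, 99, true), (6, 74, true), (5, 53, true), (4, 44, true), (6, 100, true), (5, 75, true), (4, 54, true), (5, 102, true), (4, 89, true), (6, 104, true), (5, 90, true), (5, 99, true), (4, 74, true), (6, 101, true), (5, 76, true), (7, 102, true), (6, 77, true), (6, 100, true), (5, 64, true), (7, 101, true), (6, 65, true), (6, 101, true), (7, 102, true), (8, 103, true), (9, 104, true), (8, 90,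 true), (8, 94, true), (7, 69, true), (6, 58, true), (5, 48, true), (4, 39, true), (3, 31, true), (2, 9, true), (2, 85, true), (3, 89, true), (4, 90, true), (4, 99, true), (3, 74, true), (5, 102, true), (4, 77, true), (4, 100, true), (5, 102, true), (6, 103, true), (7, 104, true), (6, 88, true), (5, 76, true), (7, 90, true), (7, 102, true), (6, 77, true), (6, 104, true), (5, 62, true), (4, 52, true), (3, 43, true), (2, 35, true), (3, 86, true), (2, 74, true), (4, 87, true), (3, 75, true), (5, 88, true), (4, 76, true), (6, 79, true), (5, 67, true), (4, 56, true), (3, 46, true), (2, 37, true), (1, 4, true), (6, 99, true), (7, 101, true), (8, 102, true), (9, 100, true), (8, 75, true), (7, 64, true), (10, 101, true), (9, 76, true), (8, 65, true), (9, 101, true), (8, 76, true), (10, 102, true), (9, 77, true), (9, 103, true), (10, 104, true), (9, 89, true), (10, 90, true), (10, 103, true), (11, 93, true), (10,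 80, true), (9, 68, true), (8, 57, true), (7, 47, true), (6, 38, true), (5, 30, true), (4, 17, true), (3, 8, true), (2, 5, true), (4, 94, true), (3, 81, true), (2, 18, true), (5, 103, true), (6, 104, true), (5, 84, true), (4, 72, true), (7, 96, true), (6, 83, true), (5, 71, true), (4, 26, true), (3, 20, true), (3, 97, true), (4, 103, true), (5, 104, true), (4, 89, true), (5, 90, true), (5, 98, true), (4, 73, true), (6, 100, true), (5, 75, true), (7, 102, true), (6, 77, true), (6, 103, true), (7, 99, true), (6, 86, true), (5, 53, true), (8, 101, true), (7, 88, true), (9, 102, true), (8, 89, true), (10, 100, true), (9, 87, true), (8, 75, true), (7, 64, true), (6, 54, true), (7, 101, true), (6, 88, true), (8, 102, true), (7, 89, true), (9, 103, true), (8, 90, true), (8, 104, true), (8, 101, true), (7, 76, true), (6, 65, true), (7, 102, true), (6, 77, true), (6, 103, true), (7, 104, true), (6, 89, true), (7,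 90, true), (7, 103, true), (8, 104, true), (7, 81, true), (6, 69, true), (5, 39, true), (4, 31, true), (3, 24, true), (2, 9, true), (2, 84, true), (3, 90, true), (3, 98, true), (4, 102, true), (5, 103, true), (6, 104, true), (5, 86, true), (4, 74, true), (6, 89, true), (5, 77, true), (5, 89, true), (6, 90, true), (5, 70, true), (4, 40, true), (3, 32, true), (2, 25, true), (5, 98, true), (4, 85, true), (6, 100, true), (5, 87, true), (7, 103, true), (6, 90, true), (6, 99, true), (5, 53, true), (7, 101, true), (8, 102, true), (9, 104, true), (8, 77, true), (9, 96, true), (8, 83, true), (7, 60, true), (6, 50, true), (5, 41, true), (4, 33, true), (3, 26, true), (6, 98, true), (5, 85, true), (7, 104, true), (6, 86, true), (7, 89, true), (8, 87, true), (7, 75, true), (9, 88, true), (8, 76, true), (10, 90, true), (10, 103, true), (11, 104, true), (10, 84, true), (9, 72, true), (8, 61, true), (7, 51, true), (6,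 42, true), (5, 34, true), (4, 27, true), (5, 98, true), (4, 85, true), (6, 102, true), (5, 89, true), (7, 103, true), (6, 90, true), (6, 104, true), (5, 74, true), (6, 75, true), (9, 101, true), (8, 88, true), (7, 76, true), (10, 102, true), (9, 89, true), (8, 77, true), (9, 103, true), (8, 90, true), (8, 98, true), (7, 62, true), (6, 52, true), (5, 43, true), (4, 35, true), (5, 86, true), (4, 74, true), (6, 87, true), (5, 75, true), (7, 88, true), (6, 76, true), (9, 99, true), (8, 86, true), (7, 74, true), (6, 63, true), (5, 53, true), (4, 44, true), (8, 100, true), (7, 87, true), (6, 75, true), (5, 64, true), (4, 54, true), (5, 101, true), (4, 88, true), (6, 102, true), (5, 89, true), (7, 103, true), (6, 90, true), (6, 104, true), (6, 79, true), (5, 67, true), (4, 56, true), (3, 16, true), (2, 11, true), (1, 2, true), (3, 70, true), (2, 32, true), (5, 89, true), (6, 90, true), (6, 96, true), (5, 71,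 true), (4, 50, true), (3, 33, true), (5, 100, true), (6, 102, true), (7, 104, true), (8, 96, true), (7, 83, true), (6, 71, true), (5, 50, true), (4, 33, true), (3, 20, true), (3, 98, true), (4, 104, true), (7, 97, true), (6, 84, true), (5, 72, true), (4, 51, true), (3, 34, true), (7, 100, true), (6, 87, true), (5, 75, true), (8, 103, true), (7, 90, true), (7, 104, true), (6, 77, true), (7, 100, true), (6, 87, true), (5, 54, true), (6, 103, true), (5, 90, true), (5, 104, true), (6, 101, true), (5, 76, true), (7, 102, true), (6, 77, true), (6, 103, true), (7, 104, true), (6, 89, true), (7, 90, true), (7, 103, true), (8, 93, true), (7, 80, true), (6, 68, true), (5, 57, true), (4, 30, true), (3, 23, true), (2, 12, true), (1, 8, true), (4, 95, true), (3, 25, true), (6, 104, true), (5, 83, true), (4, 26, true), (7, 103, true), (6, 90, true), (6, 103, true), (7, 104, true), (6, 84, true), (5, 27, true), (6, 103,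 true), (5, 90, true), (5, 102, true), (6, 103, true), (7, 98, true), (6, 85, true), (5, 73, true), (8, 100, true), (7, 87, true), (6, 75, true), (9, 102, true), (8, 89, true), (7, 77, true), (8, 103, true), (7, 90, true), (7, 101, true), (8, 102, true), (9, 103, true), (10, 104, true), (9, 89, true), (8, 77, true), (8, 90, true), (8, 103, true), (9, 104, true), (8, 81, true), (7, 58, true), (6, 48, true), (5, 31, true), (4, 18, true), (3, 13, true), (2, 9, true), (2, 82, true), (3, 84, true), (4, 90, true), (3, 26, true), (6, 102, true), (5, 89, true), (7, 104, true), (6, 85, true), (5, 73, true), (7, 89, true), (6, 77, true), (6, 90, true), (6, 100, true), (7, 102, true), (8, 103, true), (9, 104, true), (8, 88, true), (7, 76, true), (9, 90, true), (9, 103, true), (10, 95, true), (9, 82, true), (8, 70, true), (7, 59, true), (6, 49, true), (5, 32, true), (4, 25, true), (3, 19, true), (2, 14, true), (2,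 83, true), (4, 97, true), (3, 84, true), (5, 103, true), (4, 90, true), (4, 104, true), (6, 87, true), (5, 54, true), (6, 103, true), (5, 90, true), (5, 103, true), (6, 104, true), (5, 88, true), (6, 90, true), (6, 102, true), (7, 103, true), (8, 104, true), (7, 90, true), (7, 96, true), (6, 71, true), (5, 60, true), (4, 33, true), (3, 26, true), (2, 20, true), (2, 97, true), (3, 103, true), (4, 104, true), (3, 85, true), (5, 101, true), (4, 88, true), (6, 103, true), (5, 90, true), (5, 104, true), (6, 97, true), (5, 72, true), (4, 61, true), (3, 34, true), (2, 27, true), (3, 98, true), (2, 85, true), (4, 102, true), (3, 89, true), (5, 103, true), (4, 90, true), (4, 104, true), (3, 76, true), (4, 77, true), (4, 98, true), (3, 62, true), (2, 35, true), (3, 88, true), (2, 76, true), (5, 102, true), (4, 89, true), (3, 77, true), (4, 104, true)]),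
    ([16, 6, 8, 0, 1], [(0, 129, true), (10, 125, true), (9, 79, true), (8, 46, true), (7, 37, true), (6, 29, true), (5, 22, true), (4, 16, true), (3, 11, true), (2, 7, true), (1, 4, true), (0, 2, true), (2, 68, true), (1, 30, true), (0, 8, true), (3, 98, true), (4, 100, true), (5, 102, true), (6, 103, true), (7, 102, true), (6, 89, true), (5, 77, true), (6, 103, true), (5, 90, true), (5, 104, true), (4, 48, true), (3, 31, true), (2, 24, true), (1, 9, true), (1, 84, true), (2, 90, true), (2, 98, true), (3, 102, true), (4, 103, true), (5, 104, true), (4, 87, true), (3, 75, true), (5, 89, true), (4, 77, true), (4, 90, true), (4, 96, true), (3, 50, true), (2, 33, true), (1, 26, true), (4, 98, true), (3, 85, true), (5, 104, true), (4, 87, true), (6, 98, true), (5, 85, true), (4, 52, true), (3, 35, true), (4, 87, true), (3, 75, true), (5, 90, true), (5, 104, true), (4, 69, true), (3, 48, true), (2, 24, true),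 (1, 18, true), (4, 97, true), (3, 72, true), (5, 103, true), (6, 104, true), (5, 87, true), (4, 75, true), (6, 89, true), (5, 77, true), (5, 90, true), (5, 102, true), (6, 99, true), (5, 74, true), (4, 53, true), (7, 100, true), (6, 75, true), (5, 54, true), (6, 102, true), (5, 89, true), (7, 104, true), (6, 90, true), (6, 95, true), (5, 70, true), (4, 40, true), (3, 25, true), (2, 19, true), (4, 97, true), (5, 103, true), (6, 104, true), (5, 86, true), (6, 88, true), (7, 89, true), (9, 102, true), (8, 89, true), (7, 77, true), (8, 103, true), (7, 90, true), (7, 104, true), (7, 96, true), (6, 60, true), (5, 41, true), (4, 26, true), (3, 20, true), (3, 97, true), (4, 103, true), (5, 104, true), (4, 86, true), (5, 89, true), (6, 88, true), (5, 76, true), (7, 90, true), (7, 104, true), (8, 96, true), (7, 83, true), (6, 71, true), (5, 60, true), (4, 41, true), (3, 26, true), (6, 99, true), (5, 86, true), (7,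 102, true), (6, 89, true), (8, 101, true), (7, 88, true), (6, 76, true), (9, 103, true), (8, 90, true), (8, 104, true), (7, 77, true), (8, 97, true), (7, 84, true), (6, 61, true), (5, 42, true), (4, 27, true), (5, 99, true), (4, 86, true), (6, 101, true), (5, 88, true), (7, 103, true), (6, 90, true), (6, 104, true), (5, 64, true), (8, 97, true), (7, 72, true), (6, 61, true), (5, 51, true), (4, 42, true), (8, 101, true), (7, 88, true), (9, 102, true), (8, 89, true), (10, 104, true), (9, 88, true), (8, 76, true), (7, 65, true), (8, 89, true), (7, 77, true), (7, 85, true), (6, 52, true), (5, 43, true), (8, 86, true), (7, 53, true), (6, 44, true), (7, 87, true), (6, 54, true), (7, 103, true), (6, 90, true), (6, 103, true), (7, 104, true), (6, 86, true), (7, 88, true), (8, 89, true), (9, 87, true), (8, 75, true), (7, 64, true), (10, 88, true), (9, 76, true), (8, 65, true), (9, 90, true), (8, 68, true), (7,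 47, true), (6, 38, true), (5, 30, true), (4, 23, true), (3, 17, true), (2, 12, true), (1, 8, true), (0, 5, true), (2, 94, true), (1, 81, true), (0, 18, true), (3, 103, true), (4, 104, true), (3, 84, true), (2, 72, true), (5, 95, true), (4, 82, true), (3, 70, true), (2, 25, true), (1, 19, true), (3, 97, true), (4, 103, true), (5, 104, true), (4, 89, true), (5, 90, true), (5, 103, true), (6, 104, true), (5, 83, true), (4, 71, true), (3, 26, true), (2, 20, true), (2, 97, true), (3, 103, true), (4, 104, true), (3, 89, true), (4, 90, true), (5, 96, true), (4, 83, true), (3, 71, true), (2, 26, true), (5, 102, true), (4, 89, true), (6, 103, true), (5, 90, true), (5, 104, true), (4, 72, true), (3, 27, true), (4, 102, true), (3, 89, true), (5, 102, true), (4, 89, true), (3, 77, true), (4, 103, true), (3, 90, true), (3, 98, true), (4, 100, true), (5, 102, true), (6, 103, true), (7, 99, true), (6, 86, true), (5,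 74, true), (4, 53, true), (8, 101, true), (7, 88, true), (6, 76, true), (9, 102, true), (8, 89, true), (7, 77, true), (8, 100, true), (7, 87, true), (6, 64, true), (5, 54, true), (6, 101, true), (5, 88, true), (7, 103, true), (6, 90, true), (6, 104, true), (6, 102, true), (7, 103, true), (8, 104, true), (7, 88, true), (6, 76, true), (5, 65, true), (6, 89, true), (5, 77, true)], [(2, 36, true), (1, 21, true), (3, 99, true), (4, 101, true), (5, 102, true), (6, 92, true), (5, 67, true), (4, 56, true), (3, 37, true), (2, 22, true), (5, 74, true), (4, 63, true), (6, 76, true), (5, 65, true), (5, 77, true), (8, 102, true), (7, 89, true), (6, 77, true), (7, 103, true), (6, 90, true), (6, 104, true), (0, 125, true), (5, 129, true), (15, 131, true), (18, 134, true), (4, 92, true), (3, 67, true), (2, 56, true), (1, 4, true), (0, 2, true), (2, 68, true), (1, 30, true), (0, 8, true), (3, 98, true), (4, 100, true),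 (5, 102, true), (6, 103, true), (7, 102, true), (6, 89, true), (5, 77, true), (6, 103, true), (5, 90, true), (5, 104, true), (4, 48, true), (3, 31, true), (2, 24, true), (1, 9, true), (1, 84, true), (2, 90, true), (2, 98, true), (3, 102, true), (4, 103, true), (5, 104, true), (4, 87, true), (3, 75, true), (5, 89, true), (4, 77, true), (4, 90, true), (4, 96, true), (3, 50, true), (2, 33, true), (1, 26, true), (4, 98, true), (3, 85, true), (5, 104, true), (4, 87, true), (6, 98, true), (5, 85, true), (4, 52, true), (3, 35, true), (4, 87, true), (3, 75, true), (5, 90, true), (5, 104, true), (4, 76, true), (5, 77, true), (6, 102, true), (5, 89, true), (7, 103, true), (6, 90, true), (6, 104, true), (6, 93, true), (5, 68, true), (4, 57, true), (3, 47, true), (2, 23, true), (1, 17, true), (0, 5, true), (2, 96, true), (1, 83, true), (0, 20, true), (0, 103, true), (1, 104, true), (0, 84, true), (1, 89, true), (2,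 90, true), (1, 75, true), (3, 101, true), (2, 76, true), (4, 102, true), (3, 77, true), (3, 103, true), (4, 104, true), (3, 89, true), (4, 90, true), (4, 104, true), (3, 69, true), (2, 58, true), (1, 48, true), (0, 24, true), (3, 100, true), (2, 87, true), (4, 102, true), (3, 89, true), (5, 103, true), (4, 90, true), (4, 104, true), (3, 76, true), (6, 102, true), (5, 89, true), (4, 77, true), (5, 95, true), (4, 82, true), (3, 59, true), (2, 49, true), (1, 25, true), (4, 100, true), (3, 87, true), (5, 103, true), (4, 90, true), (4, 104, true), (6, 103, true), (5, 90, true), (5, 104, true), (4, 60, true), (3, 50, true), (2, 26, true), (5, 100, true), (4, 87, true), (6, 101, true), (5, 88, true), (7, 103, true), (6, 90, true), (6, 104, true), (5, 61, true), (4, 51, true), (3, 27, true), (4, 100, true), (3, 87, true), (5, 103, true), (4, 90, true), (4, 104, true), (4, 62, true), (3, 52, true), (5, 63, true),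 (4, 53, true), (6, 64, true), (5, 54, true), (6, 101, true), (5, 88, true), (7, 103, true), (6, 90, true), (6, 101, true), (5, 65, true), (5, 103, true), (6, 104, true)]),
    ([17, 1, 3, 1, 3], [(0, 135, true), (6, 135, true), (5, 81, true), (4, 58, true), (3, 31, true), (2, 24, true), (1, 13, true), (0, 9, true), (0, 82, true), (1, 84, true), (2, 90, true), (1, 27, true), (2, 103, true), (1, 90, true), (1, 104, true), (4, 101, true), (3, 88, true), (2, 76, true), (5, 103, true), (4, 90, true), (4, 104, true), (4, 82, true), (3, 70, true), (2, 59, true), (1, 32, true), (0, 14, true), (0, 85, true), (1, 87, true), (2, 90, true), (4, 102, true), (3, 89, true), (5, 103, true), (4, 90, true), (4, 104, true), (4, 84, true), (3, 72, true), (2, 61, true), (1, 51, true), (0, 34, true), (4, 100, true), (3, 87, true), (2, 75, true), (5, 103, true), (4, 90, true), (4, 104, true), (3, 76, true), (4, 77, true), (4,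 85, true), (3, 62, true), (2, 52, true), (1, 35, true), (2, 87, true), (1, 75, true), (3, 88, true), (2, 76, true), (4, 90, true), (3, 76, true), (2, 65, true)], [(2, 7, true), (1, 2, true), (3, 69, true), (2, 31, true), (1, 9, true), (1, 85, true), (2, 89, true), (3, 90, true), (3, 102, true), (2, 77, true), (2, 99, true), (3, 100, true), (4, 103, true), (5, 104, true), (4, 81, true), (3, 48, true), (2, 39, true), (1, 31, true), (5, 99, true), (4, 86, true), (3, 74, true), (6, 102, true), (5, 89, true), (4, 77, true), (5, 100, true), (4, 87, true), (6, 102, true), (5, 89, true), (7, 103, true), (6, 90, true), (6, 104, true), (5, 89, false), (4, 87, false), (3, 86, false), (2, 85, false), (3, 104, false), (2, 27, false), (3, 97, false), (2, 97, false), (2, 20, false), (0, 137, true), (9, 138, true), (18, 139, true), (22, 141, true), (31, 143, true), (8, 78, true), (7, 66, true), (6, 55, true), (5, 36,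 true), (4, 21, true), (3, 10, true), (2, 6, true), (1, 1, true), (0, 0, true), (4, 92, true), (3, 67, true), (2, 46, true), (1, 37, true), (0, 7, true), (5, 99, true), (4, 86, true), (3, 53, true), (2, 44, true), (4, 101, true), (3, 88, true), (5, 102, true), (4, 89, true), (6, 100, true), (5, 87, true), (4, 75, true), (3, 64, true), (2, 54, true), (3, 101, true), (2, 88, true), (4, 102, true), (3, 89, true), (5, 103, true), (4, 90, true), (4, 104, true), (3, 76, true), (2, 65, true), (2, 77, true), (3, 104, true), (2, 85, true), (3, 86, true), (4, 87, true), (5, 89, true), (7, 94, true), (6, 81, true), (5, 69, true), (4, 48, true), (3, 39, true), (2, 31, true), (1, 9, true), (1, 85, true), (2, 89, true), (3, 90, true), (3, 99, true), (2, 74, true), (4, 102, true), (3, 77, true), (3, 100, true), (4, 102, true), (5, 103, true), (6, 104, true), (5, 89, true), (4, 77, true), (4, 90, true), (4, 102, true),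 (5, 95, true), (4, 70, true), (3, 49, true), (2, 40, true), (1, 32, true), (4, 86, true), (3, 53, true), (5, 88, true), (6, 89, true), (8, 100, true), (7, 87, true), (6, 75, true), (5, 64, true), (4, 54, true), (5, 101, true), (4, 88, true), (6, 102, true), (5, 89, true), (7, 103, true), (6, 90, true), (6, 104, true), (7, 102, true), (6, 89, true), (5, 77, true), (6, 103, true), (5, 90, true), (5, 104, true), (5, 96, true), (4, 60, true), (3, 41, true), (2, 33, true), (4, 99, true), (5, 102, true), (6, 101, true), (5, 76, true), (7, 103, true), (8, 104, true), (8, 100, true), (7, 87, true), (6, 75, true), (5, 64, true), (9, 104, true), (8, 84, true), (7, 72, true), (6, 61, true), (5, 51, true), (4, 42, true), (3, 34, true), (7, 99, true), (6, 86, true), (5, 74, true), (8, 100, true), (7, 87, true), (6, 75, true), (9, 103, true), (8, 90, true), (8, 104, true), (7, 76, true), (8, 77, true), (9, 99, true),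 (8, 86, true), (7, 63, true), (6, 53, true), (5, 44, true), (8, 101, true), (7, 88, true), (6, 65, true), (7, 102, true), (6, 89, true), (8, 101, true), (7, 88, true), (6, 76, true), (9, 102, true), (8, 89, true), (7, 77, true), (8, 103, true), (7, 90, true), (7, 104, true), (9, 103, true), (8, 90, true), (8, 93, true), (7, 68, true), (6, 57, true), (5, 47, true), (4, 30, true), (3, 23, true), (2, 17, true), (1, 12, true), (5, 96, true), (4, 83, true), (3, 20, true), (3, 103, true), (4, 104, true), (3, 84, true), (4, 89, true), (5, 90, true), (4, 73, true), (5, 75, true), (6, 77, true), (6, 87, true), (5, 54, true), (6, 103, true), (5, 90, true), (5, 104, true), (8, 102, true), (7, 89, true), (6, 77, true), (7, 103, true), (6, 90, true), (6, 104, true), (6, 95, true), (5, 59, true), (4, 32, true), (3, 25, true), (2, 14, true), (2, 84, true), (3, 90, true), (3, 98, true), (4, 100, true), (5, 103, true),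 (6, 101, true), (5, 88, true), (7, 103, true), (6, 90, true), (6, 104, true), (6, 96, true), (5, 60, true), (4, 50, true), (3, 33, true), (2, 26, true), (5, 98, true), (4, 85, true), (6, 104, true), (5, 87, true), (6, 88, true), (7, 90, true), (7, 104, true), (6, 62, true), (5, 52, true), (4, 35, true), (5, 87, true), (4, 75, true), (6, 88, true), (5, 76, true), (7, 86, true), (6, 74, true), (5, 63, true), (4, 53, true), (8, 88, true), (7, 76, true), (6, 65, true), (7, 90, true), (7, 95, true), (6, 70, true), (5, 49, true), (4, 40, true), (3, 25, true), (2, 19, true), (4, 97, true), (5, 103, true), (6, 104, true), (5, 86, true), (6, 88, true), (7, 89, true), (9, 100, true), (8, 87, true), (7, 75, true), (6, 64, true), (10, 103, true), (9, 90, true), (9, 104, true), (8, 77, true), (9, 104, true), (8, 84, true), (7, 61, true), (6, 51, true), (5, 42, true), (4, 27, true), (5, 99, true), (4, 86, true), (6,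 100, true), (5, 87, true), (7, 103, true), (6, 90, true), (6, 104, true), (7, 88, true), (6, 65, true), (6, 89, true), (7, 79, true), (6, 67, true), (5, 46, true), (4, 37, true), (3, 16, true), (2, 11, true), (1, 4, true), (0, 2, true), (2, 68, true), (1, 30, true), (0, 8, true), (3, 98, true), (4, 100, true), (5, 102, true), (6, 103, true), (7, 102, true), (6, 89, true), (5, 77, true), (6, 103, true), (5, 90, true), (5, 104, true), (4, 48, true), (3, 31, true), (2, 24, true), (1, 9, true), (1, 84, true), (2, 90, true), (2, 98, true), (3, 102, true), (4, 103, true), (5, 104, true), (4, 87, true), (3, 75, true), (5, 89, true), (4, 77, true), (4, 90, true), (4, 96, true), (3, 50, true), (2, 33, true), (1, 26, true), (4, 98, true), (3, 85, true), (5, 104, true), (4, 87, true), (6, 98, true), (5, 85, true), (4, 52, true), (3, 35, true), (4, 87, true), (3, 75, true), (5, 90, true), (5, 104, true), (4, 70, true),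 (3, 49, true), (2, 25, true), (1, 19, true), (3, 97, true), (4, 103, true), (5, 104, true), (4, 87, true), (5, 90, true), (5, 102, true), (6, 103, true), (7, 104, true), (6, 83, true), (5, 71, true), (4, 50, true), (3, 26, true), (2, 20, true), (2, 97, true), (3, 103, true), (4, 104, true), (3, 87, true), (4, 89, true), (5, 90, true), (6, 96, true), (5, 83, true), (4, 71, true), (3, 50, true), (2, 26, true), (5, 100, true), (4, 87, true), (6, 102, true), (5, 89, true), (7, 103, true), (6, 90, true), (6, 104, true), (5, 72, true), (4, 51, true), (3, 27, true), (4, 100, true), (3, 87, true), (5, 103, true), (4, 90, true), (4, 104, true), (4, 75, true), (3, 54, true), (4, 102, true), (3, 89, true), (5, 102, true), (4, 89, true), (3, 77, true), (4, 104, true), (3, 86, true), (4, 88, true), (5, 89, true), (6, 87, true), (5, 75, true), (4, 64, true), (7, 88, true), (6, 76, true), (5, 65, true), (6, 89, true),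 (5, 77, true), (5, 90, true), (5, 103, true), (6, 93, true), (5, 80, true), (4, 47, true), (3, 38, true), (2, 17, true), (1, 12, true), (0, 5, true), (2, 95, true), (1, 82, true), (0, 19, true), (2, 103, true), (3, 104, true), (2, 83, true), (1, 20, true), (1, 103, true), (2, 103, true), (1, 90, true), (1, 104, true), (4, 75, true), (3, 64, true), (6, 103, true), (7, 104, true), (6, 82, true), (5, 70, true), (4, 59, true), (3, 49, true), (2, 40, true), (1, 19, true), (0, 14, true), (0, 83, true), (2, 99, true), (1, 86, true), (3, 101, true), (2, 88, true), (4, 102, true), (3, 89, true), (5, 104, true), (4, 87, true), (3, 75, true), (2, 64, true), (5, 90, true), (5, 101, true), (4, 76, true), (3, 65, true), (4, 103, true), (5, 104, true), (4, 89, true), (3, 77, true), (3, 90, true), (3, 103, true), (4, 96, true), (3, 83, true), (2, 50, true), (1, 41, true), (0, 20, true), (0, 99, true), (1, 102, true),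 (2, 100, true), (1, 75, true), (3, 103, true), (4, 104, true), (3, 84, true), (2, 72, true), (1, 51, true), (0, 42, true), (4, 102, true), (3, 89, true), (5, 103, true), (4, 90, true), (4, 99, true), (3, 74, true), (2, 53, true), (1, 44, true), (3, 101, true), (2, 76, true), (4, 102, true), (3, 77, true), (3, 104, true), (2, 65, true)]),
    ([17, 2, 4, 1, 3], [(0, 136, true), (6, 135, true), (5, 94, true), (4, 69, true), (3, 58, true), (2, 9, true), (2, 88, true), (3, 90, true), (3, 102, true), (4, 104, true), (3, 70, true), (2, 59, true), (5, 102, true), (4, 89, true), (6, 103, true), (5, 90, true), (5, 104, true), (4, 72, true), (3, 61, true), (5, 73, true), (4, 62, true), (6, 76, true), (5, 65, true)], [(2, 11, true), (1, 4, true), (6, 95, true), (5, 32, true), (4, 19, true), (6, 98, true), (7, 100, true), (8, 103, true), (9, 104, true), (8, 83, true), (7, 50, true), (6, 33, true), (5, 20, true), (5,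 98, true), (6, 104, true), (7, 90, true), (7, 94, true), (6, 48, true), (5, 31, true), (4, 13, true), (3, 9, true), (3, 82, true), (4, 84, true), (5, 90, true), (8, 100, true), (7, 87, true), (6, 75, true), (9, 102, true), (8, 89, true), (7, 77, true), (8, 103, true), (7, 90, true), (7, 104, true), (7, 90, false), (8, 103, false), (6, 87, false), (7, 100, false), (6, 44, false), (7, 86, false), (8, 99, false), (6, 86, false), (7, 99, false), (5, 85, false), (6, 98, false), (4, 84, false), (5, 97, false), (4, 103, false), (4, 20, false), (5, 83, false), (4, 83, false), (4, 104, false), (4, 90, false), (5, 103, false), (4, 27, false), (5, 90, false), (4, 84, false), (3, 82, false), (3, 9, false), (4, 13, false), (5, 24, false), (6, 81, false), (7, 104, false), (4, 25, false), (5, 95, false), (2, 8, false), (0, 135, true), (6, 136, true), (12, 137, true), (21, 138, true), (30, 140, true), (33, 141, true),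 (42, 144, true), (5, 78, true), (4, 55, true), (3, 28, true), (2, 21, true), (1, 10, true), (0, 6, true), (2, 70, true), (5, 96, true), (4, 83, true), (3, 71, true), (6, 100, true), (5, 87, true), (4, 75, true), (7, 104, true), (6, 84, true), (5, 72, true), (4, 51, true), (7, 102, true), (6, 89, true), (8, 103, true), (7, 90, true), (7, 104, true), (6, 73, true), (5, 52, true), (7, 74, true), (6, 53, true), (8, 75, true), (7, 54, true), (8, 102, true), (7, 89, true), (9, 102, true), (8, 89, true), (7, 77, true), (8, 103, true), (7, 90, true), (7, 101, true), (8, 102, true), (9, 103, true), (10, 104, true), (9, 90, true), (8, 67, true), (7, 56, true), (6, 37, true), (5, 29, true), (4, 22, true), (3, 16, true), (2, 11, true), (1, 7, true), (6, 95, true), (5, 82, true), (4, 49, true), (3, 40, true), (7, 100, true), (6, 75, true), (5, 64, true), (8, 103, true), (9, 104, true), (8, 90, true), (8, 96, true),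 (7, 71, true), (6, 60, true), (5, 50, true), (4, 41, true), (6, 75, true), (7, 76, true), (10, 102, true), (9, 89, true), (8, 77, true), (9, 104, true), (8, 90, true), (8, 96, true), (7, 60, true), (6, 50, true), (5, 41, true), (4, 20, true), (4, 99, true), (5, 102, true), (6, 100, true), (5, 75, true), (7, 101, true), (6, 76, true), (8, 103, true), (9, 104, true), (9, 97, true), (8, 84, true), (7, 72, true), (6, 61, true), (5, 51, true), (4, 42, true), (8, 101, true), (7, 88, true), (9, 102, true), (8, 89, true), (10, 103, true), (9, 90, true), (9, 104, true), (8, 75, true), (7, 64, true), (6, 54, true), (7, 101, true), (6, 88, true), (8, 102, true), (7, 89, true), (9, 102, true), (8, 89, true), (7, 77, true), (8, 104, true), (7, 84, true), (6, 61, true), (5, 42, true), (4, 27, true), (5, 99, true), (4, 86, true), (6, 101, true), (5, 88, true), (7, 103, true), (6, 90, true), (6, 101, true), (5, 65, true),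 (5, 102, true), (6, 98, true), (5, 73, true), (4, 43, true), (7, 99, true), (6, 74, true), (5, 44, true), (6, 100, true), (5, 75, true), (7, 103, true), (8, 104, true), (7, 86, true), (6, 74, true), (5, 53, true), (8, 88, true), (7, 76, true), (9, 89, true), (8, 77, true), (8, 88, true), (7, 65, true), (7, 89, true), (8, 90, true), (8, 102, true), (7, 77, true), (7, 103, true), (8, 104, true), (7, 81, true), (6, 48, true), (5, 39, true), (4, 31, true), (3, 13, true), (2, 9, true), (2, 82, true), (3, 84, true), (4, 90, true), (7, 99, true), (6, 86, true), (5, 74, true), (8, 102, true), (7, 89, true), (6, 77, true), (7, 100, true), (6, 87, true), (8, 102, true), (7, 89, true), (9, 103, true), (8, 90, true), (8, 104, true), (8, 88, true), (7, 76, true), (9, 89, true), (8, 77, true), (9, 91, true), (8, 78, true), (7, 55, true), (6, 45, true), (5, 36, true), (4, 28, true), (3, 21, true), (2, 10, true), (1,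 1, true), (0, 0, true), (4, 92, true), (3, 67, true), (2, 46, true), (1, 37, true), (0, 7, true), (5, 99, true), (4, 86, true), (3, 53, true), (2, 44, true), (4, 101, true), (3, 88, true), (5, 102, true), (4, 89, true), (6, 100, true), (5, 87, true), (4, 75, true), (3, 64, true), (2, 54, true), (3, 101, true), (2, 88, true), (4, 102, true), (3, 89, true), (5, 103, true), (4, 90, true), (4, 104, true), (3, 76, true), (2, 65, true), (2, 77, true), (3, 104, true), (2, 85, true), (3, 86, true), (4, 87, true), (5, 89, true), (7, 95, true), (6, 82, true), (5, 70, true), (4, 49, true), (3, 40, true), (2, 32, true), (5, 86, true), (4, 53, true), (6, 88, true), (7, 89, true), (9, 100, true), (8, 87, true), (7, 75, true), (6, 64, true), (5, 54, true), (6, 101, true), (5, 88, true), (7, 102, true), (6, 89, true), (8, 103, true), (7, 90, true), (7, 104, true), (8, 102, true), (7, 89, true), (6, 77, true), (7, 103,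 true), (6, 90, true), (6, 104, true), (7, 96, true), (6, 83, true), (5, 60, true), (4, 41, true), (3, 33, true), (5, 99, true), (6, 102, true), (7, 101, true), (6, 76, true), (8, 103, true), (9, 104, true), (8, 90, true), (8, 100, true), (7, 75, true), (6, 64, true), (9, 104, true), (8, 72, true), (7, 61, true), (6, 51, true), (5, 42, true), (4, 34, true), (8, 99, true), (7, 86, true), (6, 74, true), (9, 100, true), (8, 87, true), (7, 75, true), (10, 103, true), (9, 90, true), (9, 104, true), (8, 76, true), (9, 77, true), (9, 98, true), (8, 62, true), (7, 52, true), (6, 43, true), (5, 35, true), (6, 86, true), (5, 74, true), (7, 87, true), (6, 75, true), (8, 88, true), (7, 76, true), (10, 99, true), (9, 86, true), (8, 74, true), (7, 63, true), (6, 53, true), (5, 44, true), (9, 100, true), (8, 87, true), (7, 75, true), (6, 64, true), (5, 54, true), (6, 101, true), (5, 88, true), (7, 102, true), (6, 89,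 true), (8, 103, true), (7, 90, true), (7, 104, true), (6, 77, true), (6, 86, true), (5, 63, true), (7, 88, true), (6, 65, true), (6, 89, true), (7, 87, true), (6, 75, true), (8, 88, true), (7, 76, true), (9, 90, true), (9, 101, true), (8, 76, true), (7, 65, true), (8, 102, true), (7, 77, true), (7, 103, true), (8, 104, true), (7, 90, true), (7, 92, true), (6, 46, true), (5, 37, true), (4, 22, true), (3, 16, true), (2, 11, true), (1, 7, true), (0, 2, true), (2, 69, true), (1, 31, true), (0, 9, true), (0, 85, true), (1, 89, true), (2, 90, true), (2, 102, true), (1, 77, true), (1, 99, true), (2, 100, true), (3, 103, true), (4, 104, true), (3, 82, true), (2, 49, true), (1, 40, true), (0, 32, true), (3, 86, true), (2, 53, true), (4, 88, true), (5, 89, true), (7, 100, true), (6, 87, true), (5, 75, true), (4, 64, true), (3, 54, true), (4, 101, true), (3, 88, true), (5, 102, true), (4, 89, true), (6, 103, true),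 (5, 90, true), (5, 104, true), (6, 103, true), (5, 90, true), (5, 96, true), (4, 71, true), (3, 60, true), (2, 41, true), (1, 33, true), (3, 99, true), (4, 102, true), (5, 101, true), (4, 76, true), (6, 103, true), (7, 104, true), (6, 89, true), (5, 77, true), (6, 103, true), (5, 90, true), (5, 104, true), (4, 60, true), (3, 41, true), (2, 33, true), (1, 20, true), (1, 98, true), (2, 104, true), (3, 76, true), (6, 97, true), (5, 84, true), (4, 72, true), (3, 61, true), (2, 42, true), (1, 34, true), (5, 99, true), (4, 86, true), (3, 74, true), (6, 101, true), (5, 88, true), (4, 76, true), (7, 102, true), (6, 89, true), (5, 77, true), (6, 103, true), (5, 90, true), (5, 104, true), (4, 64, true), (7, 97, true), (6, 72, true), (5, 61, true), (4, 51, true), (3, 42, true), (2, 34, true), (1, 27, true), (2, 98, true), (1, 85, true), (3, 102, true), (2, 89, true), (4, 103, true), (3, 90, true), (3, 104, true),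 (2, 74, true), (3, 75, true), (6, 101, true), (5, 88, true), (4, 76, true), (7, 102, true), (6, 89, true), (5, 77, true), (6, 104, true), (5, 88, true), (4, 65, true), (4, 89, true), (5, 86, true), (4, 74, true), (3, 53, true), (2, 44, true), (4, 88, true), (3, 76, true), (5, 89, true), (4, 77, true), (4, 87, true), (3, 64, true), (2, 54, true), (3, 101, true), (2, 88, true), (4, 103, true), (3, 90, true), (3, 101, true), (2, 65, true), (2, 104, true), (1, 31, true), (0, 13, true), (3, 85, true), (4, 89, true), (5, 90, true), (5, 95, true), (4, 70, true), (3, 32, true), (2, 25, true), (1, 14, true), (1, 84, true), (2, 90, true), (2, 98, true), (3, 100, true), (4, 103, true), (5, 102, true), (4, 89, true), (6, 103, true), (5, 90, true), (5, 104, true), (5, 97, true), (4, 72, true), (3, 51, true), (2, 34, true), (1, 27, true), (2, 98, true), (1, 85, true), (3, 102, true), (2, 89, true), (4, 103, true), (3,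 90, true), (3, 104, true), (2, 75, true), (5, 102, true), (4, 89, true), (3, 77, true), (4, 104, true), (3, 86, true), (2, 53, true), (4, 88, true), (5, 89, true), (6, 90, true), (5, 66, true), (4, 55, true), (3, 45, true), (2, 36, true), (1, 28, true), (0, 6, true), (2, 73, true), (3, 74, true), (4, 75, true), (5, 77, true), (5, 86, true), (4, 53, true), (3, 44, true), (4, 88, true), (5, 89, true), (6, 87, true), (5, 75, true), (4, 64, true), (3, 54, true), (4, 101, true), (3, 88, true), (5, 102, true), (4, 89, true), (6, 103, true), (5, 90, true), (5, 101, true), (4, 76, true), (3, 65, true), (4, 103, true), (5, 104, true), (4, 88, true), (3, 76, true), (5, 89, true), (4, 77, true), (4, 90, true), (4, 102, true), (5, 103, true), (6, 104, true), (5, 80, true), (4, 68, true), (3, 57, true), (2, 30, true), (1, 8, true), (4, 98, true), (5, 100, true), (6, 102, true), (7, 103, true), (8, 101, true), (7, 88,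 true), (6, 76, true), (9, 102, true), (8, 89, true), (7, 77, true), (8, 103, true), (7, 90, true), (7, 104, true), (9, 103, true), (8, 90, true), (8, 95, true), (7, 70, true), (6, 59, true), (5, 49, true), (4, 32, true), (3, 25, true), (6, 98, true), (5, 85, true), (7, 100, true), (6, 87, true), (8, 103, true), (7, 90, true), (7, 100, true), (6, 54, true), (7, 104, true), (6, 90, true), (6, 101, true), (7, 103, true), (8, 104, true), (7, 89, true), (8, 90, true), (8, 104, true), (7, 71, true), (6, 60, true), (5, 33, true), (4, 26, true), (7, 98, true), (6, 85, true), (8, 104, true), (7, 88, true), (8, 90, true), (8, 102, true), (9, 98, true), (8, 73, true), (7, 62, true), (6, 35, true), (7, 88, true), (6, 76, true), (8, 89, true), (7, 77, true), (8, 99, true), (7, 86, true), (6, 63, true), (9, 101, true), (8, 88, true), (7, 65, true), (8, 103, true), (7, 90, true), (7, 104, true), (6, 40, true), (5, 25,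 true), (4, 19, true), (3, 14, true), (3, 83, true), (5, 97, true), (4, 84, true), (6, 103, true), (5, 90, true), (5, 104, true), (8, 99, true), (7, 74, true), (6, 63, true), (5, 44, true), (7, 101, true), (6, 76, true), (5, 65, true), (6, 92, true), (5, 67, true), (4, 22, true), (3, 16, true), (2, 7, true), (1, 4, true), (6, 94, true), (5, 31, true), (4, 18, true), (3, 9, true), (3, 83, true), (4, 89, true), (6, 98, true), (5, 85, true), (4, 73, true), (7, 102, true), (6, 89, true), (5, 77, true), (6, 103, true), (5, 90, true), (5, 104, true), (5, 99, true), (6, 100, true), (7, 103, true), (8, 104, true), (7, 83, true), (6, 50, true), (5, 41, true), (4, 33, true), (3, 20, true), (3, 98, true), (4, 104, true), (5, 75, true), (7, 84, true), (6, 72, true), (5, 51, true), (4, 42, true), (3, 34, true), (7, 99, true), (6, 86, true), (5, 74, true), (8, 100, true), (7, 87, true), (6, 75, true), (9, 103, true),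 (8, 90, true), (8, 104, true), (7, 77, true), (7, 87, true), (6, 54, true), (7, 103, true), (6, 90, true), (6, 102, true), (7, 104, true), (6, 72, true), (5, 42, true), (4, 34, true), (3, 27, true), (4, 98, true), (3, 85, true), (5, 102, true), (4, 89, true), (6, 103, true), (5, 90, true), (5, 104, true), (4, 74, true), (5, 77, true), (6, 77, true), (7, 104, true), (6, 80, true), (5, 57, true), (4, 38, true), (3, 30, true), (2, 5, true), (4, 98, true), (3, 85, true), (5, 100, true), (4, 87, true), (6, 102, true), (5, 89, true), (7, 103, true), (6, 90, true), (6, 99, true), (5, 74, true), (4, 53, true), (7, 101, true), (6, 76, true), (8, 102, true), (7, 77, true), (7, 101, true), (6, 65, true), (6, 102, true), (7, 103, true), (8, 104, true), (7, 90, true), (6, 70, true), (5, 49, true), (4, 40, true), (3, 32, true), (2, 19, true), (4, 98, true), (5, 100, true), (6, 103, true), (7, 99, true), (6, 86, true),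 (5, 53, true), (8, 101, true), (7, 88, true), (9, 102, true), (8, 89, true), (10, 104, true), (9, 87, true), (8, 75, true), (7, 64, true), (6, 54, true), (7, 101, true), (6, 88, true), (8, 102, true), (7, 89, true), (9, 103, true), (8, 90, true), (8, 103, true), (9, 104, true), (8, 89, true), (7, 77, true), (7, 90, true), (7, 96, true), (6, 60, true), (5, 41, true), (4, 33, true), (3, 20, true), (3, 98, true), (4, 104, true), (5, 76, true), (8, 104, true), (7, 84, true), (6, 72, true), (5, 61, true), (4, 42, true), (3, 34, true), (7, 99, true), (6, 86, true), (5, 74, true), (8, 101, true), (7, 88, true), (6, 76, true), (9, 102, true), (8, 89, true), (7, 77, true), (8, 103, true), (7, 90, true), (7, 99, true), (6, 63, true), (5, 44, true), (6, 101, true), (5, 65, true), (5, 102, true), (6, 104, true)]),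
    ([17, 2, 4, 2, 4], [(0, 136, true), (6, 136, true), (5, 91, true), (4, 66, true), (3, 55, true), (2, 6, true), (1, 1, true), (0, 0, true), (4, 92, true), (3, 67, true), (2, 46, true), (1, 37, true), (0, 7, true), (5, 99, true), (4, 86, true), (3, 53, true), (2, 44, true), (4, 101, true), (3, 88, true), (5, 102, true), (4, 89, true), (6, 100, true), (5, 87, true), (4, 75, true), (3, 64, true), (2, 54, true), (3, 101, true), (2, 88, true), (4, 102, true), (3, 89, true), (5, 103, true), (4, 90, true), (4, 104, true), (3, 76, true), (2, 65, true), (2, 77, true), (3, 104, true), (2, 85, true), (3, 86, true), (4, 87, true), (5, 89, true), (7, 94, true), (6, 81, true), (5, 69, true), (4, 48, true), (3, 39, true), (2, 31, true), (1, 9, true), (1, 85, true), (2, 89, true), (3, 90, true), (3, 99, true), (2, 74, true), (4, 102, true), (3, 77, true), (3, 100, true), (4, 102, true), (5, 103, true), (6, 104, true),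 (5, 89, true), (4, 77, true), (4, 90, true), (4, 102, true), (5, 101, true), (4, 76, true), (6, 102, true), (5, 77, true), (5, 103, true), (6, 104, true), (5, 89, true), (6, 90, true), (6, 104, true), (5, 67, true), (4, 56, true), (3, 46, true), (2, 37, true), (1, 29, true), (0, 2, true), (2, 73, true), (1, 35, true), (2, 89, true), (1, 77, true), (1, 86, true), (2, 87, true), (3, 90, true), (3, 99, true), (2, 53, true), (1, 44, true), (2, 101, true), (3, 102, true), (4, 100, true), (3, 75, true), (2, 64, true), (1, 54, true), (2, 101, true), (1, 88, true), (3, 102, true), (2, 89, true), (4, 104, true), (3, 88, true), (2, 76, true), (1, 65, true), (2, 88, true), (1, 76, true), (3, 89, true), (2, 77, true), (2, 90, true), (2, 102, true), (3, 103, true), (4, 104, true), (3, 81, true), (2, 69, true), (1, 58, true), (0, 9, true), (0, 88, true), (1, 90, true), (1, 102, true), (2, 103, true), (3, 101, true),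 (2, 88, true), (1, 76, true), (0, 65, true), (2, 102, true), (1, 89, true), (0, 77, true), (1, 104, true)], [(2, 12, true), (1, 5, true), (3, 95, true), (2, 82, true), (1, 19, true), (3, 103, true), (4, 104, true), (3, 83, true), (2, 20, true), (2, 103, true), (3, 103, true), (2, 90, true), (2, 104, true), (1, 14, true), (0, 144, true)]),
    ([17, 3, 5, 2, 4], [(0, 137, true), (9, 136, true), (8, 78, true), (7, 66, true), (6, 55, true), (5, 36, true), (4, 21, true), (3, 10, true), (2, 6, true), (1, 1, true), (0, 0, true), (4, 92, true), (3, 67, true), (2, 46, true), (1, 37, true), (0, 7, true), (5, 99, true), (4, 86, true), (3, 53, true), (2, 44, true), (4, 101, true), (3, 88, true), (5, 102, true), (4, 89, true), (6, 100, true), (5, 87, true), (4, 75, true), (3, 64, true), (2, 54, true), (3, 101, true), (2, 88, true), (4, 102, true), (3, 89, true), (5, 103, true), (4, 90, true), (4, 104, true), (3, 76,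 true), (2, 65, true), (2, 77, true), (3, 104, true), (2, 85, true), (3, 86, true), (4, 87, true), (5, 89, true), (7, 94, true), (6, 81, true), (5, 69, true), (4, 48, true), (3, 39, true), (2, 31, true), (1, 9, true), (1, 85, true), (2, 89, true), (3, 90, true), (3, 99, true), (2, 74, true), (4, 102, true), (3, 77, true), (3, 100, true), (4, 102, true), (5, 103, true), (6, 104, true), (5, 89, true), (4, 77, true), (4, 90, true), (4, 102, true), (5, 95, true), (4, 70, true), (3, 49, true), (2, 40, true), (1, 32, true), (4, 86, true), (3, 53, true), (5, 88, true), (6, 89, true), (8, 100, true), (7, 87, true), (6, 75, true), (5, 64, true), (4, 54, true), (5, 101, true), (4, 88, true), (6, 102, true), (5, 89, true), (7, 103, true), (6, 90, true), (6, 104, true), (7, 102, true), (6, 89, true), (5, 77, true), (6, 103, true), (5, 90, true), (5, 104, true), (5, 96, true), (4, 60, true), (3, 41, true), (2, 33, true),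 (4, 99, true), (5, 102, true), (6, 101, true), (5, 76, true), (7, 103, true), (8, 104, true), (8, 100, true), (7, 87, true), (6, 75, true), (5, 64, true), (9, 104, true), (8, 84, true), (7, 72, true), (6, 61, true), (5, 51, true), (4, 42, true), (3, 34, true), (7, 99, true), (6, 86, true), (5, 74, true), (8, 100, true), (7, 87, true), (6, 75, true), (9, 103, true), (8, 90, true), (8, 104, true), (7, 76, true), (8, 77, true), (9, 99, true), (8, 86, true), (7, 63, true), (6, 53, true), (5, 44, true), (8, 101, true), (7, 88, true), (6, 65, true), (7, 102, true), (6, 89, true), (8, 101, true), (7, 88, true), (6, 76, true), (9, 102, true), (8, 89, true), (7, 77, true), (8, 103, true), (7, 90, true), (7, 104, true), (9, 103, true), (8, 90, true), (8, 92, true), (7, 67, true), (6, 56, true), (5, 46, true), (4, 29, true), (3, 22, true), (2, 16, true), (1, 11, true), (0, 2, true), (2, 70, true), (1, 32, true),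 (4, 89, true), (5, 90, true), (5, 96, true), (4, 71, true), (3, 50, true), (2, 33, true), (4, 100, true), (5, 102, true), (6, 104, true), (7, 96, true), (6, 83, true), (5, 71, true), (4, 50, true), (3, 33, true), (2, 20, true), (2, 98, true), (3, 104, true), (6, 97, true), (5, 84, true), (4, 72, true), (3, 51, true), (2, 34, true), (6, 100, true), (5, 87, true), (4, 75, true), (7, 103, true), (6, 90, true), (6, 104, true), (5, 77, true), (6, 100, true), (5, 87, true), (4, 54, true), (5, 103, true), (4, 90, true), (4, 104, true), (5, 97, true), (4, 72, true), (3, 34, true), (2, 27, true), (3, 98, true), (2, 85, true), (4, 102, true), (3, 89, true), (5, 103, true), (4, 90, true), (4, 104, true), (3, 77, true), (3, 101, true), (4, 102, true), (5, 98, true), (4, 73, true), (3, 62, true), (2, 35, true), (3, 88, true), (2, 76, true), (4, 89, true), (3, 77, true), (4, 99, true), (3, 86, true), (2, 63, true),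 (5, 100, true), (4, 87, true), (3, 64, true), (6, 103, true), (5, 90, true), (5, 104, true), (4, 64, true), (3, 54, true), (4, 101, true), (3, 88, true), (5, 101, true), (4, 88, true), (3, 65, true), (4, 101, true), (3, 88, true), (5, 102, true), (4, 89, true), (6, 103, true), (5, 90, true), (5, 104, true), (4, 77, true), (5, 104, true), (4, 81, true), (3, 58, true), (2, 39, true), (1, 13, true), (0, 9, true), (0, 82, true), (1, 84, true), (2, 90, true), (3, 76, true), (6, 103, true), (5, 90, true), (5, 101, true), (4, 76, true), (3, 65, true), (4, 102, true), (3, 77, true), (3, 104, true)], [(2, 17, true), (1, 8, true), (4, 96, true), (3, 26, true), (6, 104, true), (5, 82, true), (4, 25, true), (3, 19, true), (5, 97, true), (6, 103, true), (7, 104, true), (6, 90, true), (6, 104, false), (6, 90, false), (7, 103, false), (4, 26, false), (5, 83, false), (2, 13, false), (0, 136, true), (6, 137, true), (15,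 145, true), (5, 91, true), (4, 66, true), (3, 55, true), (2, 6, true), (1, 1, true), (0, 0, true), (4, 92, true), (3, 67, true), (2, 46, true), (1, 37, true), (0, 7, true), (5, 99, true), (4, 86, true), (3, 53, true), (2, 44, true), (4, 101, true), (3, 88, true), (5, 102, true), (4, 89, true), (6, 100, true), (5, 87, true), (4, 75, true), (3, 64, true), (2, 54, true), (3, 101, true), (2, 88, true), (4, 102, true), (3, 89, true), (5, 103, true), (4, 90, true), (4, 104, true), (3, 76, true), (2, 65, true), (2, 77, true), (3, 104, true), (2, 85, true), (3, 86, true), (4, 87, true), (5, 89, true), (7, 94, true), (6, 81, true), (5, 69, true), (4, 48, true), (3, 39, true), (2, 31, true), (1, 9, true), (1, 85, true), (2, 89, true), (3, 90, true), (3, 99, true), (2, 74, true), (4, 102, true), (3, 77, true), (3, 100, true), (4, 102, true), (5, 103, true), (6, 104, true), (5, 89, true), (4, 77, true), (4, 90, true),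 (4, 102, true), (5, 101, true), (4, 76, true), (6, 102, true), (5, 77, true), (5, 103, true), (6, 104, true), (5, 89, true), (6, 90, true), (6, 104, true), (5, 67, true), (4, 56, true), (3, 46, true), (2, 37, true), (1, 29, true), (0, 2, true), (2, 73, true), (1, 35, true), (2, 89, true), (1, 77, true), (1, 86, true), (2, 87, true), (3, 90, true), (3, 99, true), (2, 53, true), (1, 44, true), (2, 101, true), (3, 102, true), (4, 100, true), (3, 75, true), (2, 64, true), (1, 54, true), (2, 101, true), (1, 88, true), (3, 102, true), (2, 89, true), (4, 104, true), (3, 88, true), (2, 76, true), (1, 65, true), (2, 88, true), (1, 76, true), (3, 89, true), (2, 77, true), (2, 90, true), (2, 102, true), (3, 103, true), (4, 104, true), (3, 81, true), (2, 69, true), (1, 58, true), (0, 9, true), (0, 88, true), (1, 90, true), (1, 102, true), (2, 103, true), (3, 95, true), (2, 82, true), (1, 70, true), (0, 59, true),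 (3, 102, true), (2, 89, true), (4, 103, true), (3, 90, true), (3, 104, true), (4, 97, true), (3, 84, true), (2, 72, true), (1, 61, true), (5, 99, true), (4, 86, true), (3, 74, true), (2, 63, true), (6, 101, true), (5, 88, true), (4, 76, true), (3, 65, true), (5, 102, true), (4, 89, true), (3, 77, true), (4, 103, true), (3, 90, true), (3, 104, true)])]

/-- part of the pairs -/
def twoEqs11 : List Pair :=
  [([17, 3, 5, 3, 5], [(0, 137, true), (9, 137, true), (8, 78, true), (7, 66, true), (6, 55, true), (5, 36, true), (4, 21, true), (3, 10, true), (2, 6, true), (1, 1, true), (0, 0, true), (4, 92, true), (3, 67, true), (2, 46, true), (1, 37, true), (0, 7, true), (5, 99, true), (4, 86, true), (3, 53, true), (2, 44, true), (4, 101, true), (3, 88, true), (5, 102, true), (4, 89, true), (6, 100, true), (5, 87, true), (4, 75, true), (3, 64, true), (2, 54, true), (3, 101, true), (2, 88, true), (4, 102, true), (3,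 89, true), (5, 103, true), (4, 90, true), (4, 104, true), (3, 76, true), (2, 65, true), (2, 77, true), (3, 104, true), (2, 85, true), (3, 86, true), (4, 87, true), (5, 89, true), (7, 94, true), (6, 81, true), (5, 69, true), (4, 48, true), (3, 39, true), (2, 31, true), (1, 9, true), (1, 85, true), (2, 89, true), (3, 90, true), (3, 99, true), (2, 74, true), (4, 102, true), (3, 77, true), (3, 100, true), (4, 102, true), (5, 103, true), (6, 104, true), (5, 89, true), (4, 77, true), (4, 90, true), (4, 102, true), (5, 95, true), (4, 70, true), (3, 49, true), (2, 40, true), (1, 32, true), (4, 86, true), (3, 53, true), (5, 88, true), (6, 89, true), (8, 100, true), (7, 87, true), (6, 75, true), (5, 64, true), (4, 54, true), (5, 101, true), (4, 88, true), (6, 102, true), (5, 89, true), (7, 103, true), (6, 90, true), (6, 104, true), (7, 102, true), (6, 89, true), (5, 77, true), (6, 103, true), (5, 90, true), (5,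 104, true), (5, 96, true), (4, 60, true), (3, 41, true), (2, 33, true), (4, 99, true), (5, 102, true), (6, 101, true), (5, 76, true), (7, 103, true), (8, 104, true), (8, 100, true), (7, 87, true), (6, 75, true), (5, 64, true), (9, 104, true), (8, 84, true), (7, 72, true), (6, 61, true), (5, 51, true), (4, 42, true), (3, 34, true), (7, 99, true), (6, 86, true), (5, 74, true), (8, 100, true), (7, 87, true), (6, 75, true), (9, 103, true), (8, 90, true), (8, 104, true), (7, 76, true), (8, 77, true), (9, 99, true), (8, 86, true), (7, 63, true), (6, 53, true), (5, 44, true), (8, 101, true), (7, 88, true), (6, 65, true), (7, 102, true), (6, 89, true), (8, 101, true), (7, 88, true), (6, 76, true), (9, 102, true), (8, 89, true), (7, 77, true), (8, 103, true), (7, 90, true), (7, 104, true), (9, 103, true), (8, 90, true), (8, 92, true), (7, 67, true), (6, 56, true), (5, 46, true), (4, 29, true), (3, 22, true), (2,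 16, true), (1, 11, true), (0, 2, true), (2, 70, true), (1, 32, true), (4, 89, true), (5, 90, true), (5, 96, true), (4, 71, true), (3, 50, true), (2, 33, true), (4, 100, true), (5, 102, true), (6, 104, true), (7, 96, true), (6, 83, true), (5, 71, true), (4, 50, true), (3, 33, true), (2, 20, true), (2, 98, true), (3, 104, true), (6, 97, true), (5, 84, true), (4, 72, true), (3, 51, true), (2, 34, true), (6, 100, true), (5, 87, true), (4, 75, true), (7, 103, true), (6, 90, true), (6, 104, true), (5, 77, true), (6, 100, true), (5, 87, true), (4, 54, true), (5, 103, true), (4, 90, true), (4, 104, true), (5, 97, true), (4, 72, true), (3, 34, true), (2, 27, true), (3, 98, true), (2, 85, true), (4, 102, true), (3, 89, true), (5, 103, true), (4, 90, true), (4, 104, true), (3, 77, true), (3, 101, true), (4, 102, true), (5, 98, true), (4, 73, true), (3, 62, true), (2, 35, true), (3, 88, true), (2, 76, true), (4, 89,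 true), (3, 77, true), (4, 99, true), (3, 86, true), (2, 63, true), (5, 100, true), (4, 87, true), (3, 64, true), (6, 103, true), (5, 90, true), (5, 104, true), (4, 64, true), (3, 54, true), (4, 101, true), (3, 88, true), (5, 101, true), (4, 88, true), (3, 65, true), (4, 101, true), (3, 88, true), (5, 102, true), (4, 89, true), (6, 103, true), (5, 90, true), (5, 104, true), (4, 77, true), (5, 104, true), (4, 81, true), (3, 58, true), (2, 39, true), (1, 13, true), (0, 9, true), (0, 82, true), (1, 84, true), (2, 90, true), (3, 76, true), (6, 103, true), (5, 90, true), (5, 95, true), (4, 70, true), (3, 59, true), (2, 40, true), (1, 25, true), (0, 14, true), (0, 84, true), (1, 90, true), (1, 99, true), (2, 101, true), (3, 102, true), (4, 104, true), (3, 76, true), (2, 65, true), (4, 102, true), (3, 89, true), (2, 77, true), (3, 103, true), (2, 90, true), (2, 104, true), (2, 97, true), (1, 42, true), (0, 27,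 true), (1, 99, true), (0, 86, true), (2, 104, true), (1, 86, true), (0, 44, true), (0, 88, true), (1, 89, true), (2, 90, true)], [(2, 18, true), (1, 9, true), (1, 83, true), (2, 89, true), (4, 96, true), (3, 83, true), (2, 71, true), (1, 20, true), (1, 102, true), (2, 103, true), (3, 104, true), (0, 143, true), (3, 144, true), (2, 90, true)]),
    ([17, 5, 6, 1, 3], [(0, 138, true), (9, 135, true), (8, 94, true), (7, 81, true), (6, 58, true), (5, 39, true), (4, 31, true), (3, 18, true), (2, 13, true), (5, 83, true), (4, 26, true), (7, 103, true), (6, 90, true), (6, 102, true), (7, 104, true), (6, 73, true), (7, 77, true), (8, 99, true), (7, 86, true), (9, 102, true), (8, 89, true), (10, 101, true), (9, 88, true), (8, 76, true), (11, 103, true), (10, 90, true), (10, 104, true), (11, 95, true), (10, 82, true), (9, 70, true), (8, 59, true), (7, 40, true), (6, 32, true), (5, 25, true), (4, 19, true), (3, 14,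 true), (3, 83, true), (5, 97, true), (4, 84, true), (6, 103, true), (5, 90, true), (5, 104, true), (7, 86, true), (6, 53, true), (8, 88, true), (9, 89, true), (11, 101, true), (10, 88, true), (9, 76, true), (8, 65, true), (10, 103, true), (9, 90, true), (9, 104, true), (8, 77, true), (9, 103, true), (8, 90, true), (8, 104, true), (7, 51, true), (6, 42, true), (5, 34, true), (4, 27, true), (5, 98, true), (4, 85, true), (6, 102, true), (5, 89, true), (7, 103, true), (6, 90, true), (6, 104, true), (5, 74, true), (6, 75, true), (9, 98, true), (8, 85, true), (7, 73, true), (6, 52, true), (5, 43, true), (4, 35, true), (5, 86, true), (4, 74, true), (6, 87, true), (5, 75, true), (7, 89, true), (6, 77, true), (6, 90, true), (6, 101, true), (7, 103, true)], [(2, 22, true), (1, 16, true), (6, 97, true), (5, 72, true), (4, 51, true), (3, 27, true), (4, 100, true), (3, 87, true), (5, 103, true), (4, 90, true), (4,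 104, true), (5, 101, true), (4, 76, true), (6, 102, true), (5, 77, true), (5, 94, true), (4, 58, true), (3, 48, true), (2, 18, true), (5, 100, true), (4, 75, true), (6, 102, true), (5, 77, true), (5, 103, true), (6, 104, true), (5, 88, true), (6, 90, true), (6, 104, true), (6, 104, false), (6, 77, false), (7, 102, false), (5, 76, false), (6, 101, false), (4, 75, false), (5, 100, false), (4, 44, false), (5, 74, false), (6, 99, false), (4, 74, false), (5, 99, false), (5, 90, false), (4, 35, false), (5, 85, false), (6, 98, false), (4, 85, false), (5, 98, false), (4, 27, false), (0, 135, true), (6, 138, true), (15, 139, true), (19, 140, true), (22, 141, true), (31, 142, true), (40, 143, true), (43, 145, true), (5, 78, true), (4, 55, true), (3, 28, true), (2, 21, true), (1, 10, true), (0, 6, true), (2, 70, true), (5, 96, true), (4, 83, true), (3, 71, true), (6, 100, true), (5, 87, true), (4, 75, true), (7,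 104, true), (6, 84, true), (5, 72, true), (4, 51, true), (7, 102, true), (6, 89, true), (8, 103, true), (7, 90, true), (7, 104, true), (6, 73, true), (5, 52, true), (7, 74, true), (6, 53, true), (8, 75, true), (7, 54, true), (8, 102, true), (7, 89, true), (9, 102, true), (8, 89, true), (7, 77, true), (8, 103, true), (7, 90, true), (7, 101, true), (8, 102, true), (9, 103, true), (10, 104, true), (9, 90, true), (8, 68, true), (7, 57, true), (6, 38, true), (5, 30, true), (4, 23, true), (3, 17, true), (2, 12, true), (1, 8, true), (4, 95, true), (3, 25, true), (6, 104, true), (5, 83, true), (4, 26, true), (7, 103, true), (6, 90, true), (6, 103, true), (7, 104, true), (6, 83, true), (5, 26, true), (4, 20, true), (4, 97, true), (5, 103, true), (6, 104, true), (5, 90, true), (4, 27, true), (5, 102, true), (4, 89, true), (6, 103, true), (5, 90, true), (5, 98, true), (4, 73, true), (6, 100, true), (5, 75, true),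 (7, 102, true), (6, 77, true), (6, 103, true), (7, 99, true), (6, 86, true), (5, 53, true), (8, 101, true), (7, 88, true), (9, 102, true), (8, 89, true), (10, 101, true), (9, 88, true), (8, 76, true), (7, 65, true), (9, 102, true), (8, 89, true), (7, 77, true), (8, 103, true), (7, 90, true), (7, 104, true), (9, 95, true), (8, 82, true), (7, 70, true), (6, 49, true), (5, 40, true), (4, 32, true), (3, 14, true), (3, 85, true), (4, 87, true), (5, 90, true), (4, 53, true), (8, 100, true), (7, 75, true), (6, 64, true), (5, 54, true), (6, 101, true), (5, 88, true), (7, 102, true), (6, 89, true), (8, 104, true), (7, 90, true), (7, 102, true), (6, 77, true), (6, 103, true), (7, 104, true), (6, 90, true), (6, 96, true), (5, 60, true), (4, 41, true), (3, 33, true), (5, 99, true), (6, 102, true), (7, 101, true), (6, 76, true), (8, 103, true), (9, 104, true), (9, 98, true), (8, 85, true), (7, 73, true), (6, 62, true),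 (5, 43, true), (4, 35, true), (5, 86, true), (4, 74, true), (6, 88, true), (5, 76, true), (7, 89, true), (6, 77, true), (6, 90, true), (6, 99, true), (5, 63, true), (4, 44, true), (5, 101, true), (4, 65, true), (4, 103, true), (5, 104, true), (4, 82, true), (3, 19, true), (5, 103, true), (6, 97, true), (5, 84, true), (7, 101, true), (6, 88, true), (8, 102, true), (7, 89, true), (9, 95, true), (8, 82, true), (7, 70, true), (6, 59, true), (5, 25, true), (4, 19, true), (3, 14, true), (3, 83, true), (5, 97, true), (4, 84, true), (6, 103, true), (5, 90, true), (5, 104, true), (7, 102, true), (6, 89, true), (8, 103, true), (7, 90, true), (7, 104, true), (8, 99, true), (7, 86, true), (6, 74, true), (5, 63, true), (9, 101, true), (8, 88, true), (7, 76, true), (6, 65, true), (8, 92, true), (7, 79, true), (6, 67, true), (5, 37, true), (4, 22, true), (3, 16, true), (2, 7, true), (1, 4, true), (6, 94, true), (5, 31,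 true), (4, 18, true), (3, 9, true), (3, 83, true), (4, 89, true), (6, 98, true), (5, 85, true), (4, 73, true), (7, 102, true), (6, 89, true), (5, 77, true), (6, 103, true), (5, 90, true), (5, 104, true), (5, 99, true), (6, 100, true), (7, 103, true), (8, 104, true), (7, 83, true), (6, 50, true), (5, 41, true), (4, 33, true), (3, 20, true), (3, 98, true), (4, 104, true), (5, 75, true), (7, 84, true), (6, 72, true), (5, 51, true), (4, 42, true), (3, 34, true), (7, 99, true), (6, 86, true), (5, 74, true), (8, 100, true), (7, 87, true), (6, 75, true), (9, 103, true), (8, 90, true), (8, 104, true), (7, 77, true), (7, 87, true), (6, 54, true), (7, 103, true), (6, 90, true), (6, 102, true), (7, 104, true), (6, 72, true), (5, 42, true), (4, 34, true), (3, 27, true), (4, 98, true), (3, 85, true), (5, 102, true), (4, 89, true), (6, 103, true), (5, 90, true), (5, 104, true), (4, 74, true), (5, 77, true), (6, 74,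 true), (5, 63, true), (4, 44, true), (5, 76, true), (4, 65, true), (4, 77, true), (6, 103, true), (5, 90, true), (5, 104, true), (4, 68, true), (3, 30, true), (2, 5, true), (4, 98, true), (3, 85, true), (5, 100, true), (4, 87, true), (6, 102, true), (5, 89, true), (7, 103, true), (6, 90, true), (6, 102, true), (5, 77, true), (5, 103, true), (6, 104, true), (5, 82, true), (4, 49, true), (3, 32, true), (2, 19, true), (4, 98, true), (5, 100, true), (6, 103, true), (7, 100, true), (6, 87, true), (5, 54, true), (6, 103, true), (5, 90, true), (5, 104, true), (6, 103, true), (5, 90, true), (5, 96, true), (4, 33, true), (3, 20, true), (3, 98, true), (4, 104, true), (4, 97, true), (3, 34, true), (7, 104, true), (6, 86, true), (5, 74, true), (7, 88, true), (6, 76, true), (8, 89, true), (7, 77, true), (8, 92, true), (7, 79, true), (6, 56, true), (5, 37, true), (4, 29, true), (3, 22, true), (2, 11, true), (1, 2, true),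 (3, 70, true), (2, 32, true), (5, 89, true), (6, 90, true), (6, 96, true), (5, 71, true), (4, 50, true), (3, 33, true), (5, 100, true), (6, 102, true), (7, 104, true), (8, 97, true), (7, 84, true), (6, 72, true), (5, 51, true), (4, 34, true), (8, 100, true), (7, 87, true), (6, 75, true), (9, 103, true), (8, 90, true), (8, 104, true), (7, 77, true), (8, 101, true), (7, 88, true), (9, 102, true), (8, 89, true), (10, 98, true), (9, 85, true), (8, 73, true), (7, 62, true), (6, 52, true), (5, 35, true), (6, 87, true), (5, 75, true), (7, 88, true), (6, 76, true), (8, 89, true), (7, 77, true), (7, 90, true), (7, 99, true), (6, 63, true), (5, 53, true), (8, 100, true), (7, 64, true), (6, 54, true), (7, 101, true), (6, 88, true), (8, 104, true), (7, 90, true), (7, 99, true), (6, 63, true), (5, 44, true), (6, 101, true), (5, 65, true), (5, 102, true), (6, 101, true), (5, 76, true), (7, 102, true), (6, 77, true),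 (6, 103, true), (7, 104, true), (6, 90, true), (6, 93, true), (5, 57, true), (4, 23, true), (3, 17, true), (2, 12, true), (1, 8, true), (4, 95, true), (3, 25, true), (6, 104, true), (5, 83, true), (4, 26, true), (7, 103, true), (6, 90, true), (6, 103, true), (7, 104, true), (6, 83, true), (5, 26, true), (4, 20, true), (4, 97, true), (5, 103, true), (6, 104, true), (5, 90, true), (4, 27, true), (5, 102, true), (4, 89, true), (6, 103, true), (5, 90, true), (5, 101, true), (4, 76, true), (6, 102, true), (5, 77, true), (5, 103, true), (6, 104, true), (6, 95, true), (5, 82, true), (4, 59, true), (3, 14, true), (3, 88, true), (4, 90, true), (4, 103, true), (5, 104, true), (4, 83, true), (3, 60, true), (6, 103, true), (5, 90, true), (5, 99, true), (4, 63, true), (6, 100, true), (5, 64, true), (7, 101, true), (6, 65, true), (6, 102, true), (7, 104, true), (6, 76, true), (7, 77, true)]),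
    ([17, 5, 6, 3, 5], [(0, 138, true), (9, 137, true), (8, 91, true), (7, 78, true), (6, 55, true), (5, 36, true), (4, 28, true), (3, 15, true), (2, 10, true), (1, 3, true), (0, 0, true), (4, 93, true), (3, 68, true), (2, 47, true), (1, 38, true), (0, 8, true), (3, 99, true), (4, 101, true), (5, 102, true), (6, 100, true), (5, 75, true), (4, 64, true), (7, 104, true), (6, 77, true), (7, 104, true), (6, 81, true), (5, 58, true), (4, 48, true), (3, 39, true), (2, 24, true), (1, 9, true), (1, 84, true), (2, 90, true), (2, 99, true), (3, 102, true), (4, 100, true), (3, 75, true), (5, 102, true), (4, 77, true), (4, 103, true), (5, 104, true), (4, 88, true), (5, 90, true), (5, 103, true), (6, 96, true), (5, 83, true), (4, 60, true), (3, 50, true), (2, 41, true), (1, 26, true), (4, 99, true), (3, 86, true), (5, 102, true), (4, 89, true), (6, 100, true), (5, 87, true), (4, 75, true), (7, 101, true), (6, 88, true),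 (5, 76, true), (8, 103, true), (7, 90, true), (7, 104, true), (8, 100, true), (7, 87, true), (6, 75, true), (5, 64, true), (4, 54, true), (5, 101, true), (4, 88, true), (6, 102, true), (5, 89, true), (7, 103, true), (6, 90, true), (6, 104, true), (5, 76, true), (4, 65, true), (5, 82, true), (4, 70, true), (3, 40, true), (2, 25, true), (1, 19, true), (3, 97, true), (4, 103, true), (5, 104, true), (4, 86, true), (5, 88, true), (6, 89, true), (8, 102, true), (7, 89, true), (6, 77, true), (7, 103, true), (6, 90, true), (6, 104, true), (6, 83, true), (5, 60, true), (4, 41, true), (3, 26, true), (2, 20, true), (2, 97, true), (3, 103, true), (4, 104, true), (3, 86, true), (4, 89, true), (5, 88, true), (4, 76, true), (6, 90, true), (6, 103, true), (7, 100, true), (6, 87, true), (5, 75, true), (4, 64, true), (8, 104, true), (7, 83, true), (6, 71, true), (5, 60, true), (4, 50, true), (3, 41, true), (2, 26, true),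 (5, 99, true), (4, 86, true), (6, 102, true), (5, 89, true), (7, 100, true), (6, 87, true), (5, 75, true), (8, 101, true), (7, 88, true), (6, 76, true), (9, 103, true), (8, 90, true), (8, 104, true), (7, 77, true), (7, 84, true), (6, 61, true), (5, 51, true), (4, 42, true), (3, 27, true), (4, 99, true), (3, 86, true), (5, 100, true), (4, 87, true), (6, 103, true), (5, 90, true), (5, 104, true), (6, 89, true), (7, 90, true), (6, 73, true), (5, 62, true), (4, 52, true), (3, 43, true), (7, 74, true), (6, 63, true), (5, 53, true), (4, 44, true), (6, 75, true), (5, 64, true), (4, 54, true), (5, 101, true), (4, 88, true), (6, 102, true), (5, 89, true), (7, 102, true), (6, 89, true), (5, 77, true), (6, 103, true), (5, 90, true), (5, 99, true), (4, 63, true), (6, 101, true), (5, 65, true), (5, 102, true), (6, 101, true), (5, 76, true), (7, 102, true), (6, 77, true), (6, 103, true), (7, 104, true), (6, 90, true),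 (6, 92, true), (5, 56, true), (4, 37, true), (3, 29, true), (2, 16, true), (1, 11, true), (0, 4, true), (5, 95, true), (4, 32, true), (3, 19, true), (5, 98, true), (6, 100, true), (7, 103, true), (8, 104, true), (7, 83, true), (6, 50, true), (5, 33, true), (4, 20, true), (4, 98, true), (5, 104, true), (6, 90, true), (6, 96, true), (5, 50, true), (4, 33, true), (6, 100, true), (7, 104, true), (6, 51, true), (5, 34, true), (9, 100, true), (8, 87, true), (7, 75, true), (10, 103, true), (9, 90, true), (9, 104, true), (8, 75, true), (7, 54, true), (8, 102, true), (7, 89, true), (9, 102, true), (8, 89, true), (7, 77, true), (8, 104, true), (7, 85, true), (6, 35, true), (7, 90, true), (6, 74, true), (7, 75, true), (10, 99, true), (9, 86, true), (8, 74, true), (7, 53, true), (6, 44, true), (9, 101, true), (8, 88, true), (7, 76, true), (10, 102, true), (9, 89, true), (8, 77, true), (9, 101, true), (8, 88, true),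 (7, 65, true), (8, 102, true), (7, 89, true), (9, 103, true), (8, 90, true), (8, 104, true), (8, 94, true), (7, 69, true), (6, 48, true), (5, 24, true), (4, 18, true), (3, 13, true), (2, 9, true), (2, 82, true), (3, 84, true), (4, 90, true), (3, 26, true), (6, 102, true), (5, 89, true), (7, 104, true), (6, 84, true), (5, 72, true), (4, 27, true), (5, 102, true), (4, 89, true), (6, 103, true), (5, 90, true), (5, 103, true), (6, 104, true), (5, 87, true), (4, 75, true), (6, 89, true), (5, 77, true), (5, 90, true), (5, 102, true), (6, 104, true), (5, 70, true), (4, 49, true), (3, 19, true), (2, 14, true), (2, 83, true), (4, 100, true), (3, 87, true), (5, 103, true), (4, 90, true), (4, 104, true), (6, 97, true), (5, 84, true), (4, 72, true), (3, 51, true), (6, 102, true), (5, 89, true), (7, 103, true), (6, 90, true), (6, 104, true), (5, 74, true), (4, 53, true), (6, 76, true), (7, 77, true)], [(2, 24, true),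 (1, 18, true), (4, 97, true), (3, 72, true), (5, 103, true), (6, 104, true), (5, 83, true), (4, 71, true), (3, 26, true), (2, 20, true), (2, 97, true), (3, 103, true), (4, 104, true), (3, 89, true), (4, 90, true), (4, 104, false), (3, 102, false), (2, 97, false), (2, 20, false), (0, 137, true), (9, 138, true), (18, 143, true), (21, 145, true), (8, 78, true), (7, 66, true), (6, 55, true), (5, 36, true), (4, 21, true), (3, 10, true), (2, 6, true), (1, 1, true), (0, 0, true), (4, 92, true), (3, 67, true), (2, 46, true), (1, 37, true), (0, 7, true), (5, 99, true), (4, 86, true), (3, 53, true), (2, 44, true), (4, 101, true), (3, 88, true), (5, 102, true), (4, 89, true), (6, 100, true), (5, 87, true), (4, 75, true), (3, 64, true), (2, 54, true), (3, 101, true), (2, 88, true), (4, 102, true), (3, 89, true), (5, 103, true), (4, 90, true), (4, 104, true), (3, 76, true), (2, 65, true), (2, 77, true), (3, 104, true),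 (2, 85, true), (3, 86, true), (4, 87, true), (5, 89, true), (7, 94, true), (6, 81, true), (5, 69, true), (4, 48, true), (3, 39, true), (2, 31, true), (1, 9, true), (1, 85, true), (2, 89, true), (3, 90, true), (3, 99, true), (2, 74, true), (4, 102, true), (3, 77, true), (3, 100, true), (4, 102, true), (5, 103, true), (6, 104, true), (5, 89, true), (4, 77, true), (4, 90, true), (4, 102, true), (5, 95, true), (4, 70, true), (3, 49, true), (2, 40, true), (1, 32, true), (4, 86, true), (3, 53, true), (5, 88, true), (6, 89, true), (8, 100, true), (7, 87, true), (6, 75, true), (5, 64, true), (4, 54, true), (5, 101, true), (4, 88, true), (6, 102, true), (5, 89, true), (7, 103, true), (6, 90, true), (6, 104, true), (7, 102, true), (6, 89, true), (5, 77, true), (6, 103, true), (5, 90, true), (5, 104, true), (5, 96, true), (4, 60, true), (3, 41, true), (2, 33, true), (4, 99, true), (5, 102, true), (6, 101, true),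 (5, 76, true), (7, 103, true), (8, 104, true), (8, 100, true), (7, 87, true), (6, 75, true), (5, 64, true), (9, 104, true), (8, 84, true), (7, 72, true), (6, 61, true), (5, 51, true), (4, 42, true), (3, 34, true), (7, 99, true), (6, 86, true), (5, 74, true), (8, 100, true), (7, 87, true), (6, 75, true), (9, 103, true), (8, 90, true), (8, 104, true), (7, 76, true), (8, 77, true), (9, 99, true), (8, 86, true), (7, 63, true), (6, 53, true), (5, 44, true), (8, 101, true), (7, 88, true), (6, 65, true), (7, 102, true), (6, 89, true), (8, 101, true), (7, 88, true), (6, 76, true), (9, 102, true), (8, 89, true), (7, 77, true), (8, 103, true), (7, 90, true), (7, 104, true), (9, 103, true), (8, 90, true), (8, 93, true), (7, 68, true), (6, 57, true), (5, 47, true), (4, 30, true), (3, 23, true), (2, 17, true), (1, 12, true), (5, 96, true), (4, 83, true), (3, 20, true), (3, 103, true), (4, 104, true), (3, 84, true),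 (4, 89, true), (5, 90, true), (4, 73, true), (5, 75, true), (6, 77, true), (6, 87, true), (5, 54, true), (6, 103, true), (5, 90, true), (5, 104, true), (8, 102, true), (7, 89, true), (6, 77, true), (7, 103, true), (6, 90, true), (6, 104, true), (6, 95, true), (5, 59, true), (4, 32, true), (3, 25, true), (2, 14, true), (2, 84, true), (3, 90, true), (3, 98, true), (4, 100, true), (5, 103, true), (6, 101, true), (5, 88, true), (7, 103, true), (6, 90, true), (6, 104, true), (6, 96, true), (5, 60, true), (4, 50, true), (3, 33, true), (2, 26, true), (5, 98, true), (4, 85, true), (6, 104, true), (5, 87, true), (6, 88, true), (7, 90, true), (7, 104, true), (6, 62, true), (5, 52, true), (4, 35, true), (5, 87, true), (4, 75, true), (6, 88, true), (5, 76, true), (7, 86, true), (6, 74, true), (5, 63, true), (4, 53, true), (8, 88, true), (7, 76, true), (6, 65, true), (7, 90, true), (7, 101, true), (6, 76, true), (8,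 102, true), (7, 77, true), (7, 103, true), (8, 104, true)]),
    ([18, 0, 1, 0, 1], [(0, 146, true), (6, 146, true), (5, 56, true), (4, 37, true), (3, 22, true), (2, 11, true), (1, 4, true), (0, 2, true), (2, 68, true), (1, 30, true), (0, 8, true), (3, 98, true), (4, 100, true), (5, 102, true), (6, 103, true), (7, 102, true), (6, 89, true), (5, 77, true), (6, 103, true), (5, 90, true), (5, 104, true), (4, 48, true), (3, 31, true), (2, 24, true), (1, 9, true), (1, 84, true), (2, 90, true), (2, 98, true), (3, 102, true), (4, 103, true), (5, 104, true), (4, 87, true), (3, 75, true), (5, 89, true), (4, 77, true), (4, 90, true), (4, 96, true), (3, 50, true), (2, 33, true), (1, 26, true), (4, 98, true), (3, 85, true), (5, 104, true), (4, 87, true), (6, 98, true), (5, 85, true), (4, 52, true), (3, 35, true), (4, 87, true), (3, 75, true), (5, 90, true), (5, 104, true), (4, 70, true), (3, 49, true), (2, 25, true),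 (1, 19, true), (3, 97, true), (4, 103, true), (5, 104, true), (4, 87, true), (5, 90, true), (5, 102, true), (6, 103, true), (7, 104, true), (6, 83, true), (5, 71, true), (4, 50, true), (3, 26, true), (2, 20, true), (2, 97, true), (3, 103, true), (4, 104, true), (3, 87, true), (4, 89, true), (5, 90, true), (6, 97, true), (5, 84, true), (4, 72, true), (3, 51, true), (2, 27, true), (3, 100, true), (2, 87, true), (4, 103, true), (3, 90, true), (3, 104, true), (5, 101, true), (4, 88, true), (3, 76, true), (6, 102, true), (5, 89, true), (4, 77, true), (5, 99, true), (4, 86, true), (3, 63, true), (2, 53, true), (6, 101, true), (5, 88, true), (4, 65, true), (5, 102, true), (4, 89, true), (6, 101, true), (5, 88, true), (4, 76, true), (7, 102, true), (6, 89, true), (5, 77, true), (6, 103, true), (5, 90, true), (5, 104, true), (4, 57, true), (3, 47, true), (2, 38, true), (1, 12, true), (0, 5, true), (2, 95, true),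 (1, 82, true), (0, 19, true), (2, 103, true), (3, 104, true), (2, 83, true), (1, 20, true), (1, 103, true), (2, 103, true), (1, 90, true), (1, 104, true), (3, 75, true), (2, 64, true), (5, 101, true), (4, 76, true), (3, 65, true), (4, 102, true), (3, 77, true), (3, 103, true), (4, 104, true), (3, 82, true), (2, 49, true), (1, 40, true), (0, 14, true), (0, 86, true), (1, 88, true), (2, 89, true), (4, 100, true), (3, 87, true), (2, 75, true), (1, 64, true), (5, 103, true), (4, 90, true), (4, 104, true), (4, 84, true), (3, 72, true), (2, 61, true), (1, 51, true), (0, 42, true), (4, 101, true), (3, 88, true), (5, 102, true), (4, 89, true), (6, 103, true), (5, 90, true), (5, 99, true), (4, 74, true), (3, 63, true), (2, 53, true), (1, 44, true), (4, 101, true), (3, 76, true), (2, 65, true)], [(2, 1, true), (1, 0, true), (5, 92, true), (4, 67, true), (3, 46, true), (2, 37, true), (1, 7, true), (6, 99, true),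 (5, 86, true), (4, 53, true), (3, 44, true), (5, 101, true), (4, 88, true), (6, 102, true), (5, 89, true), (7, 100, true), (6, 87, true), (5, 75, true), (4, 64, true), (3, 54, true), (4, 101, true), (3, 88, true), (5, 102, true), (4, 89, true), (6, 103, true), (5, 90, true), (5, 104, true), (4, 76, true), (3, 65, true), (3, 77, true), (4, 104, true), (3, 85, true), (4, 86, true), (5, 87, true), (6, 89, true), (8, 92, true), (7, 79, true), (6, 67, true), (5, 46, true), (4, 37, true), (3, 29, true), (2, 7, true), (1, 2, true), (3, 69, true), (2, 31, true), (1, 9, true), (1, 85, true), (2, 89, true), (3, 90, true), (3, 102, true), (2, 77, true), (2, 99, true), (3, 100, true), (4, 103, true), (5, 104, true), (4, 85, true), (3, 52, true), (2, 43, true), (1, 35, true), (2, 86, true), (1, 74, true), (3, 87, true), (2, 75, true), (4, 90, true), (3, 74, true), (2, 53, true), (1, 44, true), (2, 75, true), (1, 54,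 true), (2, 102, true), (1, 89, true), (3, 103, true), (2, 90, true), (2, 104, true), (1, 74, true), (2, 76, true), (3, 77, true), (2, 64, true), (3, 65, true), (5, 103, true), (4, 90, true), (4, 104, true), (0, 153, true), (3, 154, true), (8, 156, true), (2, 97, true), (1, 72, true), (0, 42, true), (3, 99, true), (2, 74, true), (1, 44, true), (2, 100, true), (1, 75, true), (3, 101, true), (2, 76, true), (4, 104, true), (3, 76, true), (2, 65, true)]),
    ([18, 1, 2, 0, 1], [(0, 147, true), (5, 146, true), (4, 79, true), (3, 29, true), (2, 11, true), (1, 4, true), (0, 2, true), (2, 68, true), (1, 30, true), (0, 8, true), (3, 98, true), (4, 100, true), (5, 102, true), (6, 103, true), (7, 102, true), (6, 89, true), (5, 77, true), (6, 103, true), (5, 90, true), (5, 104, true), (4, 48, true), (3, 31, true), (2, 24, true), (1, 9, true), (1, 84, true), (2, 90, true), (2, 98, true), (3, 102, true), (4, 103, true),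 (5, 104, true), (4, 87, true), (3, 75, true), (5, 89, true), (4, 77, true), (4, 90, true), (4, 96, true), (3, 50, true), (2, 33, true), (1, 26, true), (4, 98, true), (3, 85, true), (5, 104, true), (4, 87, true), (6, 98, true), (5, 85, true), (4, 52, true), (3, 35, true), (4, 87, true), (3, 75, true), (5, 90, true), (5, 104, true), (4, 70, true), (3, 49, true), (2, 25, true), (1, 19, true), (3, 97, true), (4, 103, true), (5, 104, true), (4, 87, true), (5, 90, true), (5, 102, true), (6, 103, true), (7, 104, true), (6, 83, true), (5, 71, true), (4, 50, true), (3, 26, true), (2, 20, true), (2, 97, true), (3, 103, true), (4, 104, true), (3, 87, true), (4, 89, true), (5, 90, true), (6, 98, true), (5, 85, true), (4, 73, true), (3, 52, true), (7, 99, true), (6, 86, true), (5, 74, true), (4, 53, true), (8, 100, true), (7, 87, true), (6, 75, true), (5, 54, true), (6, 102, true), (5, 89, true), (7, 103, true), (6,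 90, true), (6, 104, true), (7, 103, true), (6, 90, true), (6, 93, true), (5, 68, true), (4, 38, true), (3, 30, true), (2, 23, true), (1, 12, true), (0, 5, true), (2, 95, true), (1, 82, true), (0, 19, true), (2, 103, true), (3, 104, true), (2, 83, true), (1, 20, true), (1, 103, true), (2, 103, true), (1, 90, true), (1, 104, true), (3, 85, true), (2, 73, true), (4, 87, true), (3, 75, true), (5, 89, true), (4, 77, true), (4, 90, true), (3, 53, true), (6, 77, true), (7, 104, true), (6, 82, true), (5, 59, true), (4, 49, true), (3, 40, true), (2, 32, true), (1, 25, true), (0, 14, true), (0, 84, true), (1, 90, true), (1, 98, true), (2, 100, true), (3, 103, true), (4, 99, true), (3, 86, true), (2, 53, true), (5, 101, true), (4, 88, true), (6, 102, true), (5, 89, true), (7, 104, true), (6, 87, true), (5, 75, true), (4, 64, true), (3, 54, true), (4, 101, true), (3, 88, true), (5, 102, true), (4, 89, true), (6, 103,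 true), (5, 90, true), (5, 103, true), (6, 104, true), (5, 88, true), (4, 76, true), (3, 65, true), (4, 90, true), (4, 103, true), (5, 97, true), (4, 84, true), (3, 72, true), (2, 42, true), (1, 34, true), (0, 27, true), (1, 98, true), (0, 85, true), (2, 102, true), (1, 89, true), (3, 103, true), (2, 90, true), (2, 104, true), (1, 74, true), (2, 77, true), (3, 99, true), (2, 86, true), (1, 44, true), (2, 101, true), (1, 88, true)], [(2, 3, true), (1, 1, true), (7, 93, true), (6, 68, true), (5, 47, true), (4, 38, true), (3, 30, true), (7, 86, true), (6, 74, true), (5, 53, true), (8, 88, true), (7, 76, true), (9, 89, true), (8, 77, true), (8, 87, true), (7, 64, true), (6, 54, true), (7, 101, true), (6, 88, true), (8, 103, true), (7, 90, true), (7, 104, true), (9, 104, true), (8, 81, true), (7, 69, true), (6, 58, true), (5, 39, true), (4, 31, true), (8, 99, true), (7, 86, true), (6, 74, true), (9, 102, true),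 (8, 89, true), (7, 77, true), (8, 101, true), (7, 88, true), (9, 103, true), (8, 90, true), (8, 104, true), (9, 83, true), (8, 71, true), (7, 60, true), (6, 41, true), (5, 33, true), (7, 99, true), (8, 102, true), (9, 101, true), (8, 76, true), (10, 103, true), (11, 104, true), (10, 89, true), (9, 77, true), (9, 90, true), (8, 64, true), (9, 65, true), (9, 79, true), (8, 46, true), (7, 37, true), (6, 29, true), (5, 16, true), (4, 7, true), (3, 4, true), (2, 2, true), (4, 68, true), (3, 30, true), (2, 8, true), (5, 98, true), (6, 100, true), (7, 102, true), (8, 103, true), (9, 102, true), (8, 89, true), (7, 77, true), (8, 103, true), (7, 90, true), (7, 104, true), (6, 48, true), (5, 31, true), (4, 24, true), (3, 9, true), (3, 84, true), (4, 90, true), (4, 98, true), (5, 102, true), (6, 103, true), (7, 104, true), (6, 87, true), (5, 75, true), (7, 89, true), (6, 77, true), (6, 90, true), (6, 96, true), (5,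 50, true), (4, 33, true), (3, 26, true), (6, 98, true), (5, 85, true), (7, 104, true), (6, 87, true), (8, 98, true), (7, 85, true), (6, 52, true), (5, 35, true), (6, 87, true), (5, 75, true), (7, 90, true), (7, 104, true), (6, 69, true), (5, 48, true), (4, 24, true), (3, 18, true), (6, 97, true), (5, 72, true), (7, 103, true), (8, 104, true), (7, 87, true), (6, 75, true), (8, 89, true), (7, 77, true), (7, 90, true), (7, 102, true), (8, 99, true), (7, 74, true), (6, 53, true), (9, 100, true), (8, 75, true), (7, 54, true), (8, 102, true), (7, 89, true), (9, 104, true), (8, 90, true), (8, 96, true), (7, 71, true), (6, 41, true), (5, 26, true), (4, 20, true), (4, 97, true), (5, 103, true), (6, 104, true), (5, 86, true), (6, 89, true), (7, 89, true), (6, 77, true), (7, 97, true), (6, 84, true), (5, 42, true), (4, 27, true), (5, 99, true), (4, 86, true), (6, 103, true), (5, 90, true), (5, 104, true), (7, 98,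 true), (6, 73, true), (5, 52, true), (4, 43, true), (8, 99, true), (7, 74, true), (6, 53, true), (5, 44, true), (7, 100, true), (6, 75, true), (5, 54, true), (6, 102, true), (5, 89, true), (7, 104, true), (6, 90, true), (6, 99, true), (5, 74, true), (7, 101, true), (6, 76, true), (8, 102, true), (7, 77, true), (7, 100, true), (6, 64, true), (8, 101, true), (7, 65, true), (7, 103, true), (7, 77, false), (8, 89, false), (9, 102, false), (5, 53, false), (6, 74, false), (7, 86, false), (8, 99, false), (5, 75, false), (6, 104, false), (6, 90, false), (7, 103, false), (5, 89, false), (6, 102, false), (4, 85, false), (5, 98, false), (4, 27, false), (5, 34, false), (6, 51, false), (7, 104, false), (7, 90, false), (8, 103, false), (7, 77, false), (8, 89, false), (9, 102, false), (8, 103, false), (7, 102, false), (6, 100, false), (5, 98, false), (2, 8, false), (3, 30, false), (4, 68, false), (2, 2, false), (0, 146,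 true), (6, 147, true), (11, 151, true), (13, 153, true), (16, 156, true), (5, 56, true), (4, 37, true), (3, 22, true), (2, 11, true), (1, 4, true), (0, 2, true), (2, 68, true), (1, 30, true), (0, 8, true), (3, 98, true), (4, 100, true), (5, 102, true), (6, 103, true), (7, 102, true), (6, 89, true), (5, 77, true), (6, 103, true), (5, 90, true), (5, 104, true), (4, 48, true), (3, 31, true), (2, 24, true), (1, 9, true), (1, 84, true), (2, 90, true), (2, 98, true), (3, 102, true), (4, 103, true), (5, 104, true), (4, 87, true), (3, 75, true), (5, 89, true), (4, 77, true), (4, 90, true), (4, 96, true), (3, 50, true), (2, 33, true), (1, 26, true), (4, 98, true), (3, 85, true), (5, 104, true), (4, 87, true), (6, 98, true), (5, 85, true), (4, 52, true), (3, 35, true), (4, 87, true), (3, 75, true), (5, 90, true), (5, 104, true), (4, 70, true), (3, 49, true), (2, 25, true), (1, 19, true), (3, 97, true), (4, 103,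 true), (5, 104, true), (4, 87, true), (5, 90, true), (5, 102, true), (6, 103, true), (7, 104, true), (6, 83, true), (5, 71, true), (4, 50, true), (3, 26, true), (2, 20, true), (2, 97, true), (3, 103, true), (4, 104, true), (3, 87, true), (4, 89, true), (5, 90, true), (6, 97, true), (5, 84, true), (4, 72, true), (3, 51, true), (2, 27, true), (3, 100, true), (2, 87, true), (4, 103, true), (3, 90, true), (3, 104, true), (5, 101, true), (4, 88, true), (3, 76, true), (6, 102, true), (5, 89, true), (4, 77, true), (5, 99, true), (4, 86, true), (3, 63, true), (2, 53, true), (6, 101, true), (5, 88, true), (4, 65, true), (5, 102, true), (4, 89, true), (6, 101, true), (5, 88, true), (4, 76, true), (7, 102, true), (6, 89, true), (5, 77, true), (6, 103, true), (5, 90, true), (5, 104, true), (4, 57, true), (3, 47, true), (2, 38, true), (1, 12, true), (0, 5, true), (2, 95, true), (1, 82, true), (0, 19, true), (2, 103,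 true), (3, 104, true), (2, 83, true), (1, 20, true), (1, 103, true), (2, 103, true), (1, 90, true), (1, 104, true), (3, 75, true), (2, 64, true), (5, 101, true), (4, 76, true), (3, 65, true), (4, 102, true), (3, 77, true), (3, 103, true), (4, 104, true), (3, 82, true), (2, 49, true), (1, 40, true), (0, 14, true), (0, 86, true), (1, 88, true), (2, 89, true), (4, 100, true), (3, 87, true), (2, 75, true), (1, 64, true), (5, 103, true), (4, 90, true), (4, 104, true), (4, 85, true), (3, 73, true), (2, 62, true), (1, 52, true), (0, 43, true), (5, 90, true), (4, 75, true), (3, 64, true), (2, 54, true), (3, 101, true), (2, 88, true), (4, 102, true), (3, 89, true), (5, 101, true), (4, 88, true), (3, 76, true), (2, 65, true), (4, 99, true), (3, 86, true), (2, 74, true), (1, 44, true), (3, 102, true), (2, 89, true), (1, 77, true), (2, 104, true), (1, 88, true)]),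
    ([18, 1, 2, 1, 2], [(0, 147, true), (5, 147, true), (4, 79, true), (3, 29, true), (2, 11, true), (1, 4, true), (0, 2, true), (2, 68, true), (1, 30, true), (0, 8, true), (3, 98, true), (4, 100, true), (5, 102, true), (6, 103, true), (7, 102, true), (6, 89, true), (5, 77, true), (6, 103, true), (5, 90, true), (5, 104, true), (4, 48, true), (3, 31, true), (2, 24, true), (1, 9, true), (1, 84, true), (2, 90, true), (2, 98, true), (3, 102, true), (4, 103, true), (5, 104, true), (4, 87, true), (3, 75, true), (5, 89, true), (4, 77, true), (4, 90, true), (4, 96, true), (3, 50, true), (2, 33, true), (1, 26, true), (4, 98, true), (3, 85, true), (5, 104, true), (4, 87, true), (6, 98, true), (5, 85, true), (4, 52, true), (3, 35, true), (4, 87, true), (3, 75, true), (5, 90, true), (5, 104, true), (4, 70, true), (3, 49, true), (2, 25, true), (1, 19, true), (3, 97, true), (4, 103, true), (5, 104, true), (4, 87, true),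 (5, 90, true), (5, 102, true), (6, 103, true), (7, 104, true), (6, 83, true), (5, 71, true), (4, 50, true), (3, 26, true), (2, 20, true), (2, 97, true), (3, 103, true), (4, 104, true), (3, 87, true), (4, 89, true), (5, 90, true), (6, 98, true), (5, 85, true), (4, 73, true), (3, 52, true), (7, 99, true), (6, 86, true), (5, 74, true), (4, 53, true), (8, 100, true), (7, 87, true), (6, 75, true), (5, 54, true), (6, 102, true), (5, 89, true), (7, 103, true), (6, 90, true), (6, 104, true), (7, 103, true), (6, 90, true), (6, 93, true), (5, 68, true), (4, 38, true), (3, 30, true), (2, 23, true), (1, 12, true), (0, 5, true), (2, 95, true), (1, 82, true), (0, 19, true), (2, 103, true), (3, 104, true), (2, 83, true), (1, 20, true), (1, 103, true), (2, 103, true), (1, 90, true), (1, 104, true), (3, 85, true), (2, 73, true), (4, 87, true), (3, 75, true), (5, 89, true), (4, 77, true), (4, 90, true), (3, 53, true), (6,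 77, true), (7, 104, true), (6, 82, true), (5, 59, true), (4, 49, true), (3, 40, true), (2, 32, true), (1, 25, true), (0, 14, true), (0, 84, true), (1, 90, true), (1, 98, true), (2, 100, true), (3, 103, true), (4, 99, true), (3, 86, true), (2, 53, true), (5, 101, true), (4, 88, true), (6, 102, true), (5, 89, true), (7, 104, true), (6, 87, true), (5, 75, true), (4, 64, true), (3, 54, true), (4, 101, true), (3, 88, true), (5, 102, true), (4, 89, true), (6, 103, true), (5, 90, true), (5, 103, true), (6, 104, true), (5, 88, true), (4, 76, true), (3, 65, true), (4, 90, true), (4, 103, true), (5, 98, true), (4, 85, true), (3, 73, true), (2, 43, true), (1, 35, true), (2, 86, true), (1, 74, true), (3, 89, true), (2, 77, true), (2, 90, true), (2, 103, true)], [(2, 4, true), (1, 2, true), (3, 68, true), (2, 30, true), (1, 8, true), (4, 98, true), (5, 100, true), (6, 102, true), (7, 103, true), (8, 102, true), (7,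 89, true), (6, 77, true), (7, 103, true), (6, 90, true), (6, 104, true), (5, 48, true), (4, 31, true), (3, 24, true), (2, 9, true), (2, 84, true), (3, 90, true), (3, 98, true), (4, 102, true), (5, 103, true), (6, 104, true), (5, 87, true), (4, 75, true), (6, 89, true), (5, 77, true), (5, 90, true), (5, 96, true), (4, 50, true), (3, 33, true), (2, 26, true), (5, 98, true), (4, 85, true), (6, 104, true), (5, 87, true), (7, 98, true), (6, 85, true), (5, 52, true), (4, 35, true), (5, 87, true), (4, 75, true), (6, 90, true), (6, 104, true), (5, 68, true), (4, 47, true), (3, 23, true), (2, 17, true), (1, 5, true), (3, 96, true), (2, 83, true), (1, 20, true), (1, 103, true), (2, 104, true), (1, 84, true), (2, 89, true), (3, 90, true), (2, 75, true), (4, 102, true), (3, 77, true), (3, 103, true), (4, 104, true), (0, 151, true), (2, 154, true), (7, 157, true), (1, 61, true), (0, 51, true), (3, 101, true), (2, 88,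 true), (4, 99, true), (3, 86, true), (2, 63, true), (1, 53, true), (5, 100, true), (4, 87, true), (3, 64, true), (2, 54, true), (3, 101, true), (2, 88, true), (4, 103, true), (3, 90, true), (3, 104, true), (2, 65, true), (2, 103, true)]),
    ([18, 3, 0, 1], [(0, 148, true), (3, 146, true), (2, 46, true), (1, 16, true), (0, 11, true), (4, 96, true), (3, 83, true), (2, 20, true), (2, 103, true), (3, 104, true), (2, 84, true), (3, 87, true), (4, 89, true), (6, 100, true), (5, 87, true), (4, 75, true), (3, 54, true), (4, 102, true), (3, 89, true), (5, 103, true), (4, 90, true), (4, 104, true), (3, 76, true), (4, 68, true), (3, 57, true), (2, 23, true), (1, 12, true), (5, 97, true), (4, 84, true), (6, 102, true), (5, 89, true), (7, 103, true), (6, 90, true), (6, 101, true), (5, 76, true), (7, 102, true), (6, 77, true), (6, 103, true), (7, 104, true), (6, 89, true), (7, 90, true), (7, 95, true), (6, 70, true),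 (5, 59, true), (4, 25, true), (3, 19, true), (2, 14, true), (2, 83, true), (4, 97, true), (3, 84, true), (5, 103, true), (4, 90, true), (4, 104, true), (6, 102, true), (5, 89, true), (7, 103, true), (6, 90, true), (6, 104, true), (6, 97, true), (5, 72, true), (4, 61, true), (3, 27, true), (4, 101, true), (3, 88, true), (5, 102, true), (4, 89, true), (6, 104, true), (5, 86, true), (4, 74, true), (3, 63, true), (6, 88, true), (5, 76, true), (4, 65, true)], [(1, 6, true), (3, 67, true), (2, 7, true), (7, 102, true), (6, 89, true), (8, 103, true), (7, 90, true), (7, 104, true), (0, 146, true), (6, 148, true), (9, 153, true), (12, 154, true), (17, 156, true), (5, 59, true), (4, 40, true), (3, 25, true), (2, 14, true), (2, 84, true), (3, 90, true), (3, 99, true), (4, 101, true), (5, 102, true), (6, 104, true), (5, 76, true), (4, 65, true), (6, 96, true), (5, 83, true), (4, 71, true), (3, 41, true), (2, 26, true),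 (5, 99, true), (4, 86, true), (6, 102, true), (5, 89, true), (7, 102, true), (6, 89, true), (5, 77, true), (6, 103, true), (5, 90, true), (5, 104, true), (5, 53, true), (4, 44, true), (6, 97, true), (5, 72, true), (4, 51, true), (3, 27, true), (4, 100, true), (3, 87, true), (5, 103, true), (4, 90, true), (4, 104, true), (5, 99, true), (4, 74, true), (3, 53, true), (6, 100, true), (5, 75, true), (4, 54, true), (5, 102, true), (4, 89, true), (6, 104, true), (5, 88, true), (4, 76, true), (7, 101, true), (6, 88, true), (5, 76, true), (4, 65, true), (6, 104, true)]),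
    ([18, 3, 1, 2], [(0, 148, true), (3, 147, true), (2, 46, true), (1, 16, true), (0, 11, true), (4, 96, true), (3, 83, true), (2, 20, true), (2, 103, true), (3, 104, true), (2, 84, true), (3, 87, true), (4, 89, true), (6, 100, true), (5, 87, true), (4, 75, true), (3, 54, true), (4, 102, true), (3, 89, true), (5, 103, true), (4, 90, true), (4, 104, true), (3, 76, true), (4, 68, true), (3, 57, true), (2, 23, true), (1, 12, true), (5, 97, true), (4, 84, true), (6, 102, true), (5, 89, true), (7, 103, true), (6, 90, true), (6, 101, true), (5, 76, true), (7, 102, true), (6, 77, true), (6, 103, true), (7, 104, true), (6, 89, true), (7, 90, true), (7, 95, true), (6, 70, true), (5, 59, true), (4, 25, true), (3, 19, true), (2, 14, true), (2, 83, true), (4, 97, true), (3, 84, true), (5, 103, true), (4, 90, true), (4, 104, true), (6, 102, true), (5, 89, true), (7, 103, true), (6, 90, true), (6, 104, true), (6, 98,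 true), (5, 73, true), (4, 62, true), (7, 103, true)], [(1, 7, true), (6, 93, true), (5, 80, true), (4, 47, true), (3, 38, true), (2, 8, true), (5, 99, true), (6, 101, true), (7, 102, true), (8, 100, true), (7, 75, true), (6, 64, true), (9, 104, true), (0, 147, true), (5, 148, true), (8, 151, true), (10, 153, true), (13, 154, true), (18, 155, true), (20, 156, true), (22, 157, true), (23, 158, true), (4, 82, true), (3, 32, true), (2, 14, true), (2, 85, true), (3, 87, true), (4, 90, true), (4, 83, true), (3, 50, true), (2, 33, true), (4, 100, true), (5, 103, true), (6, 100, true), (5, 87, true), (4, 54, true), (5, 103, true), (4, 90, true), (4, 104, true), (5, 63, true), (4, 53, true), (8, 97, true), (7, 72, true), (6, 61, true), (5, 51, true), (4, 42, true), (3, 34, true), (7, 99, true), (6, 86, true), (5, 74, true), (8, 100, true), (7, 87, true), (6, 75, true), (9, 103, true), (8, 90, true), (8, 104, true),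 (7, 76, true), (8, 77, true), (8, 99, true), (7, 63, true), (6, 53, true), (5, 44, true), (7, 100, true), (6, 64, true), (5, 54, true), (6, 101, true), (5, 88, true), (7, 104, true), (6, 88, true), (5, 65, true), (6, 102, true), (5, 89, true), (7, 103, true), (6, 90, true), (6, 101, true), (5, 76, true), (7, 104, true)]),
    ([18, 4, 0, 1], [(0, 149, true), (8, 146, true), (7, 92, true), (6, 79, true), (5, 46, true), (4, 37, true), (3, 11, true), (2, 7, true), (1, 2, true), (3, 69, true), (2, 31, true), (1, 9, true), (1, 85, true), (2, 89, true), (3, 90, true), (3, 102, true), (2, 77, true), (2, 99, true), (3, 100, true), (4, 103, true), (5, 104, true), (4, 82, true), (3, 49, true), (2, 40, true), (1, 32, true), (4, 86, true), (3, 53, true), (5, 88, true), (6, 89, true), (8, 100, true), (7, 87, true), (6, 75, true), (5, 64, true), (4, 54, true), (5, 101, true), (4, 88, true), (6, 102, true), (5, 89, true),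 (7, 103, true), (6, 90, true), (6, 104, true), (7, 103, true), (6, 90, true), (6, 96, true), (5, 71, true), (4, 60, true), (3, 41, true), (2, 33, true), (4, 99, true), (5, 102, true), (6, 101, true), (5, 76, true), (7, 103, true), (8, 104, true), (7, 89, true), (6, 77, true), (7, 103, true), (6, 90, true), (6, 104, true), (5, 63, true), (4, 44, true), (4, 65, true), (4, 75, true), (5, 76, true), (8, 93, true), (7, 80, true), (6, 68, true), (5, 57, true), (4, 47, true), (3, 30, true), (2, 17, true), (1, 12, true), (5, 96, true), (4, 83, true), (3, 20, true), (3, 103, true), (4, 104, true), (3, 85, true), (4, 87, true), (5, 89, true), (6, 90, true), (5, 75, true), (4, 54, true), (5, 102, true), (4, 89, true), (6, 104, true), (5, 88, true), (4, 76, true), (6, 89, true), (5, 77, true), (5, 90, true), (5, 102, true), (6, 103, true), (7, 104, true), (6, 90, true), (6, 95, true), (5, 70, true), (4, 59, true),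 (3, 32, true), (2, 14, true), (2, 85, true), (3, 87, true), (4, 90, true), (6, 102, true), (5, 89, true), (7, 103, true), (6, 90, true), (6, 104, true), (6, 97, true), (5, 72, true), (4, 61, true), (3, 51, true), (2, 34, true), (6, 100, true), (5, 87, true), (4, 75, true), (7, 103, true), (6, 90, true), (6, 104, true), (5, 76, true), (6, 77, true), (6, 99, true), (5, 63, true), (4, 53, true), (7, 101, true), (6, 65, true)], [(1, 10, true), (5, 92, true), (4, 46, true), (3, 16, true), (2, 11, true), (6, 96, true), (5, 83, true), (4, 20, true), (4, 103, true), (5, 104, true), (4, 84, true), (5, 87, true), (6, 89, true), (8, 100, true), (7, 87, true), (6, 75, true), (5, 54, true), (6, 102, true), (5, 89, true), (7, 103, true), (6, 90, true), (6, 104, true), (5, 76, true), (0, 146, true), (6, 149, true), (14, 151, true), (16, 155, true), (18, 156, true), (20, 158, true), (5, 55, true), (4, 36, true), (3, 21,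 true), (2, 10, true), (1, 3, true), (0, 1, true), (6, 93, true), (5, 68, true), (4, 47, true), (3, 38, true), (2, 30, true), (6, 86, true), (5, 74, true), (4, 53, true), (7, 88, true), (6, 76, true), (8, 89, true), (7, 77, true), (7, 87, true), (6, 64, true), (5, 54, true), (6, 101, true), (5, 88, true), (7, 103, true), (6, 90, true), (6, 104, true), (8, 104, true), (7, 81, true), (6, 69, true), (5, 58, true), (4, 39, true), (3, 31, true), (7, 99, true), (6, 86, true), (5, 74, true), (8, 102, true), (7, 89, true), (6, 77, true), (7, 101, true), (6, 88, true), (8, 103, true), (7, 90, true), (7, 104, true), (8, 83, true), (7, 71, true), (6, 60, true), (5, 41, true), (4, 33, true), (6, 99, true), (7, 102, true), (8, 101, true), (7, 76, true), (9, 103, true), (10, 104, true), (9, 89, true), (8, 77, true), (8, 90, true), (7, 64, true), (8, 65, true), (8, 82, true), (7, 49, true), (6, 40, true), (5, 32, true),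 (4, 19, true), (6, 98, true), (7, 100, true), (8, 103, true), (9, 99, true), (8, 86, true), (7, 53, true), (10, 101, true), (9, 88, true), (11, 102, true), (10, 89, true), (12, 104, true), (11, 87, true), (10, 75, true), (9, 64, true), (8, 54, true), (9, 101, true), (8, 88, true), (10, 102, true), (9, 89, true), (11, 103, true), (10, 90, true), (10, 103, true), (11, 104, true), (10, 90, true), (9, 71, true), (8, 60, true), (7, 41, true), (6, 33, true), (5, 20, true), (5, 98, true), (6, 104, true), (7, 76, true), (10, 102, true), (9, 89, true), (8, 77, true), (9, 100, true), (8, 87, true), (7, 64, true), (10, 104, true), (9, 84, true), (8, 61, true), (7, 51, true), (6, 42, true), (5, 34, true), (9, 99, true), (8, 86, true), (7, 74, true), (10, 100, true), (9, 87, true), (8, 75, true), (11, 103, true), (10, 90, true), (10, 104, true), (9, 76, true), (12, 99, true), (11, 86, true), (10, 74, true), (9, 63,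 true), (8, 53, true), (7, 44, true), (11, 101, true), (10, 88, true), (9, 76, true), (8, 65, true), (10, 102, true), (9, 89, true), (8, 77, true), (9, 101, true), (8, 88, true), (10, 102, true), (9, 89, true), (11, 103, true), (10, 90, true), (10, 104, true), (9, 67, true), (8, 56, true), (7, 46, true), (6, 29, true), (5, 22, true), (4, 11, true), (3, 7, true), (2, 4, true), (1, 2, true), (3, 68, true), (2, 30, true), (1, 8, true), (4, 98, true), (5, 100, true), (6, 102, true), (7, 103, true), (8, 102, true), (7, 89, true), (6, 77, true), (7, 103, true), (6, 90, true), (6, 104, true), (5, 48, true), (4, 31, true), (3, 24, true), (2, 9, true), (2, 84, true), (3, 90, true), (3, 98, true), (4, 102, true), (5, 103, true), (6, 104, true), (5, 87, true), (4, 75, true), (6, 89, true), (5, 77, true), (5, 90, true), (5, 96, true), (4, 50, true), (3, 33, true), (2, 26, true), (5, 98, true), (4, 85, true), (6, 104,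 true), (5, 87, true), (7, 98, true), (6, 85, true), (5, 52, true), (4, 35, true), (5, 87, true), (4, 75, true), (6, 90, true), (6, 104, true), (5, 69, true), (4, 48, true), (3, 24, true), (2, 18, true), (5, 97, true), (4, 72, true), (6, 103, true), (7, 104, true), (6, 87, true), (5, 75, true), (7, 89, true), (6, 77, true), (6, 90, true), (6, 102, true), (7, 99, true), (6, 74, true), (5, 53, true), (8, 100, true), (7, 75, true), (6, 54, true), (7, 102, true), (6, 89, true), (8, 104, true), (7, 90, true), (7, 95, true), (6, 70, true), (5, 40, true), (4, 25, true), (3, 19, true), (5, 97, true), (6, 103, true), (7, 104, true), (6, 86, true), (7, 88, true), (8, 89, true), (10, 102, true), (9, 89, true), (8, 77, true), (9, 103, true), (8, 90, true), (8, 104, true), (8, 96, true), (7, 60, true), (6, 41, true), (5, 26, true), (4, 20, true), (4, 97, true), (5, 103, true), (6, 104, true), (5, 86, true), (6, 89,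 true), (7, 88, true), (6, 76, true), (8, 90, true), (8, 104, true), (9, 97, true), (8, 84, true), (7, 72, true), (6, 61, true), (5, 42, true), (4, 27, true), (5, 99, true), (4, 86, true), (6, 101, true), (5, 88, true), (7, 102, true), (6, 89, true), (8, 103, true), (7, 90, true), (7, 104, true), (6, 76, true), (5, 65, true), (5, 77, true), (4, 43, true), (5, 44, true), (7, 100, true), (6, 87, true), (5, 54, true), (6, 103, true), (5, 90, true), (5, 104, true), (5, 65, true), (7, 102, true), (6, 89, true), (5, 77, true), (6, 103, true), (5, 90, true), (5, 104, true), (4, 31, true), (3, 13, true), (2, 9, true), (2, 82, true), (3, 84, true), (4, 90, true), (7, 95, true), (6, 82, true), (5, 70, true), (4, 32, true), (3, 25, true), (2, 14, true), (2, 84, true), (3, 90, true), (3, 98, true), (4, 100, true), (5, 103, true), (6, 102, true), (5, 89, true), (7, 103, true), (6, 90, true), (6, 104, true), (7, 99,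 true), (6, 86, true), (5, 74, true), (4, 53, true), (8, 100, true), (7, 87, true), (6, 75, true), (5, 54, true), (6, 102, true), (5, 89, true), (7, 103, true), (6, 90, true), (6, 104, true), (7, 100, true), (6, 87, true), (5, 75, true), (8, 101, true), (7, 88, true), (6, 76, true), (9, 102, true), (8, 89, true), (7, 77, true), (8, 103, true), (7, 90, true), (7, 101, true), (6, 65, true), (6, 104, true)]),
    ([18, 4, 1, 2], [(0, 149, true), (8, 147, true), (7, 92, true), (6, 79, true), (5, 46, true), (4, 37, true), (3, 11, true), (2, 7, true), (1, 2, true), (3, 69, true), (2, 31, true), (1, 9, true), (1, 85, true), (2, 89, true), (3, 90, true), (3, 102, true), (2, 77, true), (2, 99, true), (3, 100, true), (4, 103, true), (5, 104, true), (4, 82, true), (3, 49, true), (2, 40, true), (1, 32, true), (4, 86, true), (3, 53, true), (5, 88, true), (6, 89, true), (8, 100, true), (7, 87, true), (6, 75, true), (5,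 64, true), (4, 54, true), (5, 101, true), (4, 88, true), (6, 102, true), (5, 89, true), (7, 103, true), (6, 90, true), (6, 104, true), (7, 103, true), (6, 90, true), (6, 96, true), (5, 71, true), (4, 60, true), (3, 41, true), (2, 33, true), (4, 99, true), (5, 102, true), (6, 101, true), (5, 76, true), (7, 103, true), (8, 104, true), (7, 89, true), (6, 77, true), (7, 103, true), (6, 90, true), (6, 104, true), (5, 63, true), (4, 44, true), (4, 65, true), (4, 75, true), (5, 76, true), (8, 93, true), (7, 80, true), (6, 68, true), (5, 57, true), (4, 47, true), (3, 30, true), (2, 17, true), (1, 12, true), (5, 96, true), (4, 83, true), (3, 20, true), (3, 103, true), (4, 104, true), (3, 85, true), (4, 87, true), (5, 89, true), (6, 90, true), (5, 75, true), (4, 54, true), (5, 102, true), (4, 89, true), (6, 104, true), (5, 88, true), (4, 76, true), (6, 89, true), (5, 77, true), (5, 90, true), (5, 102, true), (6,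 103, true), (7, 104, true), (6, 90, true), (6, 95, true), (5, 70, true), (4, 59, true), (3, 32, true), (2, 14, true), (2, 85, true), (3, 87, true), (4, 90, true), (6, 102, true), (5, 89, true), (7, 103, true), (6, 90, true), (6, 104, true), (6, 98, true), (5, 73, true), (4, 62, true), (3, 52, true), (2, 35, true), (3, 87, true), (2, 75, true), (4, 88, true), (3, 76, true), (5, 89, true), (4, 77, true), (5, 103, true), (4, 90, true)], [(1, 11, true), (5, 93, true), (4, 80, true), (3, 17, true), (2, 12, true), (6, 96, true), (5, 83, true), (4, 20, true), (4, 103, true), (5, 104, true), (4, 90, true), (0, 147, true), (5, 149, true), (13, 158, true), (4, 78, true), (3, 28, true), (2, 10, true), (1, 3, true), (0, 1, true), (6, 93, true), (5, 68, true), (4, 47, true), (3, 38, true), (2, 30, true), (6, 86, true), (5, 74, true), (4, 53, true), (7, 88, true), (6, 76, true), (8, 89, true), (7, 77, true), (7, 87,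 true), (6, 64, true), (5, 54, true), (6, 101, true), (5, 88, true), (7, 103, true), (6, 90, true), (6, 104, true), (8, 104, true), (7, 81, true), (6, 69, true), (5, 58, true), (4, 39, true), (3, 31, true), (7, 99, true), (6, 86, true), (5, 74, true), (8, 102, true), (7, 89, true), (6, 77, true), (7, 101, true), (6, 88, true), (8, 103, true), (7, 90, true), (7, 104, true), (8, 83, true), (7, 71, true), (6, 60, true), (5, 41, true), (4, 33, true), (6, 99, true), (7, 102, true), (8, 101, true), (7, 76, true), (9, 103, true), (10, 104, true), (9, 89, true), (8, 77, true), (8, 90, true), (7, 64, true), (8, 65, true), (8, 82, true), (7, 49, true), (6, 40, true), (5, 32, true), (4, 19, true), (6, 98, true), (7, 100, true), (8, 103, true), (9, 99, true), (8, 86, true), (7, 53, true), (10, 101, true), (9, 88, true), (11, 102, true), (10, 89, true), (12, 104, true), (11, 87, true), (10, 75, true), (9, 64, true),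 (8, 54, true), (9, 101, true), (8, 88, true), (10, 102, true), (9, 89, true), (11, 103, true), (10, 90, true), (10, 103, true), (11, 104, true), (10, 90, true), (9, 71, true), (8, 60, true), (7, 41, true), (6, 33, true), (5, 20, true), (5, 98, true), (6, 104, true), (7, 76, true), (10, 102, true), (9, 89, true), (8, 77, true), (9, 100, true), (8, 87, true), (7, 64, true), (10, 104, true), (9, 85, true), (8, 62, true), (7, 52, true), (6, 43, true), (5, 35, true), (6, 86, true), (5, 74, true), (7, 87, true), (6, 75, true), (8, 88, true), (7, 76, true), (9, 90, true), (8, 74, true), (7, 63, true), (6, 53, true), (5, 44, true), (7, 75, true), (6, 64, true), (5, 54, true), (6, 101, true), (5, 88, true), (7, 102, true), (6, 89, true), (8, 102, true), (7, 89, true), (6, 77, true), (7, 103, true), (6, 90, true), (6, 103, true), (7, 92, true), (6, 79, true), (5, 56, true), (4, 11, true), (3, 7, true), (2, 4, true),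 (1, 2, true), (3, 68, true), (2, 30, true), (1, 8, true), (4, 98, true), (5, 100, true), (6, 102, true), (7, 103, true), (8, 102, true), (7, 89, true), (6, 77, true), (7, 103, true), (6, 90, true), (6, 104, true), (5, 48, true), (4, 31, true), (3, 24, true), (2, 9, true), (2, 84, true), (3, 90, true), (3, 98, true), (4, 102, true), (5, 103, true), (6, 104, true), (5, 87, true), (4, 75, true), (6, 89, true), (5, 77, true), (5, 90, true), (5, 96, true), (4, 50, true), (3, 33, true), (2, 26, true), (5, 98, true), (4, 85, true), (6, 104, true), (5, 87, true), (7, 98, true), (6, 85, true), (5, 52, true), (4, 35, true), (5, 87, true), (4, 75, true), (6, 90, true), (6, 104, true), (5, 69, true), (4, 48, true), (3, 24, true), (2, 18, true), (5, 97, true), (4, 72, true), (6, 103, true), (7, 104, true), (6, 87, true), (5, 75, true), (7, 89, true), (6, 77, true), (6, 90, true), (6, 102, true), (7, 99, true), (6,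 74, true), (5, 53, true), (8, 100, true), (7, 75, true), (6, 54, true), (7, 102, true), (6, 89, true), (8, 104, true), (7, 90, true), (7, 95, true), (6, 70, true), (5, 40, true), (4, 25, true), (3, 19, true), (5, 97, true), (6, 103, true), (7, 104, true), (6, 86, true), (7, 88, true), (8, 89, true), (10, 102, true), (9, 89, true), (8, 77, true), (9, 103, true), (8, 90, true), (8, 104, true), (8, 96, true), (7, 60, true), (6, 41, true), (5, 26, true), (4, 20, true), (4, 97, true), (5, 103, true), (6, 104, true), (5, 86, true), (6, 89, true), (7, 88, true), (6, 76, true), (8, 90, true), (8, 104, true), (9, 101, true), (8, 88, true), (7, 76, true), (6, 65, true), (8, 102, true), (7, 89, true), (6, 77, true), (7, 103, true), (6, 90, true), (6, 104, true), (7, 94, true), (6, 81, true), (5, 39, true), (4, 24, true), (3, 13, true), (2, 9, true), (2, 82, true), (3, 84, true), (4, 90, true), (3, 27, true), (4,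 103, true), (3, 90, true), (3, 104, true), (6, 95, true), (5, 82, true), (4, 70, true), (3, 40, true), (2, 14, true), (2, 86, true), (3, 88, true), (4, 89, true), (6, 102, true), (5, 89, true), (4, 77, true), (5, 103, true), (4, 90, true), (4, 104, true), (5, 99, true), (4, 86, true), (3, 63, true), (2, 44, true), (4, 100, true), (3, 87, true), (2, 64, true), (5, 103, true), (4, 90, true), (4, 104, true)])]

/-- part of the pairs -/
def twoEqs12 : List Pair :=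
  [([18, 4, 3], [(0, 149, true), (8, 148, true), (7, 95, true), (6, 82, true), (5, 49, true), (4, 40, true), (3, 14, true), (3, 86, true), (4, 88, true), (5, 89, true), (7, 100, true), (6, 87, true), (5, 75, true), (4, 64, true), (8, 103, true), (7, 90, true), (7, 104, true), (8, 96, true), (7, 83, true), (6, 71, true), (5, 60, true), (4, 50, true), (3, 41, true), (5, 75, true), (6, 76, true), (9, 102, true), (8, 89, true), (7, 77, true), (8, 103, true), (7, 90, true), (7, 104, true), (6, 64, true), (5, 54, true), (6, 101, true), (5, 88, true)], [(1, 13, true), (0, 148, true), (3, 149, true), (11, 151, true), (13, 157, true), (2, 45, true), (1, 15, true), (0, 10, true), (4, 96, true), (3, 50, true), (2, 20, true), (2, 100, true), (3, 104, true), (2, 51, true), (5, 102, true), (4, 89, true), (6, 103, true), (5, 90, true), (5, 100, true), (4, 75, true), (3, 54, true), (4, 102, true), (3, 89, true), (5, 104,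 true), (4, 88, true), (3, 76, true), (5, 90, true), (5, 92, true), (4, 67, true), (3, 56, true), (2, 22, true), (1, 11, true), (5, 97, true), (4, 84, true), (6, 101, true), (5, 88, true), (7, 102, true), (6, 89, true), (8, 101, true), (7, 88, true), (6, 76, true), (5, 65, true), (7, 102, true), (6, 89, true), (5, 77, true), (6, 103, true), (5, 90, true), (5, 104, true), (7, 104, true), (6, 81, true), (5, 69, true), (4, 24, true), (3, 18, true), (2, 13, true), (5, 83, true), (4, 26, true), (7, 103, true), (6, 90, true), (6, 102, true), (7, 104, true), (6, 72, true), (5, 27, true), (6, 102, true), (5, 89, true), (7, 103, true), (6, 90, true), (6, 104, true), (5, 77, true), (5, 82, true), (4, 19, true), (3, 14, true), (3, 83, true), (5, 103, true), (4, 90, true), (4, 99, true), (5, 100, true), (6, 103, true), (7, 104, true), (6, 87, true), (5, 54, true), (6, 103, true), (5, 90, true), (5, 101, true), (6,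 103, true)])]

/-- the pairs -/
def twoEqs : List Pair := twoEqs0 ++ twoEqs1 ++ twoEqs2 ++ twoEqs3 ++ twoEqs4 ++ twoEqs5 ++ twoEqs6 ++ twoEqs7 ++ twoEqs8 ++ twoEqs9 ++ twoEqs10 ++ twoEqs11 ++ twoEqs12

/-- part of the exponents -/
def twoVecs0 : List (List ℤ) :=
  [[0, 0, 0, 0, 0, 0, 0, 0, 0, 0, 0, 0, 0, 0, 0, 0, 0, 0, 0, 0, 0, 0, 0, 0, 0, 0, 0, 0, 0, 0, 0, 0, 0, 0, 0, 0, 0, 0, 0, 0, 0, 0, 0, 0, 0, 0, 0, 0, 0, 0, 0, 0, 0, 0, 0, 0, 0, 0, 0, 0, 0, 0, 0, 0, 0, 0, 0, 0, 0, 0, 0, 0, 0, 0, 0, 0, 0, 0, 0, 0, 0, 1, 0, 0, 0, 0, 0, 0, 0, 0, 0, 0, 0, 0, 0, 0, 0, 0, 0, 0, 0, 0, 0, 0, 0, 0, 0, 0, 0, 0, 0, 0, 0, 0, 0, 0, 0, 0, 0, 0, 0, 0, 0, 0, 0, 0, 0, 0, 0, 0, 0, 0, 0, 0, 0, 0, 0, 0, 0, 0, 0, 0, 0, 0, 0, 0, 0, 0, 0, 0, 0, 0, 0, 0, 0, 0, 0, 0, 0],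
    [0, 0, 0, 0, 0, 0, 0, 0, 0, 0, 0, 0, 0, 0, 0, 0, 0, 0, 0, 0, 0, 0, 0, 0, 0, 0, 0, 0, 0, 0, 0, 0, 0, 0, 0, 0, 0, 0, 0, 0, 0, 0, 0, 0, 0, 0, 0, 0, 0, 0, 0, 0, 0, 0, 0, 0, 0, 0, 0, 0, 0, 0, 0, 0, 0, 0, 0, 0, 0, 0, 0, 0, 0, 0, 0, 0, 0, 0, 0, 0, 0, 0, 1, 0, 0, 0, 0, 0, 0, 0, 0, 0, 0, 0, 0, 0, 0, 0, 0, 0, 0, 0, 0, 0, 0, 0, 0, 0, 0, 0, 0, 0, 0, 0, 0, 0, 0, 0, 0, 0, 0, 0, 0, 0, 0, 0, 0, 0, 0, 0, 0, 0, 0, 0, 0, 0, 0, 0, 0, 0, 0, 0, 0, 0, 0, 0, 0, 0, 0, 0, 0, 0, 0, 0, 0, 0, 0, 0, 0],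
    [0, 0, 0, 0, 0, 0, 0, 0, 0, 0, 0, 0, 0, 0, 0, 0, 0, 0, 0, 0, 0, 0, 0, 0, 0, 0, 0, 0, 0, 0, 0, 0, 0, 0, 0, 0, 0, 0, 0, 0, 0, 0, 0, 0, 0, 0, 0, 0, 0, 0, 0, 0, 0, 0, 0, 0, 0, 0, 0, 0, 0, 0, 0, 0, 0, 0, 0, 0, 0, 0, 0, 0, 0, 0, 0, 0, 0, 0, 0, 0, 0, 0, 0, 0, 0, 0, 0, 0, 0, 0, 0, 0, 0, 0, 0, 0, 1, 0, 0, 0, 0, 0, 0, 0, 0, 0, 0, 0, 0, 0, 0, 0, 0, 0, 0, 0, 0, 0, 0, 0, 0, 0, 0, 0, 0, 0, 0, 0, 0, 0, 0, 0, 0, 0, 0, 0, 0, 0, 0, 0, 0, 0, 0, 0, 0, 0, 0, 0, 0, 0, 0, 0, 0, 0, 0, 0, 0, 0, 0],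
    [0, 0, 0, 0, 0, 0, 0, 0, 0, 0, 0, 0, 0, 0, 0, 0, 0, 0, 0, 0, 0, 0, 0, 0, 0, 0, 0, 0, 0, 0, 0, 0, 0, 0, 0, 0, 0, 0, 0, 0, 0, 0, 0, 0, 0, 0, 0, 0, 0, 0, 0, 0, 0, 0, 0, 0, 0, 0, 0, 0, 0, 0, 0, 0, 0, 0, 0, 0, 0, 0, 0, 0, 0, 0, 0, 0, 0, 0, 0, 0, 0, 0, 0, 0, 1, 0, 0, 0, 0, 0, 0, 0, 0, 0, 0, 0, 0, 1, 0, 0, 0, 0, 0, 0, 0, 0, 0, 0, 0, 0, 0, 0, 0, 0, 0, 0, 0, 0, 0, 0, 0, 0, 0, 0, 0, 0, 0, 0, 0, 0, 0, 0, 0, 0, 0, 0, 0, 0, 0, 0, 0, 0, 0, 0, 0, 0, 0, 0, 0, 0, 0, 0, 0, 0, 0, 0, 0, 0, 0],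
    [0, 0, 0, 0, 0, 0, 0, 0, 0, 0, 0, 0, 0, 0, 0, 0, 0, 0, 0, 0, 0, 0, 0, 0, 0, 0, 0, 0, 0, 0, 0, 0, 0, 0, 0, 0, 0, 0, 0, 0, 0, 0, 0, 0, 0, 0, 0, 0, 0, 0, 0, 0, 0, 0, 0, 0, 0, 0, 0, 0, 0, 0, 0, 0, 0, 0, 0, 0, 0, 0, 0, 0, 0, 1, 0, 0, 0, 0, 0, 0, 0, 0, 0, 0, 0, 1, 0, 0, 0, 0, 0, 0, 0, 0, 0, 0, 0, 0, 0, 0, 0, 0, 0, 0, 0, 0, 0, 0, 0, 0, 0, 0, 0, 0, 0, 0, 0, 0, 0, 0, 0, 0, 0, 0, 0, 0, 0, 0, 0, 0, 0, 0, 0, 0, 0, 0, 0, 0, 0, 0, 0, 0, 0, 0, 0, 0, 0, 0, 0, 0, 0, 0, 0, 0, 0, 0, 0, 0, 0],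
    [0, 0, 0, 0, 0, 0, 0, 0, 0, 0, 0, 0, 0, 0, 0, 0, 0, 0, 0, 0, 0, 0, 0, 0, 0, 0, 0, 0, 0, 0, 0, 0, 0, 0, 0, 0, 0, 0, 0, 0, 0, 0, 0, 0, 0, 0, 0, 0, 0, 0, 0, 0, 0, 0, 0, 0, 0, 0, 0, 0, 0, 0, 0, 0, 0, 0, 0, 0, 0, 0, 0, 0, 0, 0, 0, 0, 0, 0, 0, 0, 0, 0, 0, 0, 0, 0, 0, 1, 0, 0, 0, 0, 0, 0, 0, 0, 0, 0, 0, 0, 1, 0, 0, 0, 0, 0, 0, 0, 0, 0, 0, 0, 0, 0, 0, 0, 0, 0, 0, 0, 0, 0, 0, 0, 0, 0, 0, 0, 0, 0, 0, 0, 0, 0, 0, 0, 0, 0, 0, 0, 0, 0, 0, 0, 0, 0, 0, 0, 0, 0, 0, 0, 0, 0, 0, 0, 0, 0, 0],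
    [0, 0, 0, 0, 0, 0, 0, 0, 0, 0, 0, 0, 0, 0, 0, 0, 0, 1, 0, 0, 0, 0, 0, 0, 0, 0, 0, 0, 0, 0, 0, 0, 0, 0, 0, 0, 0, 0, 0, 0, 0, 0, 0, 0, 0, 0, 0, 0, 0, 0, 0, 0, 0, 0, 0, 0, 0, 0, 0, 0, 0, 0, 0, 0, 0, 0, 0, 0, 0, 0, 0, 0, 0, 0, 0, 0, 0, 0, 0, 0, 1, 0, 0, 0, 0, 0, 0, 0, 0, 0, 0, 0, 0, 1, 0, 0, 0, 0, 0, 0, 0, 0, 0, 0, 0, 0, 0, 0, 0, 0, 0, 0, 0, 0, 0, 0, 0, 0, 0, 0, 0, 0, 0, 0, 0, 0, 0, 0, 0, 0, 0, 0, 0, 0, 0, 0, 0, 0, 0, 0, 0, 0, 0, 0, 0, 0, 0, 0, 0, 0, 0, 0, 0, 0, 0, 0, 0, 0, 0],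
    [0, 0, 0, 0, 0, 0, 0, 0, 0, 0, 0, 0, 0, 0, 0, 0, 0, 0, 0, 0, 0, 0, 0, 0, 0, 0, 0, 0, 0, 0, 0, 0, 0, 0, 0, 0, 0, 0, 0, 0, 0, 0, 0, 0, 0, 0, 0, 0, 0, 0, 0, 0, 0, 0, 0, 0, 0, 0, 0, 0, 0, 0, 0, 0, 0, 0, 0, 0, 0, 0, 0, 0, 0, 0, 0, 0, 0, 0, 0, 0, 0, 0, 0, 0, 0, 0, 0, 0, 0, 0, 0, 0, 0, 1, 0, 0, 0, 0, 0, 0, 0, 0, 0, 0, 0, 0, 0, 0, 0, 0, 0, 0, 0, 0, 0, 0, 0, 0, 0, 0, 0, 0, 0, 0, 0, 0, 0, 0, 0, 0, 0, 0, 0, 0, 0, 0, 0, 0, 0, 0, 0, 0, 0, 0, 0, 0, 0, 0, 0, 0, 0, 0, 0, 0, 0, 0, 0, 0, 0],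
    [0, 0, 0, 0, 0, 0, 0, 0, 0, 0, 0, 0, 0, 0, 0, 0, 0, 0, 0, 0, 0, 0, 0, 0, 0, 0, 0, 0, 0, 0, 0, 0, 0, 0, 0, 0, 0, 0, 0, 0, 0, 0, 0, 0, 0, 0, 0, 0, 0, 0, 0, 0, 0, 0, 0, 0, 0, 0, 0, 0, 0, 0, 0, 0, 0, 0, 0, 0, 0, 0, 0, 0, 0, 0, 0, 0, 0, 0, 0, 0, 0, 0, 0, 0, 0, 0, 0, 0, 0, 0, 0, 0, 0, 0, 0, 0, 0, 0, 0, 0, 1, 0, 0, 0, 0, 0, 0, 0, 0, 0, 0, 0, 0, 0, 0, 0, 0, 0, 0, 0, 0, 0, 0, 0, 0, 0, 0, 0, 0, 0, 0, 0, 0, 0, 0, 0, 0, 0, 0, 0, 0, 0, 0, 0, 0, 0, 0, 0, 0, 0, 0, 0, 0, 0, 0, 0, 0, 0, 0],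
    [0, 0, 0, 0, 0, 0, 0, 0, 0, 0, 0, 0, 0, 0, 0, 0, 0, 0, 0, 0, 0, 0, 0, 0, 0, 0, 0, 0, 0, 0, 0, 0, 0, 0, 0, 0, 0, 0, 0, 0, 0, 0, 0, 0, 0, 0, 0, 0, 0, 0, 0, 0, 0, 0, 0, 0, 0, 0, 0, 0, 0, 0, 0, 0, 0, 0, 0, 0, 0, 0, 0, 0, 0, 0, 0, 0, 0, 0, 0, 0, 0, 0, 0, 0, 0, 0, 0, 0, 0, 1, 0, 0, 0, 0, 0, 0, 0, 0, 0, 0, 0, 0, 0, 0, 0, 0, 0, 0, 0, 0, 0, 0, 0, 0, 0, 0, 0, 0, 0, 0, 0, 0, 0, 0, 0, 0, 0, 0, 0, 0, 0, 0, 0, 0, 0, 0, 0, 0, 0, 0, 0, 0, 0, 0, 0, 0, 0, 0, 0, 0, 0, 0, 0, 0, 0, 0, 0, 0, 0]]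

/-- part of the exponents -/
def twoVecs1 : List (List ℤ) :=
  [[0, 0, 0, 0, 0, 0, 0, 0, 0, 0, 0, 0, 0, 0, 0, 0, 0, 0, 0, 0, 0, 0, 0, 0, 0, 0, 0, 0, 0, 0, 0, 0, 0, 0, 0, 0, 0, 0, 0, 0, 0, 0, 0, 0, 0, 0, 0, 0, 0, 0, 0, 0, 0, 0, 0, 0, 0, 0, 0, 0, 0, 0, 0, 0, 0, 0, 0, 0, 0, 0, 0, 0, 0, 0, 0, 0, 0, 0, 0, 0, 0, 0, 0, 0, 0, 0, 0, 0, 0, 0, 0, 0, 0, 0, 0, 0, 0, 0, 0, 0, 0, 0, 1, 0, 0, 0, 0, 0, 0, 0, 0, 0, 0, 0, 0, 0, 0, 0, 0, 0, 0, 0, 0, 0, 0, 0, 0, 0, 0, 0, 0, 0, 0, 0, 0, 0, 0, 0, 0, 0, 0, 0, 0, 0, 0, 0, 0, 0, 0, 0, 0, 0, 0, 0, 0, 0, 0, 0, 0],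
    [0, 0, 0, 0, 0, 0, 0, 0, 0, 0, 0, 0, 0, 0, 0, 0, 0, 0, 0, 0, 0, 0, 0, 0, 0, 0, 0, 0, 0, 0, 0, 0, 0, 0, 0, 0, 0, 0, 0, 0, 0, 0, 0, 0, 0, 0, 0, 0, 0, 0, 0, 0, 0, 0, 0, 0, 0, 0, 0, 0, 0, 0, 0, 0, 0, 0, 0, 0, 0, 0, 0, 0, 0, 0, 0, 0, 0, 0, 0, 0, 0, 0, 0, 0, 0, 0, 0, 0, 0, 0, 0, 0, 0, 0, 0, 0, 0, 0, 0, 0, 0, 0, 0, 1, 0, 0, 0, 0, 0, 0, 0, 0, 0, 0, 0, 0, 0, 0, 0, 0, 0, 0, 0, 0, 0, 0, 0, 0, 0, 0, 0, 0, 0, 0, 0, 0, 0, 0, 0, 0, 0, 0, 0, 0, 0, 0, 0, 0, 0, 0, 0, 0, 0, 0, 0, 0, 0, 0, 0],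
    [0, 0, 0, 0, 0, 0, 0, 0, 0, 0, 0, 0, 0, 0, 0, 0, 0, 0, 0, 0, 0, 0, 0, 0, 0, 0, 0, 0, 0, 0, 0, 0, 0, 0, 0, 0, 0, 0, 0, 0, 0, 0, 0, 0, 0, 0, 0, 0, 0, 0, 0, 0, 0, 0, 0, 0, 0, 0, 0, 0, 0, 0, 0, 0, 0, 0, 0, 0, 0, 0, 0, 0, 0, 0, 1, 0, 0, 1, 0, 0, 0, 0, 0, 0, 0, 0, 0, 0, 0, 0, 0, 0, 0, 0, 0, 0, 0, 0, 0, 0, 0, 0, 0, 0, 0, 0, 0, 0, 0, 0, 0, 0, 0, 0, 0, 0, 0, 0, 0, 0, 0, 0, 0, 0, 0, 0, 0, 0, 0, 0, 0, 0, 0, 0, 0, 0, 0, 0, 0, 0, 0, 0, 0, 0, 0, 0, 0, 0, 0, 0, 0, 0, 0, 0, 0, 0, 0, 0, 0],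
    [0, 0, 0, 0, 0, 0, 0, 0, 0, 0, 0, 0, 0, 0, 0, 0, 0, 0, 0, 0, 0, 0, 0, 0, 0, 0, 0, 0, 0, 0, 0, 0, 0, 0, 0, 0, 0, 0, 0, 0, 0, 0, 0, 0, 0, 0, 0, 0, 0, 0, 0, 0, 0, 0, 0, 0, 0, 0, 0, 0, 0, 0, 0, 0, 0, 0, 0, 0, 0, 0, 0, 0, 0, 0, 0, 0, 0, 0, 0, 0, 0, 0, 0, 0, 0, 0, 1, 0, 0, 0, 0, 0, 0, 0, 0, 0, 0, 0, 0, 1, 0, 0, 0, 0, 0, 0, 0, 0, 0, 0, 0, 0, 0, 0, 0, 0, 0, 0, 0, 0, 0, 0, 0, 0, 0, 0, 0, 0, 0, 0, 0, 0, 0, 0, 0, 0, 0, 0, 0, 0, 0, 0, 0, 0, 0, 0, 0, 0, 0, 0, 0, 0, 0, 0, 0, 0, 0, 0, 0],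
    [0, 0, 0, 0, 0, 0, 0, 0, 0, 0, 0, 0, 0, 0, 0, 0, 0, 0, 0, 0, 0, 0, 0, 0, 0, 0, 0, 0, 0, 0, 0, 0, 0, 0, 0, 0, 0, 0, 0, 0, 0, 0, 0, 0, 0, 0, 0, 0, 0, 0, 0, 0, 0, 0, 0, 0, 0, 0, 0, 0, 0, 0, 0, 0, 0, 0, 0, 0, 0, 0, 0, 0, 0, 0, 1, 0, 0, 0, 0, 0, 0, 0, 0, 0, 0, 0, 1, 0, 0, 0, 0, 0, 0, 0, 0, 0, 0, 0, 0, 0, 0, 0, 0, 0, 0, 0, 0, 0, 0, 0, 0, 0, 0, 0, 0, 0, 0, 0, 0, 0, 0, 0, 0, 0, 0, 0, 0, 0, 0, 0, 0, 0, 0, 0, 0, 0, 0, 0, 0, 0, 0, 0, 0, 0, 0, 0, 0, 0, 0, 0, 0, 0, 0, 0, 0, 0, 0, 0, 0],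
    [0, 0, 0, 0, 0, 0, 0, 0, 0, 0, 0, 0, 0, 0, 0, 0, 0, 0, 0, 0, 0, 0, 0, 0, 0, 0, 0, 0, 0, 0, 0, 0, 0, 0, 0, 0, 0, 0, 0, 0, 0, 0, 0, 0, 0, 0, 0, 0, 0, 0, 0, 0, 0, 0, 0, 0, 0, 0, 0, 0, 0, 0, 0, 0, 0, 0, 0, 0, 0, 0, 0, 0, 0, 0, 0, 0, 0, 0, 0, 0, 0, 0, 0, 1, 0, 0, 0, 0, 0, 0, 0, 0, 0, 0, 0, 0, 1, 0, 0, 0, 0, 0, 0, 0, 0, 0, 0, 0, 0, 0, 0, 0, 0, 0, 0, 0, 0, 0, 0, 0, 0, 0, 0, 0, 0, 0, 0, 0, 0, 0, 0, 0, 0, 0, 0, 0, 0, 0, 0, 0, 0, 0, 0, 0, 0, 0, 0, 0, 0, 0, 0, 0, 0, 0, 0, 0, 0, 0, 0],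
    [0, 0, 0, 0, 0, 0, 0, 0, 0, 0, 0, 0, 0, 0, 0, 0, 0, 0, 0, 0, 0, 0, 0, 0, 0, 0, 0, 0, 0, 0, 0, 0, 0, 0, 0, 0, 0, 0, 0, 0, 0, 0, 0, 0, 0, 0, 0, 0, 0, 0, 0, 0, 0, 0, 0, 0, 0, 0, 0, 0, 0, 0, 0, 0, 0, 0, 0, 0, 0, 0, 0, 0, 0, 0, 0, 0, 0, 0, 0, 0, 0, 0, 0, 0, 0, 1, 0, 0, 0, 0, 0, 0, 0, 0, 0, 0, 0, 0, 1, 0, 0, 0, 0, 0, 0, 0, 0, 0, 0, 0, 0, 0, 0, 0, 0, 0, 0, 0, 0, 0, 0, 0, 0, 0, 0, 0, 0, 0, 0, 0, 0, 0, 0, 0, 0, 0, 0, 0, 0, 0, 0, 0, 0, 0, 0, 0, 0, 0, 0, 0, 0, 0, 0, 0, 0, 0, 0, 0, 0],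
    [0, 0, 0, 0, 0, 0, 0, 0, 0, 0, 0, 0, 0, 0, 0, 0, 0, 0, 0, 0, 0, 0, 0, 0, 0, 0, 0, 0, 0, 0, 0, 0, 0, 0, 0, 0, 0, 0, 0, 0, 0, 0, 0, 0, 0, 0, 0, 0, 0, 0, 0, 0, 0, 0, 0, 0, 0, 0, 0, 0, 0, 0, 0, 0, 0, 0, 0, 0, 0, 0, 0, 0, 0, 0, 0, 1, 0, 0, 0, 0, 0, 0, 0, 0, 0, 0, 0, 1, 0, 0, 0, 0, 0, 0, 0, 0, 0, 0, 0, 0, 0, 0, 0, 0, 0, 0, 0, 0, 0, 0, 0, 0, 0, 0, 0, 0, 0, 0, 0, 0, 0, 0, 0, 0, 0, 0, 0, 0, 0, 0, 0, 0, 0, 0, 0, 0, 0, 0, 0, 0, 0, 0, 0, 0, 0, 0, 0, 0, 0, 0, 0, 0, 0, 0, 0, 0, 0, 0, 0],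
    [0, 0, 0, 0, 0, 0, 0, 0, 0, 0, 0, 0, 0, 0, 0, 0, 0, 0, 0, 0, 0, 0, 0, 0, 0, 0, 0, 0, 0, 0, 0, 0, 0, 0, 0, 0, 0, 0, 0, 0, 0, 0, 0, 0, 0, 0, 0, 0, 0, 0, 0, 0, 0, 0, 0, 0, 0, 0, 0, 0, 0, 0, 0, 0, 0, 0, 0, 0, 0, 0, 0, 0, 0, 0, 0, 0, 0, 0, 0, 0, 0, 0, 0, 0, 0, 0, 0, 0, 1, 0, 0, 0, 0, 0, 0, 0, 0, 0, 0, 0, 0, 1, 0, 0, 0, 0, 0, 0, 0, 0, 0, 0, 0, 0, 0, 0, 0, 0, 0, 0, 0, 0, 0, 0, 0, 0, 0, 0, 0, 0, 0, 0, 0, 0, 0, 0, 0, 0, 0, 0, 0, 0, 0, 0, 0, 0, 0, 0, 0, 0, 0, 0, 0, 0, 0, 0, 0, 0, 0],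
    [0, 0, 0, 0, 0, 0, 0, 0, 0, 0, 0, 0, 0, 0, 0, 0, 0, 0, 0, 0, 0, 0, 0, 0, 0, 0, 0, 0, 0, 0, 0, 0, 0, 0, 0, 0, 0, 0, 0, 0, 0, 0, 0, 0, 0, 0, 0, 0, 0, 0, 0, 0, 0, 0, 0, 0, 0, 0, 0, 0, 0, 0, 0, 0, 0, 0, 0, 0, 0, 0, 0, 0, 0, 0, 0, 0, 1, 0, 0, 0, 0, 0, 0, 0, 0, 0, 0, 0, 1, 0, 0, 0, 0, 0, 0, 0, 0, 0, 0, 0, 0, 0, 0, 0, 0, 0, 0, 0, 0, 0, 0, 0, 0, 0, 0, 0, 0, 0, 0, 0, 0, 0, 0, 0, 0, 0, 0, 0, 0, 0, 0, 0, 0, 0, 0, 0, 0, 0, 0, 0, 0, 0, 0, 0, 0, 0, 0, 0, 0, 0, 0, 0, 0, 0, 0, 0, 0, 0, 0]]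

/-- part of the exponents -/
def twoVecs2 : List (List ℤ) :=
  [[0, 0, 0, 0, 0, 0, 0, 0, 0, 0, 0, 0, 0, 0, 0, 0, 0, 0, 0, 0, 0, 0, 0, 0, 0, 0, 0, 0, 0, 0, 0, 0, 0, 0, 0, 0, 0, 0, 0, 0, 0, 0, 0, 0, 0, 0, 0, 0, 0, 0, 0, 0, 0, 0, 0, 0, 0, 0, 0, 0, 0, 0, 0, 0, 0, 0, 0, 0, 0, 0, 0, 0, 0, 0, 0, 0, 0, 0, 0, 0, 0, 0, 0, 0, 0, 0, 0, 0, 0, 0, 0, 0, 0, 0, 0, 1, 1, 0, 0, 0, 0, 0, 0, 0, 1, 0, 0, 0, 0, 0, 0, 0, 0, 0, 0, 0, 0, 0, 0, 0, 0, 0, 0, 0, 0, 0, 0, 0, 0, 0, 0, 0, 0, 0, 0, 0, 0, 0, 0, 0, 0, 0, 0, 0, 0, 0, 0, 0, 0, 0, 0, 0, 0, 0, 0, 0, 0, 0, 0],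
    [0, 0, 0, 0, 0, 0, 0, 0, 0, 0, 0, 0, 0, 0, 0, 0, 0, 0, 0, 0, 0, 0, 0, 0, 0, 0, 0, 0, 0, 0, 0, 0, 0, 0, 0, 0, 0, 0, 0, 0, 0, 0, 0, 0, 0, 0, 0, 0, 0, 0, 0, 0, 0, 0, 0, 0, 0, 0, 0, 0, 0, 0, 0, 0, 0, 0, 0, 0, 0, 0, 0, 0, 0, 0, 0, 0, 0, 0, 0, 0, 0, 0, 0, 0, 0, 0, 0, 0, 0, 0, 0, 0, 0, 0, 0, 0, 1, 0, 1, 0, 0, 0, 0, 0, 1, 0, 0, 0, 0, 0, 0, 0, 0, 0, 0, 0, 0, 0, 0, 0, 0, 0, 0, 0, 0, 0, 0, 0, 0, 0, 0, 0, 0, 0, 0, 0, 0, 0, 0, 0, 0, 0, 0, 0, 0, 0, 0, 0, 0, 0, 0, 0, 0, 0, 0, 0, 0, 0, 0],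
    [0, 0, 0, 0, 0, 0, 0, 0, 0, 0, 0, 0, 0, 0, 0, 0, 0, 0, 0, 0, 0, 0, 0, 0, 0, 0, 0, 0, 0, 0, 0, 0, 0, 0, 0, 0, 0, 0, 0, 0, 0, 0, 0, 0, 0, 0, 0, 0, 0, 0, 0, 0, 0, 0, 0, 0, 0, 0, 0, 0, 0, 0, 0, 0, 0, 0, 0, 0, 0, 0, 0, 0, 0, 0, 0, 0, 0, 0, 0, 0, 0, 1, 0, 0, 0, 1, 0, 0, 0, 1, 0, 0, 0, 0, 0, 0, 0, 0, 0, 0, 0, 0, 0, 0, 0, 0, 0, 0, 0, 0, 0, 0, 0, 0, 0, 0, 0, 0, 0, 0, 0, 0, 0, 0, 0, 0, 0, 0, 0, 0, 0, 0, 0, 0, 0, 0, 0, 0, 0, 0, 0, 0, 0, 0, 0, 0, 0, 0, 0, 0, 0, 0, 0, 0, 0, 0, 0, 0, 0],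
    [0, 0, 0, 0, 0, 0, 0, 0, 0, 0, 0, 0, 0, 0, 0, 0, 0, 0, 0, 0, 0, 0, 0, 0, 0, 0, 0, 0, 0, 0, 0, 0, 0, 0, 0, 0, 0, 0, 0, 0, 0, 0, 0, 0, 0, 0, 0, 0, 0, 0, 0, 0, 0, 0, 0, 0, 0, 0, 0, 0, 0, 0, 0, 0, 0, 0, 0, 0, 0, 0, 0, 0, 0, 0, 0, 0, 0, 0, 0, 0, 0, 0, 0, 0, 0, 0, 0, 0, 1, 0, 0, 0, 0, 0, 0, 0, 0, 0, 0, 0, 0, 0, 0, 0, 0, 0, 0, 0, 0, 0, 0, 0, 0, 0, 0, 0, 0, 0, 0, 0, 0, 0, 0, 0, 0, 0, 0, 0, 0, 0, 0, 0, 0, 0, 0, 0, 0, 0, 0, 0, 0, 0, 0, 0, 0, 0, 0, 0, 0, 0, 0, 0, 0, 0, 0, 0, 0, 0, 0],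
    [0, 0, 0, 0, 0, 0, 0, 0, 0, 0, 0, 0, 0, 0, 0, 0, 0, 0, 0, 0, 0, 0, 0, 0, 0, 0, 0, 0, 0, 0, 0, 0, 0, 0, 0, 0, 0, 0, 0, 0, 0, 0, 0, 0, 0, 0, 0, 0, 0, 0, 0, 0, 0, 0, 0, 0, 0, 0, 0, 0, 0, 0, 0, 0, 0, 0, 0, 0, 0, 0, 0, 0, 0, 0, 0, 0, 0, 0, 0, 0, 0, 0, 0, 0, 0, 0, 0, 0, 0, 0, 0, 0, 0, 0, 1, 0, 0, 0, 1, 0, 0, 0, 1, 0, 0, 0, 0, 0, 0, 0, 0, 0, 0, 0, 0, 0, 0, 0, 0, 0, 0, 0, 0, 0, 0, 0, 0, 0, 0, 0, 0, 0, 0, 0, 0, 0, 0, 0, 0, 0, 0, 0, 0, 0, 0, 0, 0, 0, 0, 0, 0, 0, 0, 0, 0, 0, 0, 0, 0],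
    [0, 0, 0, 0, 0, 0, 0, 0, 0, 0, 0, 0, 0, 0, 0, 0, 0, 0, 0, 0, 0, 0, 0, 0, 0, 0, 0, 0, 0, 0, 0, 0, 0, 0, 0, 0, 0, 0, 0, 0, 0, 0, 0, 0, 0, 0, 0, 0, 0, 0, 0, 0, 0, 0, 0, 0, 0, 0, 0, 0, 0, 0, 0, 0, 0, 0, 0, 0, 0, 0, 0, 0, 0, 0, 0, 0, 0, 0, 1, 0, 0, 0, 0, 0, 0, 0, 0, 0, 0, 0, 0, 1, 0, 0, 0, 0, 0, 1, 0, 0, 0, 0, 0, 0, 1, 0, 0, 0, 0, 0, 0, 0, 0, 0, 0, 0, 0, 0, 0, 0, 0, 0, 0, 0, 0, 0, 0, 0, 0, 0, 0, 0, 0, 0, 0, 0, 0, 0, 0, 0, 0, 0, 0, 0, 0, 0, 0, 0, 0, 0, 0, 0, 0, 0, 0, 0, 0, 0, 0],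
    [0, 0, 0, 0, 0, 0, 0, 0, 0, 0, 0, 0, 0, 0, 0, 0, 0, 0, 0, 0, 0, 0, 0, 0, 0, 0, 0, 0, 0, 0, 0, 0, 0, 0, 0, 0, 0, 0, 0, 0, 0, 0, 0, 0, 0, 0, 0, 0, 0, 0, 0, 0, 0, 0, 0, 0, 0, 0, 0, 0, 0, 0, 0, 0, 0, 0, 0, 0, 0, 0, 0, 1, 0, 0, 0, 0, 0, 0, 0, 0, 0, 0, 0, 1, 0, 0, 0, 0, 0, 0, 0, 0, 0, 0, 0, 0, 0, 0, 1, 0, 0, 0, 0, 0, 1, 0, 0, 0, 0, 0, 0, 0, 0, 0, 0, 0, 0, 0, 0, 0, 0, 0, 0, 0, 0, 0, 0, 0, 0, 0, 0, 0, 0, 0, 0, 0, 0, 0, 0, 0, 0, 0, 0, 0, 0, 0, 0, 0, 0, 0, 0, 0, 0, 0, 0, 0, 0, 0, 0],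
    [0, 0, 0, 0, 0, 0, 0, 0, 0, 0, 0, 0, 0, 0, 0, 0, 0, 0, 0, 0, 0, 0, 0, 0, 0, 0, 0, 0, 0, 0, 0, 0, 0, 0, 0, 0, 0, 0, 0, 0, 0, 0, 0, 0, 0, 0, 0, 0, 0, 0, 0, 0, 0, 0, 0, 0, 0, 0, 0, 0, 0, 0, 0, 0, 0, 0, 0, 0, 0, 0, 0, 0, 0, 0, 0, 0, 0, 0, 0, 0, 1, 0, 0, 0, 0, 0, 0, 0, 0, 0, 0, 0, 0, 1, 0, 0, 0, 0, 0, 0, 1, 0, 0, 0, 1, 0, 0, 0, 0, 0, 0, 0, 0, 0, 0, 0, 0, 0, 0, 0, 0, 0, 0, 0, 0, 0, 0, 0, 0, 0, 0, 0, 0, 0, 0, 0, 0, 0, 0, 0, 0, 0, 0, 0, 0, 0, 0, 0, 0, 0, 0, 0, 0, 0, 0, 0, 0, 0, 0],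
    [0, 0, 0, 0, 0, 0, 0, 0, 0, 0, 0, 0, 0, 0, 0, 0, 0, 0, 0, 0, 0, 0, 0, 0, 0, 0, 0, 0, 0, 0, 0, 0, 0, 0, 0, 0, 0, 0, 0, 0, 0, 0, 0, 0, 0, 0, 0, 0, 0, 0, 0, 0, 0, 0, 0, 0, 0, 0, 0, 0, 0, 0, 0, 0, 0, 0, 0, 0, 0, 0, 0, 0, 0, 0, 0, 0, 0, 0, 0, 0, 0, 0, 0, 0, 1, 0, 0, 0, 0, 0, 0, 0, 0, 0, 0, 0, 0, 0, 0, 0, 0, 0, 0, 1, 0, 0, 0, 0, 0, 0, 0, 0, 0, 0, 0, 0, 0, 0, 0, 0, 0, 0, 0, 0, 0, 0, 0, 0, 0, 0, 0, 0, 0, 0, 0, 0, 0, 0, 0, 0, 0, 0, 0, 0, 0, 0, 0, 0, 0, 0, 0, 0, 0, 0, 0, 0, 0, 0, 0],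
    [0, 0, 0, 0, 0, 0, 0, 0, 0, 0, 0, 0, 0, 0, 0, 0, 0, 0, 0, 0, 0, 0, 0, 0, 0, 0, 0, 0, 0, 0, 0, 0, 0, 0, 0, 0, 0, 0, 0, 0, 0, 0, 0, 0, 0, 0, 0, 0, 0, 0, 0, 0, 0, 0, 0, 0, 0, 0, 0, 0, 0, 0, 0, 0, 0, 0, 0, 0, 0, 1, 0, 0, 0, 0, 0, 0, 0, 1, 1, 0, 0, 0, 0, 0, 0, 0, 0, 0, 0, 0, 0, 0, 0, 0, 0, 0, 0, 0, 0, 0, 0, 0, 0, 0, 0, 0, 0, 0, 0, 0, 0, 0, 0, 0, 0, 0, 0, 0, 0, 0, 0, 0, 0, 0, 0, 0, 0, 0, 0, 0, 0, 0, 0, 0, 0, 0, 0, 0, 0, 0, 0, 0, 0, 0, 0, 0, 0, 0, 0, 0, 0, 0, 0, 0, 0, 0, 0, 0, 0]]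

/-- part of the exponents -/
def twoVecs3 : List (List ℤ) :=
  [[0, 0, 0, 0, 0, 0, 0, 0, 0, 0, 0, 0, 0, 0, 0, 0, 0, 0, 0, 0, 0, 0, 0, 0, 0, 0, 0, 0, 0, 0, 0, 0, 0, 0, 0, 0, 0, 0, 0, 0, 0, 0, 0, 0, 0, 0, 0, 0, 0, 0, 0, 0, 0, 0, 0, 0, 0, 0, 0, 0, 0, 0, 0, 1, 0, 1, 0, 0, 0, 0, 0, 0, 0, 0, 1, 0, 1, 1, 0, 0, 0, 0, 0, 0, 0, 0, 0, 0, 0, 0, 0, 0, 0, 0, 0, 0, 0, 0, 0, 0, 0, 0, 0, 0, 0, 0, 0, 0, 0, 0, 0, 0, 0, 0, 0, 0, 0, 0, 0, 0, 0, 0, 0, 0, 0, 0, 0, 0, 0, 0, 0, 0, 0, 0, 0, 0, 0, 0, 0, 0, 0, 0, 0, 0, 0, 0, 0, 0, 0, 0, 0, 0, 0, 0, 0, 0, 0, 0, 0],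
    [0, 0, 0, 0, 0, 0, 0, 0, 0, 0, 0, 0, 0, 0, 0, 0, 0, 0, 0, 0, 0, 0, 0, 0, 0, 0, 0, 0, 0, 0, 0, 0, 0, 0, 0, 0, 0, 0, 0, 0, 0, 0, 0, 0, 0, 0, 0, 0, 0, 0, 0, 0, 0, 0, 0, 0, 0, 0, 0, 0, 0, 0, 0, 0, 0, 0, 0, 0, 0, 1, 0, 0, 0, 0, 0, 0, 0, 1, 0, 0, 0, 0, 0, 0, 0, 0, 1, 0, 0, 0, 0, 0, 0, 0, 0, 0, 0, 0, 0, 0, 0, 0, 0, 0, 0, 0, 0, 0, 0, 0, 0, 0, 0, 0, 0, 0, 0, 0, 0, 0, 0, 0, 0, 0, 0, 0, 0, 0, 0, 0, 0, 0, 0, 0, 0, 0, 0, 0, 0, 0, 0, 0, 0, 0, 0, 0, 0, 0, 0, 0, 0, 0, 0, 0, 0, 0, 0, 0, 0],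
    [0, 0, 0, 0, 0, 0, 0, 0, 0, 0, 0, 0, 0, 0, 0, 0, 0, 0, 0, 0, 0, 0, 0, 0, 0, 0, 0, 0, 0, 0, 0, 0, 0, 0, 0, 0, 0, 0, 0, 0, 0, 0, 0, 0, 0, 0, 0, 0, 0, 0, 0, 0, 0, 0, 0, 0, 0, 0, 0, 0, 0, 0, 0, 0, 0, 0, 0, 0, 0, 0, 0, 0, 0, 1, 0, 0, 0, 0, 0, 0, 0, 0, 0, 0, 0, 0, 0, 0, 0, 0, 0, 0, 0, 0, 0, 0, 0, 0, 0, 1, 0, 0, 1, 0, 0, 0, 0, 0, 0, 0, 0, 0, 0, 0, 0, 0, 0, 0, 0, 0, 0, 0, 0, 0, 0, 0, 0, 0, 0, 0, 0, 0, 0, 0, 0, 0, 0, 0, 0, 0, 0, 0, 0, 0, 0, 0, 0, 0, 0, 0, 0, 0, 0, 0, 0, 0, 0, 0, 0],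
    [0, 0, 0, 0, 0, 0, 0, 0, 0, 0, 0, 0, 0, 0, 0, 0, 0, 0, 0, 0, 0, 0, 0, 0, 0, 0, 0, 0, 0, 0, 0, 0, 0, 0, 0, 0, 0, 0, 0, 0, 0, 0, 0, 0, 0, 0, 0, 0, 0, 0, 1, 0, 0, 0, 0, 0, 0, 0, 0, 0, 0, 0, 0, 0, 0, 0, 0, 0, 0, 0, 0, 0, 0, 0, 0, 0, 0, 0, 0, 0, 0, 0, 0, 0, 0, 0, 0, 1, 0, 0, 0, 0, 0, 1, 0, 0, 0, 0, 0, 0, 1, 0, 0, 0, 1, 0, 0, 0, 0, 0, 0, 0, 0, 0, 0, 0, 0, 0, 0, 0, 0, 0, 0, 0, 0, 0, 0, 0, 0, 0, 0, 0, 0, 0, 0, 0, 0, 0, 0, 0, 0, 0, 0, 0, 0, 0, 0, 0, 0, 0, 0, 0, 0, 0, 0, 0, 0, 0, 0],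
    [0, 0, 0, 0, 0, 0, 0, 0, 0, 0, 0, 0, 0, 0, 0, 0, 0, 0, 0, 0, 0, 0, 0, 0, 0, 0, 0, 0, 0, 0, 0, 0, 0, 0, 0, 0, 0, 0, 0, 0, 0, 0, 0, 0, 0, 0, 0, 0, 0, 0, 0, 0, 0, 0, 0, 0, 0, 0, 0, 0, 0, 0, 0, 0, 0, 0, 0, 0, 0, 0, 0, 0, 0, 0, 0, 0, 0, 0, 0, 0, 0, 0, 0, 0, 0, 0, 0, 0, 1, 0, 1, 0, 0, 0, 0, 0, 0, 0, 0, 0, 0, 1, 0, 1, 1, 0, 0, 0, 0, 0, 0, 0, 0, 0, 0, 0, 0, 0, 0, 0, 0, 0, 0, 0, 0, 0, 0, 0, 0, 0, 0, 0, 0, 0, 0, 0, 0, 0, 0, 0, 0, 0, 0, 0, 0, 0, 0, 0, 0, 0, 0, 0, 0, 0, 0, 0, 0, 0, 0],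
    [0, 0, 0, 0, 0, 0, 0, 0, 0, 0, 0, 0, 0, 0, 0, 0, 0, 0, 0, 0, 0, 0, 0, 0, 0, 0, 0, 0, 0, 0, 0, 0, 0, 0, 0, 0, 0, 0, 0, 0, 0, 0, 0, 0, 0, 0, 0, 0, 0, 0, 0, 0, 0, 0, 0, 0, 0, 0, 0, 0, 0, 1, 0, 0, 0, 0, 0, 0, 0, 0, 0, 0, 1, 0, 0, 0, 0, 0, 0, 0, 0, 0, 0, 0, 0, 0, 0, 0, 0, 0, 0, 0, 0, 0, 0, 0, 0, 0, 0, 1, 0, 1, 1, 0, 0, 0, 0, 0, 0, 0, 0, 0, 0, 0, 0, 0, 0, 0, 0, 0, 0, 0, 0, 0, 0, 0, 0, 0, 0, 0, 0, 0, 0, 0, 0, 0, 0, 0, 0, 0, 0, 0, 0, 0, 0, 0, 0, 0, 0, 0, 0, 0, 0, 0, 0, 0, 0, 0, 0],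
    [0, 0, 0, 0, 0, 0, 0, 0, 0, 0, 0, 0, 0, 0, 0, 0, 0, 0, 0, 0, 0, 0, 0, 0, 0, 0, 0, 0, 0, 0, 0, 0, 0, 0, 0, 0, 0, 0, 0, 0, 0, 0, 0, 0, 0, 0, 0, 0, 0, 0, 0, 0, 0, 0, 0, 0, 0, 0, 0, 0, 0, 0, 0, 0, 0, 0, 0, 0, 0, 0, 0, 0, 1, 0, 0, 0, 0, 0, 0, 0, 0, 0, 0, 0, 0, 0, 1, 0, 0, 1, 0, 0, 0, 0, 0, 0, 0, 0, 0, 1, 0, 0, 1, 0, 0, 0, 0, 0, 0, 0, 0, 0, 0, 0, 0, 0, 0, 0, 0, 0, 0, 0, 0, 0, 0, 0, 0, 0, 0, 0, 0, 0, 0, 0, 0, 0, 0, 0, 0, 0, 0, 0, 0, 0, 0, 0, 0, 0, 0, 0, 0, 0, 0, 0, 0, 0, 0, 0, 0],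
    [0, 0, 0, 0, 0, 0, 0, 0, 0, 0, 0, 0, 0, 0, 0, 0, 0, 0, 0, 0, 0, 0, 0, 0, 0, 0, 0, 0, 0, 0, 0, 0, 0, 0, 0, 0, 0, 0, 0, 0, 0, 0, 0, 0, 0, 0, 0, 0, 0, 0, 0, 0, 0, 0, 0, 0, 0, 0, 0, 0, 0, 0, 0, 0, 1, 0, 0, 0, 0, 0, 0, 0, 0, 0, 0, 1, 0, 0, 0, 0, 0, 0, 0, 0, 0, 0, 0, 0, 0, 0, 0, 0, 0, 0, 0, 0, 0, 0, 0, 1, 0, 1, 1, 0, 0, 0, 0, 0, 0, 0, 0, 0, 0, 0, 0, 0, 0, 0, 0, 0, 0, 0, 0, 0, 0, 0, 0, 0, 0, 0, 0, 0, 0, 0, 0, 0, 0, 0, 0, 0, 0, 0, 0, 0, 0, 0, 0, 0, 0, 0, 0, 0, 0, 0, 0, 0, 0, 0, 0],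
    [0, 0, 0, 0, 0, 0, 0, 0, 0, 0, 0, 0, 0, 0, 0, 0, 0, 0, 0, 0, 0, 0, 0, 0, 1, 0, 0, 1, 0, 0, 0, 0, 0, 0, 0, 0, 0, 0, 0, 0, 0, 0, 0, 0, 0, 0, 0, 0, 0, 0, 0, 0, 0, 0, 0, 0, 0, 0, 0, 0, 0, 0, 0, 0, 0, 0, 0, 0, 0, 0, 0, 0, 0, 0, 0, 0, 0, 0, 0, 0, 1, 0, 0, 0, 1, 0, 0, 0, 0, 0, 1, 0, 0, 0, 1, 0, 0, 0, 0, 0, 0, 0, 0, 0, 0, 0, 0, 0, 0, 0, 0, 0, 0, 0, 0, 0, 0, 0, 0, 0, 0, 0, 0, 0, 0, 0, 0, 0, 0, 0, 0, 0, 0, 0, 0, 0, 0, 0, 0, 0, 0, 0, 0, 0, 0, 0, 0, 0, 0, 0, 0, 0, 0, 0, 0, 0, 0, 0, 0],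
    [0, 0, 0, 0, 0, 0, 0, 0, 0, 0, 0, 0, 0, 0, 0, 0, 0, 0, 0, 0, 0, 0, 0, 0, 0, 0, 0, 0, 0, 0, 0, 0, 0, 0, 0, 0, 0, 0, 0, 0, 0, 0, 0, 0, 0, 0, 0, 0, 0, 0, 0, 0, 0, 0, 0, 0, 0, 0, 0, 0, 0, 0, 0, 0, 1, 1, 0, 0, 0, 0, 0, 0, 0, 0, 0, 0, 0, 0, 0, 1, 0, 0, 0, 0, 0, 0, 0, 0, 0, 0, 0, 0, 1, 0, 0, 0, 0, 0, 0, 0, 0, 0, 0, 0, 0, 0, 0, 0, 0, 0, 0, 0, 0, 0, 0, 0, 0, 0, 0, 0, 0, 0, 0, 0, 0, 0, 0, 0, 0, 0, 0, 0, 0, 0, 0, 0, 0, 0, 0, 0, 0, 0, 0, 0, 0, 0, 0, 0, 0, 0, 0, 0, 0, 0, 0, 0, 0, 0, 0]]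

/-- part of the exponents -/
def twoVecs4 : List (List ℤ) :=
  [[0, 0, 0, 0, 0, 0, 0, 0, 0, 0, 0, 0, 0, 0, 0, 0, 0, 0, 0, 0, 0, 0, 0, 0, 0, 0, 0, 0, 0, 0, 0, 0, 0, 0, 0, 0, 0, 0, 0, 0, 0, 0, 0, 0, 0, 0, 0, 0, 0, 0, 0, 0, 0, 0, 0, 0, 0, 0, 0, 0, 0, 0, 0, 1, 1, 0, 0, 0, 0, 0, 0, 0, 0, 0, 0, 1, 1, 0, 0, 0, 0, 0, 0, 0, 0, 0, 0, 0, 0, 0, 0, 0, 0, 0, 0, 0, 0, 0, 0, 0, 0, 0, 0, 0, 0, 0, 0, 0, 0, 0, 0, 0, 0, 0, 0, 0, 0, 0, 0, 0, 0, 0, 0, 0, 0, 0, 0, 0, 0, 0, 0, 0, 0, 0, 0, 0, 0, 0, 0, 0, 0, 0, 0, 0, 0, 0, 0, 0, 0, 0, 0, 0, 0, 0, 0, 0, 0, 0, 0],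
    [0, 0, 0, 0, 0, 0, 0, 0, 0, 0, 0, 0, 0, 0, 0, 0, 0, 0, 0, 0, 0, 0, 0, 0, 0, 0, 0, 0, 0, 0, 0, 0, 0, 0, 0, 0, 0, 0, 0, 0, 0, 0, 0, 0, 0, 0, 0, 0, 0, 1, 0, 0, 0, 0, 1, 0, 0, 0, 0, 0, 0, 0, 0, 0, 0, 0, 0, 0, 0, 0, 0, 0, 0, 0, 0, 0, 0, 0, 0, 0, 0, 0, 1, 0, 0, 1, 0, 1, 0, 0, 0, 0, 0, 0, 0, 0, 0, 0, 0, 0, 0, 0, 0, 1, 1, 0, 0, 0, 0, 0, 0, 0, 0, 0, 0, 0, 0, 0, 0, 0, 0, 0, 0, 0, 0, 0, 0, 0, 0, 0, 0, 0, 0, 0, 0, 0, 0, 0, 0, 0, 0, 0, 0, 0, 0, 0, 0, 0, 0, 0, 0, 0, 0, 0, 0, 0, 0, 0, 0],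
    [0, 0, 0, 0, 0, 0, 0, 0, 0, 0, 0, 0, 0, 0, 0, 0, 0, 0, 0, 0, 0, 0, 0, 0, 0, 0, 0, 0, 0, 0, 0, 0, 0, 0, 0, 0, 0, 0, 0, 0, 0, 0, 0, 0, 0, 0, 0, 0, 0, 0, 0, 0, 0, 0, 0, 0, 0, 0, 0, 0, 1, 0, 0, 0, 0, 0, 0, 0, 1, 0, 0, 1, 0, 0, 0, 0, 1, 0, 0, 0, 0, 0, 0, 0, 0, 0, 0, 0, 0, 1, 0, 0, 0, 0, 0, 0, 0, 0, 0, 0, 0, 0, 1, 0, 0, 0, 0, 0, 0, 0, 0, 0, 0, 0, 0, 0, 0, 0, 0, 0, 0, 0, 0, 0, 0, 0, 0, 0, 0, 0, 0, 0, 0, 0, 0, 0, 0, 0, 0, 0, 0, 0, 0, 0, 0, 0, 0, 0, 0, 0, 0, 0, 0, 0, 0, 0, 0, 0, 0],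
    [0, 0, 0, 0, 0, 0, 0, 0, 0, 0, 0, 0, 0, 0, 0, 0, 0, 0, 0, 1, 1, 0, 0, 0, 0, 0, 0, 0, 0, 0, 0, 0, 0, 0, 0, 0, 0, 0, 0, 0, 0, 0, 0, 0, 0, 0, 0, 0, 0, 0, 0, 0, 0, 0, 0, 0, 0, 0, 0, 0, 0, 0, 0, 0, 0, 0, 0, 0, 0, 0, 0, 0, 0, 0, 0, 0, 0, 0, 0, 1, 0, 0, 1, 1, 0, 0, 0, 0, 0, 0, 1, 0, 0, 0, 0, 1, 0, 0, 0, 0, 0, 0, 0, 0, 0, 0, 0, 0, 0, 0, 0, 0, 0, 0, 0, 0, 0, 0, 0, 0, 0, 0, 0, 0, 0, 0, 0, 0, 0, 0, 0, 0, 0, 0, 0, 0, 0, 0, 0, 0, 0, 0, 0, 0, 0, 0, 0, 0, 0, 0, 0, 0, 0, 0, 0, 0, 0, 0, 0],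
    [0, 0, 0, 0, 0, 0, 0, 0, 0, 0, 0, 0, 0, 0, 0, 0, 0, 0, 0, 1, 1, 0, 0, 0, 0, 0, 0, 0, 0, 0, 0, 0, 0, 0, 0, 0, 0, 0, 0, 0, 0, 0, 0, 0, 0, 0, 0, 0, 0, 0, 0, 0, 0, 0, 0, 0, 0, 0, 0, 0, 0, 0, 0, 0, 0, 0, 0, 0, 0, 0, 0, 0, 0, 0, 0, 0, 0, 0, 0, 0, 1, 0, 1, 1, 0, 0, 0, 0, 0, 0, 1, 0, 0, 0, 0, 1, 0, 0, 0, 0, 0, 0, 0, 0, 0, 0, 0, 0, 0, 0, 0, 0, 0, 0, 0, 0, 0, 0, 0, 0, 0, 0, 0, 0, 0, 0, 0, 0, 0, 0, 0, 0, 0, 0, 0, 0, 0, 0, 0, 0, 0, 0, 0, 0, 0, 0, 0, 0, 0, 0, 0, 0, 0, 0, 0, 0, 0, 0, 0],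
    [0, 0, 0, 0, 0, 0, 0, 0, 0, 0, 0, 0, 0, 0, 0, 0, 0, 0, 0, 0, 0, 0, 0, 0, 0, 1, 0, 1, 0, 0, 0, 0, 0, 0, 0, 0, 0, 0, 0, 0, 0, 0, 0, 0, 0, 0, 0, 0, 0, 0, 0, 0, 0, 0, 0, 0, 0, 0, 0, 0, 0, 0, 0, 0, 0, 0, 0, 0, 0, 0, 0, 0, 0, 0, 0, 0, 0, 0, 0, 0, 0, 1, 1, 0, 0, 0, 0, 0, 0, 0, 0, 0, 0, 0, 0, 0, 0, 1, 0, 0, 0, 0, 0, 0, 1, 0, 0, 0, 0, 0, 0, 0, 0, 0, 0, 0, 0, 0, 0, 0, 0, 0, 0, 0, 0, 0, 0, 0, 0, 0, 0, 0, 0, 0, 0, 0, 0, 0, 0, 0, 0, 0, 0, 0, 0, 0, 0, 0, 0, 0, 0, 0, 0, 0, 0, 0, 0, 0, 0],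
    [0, 0, 0, 0, 0, 0, 1, 0, 0, 0, 0, 0, 0, 0, 0, 0, 0, 0, 0, 0, 0, 0, 0, 0, 0, 0, 0, 0, 0, 0, 0, 0, 0, 0, 0, 0, 1, 0, 0, 0, 0, 0, 0, 0, 0, 1, 0, 0, 0, 0, 0, 0, 0, 0, 0, 0, 0, 0, 0, 0, 0, 0, 0, 0, 1, 1, 1, 0, 0, 0, 0, 0, 0, 0, 1, 0, 1, 1, 0, 0, 0, 0, 0, 0, 0, 0, 0, 0, 0, 1, 1, 1, 0, 0, 0, 0, 0, 0, 0, 0, 0, 0, 1, 1, 1, 0, 0, 0, 0, 0, 0, 0, 0, 0, 0, 0, 0, 0, 0, 0, 0, 0, 0, 0, 0, 0, 0, 0, 0, 0, 0, 0, 0, 0, 0, 0, 0, 0, 0, 0, 0, 0, 0, 0, 0, 0, 0, 0, 0, 0, 0, 0, 0, 0, 0, 0, 0, 0, 0],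
    [0, 0, 0, 0, 0, 0, 0, 0, 0, 0, 0, 0, 0, 0, 0, 0, 0, 0, 0, 0, 0, 0, 0, 0, 0, 0, 1, 0, 0, 0, 0, 0, 0, 0, 0, 0, 0, 0, 0, 0, 0, 0, 0, 0, 0, 0, 0, 0, 0, 0, 0, 0, 0, 0, 0, 0, 0, 0, 0, 0, 0, 0, 0, 0, 0, 0, 0, 0, 1, 0, 0, 0, 1, 0, 0, 0, 0, 0, 0, 0, 0, 0, 0, 0, 0, 0, 0, 0, 0, 1, 1, 0, 0, 1, 0, 0, 1, 1, 0, 0, 0, 0, 0, 0, 1, 0, 0, 0, 0, 0, 0, 0, 0, 0, 0, 0, 0, 0, 0, 0, 0, 0, 0, 0, 0, 0, 0, 0, 0, 0, 0, 0, 0, 0, 0, 0, 0, 0, 0, 0, 0, 0, 0, 0, 0, 0, 0, 0, 0, 0, 0, 0, 0, 0, 0, 0, 0, 0, 0],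
    [0, 0, 0, 0, 0, 0, 0, 0, 0, 0, 0, 0, 0, 0, 0, 0, 0, 0, 0, 0, 0, 0, 0, 0, 0, 0, 0, 0, 0, 0, 0, 0, 0, 0, 0, 0, 0, 0, 0, 0, 0, 0, 0, 0, 0, 0, 0, 0, 0, 0, 0, 0, 0, 1, 0, 0, 0, 0, 0, 0, 0, 0, 1, 0, 1, 0, 0, 0, 0, 0, 0, 0, 0, 1, 0, 1, 0, 0, 0, 0, 0, 0, 0, 0, 0, 0, 1, 0, 1, 1, 0, 0, 0, 0, 0, 0, 0, 0, 1, 0, 1, 0, 0, 1, 0, 0, 0, 0, 0, 0, 0, 0, 0, 0, 0, 0, 0, 0, 0, 0, 0, 0, 0, 0, 0, 0, 0, 0, 0, 0, 0, 0, 0, 0, 0, 0, 0, 0, 0, 0, 0, 0, 0, 0, 0, 0, 0, 0, 0, 0, 0, 0, 0, 0, 0, 0, 0, 0, 0],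
    [0, 0, 0, 0, 0, 0, 0, 0, 0, 0, 0, 0, 0, 0, 0, 0, 0, 0, 0, 0, 0, 0, 0, 0, 0, 0, 0, 0, 0, 0, 0, 0, 0, 0, 0, 0, 0, 0, 0, 0, 0, 0, 0, 0, 0, 0, 0, 0, 0, 0, 0, 0, 0, 0, 0, 0, 0, 0, 1, 0, 0, 0, 0, 0, 0, 0, 1, 0, 0, 1, 0, 0, 0, 0, 1, 0, 0, 0, 0, 0, 0, 0, 0, 0, 0, 0, 0, 0, 0, 0, 0, 0, 0, 0, 0, 0, 0, 0, 0, 0, 0, 0, 0, 0, 0, 0, 0, 0, 0, 0, 0, 0, 0, 0, 0, 0, 0, 0, 0, 0, 0, 0, 0, 0, 0, 0, 0, 0, 0, 0, 0, 0, 0, 0, 0, 0, 0, 0, 0, 0, 0, 0, 0, 0, 0, 0, 0, 0, 0, 0, 0, 0, 0, 0, 0, 0, 0, 0, 0]]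

/-- part of the exponents -/
def twoVecs5 : List (List ℤ) :=
  [[0, 0, 0, 0, 0, 0, 0, 0, 0, 0, 0, 0, 0, 0, 0, 0, 0, 0, 0, 0, 0, 0, 0, 0, 0, 0, 0, 0, 0, 0, 0, 0, 0, 0, 0, 0, 0, 0, 0, 0, 0, 0, 0, 0, 0, 0, 0, 0, 1, 0, 0, 0, 1, 0, 0, 0, 1, 0, 0, 0, 0, 0, 0, 0, 0, 1, 0, 0, 0, 0, 0, 0, 0, 1, 0, 1, 0, 0, 0, 0, 0, 0, 0, 0, 0, 1, 0, 0, 0, 1, 0, 0, 0, 0, 0, 0, 0, 0, 1, 0, 0, 0, 1, 0, 0, 0, 0, 0, 0, 0, 0, 0, 0, 0, 0, 0, 0, 0, 0, 0, 0, 0, 0, 0, 0, 0, 0, 0, 0, 0, 0, 0, 0, 0, 0, 0, 0, 0, 0, 0, 0, 0, 0, 0, 0, 0, 0, 0, 0, 0, 0, 0, 0, 0, 0, 0, 0, 0, 0],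
    [0, 0, 0, 0, 0, 0, 0, 0, 0, 0, 0, 0, 0, 0, 0, 0, 0, 0, 0, 0, 0, 0, 0, 0, 0, 0, 0, 0, 0, 0, 0, 0, 0, 0, 0, 0, 0, 0, 0, 0, 0, 0, 0, 0, 0, 0, 0, 0, 0, 0, 0, 0, 1, 0, 1, 0, 0, 0, 0, 0, 0, 0, 0, 0, 0, 0, 0, 0, 0, 0, 1, 0, 0, 0, 0, 0, 0, 0, 0, 0, 0, 0, 1, 0, 0, 1, 0, 1, 0, 1, 1, 0, 0, 0, 0, 0, 0, 0, 0, 0, 0, 0, 1, 0, 0, 0, 0, 0, 0, 0, 0, 0, 0, 0, 0, 0, 0, 0, 0, 0, 0, 0, 0, 0, 0, 0, 0, 0, 0, 0, 0, 0, 0, 0, 0, 0, 0, 0, 0, 0, 0, 0, 0, 0, 0, 0, 0, 0, 0, 0, 0, 0, 0, 0, 0, 0, 0, 0, 0],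
    [0, 0, 0, 0, 0, 0, 0, 0, 0, 0, 0, 0, 0, 0, 0, 0, 0, 0, 0, 0, 0, 0, 0, 0, 0, 0, 0, 0, 0, 0, 0, 0, 0, 0, 0, 0, 0, 0, 0, 0, 0, 0, 0, 0, 0, 0, 0, 0, 0, 0, 0, 0, 0, 0, 0, 0, 0, 0, 0, 1, 0, 0, 0, 0, 0, 1, 0, 0, 0, 0, 1, 0, 0, 0, 0, 0, 1, 1, 0, 0, 0, 0, 0, 0, 0, 0, 1, 0, 0, 1, 1, 0, 0, 0, 0, 1, 0, 0, 0, 0, 0, 1, 0, 1, 0, 0, 0, 0, 0, 0, 0, 0, 0, 0, 0, 0, 0, 0, 0, 0, 0, 0, 0, 0, 0, 0, 0, 0, 0, 0, 0, 0, 0, 0, 0, 0, 0, 0, 0, 0, 0, 0, 0, 0, 0, 0, 0, 0, 0, 0, 0, 0, 0, 0, 0, 0, 0, 0, 0],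
    [0, 0, 0, 0, 0, 0, 0, 0, 0, 0, 0, 0, 0, 0, 0, 0, 0, 0, 0, 0, 0, 0, 0, 0, 0, 0, 0, 0, 0, 0, 0, 0, 0, 0, 0, 0, 0, 0, 0, 1, 0, 0, 0, 1, 0, 0, 0, 0, 0, 0, 0, 0, 0, 0, 0, 0, 1, 0, 0, 0, 0, 0, 0, 0, 0, 1, 0, 1, 0, 0, 0, 0, 0, 1, 1, 0, 1, 1, 0, 0, 0, 0, 0, 0, 0, 0, 0, 0, 0, 1, 1, 0, 0, 0, 0, 0, 0, 0, 0, 0, 0, 0, 1, 1, 1, 0, 0, 0, 0, 0, 0, 0, 0, 0, 0, 0, 0, 0, 0, 0, 0, 0, 0, 0, 0, 0, 0, 0, 0, 0, 0, 0, 0, 0, 0, 0, 0, 0, 0, 0, 0, 0, 0, 0, 0, 0, 0, 0, 0, 0, 0, 0, 0, 0, 0, 0, 0, 0, 0],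
    [0, 0, 0, 0, 0, 0, 0, 0, 0, 0, 0, 0, 0, 0, 0, 0, 0, 0, 0, 0, 0, 0, 0, 0, 0, 0, 0, 0, 0, 0, 0, 0, 0, 0, 0, 0, 0, 0, 0, 0, 0, 0, 0, 0, 0, 0, 0, 0, 0, 0, 0, 0, 0, 0, 0, 0, 0, 0, 0, 0, 1, 0, 0, 0, 0, 0, 0, 0, 0, 0, 1, 1, 0, 0, 0, 0, 1, 0, 0, 0, 0, 0, 0, 0, 0, 0, 0, 0, 0, 1, 0, 0, 0, 0, 0, 0, 1, 0, 0, 1, 0, 1, 0, 0, 0, 0, 0, 0, 0, 0, 0, 0, 0, 0, 0, 0, 0, 0, 0, 0, 0, 0, 0, 0, 0, 0, 0, 0, 0, 0, 0, 0, 0, 0, 0, 0, 0, 0, 0, 0, 0, 0, 0, 0, 0, 0, 0, 0, 0, 0, 0, 0, 0, 0, 0, 0, 0, 0, 0],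
    [0, 0, 0, 0, 0, 0, 0, 0, 0, 0, 0, 0, 0, 0, 0, 0, 0, 0, 0, 0, 0, 0, 0, 0, 0, 0, 0, 0, 0, 0, 0, 0, 0, 0, 0, 0, 0, 0, 0, 0, 0, 0, 0, 0, 0, 0, 0, 0, 0, 0, 0, 0, 0, 0, 0, 0, 0, 0, 1, 0, 0, 0, 1, 0, 0, 0, 0, 1, 0, 0, 0, 0, 0, 0, 0, 0, 1, 1, 0, 1, 0, 0, 0, 0, 0, 1, 0, 0, 0, 0, 1, 0, 1, 0, 0, 0, 0, 0, 1, 0, 0, 0, 0, 1, 1, 0, 0, 0, 0, 0, 0, 0, 0, 0, 0, 0, 0, 0, 0, 0, 0, 0, 0, 0, 0, 0, 0, 0, 0, 0, 0, 0, 0, 0, 0, 0, 0, 0, 0, 0, 0, 0, 0, 0, 0, 0, 0, 0, 0, 0, 0, 0, 0, 0, 0, 0, 0, 0, 0],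
    [0, 0, 0, 0, 0, 0, 0, 0, 0, 0, 0, 0, 0, 0, 0, 0, 0, 0, 0, 0, 0, 0, 0, 0, 1, 0, 0, 0, 0, 0, 0, 0, 0, 0, 0, 0, 0, 0, 0, 0, 0, 0, 1, 0, 0, 0, 0, 0, 0, 0, 0, 1, 0, 0, 0, 0, 0, 0, 0, 0, 0, 0, 0, 0, 0, 0, 0, 0, 0, 0, 0, 0, 1, 0, 0, 0, 0, 0, 0, 0, 0, 0, 0, 0, 0, 0, 1, 1, 0, 0, 0, 1, 0, 0, 0, 0, 0, 1, 0, 1, 1, 0, 0, 0, 1, 0, 0, 0, 0, 0, 0, 0, 0, 0, 0, 0, 0, 0, 0, 0, 0, 0, 0, 0, 0, 0, 0, 0, 0, 0, 0, 0, 0, 0, 0, 0, 0, 0, 0, 0, 0, 0, 0, 0, 0, 0, 0, 0, 0, 0, 0, 0, 0, 0, 0, 0, 0, 0, 0],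
    [0, 0, 0, 0, 0, 0, 0, 0, 0, 0, 0, 0, 0, 0, 0, 0, 0, 0, 0, 0, 0, 0, 0, 0, 0, 0, 1, 1, 0, 0, 0, 0, 0, 0, 0, 0, 0, 0, 0, 0, 0, 0, 0, 0, 0, 0, 0, 0, 0, 0, 0, 0, 0, 0, 0, 0, 0, 0, 0, 0, 0, 0, 0, 0, 0, 0, 0, 0, 0, 0, 0, 1, 1, 0, 0, 0, 0, 1, 0, 0, 0, 0, 0, 1, 0, 0, 0, 0, 0, 1, 0, 1, 0, 0, 0, 0, 0, 1, 0, 0, 0, 0, 0, 0, 1, 0, 0, 0, 0, 0, 0, 0, 0, 0, 0, 0, 0, 0, 0, 0, 0, 0, 0, 0, 0, 0, 0, 0, 0, 0, 0, 0, 0, 0, 0, 0, 0, 0, 0, 0, 0, 0, 0, 0, 0, 0, 0, 0, 0, 0, 0, 0, 0, 0, 0, 0, 0, 0, 0],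
    [0, 0, 0, 0, 0, 0, 0, 0, 0, 0, 0, 0, 0, 0, 0, 0, 0, 0, 0, 0, 0, 0, 0, 0, 0, 0, 1, 0, 0, 0, 0, 0, 0, 0, 0, 0, 0, 0, 0, 0, 0, 0, 0, 0, 0, 0, 0, 0, 0, 0, 0, 1, 0, 0, 0, 0, 0, 0, 0, 0, 0, 0, 0, 0, 0, 0, 0, 0, 0, 0, 0, 0, 0, 0, 0, 0, 0, 0, 1, 0, 0, 0, 0, 1, 0, 0, 0, 0, 0, 0, 0, 1, 0, 0, 0, 1, 0, 1, 0, 0, 1, 0, 0, 0, 0, 0, 0, 0, 0, 0, 0, 0, 0, 0, 0, 0, 0, 0, 0, 0, 0, 0, 0, 0, 0, 0, 0, 0, 0, 0, 0, 0, 0, 0, 0, 0, 0, 0, 0, 0, 0, 0, 0, 0, 0, 0, 0, 0, 0, 0, 0, 0, 0, 0, 0, 0, 0, 0, 0],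
    [0, 0, 0, 0, 0, 0, 0, 0, 0, 0, 0, 0, 0, 0, 0, 0, 0, 0, 1, 0, 0, 0, 0, 1, 0, 0, 0, 1, 0, 0, 0, 0, 0, 0, 0, 0, 0, 0, 0, 0, 0, 0, 0, 0, 0, 0, 0, 0, 0, 0, 0, 0, 0, 0, 0, 0, 0, 0, 0, 0, 0, 0, 0, 0, 0, 0, 0, 0, 0, 0, 0, 0, 0, 0, 0, 0, 0, 1, 0, 0, 0, 1, 0, 0, 0, 0, 0, 0, 0, 1, 1, 0, 0, 1, 1, 0, 0, 1, 0, 0, 0, 0, 1, 0, 0, 0, 0, 0, 0, 0, 0, 0, 0, 0, 0, 0, 0, 0, 0, 0, 0, 0, 0, 0, 0, 0, 0, 0, 0, 0, 0, 0, 0, 0, 0, 0, 0, 0, 0, 0, 0, 0, 0, 0, 0, 0, 0, 0, 0, 0, 0, 0, 0, 0, 0, 0, 0, 0, 0]]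

/-- part of the exponents -/
def twoVecs6 : List (List ℤ) :=
  [[0, 0, 0, 0, 0, 0, 0, 0, 0, 0, 0, 0, 0, 0, 0, 0, 0, 0, 0, 0, 0, 0, 0, 0, 0, 0, 0, 0, 0, 0, 0, 0, 0, 0, 0, 0, 0, 0, 0, 0, 0, 1, 0, 0, 0, 0, 0, 0, 0, 0, 0, 0, 0, 0, 0, 0, 0, 1, 0, 0, 0, 0, 0, 0, 0, 1, 0, 0, 1, 0, 0, 0, 0, 0, 0, 0, 1, 1, 0, 0, 0, 0, 0, 0, 0, 0, 1, 0, 0, 0, 1, 0, 0, 0, 0, 0, 0, 0, 0, 1, 0, 0, 0, 1, 1, 0, 0, 0, 0, 0, 0, 0, 0, 0, 0, 0, 0, 0, 0, 0, 0, 0, 0, 0, 0, 0, 0, 0, 0, 0, 0, 0, 0, 0, 0, 0, 0, 0, 0, 0, 0, 0, 0, 0, 0, 0, 0, 0, 0, 0, 0, 0, 0, 0, 0, 0, 0, 0, 0],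
    [0, 0, 0, 0, 0, 0, 0, 1, 0, 0, 0, 0, 0, 0, 0, 0, 0, 0, 0, 0, 0, 0, 0, 0, 0, 0, 0, 0, 0, 1, 0, 0, 0, 0, 0, 0, 0, 0, 0, 0, 0, 0, 0, 1, 1, 0, 0, 0, 0, 0, 0, 0, 1, 1, 1, 0, 0, 0, 0, 0, 0, 0, 0, 0, 0, 0, 0, 1, 0, 0, 0, 0, 0, 0, 0, 0, 0, 0, 0, 0, 0, 0, 0, 0, 0, 1, 1, 1, 0, 1, 0, 0, 0, 0, 0, 0, 0, 0, 1, 1, 1, 0, 1, 0, 0, 0, 0, 0, 0, 0, 0, 0, 0, 0, 0, 0, 0, 0, 0, 0, 0, 0, 0, 0, 0, 0, 0, 0, 0, 0, 0, 0, 0, 0, 0, 0, 0, 0, 0, 0, 0, 0, 0, 0, 0, 0, 0, 0, 0, 0, 0, 0, 0, 0, 0, 0, 0, 0, 0],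
    [0, 0, 0, 0, 0, 0, 0, 0, 0, 0, 0, 0, 0, 0, 0, 0, 0, 0, 0, 0, 0, 0, 0, 0, 0, 0, 0, 0, 0, 0, 0, 0, 0, 0, 0, 0, 0, 0, 0, 1, 0, 0, 0, 0, 0, 0, 0, 0, 1, 0, 0, 0, 0, 0, 0, 0, 0, 0, 0, 0, 0, 0, 0, 0, 0, 0, 1, 0, 0, 1, 0, 0, 0, 0, 0, 1, 0, 0, 0, 0, 0, 0, 0, 0, 0, 0, 0, 0, 0, 1, 1, 0, 0, 0, 1, 0, 0, 0, 0, 0, 0, 0, 1, 0, 1, 0, 0, 0, 0, 0, 0, 0, 0, 0, 0, 0, 0, 0, 0, 0, 0, 0, 0, 0, 0, 0, 0, 0, 0, 0, 0, 0, 0, 0, 0, 0, 0, 0, 0, 0, 0, 0, 0, 0, 0, 0, 0, 0, 0, 0, 0, 0, 0, 0, 0, 0, 0, 0, 0],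
    [0, 0, 0, 0, 0, 0, 0, 0, 0, 0, 0, 0, 0, 0, 0, 0, 0, 0, 0, 0, 0, 0, 0, 0, 1, 0, 0, 0, 0, 0, 0, 0, 0, 0, 0, 0, 0, 0, 0, 0, 0, 0, 0, 0, 0, 0, 0, 0, 0, 0, 0, 0, 0, 0, 0, 0, 0, 0, 0, 0, 0, 0, 0, 0, 0, 0, 1, 0, 0, 1, 0, 1, 0, 0, 0, 0, 0, 0, 0, 0, 0, 1, 0, 0, 0, 0, 0, 0, 0, 0, 0, 1, 0, 0, 0, 0, 0, 1, 0, 0, 0, 0, 0, 1, 0, 0, 0, 0, 0, 0, 0, 0, 0, 0, 0, 0, 0, 0, 0, 0, 0, 0, 0, 0, 0, 0, 0, 0, 0, 0, 0, 0, 0, 0, 0, 0, 0, 0, 0, 0, 0, 0, 0, 0, 0, 0, 0, 0, 0, 0, 0, 0, 0, 0, 0, 0, 0, 0, 0],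
    [0, 0, 0, 0, 0, 0, 0, 0, 0, 0, 0, 0, 0, 0, 0, 0, 0, 0, 0, 0, 0, 0, 0, 0, 0, 0, 0, 0, 0, 0, 0, 0, 0, 0, 0, 0, 0, 0, 0, 0, 0, 0, 0, 1, 1, 0, 0, 0, 0, 0, 0, 0, 1, 1, 1, 0, 0, 0, 0, 0, 0, 0, 0, 0, 0, 0, 1, 0, 0, 0, 0, 0, 0, 1, 1, 1, 0, 1, 1, 0, 0, 0, 0, 0, 0, 1, 1, 1, 0, 0, 1, 0, 0, 0, 0, 0, 0, 0, 0, 0, 0, 0, 1, 0, 0, 0, 0, 0, 0, 0, 0, 0, 0, 0, 0, 0, 0, 0, 0, 0, 0, 0, 0, 0, 0, 0, 0, 0, 0, 0, 0, 0, 0, 0, 0, 0, 0, 0, 0, 0, 0, 0, 0, 0, 0, 0, 0, 0, 0, 0, 0, 0, 0, 0, 0, 0, 0, 0, 0],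
    [0, 0, 0, 0, 0, 0, 0, 0, 0, 0, 0, 0, 0, 0, 0, 0, 0, 0, 0, 0, 0, 0, 0, 0, 0, 0, 0, 0, 0, 0, 0, 0, 0, 0, 0, 0, 0, 0, 0, 1, 0, 0, 0, 0, 1, 0, 0, 0, 1, 0, 0, 0, 0, 1, 1, 0, 0, 0, 0, 0, 0, 0, 0, 0, 0, 0, 0, 0, 0, 0, 0, 0, 0, 0, 0, 1, 0, 1, 0, 1, 0, 1, 0, 0, 0, 0, 0, 0, 0, 0, 0, 0, 0, 0, 1, 0, 0, 0, 0, 0, 0, 0, 0, 1, 0, 0, 0, 0, 0, 0, 0, 0, 0, 0, 0, 0, 0, 0, 0, 0, 0, 0, 0, 0, 0, 0, 0, 0, 0, 0, 0, 0, 0, 0, 0, 0, 0, 0, 0, 0, 0, 0, 0, 0, 0, 0, 0, 0, 0, 0, 0, 0, 0, 0, 0, 0, 0, 0, 0],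
    [0, 0, 0, 0, 0, 0, 0, 0, 0, 0, 0, 0, 0, 0, 0, 0, 0, 0, 0, 0, 0, 0, 0, 0, 0, 0, 0, 0, 0, 0, 0, 0, 0, 0, 0, 0, 0, 0, 0, 1, 0, 0, 0, 0, 0, 0, 0, 0, 0, 0, 0, 0, 0, 1, 0, 1, 0, 0, 0, 0, 0, 0, 0, 0, 0, 1, 1, 0, 0, 0, 0, 0, 0, 0, 0, 1, 1, 1, 0, 0, 0, 0, 0, 0, 0, 0, 0, 0, 0, 1, 1, 0, 0, 0, 0, 0, 0, 0, 0, 1, 0, 0, 0, 1, 1, 0, 0, 0, 0, 0, 0, 0, 0, 0, 0, 0, 0, 0, 0, 0, 0, 0, 0, 0, 0, 0, 0, 0, 0, 0, 0, 0, 0, 0, 0, 0, 0, 0, 0, 0, 0, 0, 0, 0, 0, 0, 0, 0, 0, 0, 0, 0, 0, 0, 0, 0, 0, 0, 0],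
    [0, 0, 0, 0, 0, 0, 0, 0, 0, 0, 0, 0, 0, 0, 0, 0, 0, 0, 0, 0, 0, 0, 0, 0, 1, 0, 0, 0, 0, 0, 0, 0, 0, 0, 1, 0, 0, 0, 0, 0, 0, 0, 0, 0, 0, 0, 0, 0, 0, 0, 0, 0, 0, 0, 0, 0, 1, 0, 0, 0, 0, 0, 0, 0, 0, 1, 0, 1, 0, 0, 0, 0, 1, 0, 0, 0, 1, 0, 0, 0, 0, 0, 0, 0, 0, 1, 0, 0, 0, 0, 1, 0, 0, 0, 0, 0, 0, 0, 1, 0, 0, 0, 0, 1, 1, 0, 0, 0, 0, 0, 0, 0, 0, 0, 0, 0, 0, 0, 0, 0, 0, 0, 0, 0, 0, 0, 0, 0, 0, 0, 0, 0, 0, 0, 0, 0, 0, 0, 0, 0, 0, 0, 0, 0, 0, 0, 0, 0, 0, 0, 0, 0, 0, 0, 0, 0, 0, 0, 0],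
    [0, 0, 0, 0, 0, 0, 0, 0, 0, 0, 0, 0, 0, 0, 0, 0, 0, 0, 0, 0, 0, 0, 0, 0, 0, 0, 0, 0, 0, 0, 0, 0, 0, 1, 0, 0, 0, 0, 0, 0, 0, 0, 0, 0, 0, 0, 0, 1, 0, 0, 0, 0, 0, 0, 1, 0, 0, 0, 0, 0, 0, 0, 0, 0, 0, 0, 0, 0, 1, 0, 0, 0, 0, 0, 0, 1, 0, 1, 0, 0, 1, 0, 0, 0, 0, 1, 0, 1, 0, 1, 0, 0, 0, 0, 0, 0, 0, 0, 1, 0, 0, 0, 1, 1, 1, 0, 0, 0, 0, 0, 0, 0, 0, 0, 0, 0, 0, 0, 0, 0, 0, 0, 0, 0, 0, 0, 0, 0, 0, 0, 0, 0, 0, 0, 0, 0, 0, 0, 0, 0, 0, 0, 0, 0, 0, 0, 0, 0, 0, 0, 0, 0, 0, 0, 0, 0, 0, 0, 0],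
    [0, 0, 0, 0, 0, 0, 0, 0, 0, 0, 0, 0, 0, 0, 0, 0, 0, 0, 0, 0, 0, 0, 0, 0, 0, 0, 1, 1, 0, 0, 0, 0, 0, 0, 0, 0, 0, 0, 0, 0, 0, 0, 0, 0, 0, 0, 0, 0, 0, 0, 1, 1, 0, 0, 1, 0, 0, 0, 0, 0, 0, 0, 0, 0, 0, 0, 0, 0, 0, 0, 0, 1, 1, 0, 0, 1, 0, 1, 0, 0, 0, 0, 0, 0, 1, 0, 0, 1, 0, 0, 0, 0, 1, 0, 0, 0, 1, 0, 0, 0, 0, 0, 1, 1, 1, 0, 0, 0, 0, 0, 0, 0, 0, 0, 0, 0, 0, 0, 0, 0, 0, 0, 0, 0, 0, 0, 0, 0, 0, 0, 0, 0, 0, 0, 0, 0, 0, 0, 0, 0, 0, 0, 0, 0, 0, 0, 0, 0, 0, 0, 0, 0, 0, 0, 0, 0, 0, 0, 0]]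

/-- part of the exponents -/
def twoVecs7 : List (List ℤ) :=
  [[0, 0, 0, 0, 0, 0, 0, 0, 0, 0, 0, 0, 0, 0, 0, 0, 0, 0, 0, 0, 0, 0, 0, 0, 0, 0, 0, 0, 0, 0, 0, 0, 0, 0, 0, 0, 0, 0, 0, 0, 0, 0, 0, 0, 0, 0, 0, 0, 1, 0, 1, 0, 1, 0, 0, 0, 0, 1, 1, 0, 1, 0, 1, 0, 0, 0, 0, 0, 0, 1, 0, 0, 0, 0, 0, 0, 1, 1, 0, 0, 0, 1, 0, 1, 0, 0, 0, 0, 1, 0, 0, 0, 1, 0, 0, 0, 0, 0, 1, 0, 1, 1, 1, 1, 0, 0, 0, 0, 0, 0, 0, 0, 0, 0, 0, 0, 0, 0, 0, 0, 0, 0, 0, 0, 0, 0, 0, 0, 0, 0, 0, 0, 0, 0, 0, 0, 0, 0, 0, 0, 0, 0, 0, 0, 0, 0, 0, 0, 0, 0, 0, 0, 0, 0, 0, 0, 0, 0, 0],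
    [0, 0, 0, 0, 0, 0, 0, 0, 0, 0, 0, 0, 0, 0, 0, 0, 0, 0, 1, 0, 0, 1, 0, 0, 0, 0, 1, 0, 0, 0, 0, 0, 0, 0, 0, 0, 0, 0, 0, 0, 0, 0, 0, 0, 0, 0, 0, 0, 1, 0, 0, 1, 0, 0, 0, 0, 0, 0, 0, 0, 0, 0, 0, 0, 0, 0, 0, 0, 0, 0, 1, 1, 1, 0, 0, 0, 0, 1, 1, 0, 0, 0, 0, 0, 1, 0, 0, 1, 0, 0, 0, 0, 0, 0, 1, 0, 1, 0, 0, 0, 1, 0, 0, 0, 0, 0, 0, 0, 0, 0, 0, 0, 0, 0, 0, 0, 0, 0, 0, 0, 0, 0, 0, 0, 0, 0, 0, 0, 0, 0, 0, 0, 0, 0, 0, 0, 0, 0, 0, 0, 0, 0, 0, 0, 0, 0, 0, 0, 0, 0, 0, 0, 0, 0, 0, 0, 0, 0, 0],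
    [0, 0, 0, 0, 0, 0, 0, 0, 0, 0, 0, 0, 0, 0, 0, 0, 0, 0, 0, 0, 0, 0, 0, 0, 0, 0, 0, 0, 0, 0, 0, 1, 0, 0, 0, 0, 0, 1, 0, 0, 0, 0, 0, 0, 1, 0, 1, 0, 0, 0, 0, 0, 0, 1, 1, 0, 0, 0, 0, 0, 0, 0, 0, 0, 1, 1, 0, 0, 0, 0, 0, 0, 0, 0, 0, 1, 1, 0, 0, 1, 0, 0, 0, 0, 0, 1, 1, 1, 0, 1, 1, 0, 1, 0, 0, 0, 0, 0, 1, 1, 1, 0, 1, 0, 1, 0, 0, 0, 0, 0, 0, 0, 0, 0, 0, 0, 0, 0, 0, 0, 0, 0, 0, 0, 0, 0, 0, 0, 0, 0, 0, 0, 0, 0, 0, 0, 0, 0, 0, 0, 0, 0, 0, 0, 0, 0, 0, 0, 0, 0, 0, 0, 0, 0, 0, 0, 0, 0, 0],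
    [0, 0, 0, 0, 0, 0, 1, 0, 0, 0, 0, 0, 0, 0, 0, 0, 0, 0, 0, 0, 0, 0, 0, 0, 0, 0, 0, 0, 1, 1, 0, 0, 0, 0, 0, 1, 0, 1, 0, 0, 0, 0, 0, 0, 1, 0, 1, 0, 0, 0, 0, 0, 0, 1, 1, 0, 0, 0, 0, 0, 0, 0, 0, 0, 1, 1, 1, 1, 0, 0, 0, 0, 0, 0, 1, 0, 1, 1, 0, 0, 0, 0, 0, 0, 0, 0, 1, 1, 0, 0, 1, 0, 1, 0, 0, 0, 0, 0, 0, 1, 1, 0, 0, 0, 0, 0, 0, 0, 0, 0, 0, 0, 0, 0, 0, 0, 0, 0, 0, 0, 0, 0, 0, 0, 0, 0, 0, 0, 0, 0, 0, 0, 0, 0, 0, 0, 0, 0, 0, 0, 0, 0, 0, 0, 0, 0, 0, 0, 0, 0, 0, 0, 0, 0, 0, 0, 0, 0, 0],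
    [0, 0, 0, 0, 0, 0, 0, 0, 0, 0, 0, 0, 0, 0, 0, 0, 0, 0, 0, 0, 0, 0, 0, 0, 0, 0, 0, 0, 0, 0, 0, 1, 0, 0, 0, 0, 1, 0, 0, 0, 0, 0, 0, 1, 1, 1, 0, 0, 0, 0, 0, 0, 1, 1, 1, 0, 0, 0, 0, 0, 0, 0, 0, 0, 1, 1, 1, 0, 0, 0, 0, 0, 0, 1, 0, 1, 1, 1, 1, 0, 0, 0, 0, 0, 0, 0, 1, 1, 0, 0, 0, 0, 0, 0, 0, 0, 0, 0, 1, 0, 0, 0, 1, 1, 1, 0, 0, 0, 0, 0, 0, 0, 0, 0, 0, 0, 0, 0, 0, 0, 0, 0, 0, 0, 0, 0, 0, 0, 0, 0, 0, 0, 0, 0, 0, 0, 0, 0, 0, 0, 0, 0, 0, 0, 0, 0, 0, 0, 0, 0, 0, 0, 0, 0, 0, 0, 0, 0, 0],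
    [0, 0, 0, 0, 0, 0, 0, 0, 0, 0, 0, 0, 0, 1, 0, 0, 1, 0, 0, 0, 1, 0, 0, 0, 0, 0, 0, 0, 0, 0, 0, 0, 1, 0, 1, 0, 0, 0, 0, 0, 0, 0, 0, 0, 0, 0, 0, 0, 0, 0, 0, 1, 0, 0, 1, 0, 0, 0, 0, 0, 0, 0, 0, 0, 0, 0, 0, 0, 0, 0, 1, 0, 1, 0, 0, 1, 0, 1, 0, 1, 0, 0, 0, 1, 1, 1, 0, 0, 0, 0, 1, 0, 1, 0, 0, 0, 0, 1, 1, 0, 1, 0, 1, 1, 1, 0, 0, 0, 0, 0, 0, 0, 0, 0, 0, 0, 0, 0, 0, 0, 0, 0, 0, 0, 0, 0, 0, 0, 0, 0, 0, 0, 0, 0, 0, 0, 0, 0, 0, 0, 0, 0, 0, 0, 0, 0, 0, 0, 0, 0, 0, 0, 0, 0, 0, 0, 0, 0, 0],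
    [0, 0, 0, 0, 0, 0, 0, 0, 0, 0, 0, 0, 0, 0, 0, 0, 0, 0, 0, 0, 0, 0, 0, 0, 0, 0, 0, 0, 0, 0, 0, 0, 0, 1, 0, 0, 0, 0, 0, 0, 1, 1, 0, 0, 0, 0, 1, 0, 0, 1, 0, 0, 0, 1, 0, 0, 0, 0, 0, 0, 1, 0, 0, 0, 1, 0, 0, 0, 0, 0, 0, 1, 0, 0, 0, 1, 1, 1, 0, 1, 0, 0, 1, 0, 0, 1, 0, 0, 1, 1, 1, 0, 0, 0, 0, 1, 0, 0, 1, 0, 0, 1, 0, 1, 0, 0, 0, 0, 0, 0, 0, 0, 0, 0, 0, 0, 0, 0, 0, 0, 0, 0, 0, 0, 0, 0, 0, 0, 0, 0, 0, 0, 0, 0, 0, 0, 0, 0, 0, 0, 0, 0, 0, 0, 0, 0, 0, 0, 0, 0, 0, 0, 0, 0, 0, 0, 0, 0, 0],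
    [0, 0, 0, 0, 0, 0, 0, 0, 0, 0, 0, 0, 0, 0, 0, 0, 0, 0, 1, 0, 0, 0, 1, 0, 0, 0, 1, 0, 0, 0, 0, 0, 0, 0, 0, 0, 0, 0, 0, 0, 1, 1, 1, 0, 0, 0, 0, 0, 0, 1, 1, 1, 0, 0, 0, 0, 0, 0, 0, 0, 1, 1, 0, 0, 1, 1, 0, 0, 0, 0, 0, 1, 0, 0, 1, 1, 1, 1, 0, 1, 0, 1, 1, 1, 0, 0, 1, 1, 0, 0, 1, 0, 0, 0, 1, 1, 1, 1, 0, 1, 0, 1, 0, 1, 1, 0, 0, 0, 0, 0, 0, 0, 0, 0, 0, 0, 0, 0, 0, 0, 0, 0, 0, 0, 0, 0, 0, 0, 0, 0, 0, 0, 0, 0, 0, 0, 0, 0, 0, 0, 0, 0, 0, 0, 0, 0, 0, 0, 0, 0, 0, 0, 0, 0, 0, 0, 0, 0, 0],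
    [0, 0, 0, 0, 0, 0, 0, 0, 0, 0, 0, 0, 0, 0, 0, 0, 0, 0, 0, 0, 0, 0, 0, 0, 0, 0, 0, 0, 0, 0, 0, 0, 0, 1, 0, 0, 0, 0, 0, 0, 1, 1, 0, 0, 0, 1, 0, 0, 0, 1, 0, 0, 1, 0, 0, 0, 0, 0, 0, 0, 1, 0, 0, 0, 0, 0, 0, 0, 0, 0, 1, 0, 0, 0, 0, 1, 0, 1, 1, 0, 0, 0, 1, 1, 0, 0, 1, 1, 0, 0, 1, 0, 0, 0, 0, 0, 0, 0, 1, 0, 0, 0, 1, 0, 0, 0, 0, 0, 0, 0, 0, 0, 0, 0, 0, 0, 0, 0, 0, 0, 0, 0, 0, 0, 0, 0, 0, 0, 0, 0, 0, 0, 0, 0, 0, 0, 0, 0, 0, 0, 0, 0, 0, 0, 0, 0, 0, 0, 0, 0, 0, 0, 0, 0, 0, 0, 0, 0, 0],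
    [0, 0, 0, 0, 0, 0, 0, 0, 0, 0, 0, 0, 0, 1, 0, 1, 0, 0, 0, 0, 1, 0, 0, 0, 0, 0, 0, 0, 0, 0, 0, 0, 0, 0, 0, 0, 0, 0, 0, 0, 1, 0, 1, 0, 0, 1, 0, 0, 0, 1, 1, 0, 0, 0, 1, 0, 0, 0, 0, 0, 0, 1, 0, 0, 1, 1, 0, 0, 0, 0, 1, 1, 0, 0, 0, 0, 1, 0, 0, 0, 0, 0, 0, 0, 1, 0, 1, 0, 1, 1, 1, 1, 0, 0, 0, 1, 1, 1, 0, 1, 1, 1, 1, 1, 1, 0, 0, 0, 0, 0, 0, 0, 0, 0, 0, 0, 0, 0, 0, 0, 0, 0, 0, 0, 0, 0, 0, 0, 0, 0, 0, 0, 0, 0, 0, 0, 0, 0, 0, 0, 0, 0, 0, 0, 0, 0, 0, 0, 0, 0, 0, 0, 0, 0, 0, 0, 0, 0, 0]]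

/-- part of the exponents -/
def twoVecs8 : List (List ℤ) :=
  [[0, 0, 0, 0, 0, 0, 0, 0, 1, 1, 0, 0, 0, 0, 0, 0, 1, 1, 1, 0, 1, 0, 0, 0, 1, 0, 0, 0, 0, 0, 1, 1, 0, 1, 0, 1, 0, 0, 0, 0, 0, 0, 0, 0, 0, 0, 0, 0, 1, 0, 1, 0, 1, 0, 0, 0, 0, 0, 0, 0, 0, 0, 0, 0, 0, 0, 0, 0, 0, 0, 0, 1, 1, 1, 0, 1, 0, 0, 0, 1, 0, 0, 0, 0, 0, 1, 0, 1, 0, 0, 0, 0, 1, 1, 1, 0, 0, 1, 0, 0, 1, 0, 0, 0, 1, 0, 0, 0, 0, 0, 0, 0, 0, 0, 0, 0, 0, 0, 0, 0, 0, 0, 0, 0, 0, 0, 0, 0, 0, 0, 0, 0, 0, 0, 0, 0, 0, 0, 0, 0, 0, 0, 0, 0, 0, 0, 0, 0, 0, 0, 0, 0, 0, 0, 0, 0, 0, 0, 0],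
    [0, 0, 0, 0, 0, 0, 0, 0, 1, 1, 0, 0, 0, 0, 0, 1, 0, 1, 1, 0, 1, 0, 0, 0, 1, 0, 0, 0, 0, 0, 0, 0, 0, 0, 0, 0, 0, 0, 0, 0, 0, 0, 0, 0, 0, 0, 0, 1, 1, 0, 1, 0, 0, 0, 1, 0, 0, 1, 1, 0, 1, 0, 0, 0, 1, 1, 0, 0, 0, 0, 0, 0, 1, 0, 0, 0, 1, 1, 1, 0, 1, 1, 0, 1, 0, 0, 0, 1, 0, 0, 1, 1, 0, 0, 0, 0, 1, 1, 0, 0, 1, 1, 0, 0, 0, 0, 0, 0, 0, 0, 0, 0, 0, 0, 0, 0, 0, 0, 0, 0, 0, 0, 0, 0, 0, 0, 0, 0, 0, 0, 0, 0, 0, 0, 0, 0, 0, 0, 0, 0, 0, 0, 0, 0, 0, 0, 0, 0, 0, 0, 0, 0, 0, 0, 0, 0, 0, 0, 0],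
    [0, 0, 0, 0, 0, 0, 0, 0, 0, 0, 0, 0, 0, 0, 0, 0, 0, 0, 0, 0, 0, 0, 0, 0, 0, 0, 0, 0, 0, 0, 0, 1, 0, 1, 0, 0, 0, 0, 1, 1, 0, 1, 0, 1, 0, 0, 1, 1, 0, 0, 0, 0, 0, 1, 0, 0, 0, 0, 1, 0, 1, 0, 1, 0, 1, 0, 0, 1, 0, 0, 0, 0, 0, 1, 0, 0, 0, 0, 0, 1, 1, 1, 0, 1, 0, 0, 0, 0, 1, 1, 1, 0, 0, 1, 1, 0, 1, 0, 0, 1, 1, 0, 0, 1, 0, 0, 0, 0, 0, 0, 0, 0, 0, 0, 0, 0, 0, 0, 0, 0, 0, 0, 0, 0, 0, 0, 0, 0, 0, 0, 0, 0, 0, 0, 0, 0, 0, 0, 0, 0, 0, 0, 0, 0, 0, 0, 0, 0, 0, 0, 0, 0, 0, 0, 0, 0, 0, 0, 0],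
    [0, 0, 0, 0, 0, 1, 0, 0, 0, 0, 0, 0, 1, 1, 1, 0, 0, 0, 0, 1, 1, 0, 1, 0, 0, 1, 0, 0, 0, 1, 1, 1, 1, 0, 0, 1, 0, 1, 0, 0, 0, 0, 0, 0, 1, 0, 0, 1, 0, 0, 0, 0, 1, 1, 1, 0, 0, 0, 0, 0, 0, 0, 1, 0, 1, 1, 0, 1, 1, 0, 1, 0, 0, 1, 0, 0, 1, 1, 0, 0, 1, 0, 1, 1, 1, 1, 0, 0, 1, 1, 1, 0, 0, 1, 0, 0, 0, 0, 0, 0, 1, 1, 1, 0, 1, 0, 0, 1, 0, 0, 1, 0, 0, 0, 1, 0, 0, 0, 0, 0, 0, 0, 0, 0, 0, 0, 0, 0, 0, 0, 0, 0, 0, 0, 0, 0, 0, 0, 0, 0, 0, 0, 0, 0, 0, 0, 0, 0, 0, 0, 0, 0, 0, 0, 0, 0, 0, 0, 0],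
    [0, 0, 0, 0, 1, 0, 0, 0, 1, 1, 0, 1, 0, 0, 0, 0, 0, 0, 1, 1, 0, 0, 1, 0, 1, 0, 0, 1, 0, 1, 1, 0, 0, 1, 0, 1, 0, 0, 1, 1, 1, 0, 1, 0, 1, 0, 1, 1, 0, 0, 1, 0, 1, 0, 1, 0, 1, 0, 0, 1, 1, 0, 1, 1, 1, 1, 0, 1, 1, 1, 1, 0, 0, 1, 1, 0, 1, 1, 0, 0, 0, 0, 0, 0, 0, 0, 0, 0, 1, 0, 0, 0, 0, 0, 0, 1, 1, 0, 0, 0, 0, 0, 0, 0, 0, 0, 0, 1, 0, 1, 1, 0, 1, 0, 0, 0, 0, 0, 0, 0, 0, 0, 0, 0, 0, 0, 0, 0, 0, 0, 0, 0, 0, 0, 0, 0, 0, 0, 0, 0, 0, 0, 0, 0, 0, 0, 0, 0, 0, 0, 0, 0, 0, 0, 0, 0, 0, 0, 0],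
    [0, 0, 0, 0, 0, 1, 0, 0, 0, 0, 0, 0, 1, 0, 1, 0, 0, 0, 0, 1, 1, 0, 0, 0, 0, 0, 0, 1, 0, 0, 0, 0, 0, 0, 1, 1, 0, 0, 0, 0, 0, 0, 0, 0, 0, 0, 0, 0, 0, 0, 0, 1, 1, 0, 1, 0, 0, 0, 0, 0, 0, 1, 1, 0, 1, 1, 0, 0, 0, 0, 0, 0, 1, 0, 0, 1, 1, 0, 0, 0, 0, 0, 1, 1, 0, 0, 0, 1, 0, 0, 1, 0, 0, 0, 0, 1, 0, 0, 0, 0, 1, 0, 1, 0, 0, 0, 0, 0, 0, 0, 0, 0, 0, 0, 0, 1, 0, 0, 0, 0, 0, 0, 0, 0, 0, 0, 0, 0, 0, 0, 0, 0, 0, 0, 0, 0, 0, 0, 0, 0, 0, 0, 0, 0, 0, 0, 0, 0, 0, 0, 0, 0, 0, 0, 0, 0, 0, 0, 0],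
    [0, 0, 0, 0, 1, 1, 0, 1, 1, 0, 0, 1, 1, 1, 1, 0, 0, 1, 0, 1, 1, 0, 0, 0, 1, 0, 0, 1, 0, 1, 1, 0, 0, 1, 0, 0, 0, 0, 1, 1, 1, 0, 1, 1, 0, 0, 1, 0, 1, 1, 1, 1, 1, 1, 0, 0, 0, 0, 1, 1, 0, 1, 1, 1, 1, 1, 0, 1, 1, 1, 1, 1, 0, 0, 1, 1, 1, 1, 0, 1, 1, 0, 0, 1, 0, 1, 1, 0, 0, 1, 1, 0, 1, 0, 1, 1, 0, 1, 0, 0, 0, 1, 1, 0, 0, 0, 0, 0, 0, 0, 0, 1, 1, 0, 0, 1, 1, 0, 0, 0, 0, 0, 0, 0, 0, 0, 0, 0, 0, 0, 0, 0, 0, 0, 0, 0, 0, 0, 0, 0, 0, 0, 0, 0, 0, 0, 0, 0, 0, 0, 0, 0, 0, 0, 0, 0, 0, 0, 0],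
    [0, 0, 0, 0, 0, 0, 0, 0, 1, 0, 0, 0, 0, 1, 0, 0, 0, 0, 0, 0, 0, 0, 0, 1, 0, 0, 0, 0, 0, 0, 1, 0, 1, 0, 1, 0, 0, 0, 0, 0, 0, 0, 0, 0, 0, 0, 0, 1, 0, 0, 0, 1, 0, 0, 1, 0, 0, 1, 0, 1, 0, 0, 1, 0, 1, 0, 0, 0, 1, 0, 0, 0, 1, 1, 0, 0, 0, 1, 0, 0, 0, 0, 1, 0, 1, 1, 0, 0, 0, 1, 1, 0, 0, 0, 0, 1, 0, 1, 0, 0, 1, 0, 0, 0, 1, 0, 0, 0, 0, 0, 0, 0, 0, 0, 0, 0, 0, 0, 0, 0, 0, 0, 0, 0, 0, 0, 0, 0, 0, 0, 0, 0, 0, 0, 0, 0, 0, 0, 0, 0, 0, 0, 0, 0, 0, 0, 0, 0, 0, 0, 0, 0, 0, 0, 0, 0, 0, 0, 0],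
    [0, 0, 0, 0, 1, 1, 0, 0, 1, 0, 0, 1, 1, 1, 1, 0, 0, 1, 1, 1, 1, 0, 1, 1, 0, 1, 0, 1, 0, 0, 1, 1, 0, 1, 1, 0, 0, 1, 0, 0, 0, 0, 0, 0, 1, 0, 0, 0, 1, 1, 0, 1, 0, 0, 0, 0, 0, 1, 0, 1, 1, 0, 1, 0, 0, 0, 0, 1, 0, 1, 0, 0, 0, 1, 0, 1, 1, 0, 0, 1, 0, 1, 0, 1, 1, 0, 0, 0, 1, 0, 0, 0, 1, 1, 1, 1, 1, 0, 1, 1, 1, 0, 1, 1, 1, 0, 0, 0, 0, 1, 0, 0, 1, 0, 1, 0, 1, 0, 0, 0, 0, 0, 0, 0, 0, 0, 0, 0, 0, 0, 0, 0, 0, 0, 0, 0, 0, 0, 0, 0, 0, 0, 0, 0, 0, 0, 0, 0, 0, 0, 0, 0, 0, 0, 0, 0, 0, 0, 0],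
    [0, 0, 0, 0, 0, 0, 0, 0, 0, 0, 0, 0, 0, 0, 0, 0, 0, 1, 0, 1, 0, 0, 0, 1, 0, 1, 1, 0, 0, 0, 1, 0, 1, 1, 1, 0, 0, 0, 0, 0, 0, 0, 1, 1, 0, 0, 0, 1, 0, 0, 1, 1, 0, 1, 1, 0, 0, 1, 0, 1, 1, 1, 0, 1, 0, 0, 0, 0, 1, 0, 0, 0, 1, 0, 1, 1, 0, 0, 0, 0, 0, 0, 1, 0, 1, 0, 0, 1, 1, 1, 0, 0, 0, 0, 0, 0, 0, 0, 1, 1, 1, 0, 1, 1, 0, 0, 0, 0, 0, 0, 0, 0, 0, 0, 0, 0, 1, 0, 0, 0, 0, 0, 0, 0, 0, 0, 0, 0, 0, 0, 0, 0, 0, 0, 0, 0, 0, 0, 0, 0, 0, 0, 0, 0, 0, 0, 0, 0, 0, 0, 0, 0, 0, 0, 0, 0, 0, 0, 0]]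

/-- part of the exponents -/
def twoVecs9 : List (List ℤ) :=
  [[0, 0, 0, 0, 0, 0, 0, 0, 0, 0, 0, 0, 0, 0, 0, 0, 0, 1, 1, 1, 0, 0, 0, 1, 0, 1, 0, 0, 0, 0, 1, 0, 1, 1, 1, 0, 0, 0, 1, 0, 1, 0, 0, 1, 0, 0, 0, 1, 0, 0, 1, 1, 0, 1, 1, 0, 0, 0, 0, 1, 0, 0, 0, 0, 0, 1, 0, 0, 0, 0, 1, 0, 0, 0, 0, 0, 0, 0, 0, 0, 0, 0, 1, 1, 1, 0, 1, 0, 1, 0, 1, 0, 0, 0, 0, 0, 0, 0, 1, 1, 1, 1, 1, 1, 1, 0, 0, 0, 0, 0, 0, 0, 0, 0, 1, 0, 1, 0, 0, 0, 0, 0, 0, 0, 0, 0, 0, 0, 0, 0, 0, 0, 0, 0, 0, 0, 0, 0, 0, 0, 0, 0, 0, 0, 0, 0, 0, 0, 0, 0, 0, 0, 0, 0, 0, 0, 0, 0, 0],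
    [0, 0, 0, 0, 0, 1, 0, 0, 0, 0, 0, 0, 1, 0, 1, 0, 0, 1, 0, 0, 1, 0, 0, 1, 0, 1, 1, 1, 0, 0, 0, 0, 0, 0, 0, 0, 0, 0, 1, 0, 1, 1, 1, 0, 1, 0, 0, 0, 0, 0, 0, 0, 0, 0, 0, 0, 0, 0, 0, 1, 0, 0, 0, 0, 0, 1, 0, 0, 1, 0, 1, 0, 1, 0, 0, 0, 0, 1, 0, 0, 1, 0, 0, 1, 1, 0, 0, 0, 1, 0, 0, 0, 0, 1, 0, 1, 1, 1, 0, 1, 0, 1, 1, 0, 1, 0, 0, 0, 0, 0, 0, 0, 0, 0, 0, 0, 1, 0, 0, 0, 0, 0, 0, 0, 0, 0, 0, 0, 0, 0, 0, 0, 0, 0, 0, 0, 0, 0, 0, 0, 0, 0, 0, 0, 0, 0, 0, 0, 0, 0, 0, 0, 0, 0, 0, 0, 0, 0, 0],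
    [0, 0, 0, 0, 1, 0, 0, 1, 0, 0, 0, 1, 0, 1, 0, 0, 1, 0, 0, 1, 1, 0, 0, 1, 1, 1, 0, 0, 0, 0, 1, 1, 0, 1, 0, 0, 0, 1, 1, 1, 0, 1, 1, 0, 0, 0, 0, 0, 1, 0, 0, 0, 1, 1, 0, 0, 1, 0, 0, 1, 0, 0, 1, 1, 0, 0, 0, 0, 1, 0, 1, 1, 0, 1, 1, 1, 1, 0, 0, 1, 0, 0, 1, 0, 1, 1, 1, 0, 1, 0, 1, 0, 0, 0, 1, 1, 1, 1, 1, 0, 0, 0, 1, 0, 1, 0, 0, 0, 0, 0, 0, 0, 0, 1, 1, 0, 0, 0, 0, 0, 0, 0, 0, 0, 0, 0, 0, 0, 0, 0, 0, 0, 0, 0, 0, 0, 0, 0, 0, 0, 0, 0, 0, 0, 0, 0, 0, 0, 0, 0, 0, 0, 0, 0, 0, 0, 0, 0, 0],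
    [0, 0, 0, 0, 0, 0, 0, 0, 0, 0, 0, 0, 0, 0, 0, 0, 0, 0, 0, 0, 0, 0, 0, 0, 1, 0, 1, 0, 0, 0, 1, 1, 1, 1, 1, 0, 0, 0, 0, 0, 0, 0, 1, 1, 0, 0, 0, 1, 0, 0, 1, 1, 0, 1, 1, 0, 0, 1, 1, 1, 1, 0, 1, 1, 1, 0, 0, 0, 1, 0, 0, 1, 1, 1, 0, 0, 0, 1, 0, 0, 0, 1, 1, 0, 1, 1, 0, 1, 1, 1, 0, 0, 0, 0, 0, 1, 0, 1, 1, 1, 0, 0, 1, 1, 1, 0, 0, 0, 0, 0, 0, 0, 0, 0, 1, 1, 0, 0, 0, 0, 0, 0, 0, 0, 0, 0, 0, 0, 0, 0, 0, 0, 0, 0, 0, 0, 0, 0, 0, 0, 0, 0, 0, 0, 0, 0, 0, 0, 0, 0, 0, 0, 0, 0, 0, 0, 0, 0, 0],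
    [0, 0, 0, 0, 0, 0, 0, 0, 1, 0, 0, 0, 0, 1, 0, 0, 0, 1, 1, 1, 0, 0, 0, 1, 1, 0, 1, 0, 0, 0, 1, 1, 1, 1, 1, 0, 0, 0, 1, 0, 1, 0, 0, 1, 0, 0, 0, 1, 0, 0, 1, 1, 0, 1, 1, 0, 0, 1, 0, 0, 0, 0, 1, 0, 1, 1, 0, 0, 1, 0, 0, 1, 1, 1, 0, 1, 1, 1, 0, 0, 0, 1, 0, 0, 1, 0, 1, 1, 1, 1, 1, 0, 0, 1, 1, 1, 0, 1, 1, 0, 1, 1, 0, 0, 1, 0, 0, 0, 0, 0, 0, 0, 0, 0, 0, 1, 1, 0, 0, 0, 0, 0, 0, 0, 0, 0, 0, 0, 0, 0, 0, 0, 0, 0, 0, 0, 0, 0, 0, 0, 0, 0, 0, 0, 0, 0, 0, 0, 0, 0, 0, 0, 0, 0, 0, 0, 0, 0, 0],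
    [0, 0, 0, 0, 0, 0, 0, 0, 1, 0, 0, 0, 0, 1, 0, 0, 0, 0, 0, 0, 0, 0, 0, 0, 1, 1, 0, 0, 0, 0, 0, 0, 0, 0, 0, 0, 0, 0, 0, 1, 0, 0, 0, 0, 0, 0, 0, 0, 0, 0, 0, 0, 0, 0, 0, 0, 0, 1, 1, 1, 1, 1, 0, 1, 0, 0, 0, 0, 1, 1, 0, 1, 0, 0, 1, 0, 1, 0, 0, 0, 0, 0, 0, 0, 0, 0, 0, 0, 1, 0, 1, 0, 0, 1, 1, 1, 0, 0, 0, 1, 0, 1, 1, 1, 0, 0, 0, 0, 0, 0, 0, 0, 0, 0, 0, 1, 1, 0, 0, 0, 0, 0, 0, 0, 0, 0, 0, 0, 0, 0, 0, 0, 0, 0, 0, 0, 0, 0, 0, 0, 0, 0, 0, 0, 0, 0, 0, 0, 0, 0, 0, 0, 0, 0, 0, 0, 0, 0, 0],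
    [0, 0, 1, 0, 1, 1, 0, 0, 1, 1, 0, 1, 1, 0, 1, 0, 1, 1, 0, 1, 1, 0, 0, 0, 1, 1, 1, 1, 0, 0, 1, 1, 0, 1, 0, 1, 0, 0, 0, 0, 0, 0, 0, 0, 0, 0, 0, 0, 1, 1, 1, 1, 1, 0, 1, 0, 0, 0, 0, 0, 0, 0, 0, 0, 0, 1, 0, 0, 1, 0, 1, 0, 1, 0, 0, 1, 0, 1, 0, 0, 1, 0, 0, 0, 1, 0, 0, 1, 0, 0, 0, 0, 0, 0, 0, 1, 1, 0, 0, 0, 1, 1, 1, 0, 0, 0, 0, 0, 0, 0, 0, 0, 0, 0, 0, 0, 0, 0, 0, 0, 0, 0, 0, 0, 0, 0, 0, 0, 0, 0, 0, 0, 0, 0, 0, 0, 0, 0, 0, 0, 0, 0, 0, 0, 0, 0, 0, 0, 0, 0, 0, 0, 0, 0, 0, 0, 0, 0, 0],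
    [0, 0, 1, 0, 1, 1, 0, 1, 0, 1, 0, 1, 1, 1, 1, 0, 1, 1, 1, 1, 1, 0, 0, 0, 1, 0, 0, 0, 0, 1, 0, 1, 1, 0, 0, 1, 0, 1, 1, 1, 0, 1, 1, 0, 0, 0, 0, 0, 1, 1, 1, 0, 0, 0, 1, 0, 0, 0, 1, 1, 0, 1, 1, 0, 1, 0, 0, 1, 0, 1, 0, 0, 1, 0, 1, 0, 0, 1, 0, 1, 0, 1, 0, 1, 1, 0, 0, 1, 0, 0, 0, 0, 0, 0, 0, 0, 1, 0, 1, 0, 1, 0, 0, 1, 0, 0, 0, 0, 0, 0, 0, 0, 0, 0, 0, 0, 0, 0, 0, 0, 0, 0, 0, 1, 1, 0, 0, 0, 0, 0, 0, 0, 0, 0, 0, 0, 0, 0, 0, 0, 0, 0, 0, 0, 0, 0, 0, 0, 0, 0, 0, 0, 0, 0, 0, 0, 0, 0, 0],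
    [1, 1, 1, 0, 0, 0, 0, 1, 1, 0, 0, 1, 1, 1, 1, 0, 1, 0, 1, 1, 0, 0, 1, 0, 1, 1, 0, 0, 0, 0, 1, 0, 1, 1, 0, 0, 0, 0, 0, 0, 1, 0, 0, 0, 1, 0, 0, 1, 0, 1, 0, 1, 0, 0, 1, 0, 1, 1, 0, 0, 0, 0, 0, 0, 1, 0, 0, 0, 0, 0, 1, 0, 0, 0, 0, 0, 0, 0, 0, 1, 0, 1, 1, 0, 1, 0, 0, 1, 0, 0, 0, 0, 1, 0, 0, 1, 0, 1, 0, 1, 0, 0, 1, 1, 1, 0, 0, 0, 0, 0, 0, 0, 0, 0, 0, 0, 0, 0, 0, 0, 0, 0, 0, 0, 0, 0, 0, 0, 0, 0, 1, 0, 1, 0, 0, 0, 0, 0, 0, 0, 0, 0, 0, 0, 0, 0, 0, 0, 0, 0, 0, 0, 0, 0, 0, 0, 0, 0, 0],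
    [0, 0, 1, 0, 1, 1, 0, 1, 0, 1, 0, 0, 0, 1, 1, 0, 1, 1, 1, 1, 1, 0, 0, 0, 0, 1, 0, 1, 0, 1, 0, 1, 1, 0, 0, 1, 0, 0, 0, 1, 1, 1, 1, 0, 0, 0, 1, 1, 1, 0, 1, 0, 1, 0, 0, 1, 0, 1, 1, 1, 1, 1, 0, 0, 1, 0, 1, 0, 0, 0, 0, 0, 0, 0, 1, 0, 1, 1, 0, 0, 0, 0, 1, 0, 1, 1, 1, 0, 0, 1, 0, 1, 0, 0, 1, 0, 1, 0, 0, 1, 1, 1, 0, 1, 1, 0, 0, 0, 0, 0, 0, 0, 0, 0, 0, 0, 0, 0, 0, 0, 0, 0, 0, 0, 0, 0, 0, 0, 0, 1, 0, 0, 1, 0, 0, 0, 0, 0, 0, 0, 0, 0, 0, 0, 0, 0, 0, 0, 0, 0, 0, 0, 0, 0, 0, 0, 0, 0, 0]]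

/-- part of the exponents -/
def twoVecs10 : List (List ℤ) :=
  [[1, 0, 0, 1, 0, 1, 0, 1, 0, 0, 1, 1, 0, 1, 0, 1, 1, 1, 1, 0, 1, 1, 1, 1, 0, 1, 0, 1, 0, 1, 1, 1, 1, 1, 1, 1, 0, 1, 1, 0, 0, 1, 0, 0, 0, 1, 1, 1, 0, 0, 1, 0, 0, 0, 1, 0, 0, 0, 0, 0, 1, 0, 0, 0, 1, 0, 1, 0, 1, 0, 1, 0, 1, 0, 1, 0, 0, 0, 0, 1, 0, 1, 1, 0, 0, 0, 0, 0, 1, 0, 1, 1, 0, 1, 1, 1, 1, 0, 0, 0, 0, 1, 1, 0, 0, 0, 0, 0, 0, 0, 0, 0, 0, 0, 0, 0, 0, 0, 0, 0, 0, 0, 0, 0, 0, 0, 0, 0, 0, 1, 1, 0, 0, 1, 0, 0, 0, 0, 0, 0, 0, 0, 0, 0, 0, 0, 0, 0, 0, 0, 0, 0, 0, 0, 0, 0, 0, 0, 0],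
    [0, 0, 1, 0, 1, 1, 1, 0, 0, 0, 0, 0, 0, 1, 1, 0, 0, 1, 1, 1, 0, 0, 0, 1, 0, 1, 1, 0, 1, 0, 0, 0, 1, 0, 0, 0, 0, 1, 0, 0, 0, 0, 1, 0, 0, 0, 1, 1, 0, 0, 1, 1, 1, 0, 0, 0, 1, 1, 0, 1, 1, 0, 1, 1, 0, 1, 0, 1, 0, 0, 1, 1, 0, 1, 0, 1, 1, 0, 0, 0, 0, 1, 0, 0, 0, 0, 0, 1, 0, 0, 1, 0, 0, 1, 1, 1, 1, 1, 1, 0, 0, 1, 1, 1, 0, 0, 0, 0, 0, 0, 0, 0, 0, 0, 0, 0, 0, 0, 0, 0, 0, 0, 0, 0, 0, 0, 0, 0, 0, 0, 1, 0, 1, 0, 1, 0, 0, 0, 0, 0, 0, 0, 0, 0, 0, 0, 0, 0, 0, 0, 0, 0, 0, 0, 0, 0, 0, 0, 0],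
    [0, 1, 1, 1, 0, 1, 0, 1, 1, 0, 1, 0, 1, 1, 1, 1, 0, 1, 0, 1, 1, 1, 0, 0, 0, 1, 0, 0, 0, 1, 0, 1, 1, 1, 1, 0, 0, 1, 1, 0, 0, 1, 0, 0, 0, 1, 0, 1, 1, 0, 1, 0, 0, 0, 1, 0, 0, 0, 0, 0, 1, 0, 0, 0, 0, 1, 1, 0, 0, 0, 0, 1, 0, 1, 1, 1, 1, 1, 1, 0, 0, 1, 0, 1, 1, 0, 0, 0, 1, 0, 1, 0, 0, 0, 0, 0, 0, 1, 0, 1, 1, 0, 0, 1, 0, 0, 0, 0, 0, 0, 0, 0, 0, 0, 0, 0, 0, 0, 0, 0, 0, 0, 0, 0, 0, 0, 0, 0, 0, 1, 1, 0, 0, 1, 1, 0, 0, 0, 0, 0, 0, 0, 0, 0, 0, 0, 0, 0, 0, 0, 0, 0, 0, 0, 0, 0, 0, 0, 0],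
    [0, 0, 1, 0, 1, 1, 0, 0, 1, 0, 0, 1, 1, 0, 1, 0, 1, 1, 0, 1, 1, 0, 1, 1, 1, 0, 0, 0, 0, 0, 1, 0, 0, 1, 0, 0, 0, 0, 0, 0, 0, 0, 0, 0, 0, 0, 1, 1, 1, 0, 0, 0, 1, 0, 0, 0, 0, 0, 0, 0, 0, 0, 0, 0, 1, 1, 0, 1, 1, 0, 0, 1, 0, 1, 0, 0, 1, 0, 0, 1, 1, 0, 1, 0, 0, 1, 0, 0, 0, 1, 0, 0, 0, 1, 0, 1, 0, 0, 1, 0, 0, 0, 0, 1, 1, 0, 0, 0, 0, 0, 0, 0, 0, 0, 0, 0, 0, 0, 0, 0, 0, 0, 0, 0, 0, 0, 0, 0, 0, 0, 0, 0, 0, 1, 1, 0, 0, 0, 0, 0, 0, 0, 0, 0, 0, 0, 0, 0, 0, 0, 0, 0, 0, 0, 0, 0, 0, 0, 0],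
    [0, 1, 1, 1, 0, 1, 0, 0, 1, 1, 1, 0, 1, 1, 1, 1, 0, 1, 1, 1, 1, 0, 1, 1, 1, 1, 1, 0, 0, 0, 0, 0, 1, 0, 1, 1, 0, 0, 0, 1, 1, 1, 0, 0, 0, 0, 1, 0, 0, 1, 1, 1, 1, 1, 0, 1, 1, 0, 1, 1, 1, 0, 1, 1, 1, 1, 1, 1, 1, 1, 1, 0, 1, 0, 1, 0, 1, 1, 0, 1, 0, 0, 0, 0, 0, 0, 1, 1, 1, 1, 0, 1, 0, 1, 0, 0, 0, 1, 1, 0, 0, 1, 1, 0, 0, 0, 0, 0, 0, 0, 0, 0, 0, 0, 0, 0, 0, 0, 0, 0, 0, 0, 0, 0, 0, 0, 0, 0, 0, 1, 1, 0, 0, 0, 1, 0, 0, 0, 0, 0, 0, 0, 0, 0, 0, 0, 0, 0, 0, 0, 0, 0, 0, 0, 0, 0, 0, 0, 0],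
    [0, 0, 0, 0, 0, 0, 0, 1, 1, 0, 0, 1, 1, 0, 0, 0, 1, 0, 0, 0, 1, 1, 0, 0, 0, 1, 1, 1, 0, 1, 1, 0, 0, 0, 0, 0, 1, 0, 1, 0, 1, 0, 0, 1, 1, 0, 1, 0, 0, 1, 1, 0, 0, 0, 0, 0, 0, 1, 1, 1, 1, 1, 1, 0, 0, 1, 0, 0, 0, 0, 0, 1, 0, 0, 1, 0, 0, 0, 0, 1, 0, 1, 0, 0, 1, 1, 1, 0, 1, 0, 1, 0, 0, 1, 1, 1, 0, 1, 1, 1, 1, 0, 1, 0, 0, 0, 0, 0, 0, 0, 0, 0, 0, 0, 0, 0, 0, 0, 0, 0, 0, 0, 0, 0, 0, 0, 0, 0, 0, 0, 0, 1, 0, 0, 1, 0, 0, 0, 0, 0, 0, 0, 0, 0, 0, 0, 0, 0, 0, 0, 0, 0, 0, 0, 0, 0, 0, 0, 0],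
    [1, 1, 0, 0, 1, 1, 1, 0, 1, 0, 1, 1, 0, 1, 1, 0, 1, 0, 0, 0, 1, 1, 0, 1, 0, 1, 0, 0, 0, 0, 0, 1, 1, 1, 0, 1, 1, 0, 1, 0, 1, 0, 1, 0, 1, 0, 0, 0, 1, 0, 1, 1, 1, 1, 0, 1, 0, 1, 1, 1, 0, 1, 0, 0, 1, 0, 1, 0, 0, 0, 1, 0, 0, 1, 1, 0, 1, 0, 1, 1, 1, 1, 0, 0, 0, 1, 0, 0, 1, 0, 1, 0, 1, 0, 1, 0, 0, 1, 0, 1, 1, 1, 0, 1, 1, 0, 0, 0, 0, 0, 0, 0, 0, 0, 0, 0, 0, 0, 0, 0, 0, 0, 0, 0, 0, 0, 0, 0, 0, 0, 0, 0, 0, 0, 0, 0, 0, 1, 1, 1, 0, 1, 0, 1, 0, 0, 0, 0, 0, 0, 0, 0, 0, 0, 0, 0, 0, 0, 0],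
    [1, 1, 1, 0, 0, 1, 0, 0, 0, 0, 0, 1, 0, 0, 0, 0, 1, 0, 1, 1, 0, 0, 1, 0, 1, 0, 1, 1, 1, 1, 0, 1, 0, 1, 1, 0, 0, 1, 1, 1, 1, 1, 0, 0, 0, 0, 0, 0, 0, 1, 0, 0, 0, 1, 1, 1, 1, 0, 1, 0, 1, 1, 1, 1, 1, 1, 1, 1, 1, 0, 0, 0, 0, 0, 0, 1, 0, 0, 0, 0, 0, 0, 0, 0, 0, 1, 1, 1, 1, 0, 1, 1, 1, 0, 1, 0, 0, 0, 1, 1, 1, 0, 1, 1, 1, 0, 0, 0, 0, 0, 0, 0, 0, 0, 0, 0, 0, 0, 0, 0, 0, 0, 0, 0, 0, 0, 0, 0, 0, 0, 0, 0, 0, 0, 0, 0, 0, 1, 1, 0, 1, 1, 0, 0, 1, 0, 0, 0, 0, 0, 0, 0, 0, 0, 0, 0, 0, 0, 0],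
    [1, 1, 1, 0, 0, 1, 1, 1, 0, 0, 0, 0, 1, 0, 1, 0, 0, 0, 0, 1, 1, 0, 0, 0, 0, 0, 0, 0, 0, 1, 0, 1, 0, 0, 0, 1, 0, 0, 0, 1, 0, 0, 0, 0, 0, 0, 0, 0, 1, 0, 0, 0, 0, 0, 0, 1, 1, 0, 1, 0, 0, 0, 0, 0, 0, 1, 1, 0, 0, 0, 0, 0, 0, 1, 1, 0, 1, 1, 0, 0, 0, 0, 1, 1, 0, 0, 1, 1, 1, 0, 0, 1, 1, 0, 1, 1, 0, 0, 0, 1, 1, 0, 1, 0, 0, 0, 0, 0, 0, 0, 0, 0, 0, 0, 0, 0, 0, 0, 0, 0, 0, 0, 0, 0, 0, 0, 0, 0, 0, 0, 0, 0, 0, 0, 0, 0, 0, 0, 0, 0, 0, 0, 0, 0, 1, 0, 0, 0, 0, 0, 0, 0, 0, 0, 0, 0, 0, 0, 0],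
    [0, 0, 0, 0, 0, 0, 0, 0, 1, 0, 1, 1, 0, 0, 0, 0, 1, 1, 0, 1, 1, 1, 1, 0, 0, 1, 0, 1, 0, 0, 0, 0, 0, 1, 1, 0, 1, 1, 0, 1, 1, 1, 1, 0, 0, 0, 0, 0, 0, 1, 0, 0, 0, 1, 0, 0, 0, 0, 0, 1, 1, 0, 1, 1, 1, 1, 0, 0, 0, 1, 1, 0, 0, 0, 0, 1, 0, 0, 1, 0, 0, 0, 1, 0, 0, 1, 0, 1, 1, 1, 1, 1, 1, 0, 0, 0, 0, 0, 1, 0, 0, 1, 1, 1, 0, 0, 0, 0, 0, 0, 0, 0, 0, 0, 0, 0, 0, 0, 0, 0, 0, 0, 0, 0, 0, 0, 0, 0, 0, 0, 0, 0, 0, 0, 0, 0, 0, 0, 0, 0, 0, 0, 0, 0, 0, 1, 0, 0, 0, 0, 0, 0, 0, 0, 0, 0, 0, 0, 0]]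

/-- part of the exponents -/
def twoVecs11 : List (List ℤ) :=
  [[1, 1, 1, 0, 0, 0, 1, 1, 0, 1, 1, 1, 0, 1, 1, 0, 1, 0, 1, 0, 0, 1, 1, 0, 0, 1, 0, 0, 0, 1, 0, 1, 0, 1, 1, 1, 1, 1, 0, 0, 0, 1, 0, 0, 1, 0, 0, 0, 1, 1, 0, 0, 0, 1, 0, 1, 1, 0, 1, 1, 1, 1, 1, 0, 1, 0, 1, 0, 0, 1, 1, 1, 1, 1, 0, 1, 1, 1, 1, 0, 0, 0, 1, 1, 0, 1, 0, 0, 1, 1, 0, 0, 0, 0, 1, 0, 0, 1, 1, 0, 1, 1, 1, 0, 1, 0, 0, 0, 0, 0, 0, 0, 0, 0, 0, 0, 0, 0, 0, 0, 0, 0, 0, 0, 0, 0, 0, 0, 0, 0, 0, 0, 0, 0, 0, 0, 0, 0, 0, 0, 0, 0, 0, 1, 1, 0, 0, 0, 0, 0, 0, 0, 0, 0, 0, 0, 0, 0, 0],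
    [0, 0, 1, 0, 1, 1, 1, 1, 0, 1, 1, 1, 0, 1, 0, 0, 0, 0, 1, 0, 0, 1, 1, 0, 0, 0, 1, 0, 1, 1, 0, 0, 0, 0, 1, 0, 0, 0, 1, 1, 0, 0, 1, 0, 0, 0, 0, 0, 1, 0, 0, 1, 1, 1, 1, 1, 1, 0, 0, 1, 0, 0, 0, 0, 1, 1, 0, 1, 0, 0, 1, 0, 1, 1, 1, 0, 0, 0, 1, 0, 0, 1, 0, 1, 0, 0, 0, 0, 1, 1, 1, 0, 0, 1, 1, 0, 0, 0, 1, 0, 1, 1, 1, 0, 0, 0, 0, 0, 0, 0, 0, 0, 0, 0, 0, 0, 0, 0, 0, 0, 0, 0, 0, 0, 0, 0, 0, 0, 0, 0, 0, 0, 0, 0, 0, 0, 0, 0, 0, 1, 1, 1, 1, 1, 0, 1, 0, 0, 0, 0, 0, 0, 0, 0, 0, 0, 0, 0, 0],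
    [0, 1, 0, 1, 1, 0, 1, 1, 1, 1, 0, 1, 1, 1, 0, 1, 1, 1, 0, 1, 1, 1, 0, 1, 1, 0, 0, 0, 1, 1, 1, 1, 1, 0, 0, 0, 0, 0, 1, 0, 0, 0, 0, 1, 0, 0, 1, 0, 1, 0, 1, 0, 0, 1, 0, 0, 1, 1, 1, 1, 1, 0, 0, 0, 1, 0, 1, 1, 0, 0, 1, 0, 0, 0, 1, 1, 0, 1, 0, 0, 0, 0, 0, 1, 0, 0, 0, 0, 1, 0, 0, 1, 0, 0, 0, 1, 1, 0, 0, 0, 1, 1, 0, 1, 0, 0, 0, 0, 0, 0, 0, 0, 0, 0, 0, 0, 0, 0, 0, 0, 0, 0, 0, 0, 0, 0, 0, 0, 0, 0, 0, 0, 0, 0, 0, 0, 0, 0, 0, 0, 0, 0, 0, 1, 0, 1, 0, 0, 0, 0, 0, 0, 0, 0, 0, 0, 0, 0, 0],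
    [1, 1, 0, 0, 1, 1, 0, 0, 1, 0, 0, 1, 1, 0, 1, 0, 0, 0, 0, 0, 0, 0, 1, 0, 1, 1, 0, 1, 0, 1, 1, 0, 0, 1, 0, 0, 0, 1, 1, 0, 1, 0, 0, 1, 0, 0, 0, 1, 1, 0, 0, 0, 0, 0, 0, 0, 1, 1, 0, 0, 0, 1, 0, 0, 0, 0, 0, 0, 1, 1, 1, 1, 1, 0, 1, 0, 0, 0, 0, 1, 0, 0, 0, 0, 1, 1, 1, 0, 1, 1, 0, 0, 0, 0, 0, 1, 1, 0, 0, 1, 0, 1, 1, 0, 1, 0, 0, 0, 0, 0, 0, 0, 0, 0, 0, 0, 0, 0, 0, 0, 0, 0, 0, 0, 0, 0, 0, 0, 0, 0, 0, 0, 0, 0, 0, 0, 0, 0, 0, 0, 0, 0, 0, 0, 0, 0, 0, 0, 0, 0, 0, 0, 0, 1, 1, 0, 1, 0, 0],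
    [0, 1, 0, 1, 1, 0, 0, 1, 0, 1, 0, 0, 0, 0, 0, 0, 1, 0, 1, 0, 1, 0, 1, 1, 0, 1, 0, 0, 0, 0, 0, 0, 1, 0, 0, 1, 0, 0, 1, 1, 0, 0, 0, 0, 1, 0, 1, 0, 0, 0, 1, 0, 0, 0, 0, 0, 1, 1, 1, 1, 1, 0, 1, 1, 1, 0, 0, 0, 0, 0, 0, 0, 1, 0, 1, 0, 0, 1, 0, 0, 0, 1, 0, 1, 1, 1, 1, 0, 0, 0, 0, 0, 0, 0, 0, 0, 0, 1, 0, 0, 1, 0, 1, 0, 1, 0, 0, 0, 0, 0, 0, 0, 0, 0, 0, 0, 0, 0, 0, 0, 0, 0, 0, 0, 0, 0, 0, 0, 0, 0, 0, 0, 0, 0, 0, 0, 0, 0, 0, 0, 0, 0, 0, 0, 0, 0, 0, 0, 0, 0, 0, 1, 0, 1, 0, 0, 1, 0, 0],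
    [0, 0, 0, 0, 0, 0, 0, 0, 0, 0, 0, 1, 1, 0, 1, 0, 0, 1, 0, 0, 1, 0, 0, 0, 0, 0, 1, 0, 0, 1, 1, 0, 1, 0, 0, 1, 0, 0, 1, 0, 1, 0, 0, 1, 0, 0, 0, 1, 0, 0, 1, 1, 1, 0, 1, 0, 0, 0, 0, 1, 0, 1, 0, 1, 0, 0, 0, 0, 0, 0, 1, 1, 0, 1, 0, 0, 1, 0, 0, 1, 0, 0, 0, 1, 0, 1, 0, 0, 1, 1, 0, 0, 0, 1, 0, 1, 1, 0, 1, 1, 1, 0, 1, 1, 0, 0, 0, 0, 0, 0, 0, 0, 0, 0, 0, 0, 0, 0, 0, 0, 0, 0, 0, 0, 0, 0, 0, 0, 0, 0, 0, 0, 0, 0, 0, 0, 0, 0, 0, 0, 0, 0, 0, 0, 0, 0, 0, 0, 0, 0, 0, 1, 0, 0, 1, 0, 0, 1, 0],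
    [0, 0, 0, 0, 0, 0, 1, 1, 0, 0, 0, 1, 1, 0, 0, 0, 1, 0, 0, 1, 1, 0, 0, 1, 0, 0, 1, 0, 0, 0, 0, 0, 0, 0, 0, 0, 0, 0, 0, 0, 1, 1, 0, 0, 1, 0, 1, 0, 0, 0, 0, 1, 0, 0, 0, 0, 0, 1, 0, 0, 0, 1, 0, 1, 0, 1, 0, 1, 1, 0, 1, 1, 0, 0, 0, 0, 0, 0, 0, 0, 0, 0, 0, 1, 0, 0, 0, 1, 0, 0, 1, 0, 0, 0, 0, 1, 0, 0, 0, 1, 1, 0, 0, 1, 0, 0, 0, 0, 0, 0, 0, 0, 0, 0, 0, 0, 0, 0, 0, 0, 0, 0, 0, 0, 0, 0, 0, 0, 0, 0, 0, 0, 0, 0, 0, 0, 0, 0, 0, 0, 0, 0, 0, 0, 0, 0, 0, 0, 0, 0, 0, 0, 0, 1, 1, 0, 1, 0, 0],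
    [0, 0, 0, 0, 0, 0, 0, 1, 1, 0, 0, 1, 1, 0, 0, 0, 1, 0, 0, 1, 1, 0, 0, 1, 0, 1, 0, 0, 0, 0, 0, 0, 1, 1, 1, 0, 0, 0, 1, 0, 0, 0, 1, 0, 1, 0, 1, 1, 0, 0, 1, 1, 0, 0, 1, 0, 0, 1, 0, 1, 0, 1, 1, 0, 0, 1, 0, 0, 1, 0, 1, 0, 1, 1, 1, 1, 0, 0, 0, 0, 1, 0, 1, 1, 1, 1, 1, 1, 0, 0, 1, 0, 0, 1, 0, 1, 1, 1, 1, 1, 0, 0, 0, 1, 0, 0, 0, 0, 0, 0, 0, 0, 0, 0, 0, 0, 0, 0, 0, 0, 0, 0, 0, 0, 0, 0, 0, 0, 0, 0, 0, 0, 0, 0, 0, 0, 0, 0, 0, 0, 0, 0, 0, 0, 0, 0, 0, 0, 0, 0, 0, 1, 0, 1, 1, 1, 1, 1, 1],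
    [0, 1, 0, 1, 1, 0, 0, 0, 1, 1, 0, 1, 1, 1, 0, 0, 1, 1, 1, 0, 0, 1, 1, 0, 0, 0, 0, 1, 0, 1, 1, 0, 0, 0, 0, 1, 1, 1, 1, 1, 1, 0, 0, 1, 1, 0, 1, 0, 0, 0, 1, 0, 1, 1, 0, 1, 1, 1, 1, 1, 0, 1, 0, 1, 1, 1, 0, 1, 1, 1, 1, 1, 1, 0, 0, 1, 1, 0, 0, 1, 1, 1, 0, 1, 0, 1, 0, 1, 0, 0, 0, 0, 0, 0, 0, 1, 1, 1, 1, 1, 1, 1, 1, 1, 1, 0, 0, 0, 0, 0, 0, 0, 0, 0, 0, 0, 0, 0, 0, 0, 0, 0, 0, 0, 0, 0, 0, 0, 0, 0, 0, 0, 0, 0, 0, 0, 0, 0, 0, 0, 0, 0, 0, 0, 0, 0, 0, 0, 0, 0, 0, 1, 0, 0, 0, 1, 1, 0, 1],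
    [0, 1, 0, 1, 1, 0, 0, 0, 1, 1, 1, 1, 0, 1, 0, 0, 0, 0, 1, 0, 0, 0, 0, 0, 1, 1, 0, 1, 1, 0, 1, 1, 1, 0, 0, 1, 0, 1, 1, 0, 0, 0, 0, 1, 1, 0, 1, 0, 0, 0, 1, 0, 1, 1, 0, 0, 1, 1, 1, 1, 0, 0, 0, 1, 1, 1, 0, 0, 1, 1, 1, 1, 1, 1, 1, 1, 0, 1, 1, 0, 0, 0, 0, 1, 0, 0, 1, 1, 1, 1, 1, 0, 0, 1, 1, 1, 1, 1, 1, 1, 1, 1, 1, 1, 1, 0, 0, 0, 0, 0, 0, 0, 0, 0, 0, 0, 0, 0, 0, 0, 0, 0, 0, 0, 0, 0, 0, 0, 0, 0, 0, 0, 0, 0, 0, 0, 0, 0, 0, 0, 0, 0, 0, 0, 0, 0, 0, 0, 0, 0, 0, 0, 0, 0, 0, 0, 0, 0, 1]]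

/-- part of the exponents -/
def twoVecs12 : List (List ℤ) :=
  [[0, 0, 0, 0, 0, 0, 0, 0, 0, 0, 1, 1, 0, 0, 0, 1, 0, 0, 1, 1, 1, 0, 1, 0, 1, 0, 1, 1, 0, 0, 0, 0, 0, 0, 0, 0, 0, 0, 0, 0, 1, 1, 0, 0, 0, 1, 0, 0, 0, 1, 0, 1, 0, 0, 1, 0, 1, 0, 0, 0, 1, 0, 0, 0, 0, 1, 0, 1, 0, 1, 0, 1, 1, 0, 0, 1, 1, 1, 0, 0, 0, 1, 0, 1, 1, 0, 1, 0, 1, 1, 1, 0, 1, 0, 0, 1, 0, 1, 0, 1, 0, 0, 1, 0, 1, 0, 0, 0, 0, 0, 0, 0, 0, 0, 0, 0, 0, 0, 0, 0, 0, 0, 0, 0, 0, 0, 0, 0, 0, 0, 0, 0, 0, 0, 0, 0, 0, 0, 0, 0, 0, 0, 0, 0, 0, 0, 0, 0, 0, 0, 0, 1, 0, 0, 0, 0, 0, 1, 0]]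

/-- the exponents -/
def twoVecs : List (List ℤ) := twoVecs0 ++ twoVecs1 ++ twoVecs2 ++ twoVecs3 ++ twoVecs4 ++ twoVecs5 ++ twoVecs6 ++ twoVecs7 ++ twoVecs8 ++ twoVecs9 ++ twoVecs10 ++ twoVecs11 ++ twoVecs12

/-- part of the change of lifts -/
def twoGauge0 : List (List (ℕ × ℤ)) :=
  [[],
    [],
    [],
    [(3, 1), (12, 1), (32, 1), (46, 1), (70, 1)],
    [],
    [(12, 1), (70, 1)],
    [(16, 1), (32, 1), (57, 1)],
    [(3, 1), (4, 1), (32, 1), (46, 1), (47, 1)],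
    [(29, 1), (32, 1), (47, 1)],
    [(32, 1), (47, 1), (70, 1)]]

/-- part of the change of lifts -/
def twoGauge1 : List (List (ℕ × ℤ)) :=
  [[(46, 1)],
    [(57, 1), (70, 1)],
    [(47, 1), (70, 1)],
    [(47, 1)],
    [],
    [],
    [],
    [],
    []]

/-- the change of lifts -/
def twoGauge : List (List (ℕ × ℤ)) := twoGauge0 ++ twoGauge1

/-- part of the combinations -/
def twoCombs0 : List (List (ℕ × ℤ)) :=
  [[(0, 1), (1, 1), (4, 1), (6, 1), (7, 1), (8, 1), (9, 1), (11, 1), (12, 1), (17, 1), (19, 1), (20, 1), (22, 1), (23, 1), (24, 1), (27, 1), (28, 1), (29, 1), (32, 1), (33, 1), (35, 1), (36, 1), (39, 1), (40, 1), (41, 1), (43, 1), (44, 1), (45, 1), (50, 1), (51, 1), (53, 1), (54, 1), (56, 1), (57, 1), (58, 1), (59, 1), (60, 1), (61, 1), (62, 1), (64, 1), (66, 1), (67, 1), (68, 1), (69, 1), (75, 1), (79, 1), (80, 1), (83, 1), (84, 1), (85, 1), (88, 1), (89, 1), (90, 1), (91, 1), (93, 1), (94,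 1), (95, 1), (96, 1), (98, 1), (101, 1), (102, 1), (103, 1), (104, 1), (108, 1), (109, 1), (110, 1), (112, 1)],
    [(0, 1), (2, 1), (7, 1), (8, 1), (9, 1), (11, 1), (12, 1), (14, 1), (16, 1), (17, 1), (18, 1), (21, 1), (25, 1), (27, 1), (28, 1), (30, 1), (33, 1), (41, 1), (42, 1), (43, 1), (46, 1), (48, 1), (51, 1), (52, 1), (53, 1), (55, 1), (56, 1), (58, 1), (59, 1), (62, 1), (63, 1), (66, 1), (67, 1), (68, 1), (69, 1), (72, 1), (74, 1), (76, 1), (77, 1), (79, 1), (80, 1), (82, 1), (83, 1), (84, 1), (85, 1), (88, 1), (94, 1), (96, 1), (98, 1), (101, 1), (102, 1), (103, 1), (104, 1), (108, 1), (109, 1), (110, 1), (112, 1), (113, 1), (116, 1)],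
    [(0, 1), (2, 1), (3, 1), (6, 1), (7, 1), (8, 1), (9, 1), (10, 1), (13, 1), (14, 1), (17, 1), (22, 1), (25, 1), (26, 1), (27, 1), (28, 1), (29, 1), (32, 1), (33, 1), (34, 1), (35, 1), (36, 1), (39, 1), (40, 1), (42, 1), (43, 1), (45, 1), (48, 1), (49, 1), (50, 1), (53, 1), (55, 1), (56, 1), (57, 1), (59, 1), (60, 1), (61, 1), (62, 1), (64, 1), (65, 1), (67, 1), (69, 1), (73, 1), (75, 1), (76, 1), (77, 1), (80, 1), (82, 1), (83, 1), (84, 1), (85, 1), (88, 1), (95, 1), (98, 1), (100, 1), (101, 1), (102, 1)],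
    [],
    [],
    [(2, 1), (4, 1), (5, 1), (6, 1), (7, 1), (11, 1), (14, 1), (15, 1), (17, 1), (18, 1), (21, 1), (22, 1), (27, 1), (28, 1), (30, 1), (31, 1), (33, 1), (35, 1), (37, 1), (40, 1), (41, 1), (46, 1), (47, 1), (50, 1), (53, 1), (54, 1), (57, 1), (59, 1), (60, 1), (64, 1), (66, 1), (67, 1), (68, 1), (69, 1), (70, 1), (71, 1), (74, 1), (76, 1), (77, 1), (79, 1), (80, 1), (81, 1), (83, 1), (84, 1), (85, 1), (87, 1), (88, 1), (90, 1), (93, 1), (100, 1), (103, 1), (104, 1), (113, 1), (116, 1)],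
    [(2, 1), (4, 1), (6, 1), (7, 1), (12, 1), (13, 1), (14, 1), (21, 1), (22, 1), (24, 1), (29, 1), (30, 1), (31, 1), (33, 1), (34, 1), (35, 1), (38, 1), (42, 1), (45, 1), (46, 1), (47, 1), (48, 1), (50, 1), (52, 1), (53, 1), (54, 1), (56, 1), (59, 1), (60, 1), (65, 1), (67, 1), (68, 1), (69, 1), (74, 1), (75, 1), (77, 1), (80, 1), (82, 1), (83, 1), (84, 1), (85, 1), (87, 1), (88, 1), (89, 1), (90, 1), (91, 1), (93, 1)],
    [(2, 1), (4, 1), (5, 1), (7, 1), (8, 1), (10, 1), (11, 1), (14, 1), (18, 1), (19, 1), (21, 1), (22, 1), (23, 1), (24, 1), (27, 1), (32, 1), (34, 1), (43, 1), (44, 1), (50, 1), (53, 1), (61, 1), (65, 1)],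
    [(2, 1), (6, 1), (8, 1), (9, 1), (10, 1), (11, 1), (12, 1), (13, 1), (15, 1), (16, 1), (17, 1), (18, 1), (21, 1), (23, 1), (26, 1), (27, 1), (29, 1), (31, 1), (32, 1), (35, 1), (36, 1), (37, 1), (41, 1), (42, 1), (44, 1), (47, 1), (49, 1), (51, 1), (52, 1), (53, 1), (55, 1), (56, 1), (58, 1), (59, 1), (62, 1), (67, 1), (69, 1), (70, 1), (75, 1), (76, 1), (82, 1), (90, 1), (93, 1), (95, 1)],
    [(0, 1), (4, 1), (5, 1), (6, 1), (8, 1), (9, 1), (10, 1), (11, 1), (12, 1), (13, 1), (14, 1), (15, 1), (17, 1), (18, 1), (21, 1), (23, 1), (24, 1), (26, 1), (27, 1), (28, 1), (30, 1), (35, 1), (37, 1), (40, 1), (43, 1), (44, 1), (45, 1), (47, 1), (52, 1), (53, 1), (56, 1), (57, 1), (60, 1), (65, 1), (67, 1), (75, 1), (80, 1), (85, 1), (91, 1), (94, 1)],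
    [(0, 1), (2, 1), (4, 1), (9, 1), (10, 1), (11, 1), (12, 1), (14, 1), (15, 1), (16, 1), (19, 1), (20, 1), (21, 1), (23, 1), (24, 1), (25, 1), (26, 1), (29, 1), (30, 1), (31, 1), (32, 1), (36, 1), (38, 1), (40, 1), (44, 1), (45, 1), (46, 1), (47, 1), (48, 1), (49, 1), (50, 1), (54, 1), (55, 1), (56, 1), (57, 1), (58, 1), (60, 1), (64, 1), (66, 1), (67, 1), (68, 1), (69, 1), (72, 1), (74, 1), (76, 1), (79, 1), (81, 1), (82, 1), (83, 1), (84, 1), (85, 1), (87, 1), (88, 1), (94, 1), (96, 1), (99, 1), (100, 1), (101, 1), (103, 1), (108, 1), (109, 1), (110, 1), (112, 1), (113, 1), (116, 1)],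
    [(1, 1), (3, 1), (4, 1), (5, 1), (6, 1), (8, 1), (9, 1), (10, 1), (11, 1), (14, 1), (15, 1), (16, 1), (17, 1), (18, 1), (22, 1), (25, 1), (27, 1), (34, 1), (37, 1), (40, 1), (41, 1), (43, 1), (44, 1), (45, 1), (47, 1), (49, 1), (50, 1), (52, 1), (53, 1), (54, 1), (56, 1), (57, 1), (60, 1), (61, 1), (65, 1), (70, 1), (73, 1), (76, 1), (80, 1), (96, 1), (98, 1), (100, 1), (101, 1), (102, 1)],
    [],
    [(0, 1), (2, 1), (4, 1), (5, 1), (6, 1), (7, 1), (8, 1), (10, 1), (11, 1), (12, 1), (13, 1), (16, 1), (17, 1), (18, 1), (19, 1), (21, 1), (22, 1), (25, 1), (28, 1), (29, 1), (32, 1), (33, 1), (35, 1), (36, 1), (37, 1), (39, 1), (40, 1), (41, 1), (43, 1), (47, 1), (48, 1), (49, 1), (50, 1), (52, 1), (53, 1), (54, 1), (63, 1), (65, 1), (76, 1), (78, 1), (79, 1), (80, 1), (81, 1), (82, 1), (85, 1), (87, 1), (91, 1), (95, 1)],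
    [(0, 1), (1, 1), (4, 1), (8, 1), (10, 1), (11, 1), (12, 1), (13, 1), (15, 1), (18, 1), (19, 1), (21, 1), (22, 1), (25, 1), (28, 1), (29, 1), (32, 1), (34, 1), (35, 1), (36, 1), (38, 1), (39, 1), (44, 1), (46, 1), (47, 1), (48, 1), (50, 1), (51, 1), (52, 1), (56, 1), (57, 1), (59, 1), (60, 1), (64, 1), (66, 1), (67, 1), (69, 1), (70, 1), (71, 1), (74, 1), (78, 1), (80, 1), (85, 1), (87, 1), (91, 1), (94, 1), (100, 1), (103, 1), (104, 1), (113, 1), (116, 1)],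
    [(3, 1), (4, 1), (9, 1), (10, 1), (11, 1), (13, 1), (14, 1), (18, 1), (19, 1), (20, 1), (22, 1), (23, 1), (26, 1), (28, 1), (29, 1), (30, 1), (34, 1), (35, 1), (37, 1), (39, 1), (40, 1), (43, 1), (44, 1), (50, 1), (51, 1), (55, 1), (56, 1), (60, 1), (67, 1), (68, 1), (70, 1), (75, 1), (78, 1), (79, 1)],
    [],
    [(0, 1), (2, 1), (6, 1), (8, 1), (9, 1), (16, 1), (21, 1), (22, 1), (27, 1)],
    [(1, 1), (2, 1), (4, 1), (5, 1), (10, 1), (14, 1), (20, 1), (21, 1), (23, 1), (25, 1), (29, 1), (30, 1), (33, 1), (34, 1), (36, 1), (42, 1), (43, 1), (44, 1), (45, 1), (47, 1), (48, 1), (49, 1), (51, 1), (52, 1), (56, 1), (58, 1), (59, 1), (62, 1), (63, 1), (64, 1), (65, 1), (68, 1), (87, 1), (90, 1), (93, 1), (94, 1)],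
    [(0, 1), (1, 1), (2, 1), (5, 1), (6, 1), (8, 1), (10, 1), (11, 1), (13, 1), (14, 1), (15, 1), (16, 1), (19, 1), (20, 1), (21, 1), (24, 1), (25, 1), (29, 1), (31, 1), (32, 1), (33, 1), (35, 1), (36, 1), (37, 1), (38, 1), (39, 1), (40, 1), (41, 1), (42, 1), (43, 1), (44, 1), (48, 1), (49, 1), (52, 1), (53, 1), (54, 1), (55, 1), (63, 1), (65, 1), (67, 1), (69, 1), (70, 1), (75, 1), (76, 1), (78, 1), (79, 1), (80, 1), (81, 1), (82, 1), (85, 1), (87, 1), (91, 1), (95, 1)],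
    [(5, 1), (6, 1), (7, 1), (9, 1), (10, 1), (13, 1), (14, 1), (18, 1), (19, 1), (22, 1), (24, 1), (25, 1), (27, 1), (29, 1), (31, 1), (32, 1), (33, 1), (34, 1), (35, 1), (36, 1), (37, 1), (38, 1), (39, 1), (40, 1), (41, 1), (42, 1), (43, 1), (48, 1), (49, 1), (52, 1), (53, 1), (54, 1), (55, 1), (63, 1), (65, 1), (67, 1), (69, 1), (70, 1), (75, 1), (76, 1), (78, 1), (79, 1), (80, 1), (81, 1), (82, 1), (85, 1), (87, 1), (91, 1), (95, 1)],
    [(0, 1), (8, 1), (13, 1), (15, 1), (16, 1), (17, 1), (18, 1), (20, 1), (24, 1), (28, 1), (31, 1), (33, 1), (36, 1), (38, 1), (39, 1), (40, 1), (42, 1), (45, 1), (47, 1), (48, 1), (49, 1), (50, 1), (52, 1), (53, 1), (54, 1), (55, 1), (56, 1), (58, 1), (59, 1), (62, 1), (68, 1), (69, 1), (70, 1), (71, 1), (87, 1), (90, 1), (93, 1), (94, 1)],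
    [(0, 1), (1, 1), (5, 1), (7, 1), (8, 1), (9, 1), (10, 1), (11, 1), (15, 1), (16, 1), (17, 1), (21, 1), (22, 1), (24, 1), (25, 1), (26, 1), (29, 1), (31, 1), (32, 1), (33, 1), (35, 1), (36, 1), (38, 1), (40, 1), (42, 1), (43, 1), (44, 1), (45, 1), (50, 1), (51, 1), (52, 1), (53, 1), (55, 1), (59, 1), (62, 1), (63, 1), (69, 1), (76, 1), (77, 1), (87, 1), (90, 1), (93, 1), (94, 1)],
    [(0, 1), (1, 1), (2, 1), (4, 1), (5, 1), (9, 1), (13, 1), (14, 1), (18, 1), (20, 1), (21, 1), (24, 1), (26, 1), (30, 1), (31, 1), (33, 1), (34, 1), (36, 1), (43, 1), (44, 1), (45, 1), (48, 1), (49, 1), (51, 1), (52, 1), (54, 1), (56, 1), (57, 1), (58, 1), (62, 1), (63, 1), (64, 1), (65, 1), (68, 1), (87, 1), (90, 1), (93, 1), (94, 1)],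
    [(2, 1), (3, 1), (4, 1), (8, 1), (10, 1), (12, 1), (14, 1), (16, 1), (18, 1), (21, 1), (23, 1), (24, 1), (25, 1), (26, 1), (27, 1), (29, 1), (31, 1), (32, 1), (38, 1), (42, 1), (47, 1), (54, 1), (57, 1)],
    [(0, 1), (1, 1), (4, 1), (7, 1), (11, 1), (12, 1), (14, 1), (16, 1), (23, 1), (25, 1), (26, 1), (29, 1), (31, 1), (32, 1), (34, 1), (42, 1), (45, 1), (47, 1), (54, 1), (57, 1)],
    [(0, 1), (3, 1), (4, 1), (7, 1), (9, 1), (10, 1), (13, 1), (22, 1), (23, 1), (28, 1), (32, 1), (34, 1), (36, 1), (42, 1), (47, 1), (54, 1)],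
    [(0, 1), (2, 1), (3, 1), (4, 1), (7, 1), (9, 1), (12, 1), (14, 1), (21, 1), (22, 1), (23, 1), (25, 1), (26, 1), (28, 1), (29, 1), (31, 1), (32, 1), (34, 1), (42, 1), (47, 1), (54, 1), (57, 1)],
    [(1, 1), (4, 1), (5, 1), (6, 1), (7, 1), (8, 1), (10, 1), (12, 1), (13, 1), (16, 1), (20, 1), (21, 1), (23, 1), (24, 1), (26, 1), (27, 1), (29, 1), (30, 1), (34, 1), (37, 1), (38, 1), (42, 1), (43, 1), (44, 1), (46, 1), (48, 1), (49, 1), (52, 1), (53, 1), (57, 1), (58, 1), (63, 1), (64, 1), (65, 1), (70, 1), (72, 1), (73, 1), (74, 1), (75, 1), (77, 1), (80, 1), (82, 1), (83, 1), (84, 1), (88, 1), (89, 1), (90, 1), (93, 1), (94, 1)],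
    []]

/-- part of the combinations -/
def twoCombs1 : List (List (ℕ × ℤ)) :=
  [[(2, 1), (4, 1), (9, 1), (14, 1), (18, 1), (20, 1), (21, 1), (22, 1), (24, 1), (25, 1), (27, 1), (29, 1), (31, 1), (36, 1), (38, 1), (39, 1), (42, 1), (43, 1), (44, 1), (45, 1), (47, 1), (50, 1), (53, 1), (54, 1), (55, 1), (57, 1), (59, 1), (65, 1), (68, 1), (75, 1), (78, 1), (79, 1), (80, 1), (81, 1), (85, 1), (87, 1), (91, 1), (94, 1)],
    [(4, 1), (6, 1), (7, 1), (8, 1), (10, 1), (15, 1), (18, 1), (21, 1), (23, 1), (25, 1), (27, 1), (28, 1), (30, 1), (31, 1), (33, 1), (34, 1), (35, 1), (45, 1), (48, 1), (50, 1), (52, 1), (53, 1), (56, 1), (57, 1), (59, 1), (60, 1), (63, 1), (64, 1), (65, 1), (67, 1), (68, 1), (69, 1), (75, 1), (77, 1), (80, 1), (82, 1), (83, 1), (84, 1), (85, 1), (87, 1), (88, 1), (89, 1), (90, 1), (91, 1), (93, 1)],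
    [],
    [(0, 1), (3, 1), (9, 1), (10, 1), (11, 1), (13, 1), (14, 1), (17, 1), (18, 1), (20, 1), (21, 1), (22, 1), (29, 1), (30, 1), (31, 1), (33, 1), (34, 1), (36, 1), (39, 1), (40, 1), (43, 1), (44, 1), (47, 1), (57, 1), (58, 1), (68, 1), (69, 1)],
    [(2, 1), (3, 1), (4, 1), (10, 1), (11, 1), (13, 1), (16, 1), (17, 1), (18, 1), (22, 1), (24, 1), (25, 1), (29, 1), (33, 1), (36, 1), (38, 1), (42, 1), (43, 1), (44, 1), (47, 1), (50, 1), (55, 1), (57, 1), (67, 1), (70, 1)],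
    [(0, 1), (1, 1), (2, 1), (4, 1), (6, 1), (7, 1), (8, 1), (9, 1), (13, 1), (15, 1), (18, 1), (19, 1), (20, 1), (21, 1), (22, 1), (23, 1), (24, 1), (25, 1), (26, 1), (28, 1), (29, 1), (30, 1), (31, 1), (32, 1), (34, 1), (37, 1), (43, 1), (44, 1), (47, 1), (48, 1), (49, 1), (50, 1), (52, 1), (54, 1), (58, 1), (64, 1), (70, 1), (75, 1), (77, 1), (80, 1), (82, 1), (83, 1), (84, 1), (88, 1), (89, 1), (90, 1), (93, 1), (94, 1)],
    [(0, 1), (1, 1), (3, 1), (5, 1), (6, 1), (10, 1), (11, 1), (13, 1), (14, 1), (15, 1), (16, 1), (18, 1), (23, 1), (24, 1), (25, 1), (26, 1), (28, 1), (29, 1), (31, 1), (32, 1), (34, 1), (35, 1), (36, 1), (40, 1), (42, 1), (43, 1), (44, 1), (45, 1), (47, 1), (49, 1), (51, 1), (52, 1), (54, 1), (55, 1), (56, 1), (58, 1), (59, 1), (60, 1), (63, 1), (64, 1), (67, 1), (68, 1), (74, 1), (75, 1), (76, 1), (77, 1), (78, 1), (80, 1), (82, 1), (83, 1), (84, 1), (85, 1), (87, 1), (88, 1),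 (89, 1), (90, 1), (91, 1), (93, 1)],
    [(2, 1), (3, 1), (6, 1), (13, 1), (17, 1), (19, 1), (21, 1), (23, 1), (24, 1), (25, 1), (27, 1), (28, 1), (30, 1), (31, 1), (32, 1), (33, 1), (34, 1), (35, 1), (38, 1), (39, 1), (42, 1), (43, 1), (44, 1), (45, 1), (47, 1), (48, 1), (50, 1), (52, 1), (53, 1), (54, 1), (56, 1), (59, 1), (60, 1), (62, 1), (64, 1), (67, 1), (68, 1), (69, 1), (72, 1), (75, 1), (77, 1), (80, 1), (82, 1), (83, 1), (84, 1), (85, 1), (87, 1), (88, 1), (89, 1), (90, 1), (91, 1), (93, 1)],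
    [(2, 1), (3, 1), (4, 1), (5, 1), (6, 1), (7, 1), (9, 1), (10, 1), (11, 1), (15, 1), (18, 1), (19, 1), (20, 1), (21, 1), (22, 1), (25, 1), (27, 1), (28, 1), (30, 1), (31, 1), (32, 1), (33, 1), (35, 1), (36, 1), (37, 1), (39, 1), (42, 1), (45, 1), (47, 1), (49, 1), (50, 1), (52, 1), (53, 1), (54, 1), (55, 1), (56, 1), (58, 1), (59, 1), (63, 1), (67, 1), (70, 1), (75, 1), (77, 1), (80, 1), (83, 1), (84, 1), (85, 1), (87, 1), (88, 1), (89, 1), (90, 1), (91, 1), (93, 1)],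
    [(1, 1), (3, 1), (4, 1), (5, 1), (10, 1), (11, 1), (13, 1), (14, 1), (16, 1), (18, 1), (20, 1), (21, 1), (26, 1), (27, 1), (30, 1), (36, 1), (39, 1), (40, 1), (42, 1), (43, 1), (44, 1), (47, 1), (50, 1), (51, 1), (53, 1), (55, 1), (57, 1), (58, 1), (62, 1), (64, 1), (65, 1), (69, 1), (70, 1)],
    [(4, 1), (7, 1), (9, 1), (10, 1), (11, 1), (14, 1), (17, 1), (19, 1), (20, 1), (22, 1), (24, 1), (27, 1), (29, 1), (32, 1), (34, 1), (37, 1), (39, 1), (41, 1), (48, 1), (49, 1), (50, 1), (53, 1), (54, 1), (55, 1), (60, 1), (64, 1), (65, 1), (68, 1), (76, 1)],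
    [(0, 1), (2, 1), (4, 1), (9, 1), (10, 1), (14, 1), (18, 1), (19, 1), (22, 1), (23, 1), (30, 1), (32, 1), (34, 1), (37, 1), (40, 1), (42, 1), (54, 1), (60, 1)],
    [(2, 1), (4, 1), (5, 1), (7, 1), (9, 1), (12, 1), (14, 1), (15, 1), (16, 1), (18, 1), (20, 1), (21, 1), (24, 1), (25, 1), (26, 1), (27, 1), (28, 1), (32, 1), (34, 1), (38, 1), (56, 1), (57, 1), (58, 1)],
    [(0, 1), (1, 1), (3, 1), (5, 1), (8, 1), (9, 1), (10, 1), (13, 1), (17, 1), (18, 1), (20, 1), (23, 1), (30, 1), (31, 1), (32, 1), (33, 1), (36, 1), (39, 1), (40, 1), (42, 1), (47, 1), (51, 1), (54, 1), (57, 1), (58, 1), (62, 1), (64, 1), (65, 1), (69, 1)],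
    [(5, 1), (7, 1), (10, 1), (12, 1), (15, 1), (20, 1), (21, 1), (22, 1), (31, 1), (33, 1), (34, 1), (36, 1), (37, 1), (38, 1), (43, 1), (44, 1), (48, 1), (49, 1), (50, 1), (53, 1), (55, 1), (58, 1), (62, 1), (63, 1), (64, 1), (69, 1)],
    [(1, 1), (3, 1), (7, 1), (9, 1), (10, 1), (11, 1), (12, 1), (17, 1), (18, 1), (19, 1), (21, 1), (22, 1), (23, 1), (24, 1), (26, 1), (27, 1), (29, 1), (33, 1), (34, 1), (36, 1), (42, 1), (43, 1), (44, 1), (47, 1), (48, 1), (49, 1), (50, 1), (51, 1), (53, 1), (54, 1), (55, 1), (57, 1), (58, 1), (64, 1), (65, 1), (69, 1), (76, 1), (78, 1)],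
    [],
    [],
    [(1, 1), (4, 1), (10, 1), (11, 1), (12, 1), (15, 1), (17, 1), (18, 1), (20, 1), (22, 1), (23, 1), (26, 1), (30, 1), (34, 1), (36, 1), (38, 1), (39, 1), (40, 1), (43, 1), (44, 1), (50, 1), (51, 1), (53, 1), (54, 1), (55, 1), (58, 1), (63, 1), (64, 1), (65, 1), (69, 1), (70, 1)],
    [(0, 1), (1, 1), (3, 1), (5, 1), (7, 1), (10, 1), (11, 1), (12, 1), (20, 1), (22, 1), (23, 1), (27, 1), (29, 1), (30, 1), (31, 1), (33, 1), (34, 1), (36, 1), (39, 1), (40, 1), (41, 1), (42, 1), (43, 1), (44, 1), (47, 1), (54, 1), (57, 1), (58, 1), (69, 1)],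
    [(0, 1), (2, 1), (5, 1), (7, 1), (9, 1), (16, 1), (21, 1), (22, 1), (33, 1)],
    [(0, 1), (3, 1), (4, 1), (7, 1), (8, 1), (9, 1), (10, 1), (13, 1), (15, 1), (20, 1), (22, 1), (23, 1), (25, 1), (28, 1), (32, 1), (34, 1), (36, 1), (42, 1), (47, 1), (54, 1), (58, 1)],
    [(0, 1), (1, 1), (3, 1), (5, 1), (7, 1), (9, 1), (11, 1), (12, 1), (18, 1), (20, 1), (22, 1), (23, 1), (27, 1), (29, 1), (30, 1), (31, 1), (33, 1), (36, 1), (39, 1), (40, 1), (42, 1), (43, 1), (44, 1), (47, 1), (51, 1), (54, 1), (57, 1), (58, 1), (69, 1)],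
    [(0, 1), (4, 1), (5, 1), (7, 1), (8, 1), (9, 1), (11, 1), (24, 1), (27, 1), (29, 1), (30, 1), (32, 1), (34, 1), (37, 1), (39, 1), (40, 1), (43, 1), (44, 1), (48, 1), (49, 1), (50, 1), (53, 1), (55, 1), (64, 1), (65, 1)],
    [(0, 1), (2, 1), (3, 1), (7, 1), (8, 1), (10, 1), (12, 1), (16, 1), (20, 1), (21, 1), (22, 1), (23, 1), (27, 1), (29, 1), (30, 1), (31, 1), (33, 1), (34, 1), (36, 1), (39, 1), (40, 1), (42, 1), (43, 1), (44, 1), (47, 1), (54, 1), (57, 1), (58, 1), (69, 1)],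
    [(0, 1), (1, 1), (4, 1), (5, 1), (7, 1), (8, 1), (9, 1), (10, 1), (11, 1), (13, 1), (15, 1), (16, 1), (17, 1), (19, 1), (20, 1), (22, 1), (23, 1), (26, 1), (27, 1), (29, 1), (30, 1), (31, 1), (36, 1), (38, 1), (40, 1), (48, 1), (49, 1), (51, 1), (54, 1), (58, 1), (62, 1), (63, 1), (66, 1), (69, 1), (70, 1)],
    [(0, 1), (3, 1), (4, 1), (7, 1), (8, 1), (12, 1), (15, 1), (16, 1), (18, 1), (23, 1), (26, 1), (27, 1), (29, 1), (30, 1), (31, 1), (32, 1), (33, 1), (34, 1), (37, 1), (38, 1), (40, 1), (42, 1), (47, 1), (53, 1), (55, 1), (57, 1), (63, 1), (64, 1), (65, 1), (70, 1)],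
    [],
    [(3, 1), (4, 1), (8, 1), (9, 1), (10, 1), (11, 1), (12, 1), (15, 1), (18, 1), (21, 1), (22, 1), (23, 1), (24, 1), (27, 1), (32, 1), (38, 1), (42, 1), (47, 1), (49, 1), (54, 1), (57, 1), (63, 1)],
    [(0, 1), (2, 1), (4, 1), (14, 1), (18, 1), (19, 1), (20, 1), (22, 1), (23, 1), (30, 1), (32, 1), (34, 1), (37, 1), (40, 1), (52, 1)]]

/-- part of the combinations -/
def twoCombs2 : List (List (ℕ × ℤ)) :=
  [[(0, 1), (2, 1), (4, 1), (10, 1), (15, 1), (18, 1), (19, 1), (21, 1), (22, 1), (26, 1), (32, 1), (54, 1)],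
    [(0, 1), (4, 1), (10, 1), (13, 1), (18, 1), (22, 1), (23, 1), (32, 1), (35, 1), (36, 1)],
    [(0, 1), (5, 1), (7, 1), (10, 1), (13, 1), (16, 1), (18, 1), (24, 1), (27, 1), (29, 1), (30, 1), (32, 1), (34, 1), (39, 1), (40, 1), (43, 1), (44, 1), (49, 1), (50, 1), (53, 1), (55, 1), (64, 1), (65, 1)],
    [(0, 1), (4, 1), (9, 1), (18, 1), (19, 1), (22, 1), (32, 1), (37, 1), (40, 1)],
    [(0, 1), (4, 1), (5, 1), (8, 1), (9, 1), (17, 1), (18, 1), (22, 1), (23, 1), (32, 1), (37, 1)],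
    [(0, 1), (4, 1), (9, 1), (12, 1), (18, 1), (22, 1), (23, 1), (30, 1), (32, 1), (37, 1), (40, 1)],
    [(0, 1), (3, 1), (8, 1), (11, 1), (13, 1), (15, 1), (18, 1), (21, 1), (23, 1), (24, 1), (27, 1), (31, 1), (38, 1), (42, 1), (47, 1), (54, 1), (57, 1), (63, 1)],
    [(3, 1), (7, 1), (10, 1), (11, 1), (12, 1), (14, 1), (15, 1), (17, 1), (18, 1), (19, 1), (21, 1), (29, 1), (32, 1), (38, 1), (42, 1), (43, 1), (44, 1), (47, 1), (50, 1), (53, 1), (54, 1), (57, 1), (63, 1), (64, 1), (65, 1)],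
    [(0, 1), (2, 1), (4, 1), (9, 1), (18, 1), (22, 1), (23, 1), (32, 1), (42, 1), (54, 1)],
    [(12, 1), (14, 1), (31, 1)],
    [],
    [(15, 1), (21, 1), (26, 1)],
    [(9, 1), (10, 1), (13, 1), (36, 1)],
    [(0, 1), (4, 1), (9, 1), (22, 1)],
    [(0, 1), (4, 1), (9, 1), (10, 1), (13, 1), (14, 1), (22, 1), (32, 1)],
    [(5, 1), (8, 1), (17, 1)],
    [(19, 1), (23, 1)],
    [(0, 1), (4, 1), (9, 1), (10, 1), (12, 1), (13, 1), (14, 1), (22, 1), (32, 1)],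
    [(0, 1), (4, 1), (9, 1), (10, 1), (13, 1), (22, 1), (29, 1), (31, 1), (32, 1)],
    [(0, 1), (2, 1), (7, 1), (8, 1), (9, 1), (16, 1), (21, 1), (22, 1), (27, 1), (43, 1), (44, 1)],
    [(0, 1), (2, 1), (7, 1), (8, 1), (9, 1), (16, 1), (21, 1), (22, 1), (27, 1)],
    [(0, 1)],
    [(1, 1)],
    [(2, 1), (15, 1)],
    [(11, 1), (28, 1)],
    [(0, 1), (9, 1), (22, 1)],
    [(0, 1), (4, 1), (9, 1), (10, 1), (13, 1), (22, 1), (32, 1)],
    [(5, 1), (8, 1)],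
    [(23, 1)],
    [(9, 1)]]

/-- part of the combinations -/
def twoCombs3 : List (List (ℕ × ℤ)) :=
  [[(0, 1), (2, 1), (9, 1), (11, 1), (16, 1), (18, 1), (21, 1), (22, 1), (34, 1)],
    [(2, 1), (3, 1), (4, 1), (10, 1), (11, 1), (13, 1), (16, 1), (21, 1), (25, 1), (28, 1), (29, 1), (31, 1), (32, 1)],
    [(0, 1), (2, 1), (5, 1), (7, 1), (9, 1), (12, 1), (16, 1), (17, 1), (21, 1), (22, 1), (27, 1), (30, 1), (39, 1), (40, 1), (43, 1), (44, 1)],
    [(7, 1)],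
    [(0, 1), (9, 1), (10, 1), (16, 1), (22, 1), (24, 1)],
    [(0, 1), (9, 1), (16, 1), (20, 1), (21, 1), (22, 1)],
    [(2, 1)],
    [(3, 1), (11, 1), (28, 1)],
    [(0, 1), (9, 1), (16, 1), (22, 1)],
    [(0, 1), (4, 1), (9, 1), (10, 1), (22, 1), (32, 1)],
    [(8, 1)],
    [(18, 1), (23, 1)],
    [(10, 1)],
    [(11, 1)],
    [(0, 1), (2, 1), (9, 1), (16, 1), (21, 1), (22, 1)]]

/-- the combinations -/
def twoCombs : List (List (ℕ × ℤ)) := twoCombs0 ++ twoCombs1 ++ twoCombs2 ++ twoCombs3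

/-- part of the representatives -/
def twoLvlW0_0 : List (List ℕ) :=
  [[2, 1],
    [3, 1],
    [3, 0],
    [6, 1],
    [0],
    [3],
    [8],
    [5],
    [1, 0],
    [],
    [2, 0],
    [6, 0],
    [1],
    [4, 0],
    [2],
    [4]]

/-- the representatives -/
def twoLvlW0_ : List (List ℕ) := twoLvlW0_0

/-- part of the representatives -/
def twoLvlW1_0 : List (List ℕ) :=
  [[1, 2, 3, 4, 5, 6, 7, 8, 10, 11, 12],
    [0, 2, 5, 6, 9, 10, 11, 12],
    [0, 2, 5, 6, 9, 10, 11, 12, 0, 1, 3, 5, 6, 8, 9, 11, 13],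
    [0, 1, 3, 5, 6, 8, 9, 11, 13],
    [0, 1, 3, 5, 6, 8, 9, 11, 13, 1, 2, 3, 4, 5, 6, 7, 8, 10, 11, 12],
    [0, 1, 3, 5, 6, 8, 9, 11, 13, 0, 2, 5, 6, 9, 10, 11, 12],
    [0, 2, 5, 6, 9, 10, 11, 12, 1, 2, 3, 4, 5, 6, 7, 8, 10, 11, 12],
    []]

/-- the representatives -/
def twoLvlW1_ : List (List ℕ) := twoLvlW1_0

/-- part of the representatives -/
def twoLvlW2_0 : List (List ℕ) :=
  [[1, 2, 4, 5, 6, 8, 10, 12, 13, 6, 9, 10, 12, 1, 2, 4, 5],
    [6, 9, 10, 12],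
    [3, 6, 7, 9, 11, 13],
    [1, 2, 4, 5, 6, 8, 10, 12, 13, 6, 9, 10, 12],
    [1, 2, 4, 5, 1, 2, 4, 5, 6, 8, 10, 12, 13],
    [6, 9, 10, 12, 3, 6, 7, 9, 11, 13],
    [1, 2, 3, 4, 5, 6, 7, 8, 9, 12, 13, 6, 9, 10, 12, 1, 2, 4, 5],
    [1, 2, 4, 5],
    [1, 2, 4, 5, 6, 8, 10, 12, 13, 3, 6, 7, 9, 11, 13],
    [6, 9, 10, 12, 1, 2, 4, 5, 3, 6, 7, 9, 11, 13],
    [1, 2, 3, 4, 5, 6, 7, 8, 9, 12, 13, 3, 6, 7, 9, 11, 13],
    [1, 2, 4, 5, 3, 6, 7, 9, 11, 13],
    [],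
    [1, 2, 3, 4, 5, 6, 7, 8, 9, 12, 13, 6, 9, 10, 12],
    [1, 2, 3, 4, 5, 6, 7, 8, 9, 12, 13, 1, 2, 4, 5],
    [6, 9, 10, 12, 1, 2, 4, 5],
    [6, 9, 10, 12, 1, 2, 4, 5, 3, 6, 7, 9, 11, 13, 3, 6, 7, 9, 11, 13],
    [1, 2, 4, 5, 1, 2, 4, 5, 6, 8, 10, 12, 13, 3, 6, 7, 9, 11, 13],
    [6, 9, 10, 12, 1, 2, 3, 4, 5, 6, 7, 8, 9, 12, 13],
    [3, 6, 7, 9, 11, 13, 3, 6, 7, 9, 11, 13],
    [3, 6, 7, 9, 11, 13, 1, 2, 4, 5],
    [1, 2, 4, 5, 6, 8, 10, 12, 13],
    [6, 9, 10, 12, 3, 6, 7, 9, 11, 13, 1, 2, 4, 5],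
    [1, 2, 3, 4, 5, 6, 7, 8, 9, 12, 13],
    [1, 2, 4, 5, 3, 6, 7, 9, 11, 13, 3, 6, 7, 9, 11, 13],
    [6, 9, 10, 12, 1, 2, 3, 4, 5, 6, 7, 8, 9, 12, 13, 1, 2, 4, 5],
    [1, 2, 3, 4, 5, 6, 7, 8, 9, 12, 13, 6, 9, 10, 12, 1, 2, 4, 5, 6, 8, 10, 12, 13],
    [1, 2, 4, 5, 6, 8, 10, 12, 13, 1, 2, 4, 5],
    [6, 9, 10, 12, 1, 2, 4, 5, 6, 8, 10, 12, 13],
    [1, 2, 4, 5, 6, 8, 10, 12, 13, 1, 2, 3, 4, 5, 6, 7, 8, 9, 12, 13],
    [6, 9, 10, 12, 3, 6, 7, 9, 11, 13, 3, 6, 7, 9, 11, 13],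
    [6, 9, 10, 12, 1, 2, 4, 5, 6, 8, 10, 12, 13, 1, 2, 4, 5]]

/-- the representatives -/
def twoLvlW2_ : List (List ℕ) := twoLvlW2_0

/-- part of the representatives -/
def twoLvlW3_0 : List (List ℕ) :=
  [[],
    [11]]

/-- the representatives -/
def twoLvlW3_ : List (List ℕ) := twoLvlW3_0

/-- part of the representatives -/
def twoLvlW4_0 : List (List ℕ) :=
  [[10, 11, 13],
    []]

/-- the representatives -/
def twoLvlW4_ : List (List ℕ) := twoLvlW4_0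

/-- the chain -/
def twoChain : List (List ℤ × List (List ℕ)) := [([0, 0, 2, (-2), 0, 0, (-2), 2, 0, 0, 0, 0, 2, 0, 0, (-2), 0, 0, 0, (-2), 0, 0, 2, 0], twoLvlW0_),
  ([2, 0, (-2), 0, (-2), 0, 0, 2, 2, 0, 0, 2, 0, 0, 0, 0, 0, 0, 0, 2, 0, 0, 2, 0], twoLvlW1_),
  ([0, 0, 0, (-2), 0, 0, (-2), (-2), 2, 0, 0, 2, 0, (-2), 0, 0, 0, (-2), 0, 0, 0, 0, (-2), 0], twoLvlW2_),
  ([0, 0, 0, 0, 0, 0, 0, 2, (-2), 0, 0, (-2), (-2), 0, (-2), 2, 0, 0, 0, 0, 0, 0, 2, 2], twoLvlW3_),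
  ([0, 0, 0, 2, 0, (-2), (-2), 0, 0, 0, 2, 0, 0, 0, (-2), 0, 2, 0, 2, 0, 0, 0, 0, (-2)], twoLvlW4_)]

/-- part of the generators as words -/
def twoWords0 : List (List ℕ) :=
  [[2, 1, 5, 4, 3, 2, 1, 6, 4, 1, 0, 1, 5, 1, 2, 0, 1, 4, 1, 0, 1, 5, 0, 3, 1, 0, 1, 5, 2, 6, 0, 5, 6, 1, 2, 0, 1, 5, 0, 3, 1, 3, 1, 2, 3, 1, 0, 1, 0, 1, 2, 3, 1, 5, 2, 1, 4, 1, 2, 3, 2, 1, 0, 2, 1, 2, 0, 3, 2, 1, 0, 1, 2, 3, 1, 2, 4, 3, 3, 1, 5, 6, 1, 5, 6, 1, 5, 6, 1, 5, 6, 1, 5, 6],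
    [1, 6, 3, 1, 2, 3, 4, 1, 2, 3, 2, 0, 1, 6, 4, 3, 2, 1, 3, 1, 2, 3, 2, 1, 0, 2, 1, 2, 0, 3, 2, 1, 0, 1, 2, 3, 1, 2, 3, 1, 2, 0, 5, 1, 5, 4, 6, 1, 6, 5, 1, 0, 2, 6, 1, 3, 5, 0, 2, 1, 0, 6, 0, 3, 1, 2, 6, 5, 1, 2, 6, 5, 3, 1, 4, 1, 0, 3, 2, 0, 1, 5, 0, 1, 0, 2, 3, 2, 1, 0, 2, 1, 2, 0, 3, 2, 1, 0, 1, 2, 3, 1, 2, 3, 4],
    [1, 6, 2, 3, 4, 1, 2, 3, 2, 1, 6, 4, 2, 1, 0, 2, 1, 2, 0, 3, 2, 1, 0, 1, 2, 3, 1, 2, 3, 4, 5, 4, 1, 0, 3, 2, 1, 6, 0, 4, 2, 6, 1, 0, 1, 0, 5, 1, 3, 1, 3, 2, 5, 3, 5, 4, 1, 2, 4, 0, 1, 5, 0, 3, 1, 0, 1],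
    [1, 6, 4, 1, 0, 1, 2, 3, 1, 2, 0, 1, 6, 2, 3, 2, 1, 4, 1, 0, 1, 5, 0, 3, 1, 0, 2, 0, 5, 1, 5, 4, 0, 3, 1, 0, 1, 4, 2, 0, 4, 2, 4, 2, 1, 5, 0, 1, 0, 1, 5, 3, 2, 1, 0, 1, 5, 0, 3, 1, 0, 1, 2, 3, 2, 1, 0, 2, 1, 2, 0, 3, 2, 1, 0, 1, 2, 3, 1, 2, 3, 4, 1, 2, 3, 2, 1, 0, 2, 1, 2, 0, 3, 2, 1, 0, 1, 2, 3, 1, 2, 3, 3, 3],
    [4, 0, 1, 5, 0, 3, 1, 0, 1, 2, 0, 3, 2, 4, 5, 3, 2, 5, 4, 1, 0, 1, 5, 0, 3, 1, 0, 2, 3, 2, 4, 3, 4]]

/-- part of the generators as words -/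
def twoWords1 : List (List ℕ) :=
  [[1, 2, 0, 1, 6, 5, 3, 1, 2, 3, 4, 1, 2, 3, 2, 1, 6, 3, 5, 1, 4, 0, 1, 4, 3, 0, 4, 1, 4, 5, 1, 3, 6, 2, 0, 5, 3, 6, 4, 1, 6, 2, 3, 2, 0, 5, 6, 1, 3, 2, 3, 6, 1, 4, 1, 2, 5, 3, 5, 6, 2, 4, 2, 1, 3, 0, 2, 5, 1, 2, 5, 2, 3, 2, 1, 2, 0, 1, 4, 0, 1, 5, 6, 5, 6, 5, 0, 3, 2, 1, 3, 5, 1, 2, 1, 2, 1, 0, 1, 5, 0, 3, 1, 0, 6, 3, 2, 4, 3, 5, 2, 6, 1, 3, 1, 2, 3, 2, 1, 0, 2, 1, 2, 0, 3, 2, 1, 0, 1, 2, 3, 1, 2, 4, 0, 1, 5, 0, 1, 0, 1, 3, 2, 0, 1, 5, 0, 1, 0, 2, 3, 2, 1, 0, 2, 1, 2, 0, 3, 2, 1, 0, 1, 2, 3, 1, 2, 3, 4, 3, 1, 2, 3, 2, 1, 0, 2, 1, 2, 0, 3, 2, 1, 0, 1, 2, 3, 1, 2],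
    [1, 5, 6, 1, 2, 0, 1, 5, 1, 0, 3, 2, 4, 1, 6, 5, 4, 3, 6, 3, 5, 3, 1, 6, 3, 0, 4, 2, 1, 5, 6, 2, 4, 1, 5, 6, 2, 0, 3, 2, 1, 0, 4, 3, 1, 2, 3, 2, 1, 4, 5, 0, 1, 2, 5, 3, 2, 4, 1, 2, 3, 2, 0, 5, 1, 4, 2, 3, 1, 3, 1, 0, 1, 4, 3, 4, 3, 3, 1, 5, 6, 1, 5, 6, 1, 5, 6, 1, 5, 6, 1, 5, 6, 1, 5, 6, 1, 5, 6, 1, 5, 6, 1, 5, 6, 1, 5, 6],
    [1, 6, 4, 1, 0, 1, 2, 3, 1, 2, 0, 1, 6, 2, 3, 2, 0, 5, 1, 4, 0, 1, 2, 3, 4, 2, 5, 1, 0, 1, 5, 0, 3, 1, 0, 3, 1, 2, 3, 2, 1, 0, 2, 1, 2, 0, 3, 2, 1, 0, 1, 2, 3, 1, 2, 4, 3, 3],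
    [1, 5, 6, 1, 2, 0, 1, 5, 1, 0, 3, 2, 4, 1, 6, 5, 4, 3, 6, 3, 5, 3, 1, 6, 3, 0, 4, 2, 1, 5, 6, 2, 4, 1, 5, 6, 2, 0, 3, 2, 5, 0, 3, 1, 0, 1, 4, 6, 5, 2, 1, 5, 0, 1, 0, 1, 2, 3, 4, 2, 6, 1, 2, 3, 2, 1, 0, 2, 1, 2, 0, 3, 2, 1, 0, 1, 2, 3, 1, 2, 4, 0, 1, 5, 0, 1, 0, 1, 3, 2, 1, 0, 1, 5, 0, 3, 1, 0, 3, 3, 1, 5, 6, 1, 5, 6, 1, 5, 6, 1, 5, 6, 1, 5, 6],
    [3, 2, 1, 5, 6, 3, 1, 2, 0, 1, 5, 1, 0, 3, 2, 4, 1, 6, 5, 4, 3, 6, 3, 5, 3, 1, 6, 3, 0, 4, 2, 1, 5, 6, 2, 4, 1, 5, 6, 2, 0, 3, 2, 1, 0, 1, 2, 3, 2, 1, 0, 2, 1, 2, 0, 3, 2, 1, 0, 1, 2, 3, 1, 2, 3, 4, 3, 0, 2, 1, 5, 0, 1, 0, 1, 6, 4, 5, 6, 2, 0, 3, 0, 2, 4, 1, 0, 1, 5, 0, 3, 1, 0, 4, 1, 2, 3, 2, 1, 0, 2, 1, 2, 0, 3, 2, 1, 0, 1, 2, 3, 1, 2, 3, 1, 5, 6, 1, 5, 6, 1, 5, 6, 1, 5, 6, 1, 5, 6, 1, 5, 6, 1, 5, 6, 1, 5, 6, 1, 5, 6, 1, 5, 6]]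

/-- part of the generators as words -/
def twoWords2 : List (List ℕ) :=
  [[6, 3, 1, 2, 3, 2, 1, 0, 2, 1, 2, 0, 3, 2, 1, 0, 1, 2, 3, 1, 2, 4, 3, 0, 2, 3, 4, 1, 2, 3, 2, 1, 0, 2, 1, 2, 0, 3, 2, 1, 0, 1, 2, 3, 1, 2, 3],
    [6, 3, 1, 2, 3, 2, 1, 0, 2, 1, 2, 0, 3, 2, 1, 0, 1, 2, 3, 1, 2, 4, 5, 3, 2, 3, 2, 4, 1, 2, 3, 2, 1, 0, 2, 1, 2, 0, 3, 2, 1, 0, 1, 2, 3, 1, 2, 3],
    [3, 3],
    [0],
    [1, 6, 3, 2, 3, 4, 1, 2, 3, 2, 1, 6, 4, 3, 2, 1, 3, 1, 2, 3, 2, 1, 0, 2, 1, 2, 0, 3, 2, 1, 0, 1, 2, 3, 1, 2, 0, 1, 5, 0, 3, 1, 0, 1, 2, 4, 3, 2, 0, 1, 0, 1, 0, 5, 1, 0, 1, 2, 3, 2, 1, 0, 2, 1, 2, 0, 3, 2, 1, 0, 1, 2, 3, 1, 2, 3, 4]]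

/-- part of the generators as words -/
def twoWords3 : List (List ℕ) :=
  [[1, 6, 2, 1, 5, 3, 2, 3, 4, 3, 1, 2, 3, 1, 2, 0, 1, 6, 1, 0, 2, 3, 2, 1, 0, 1, 2, 3, 2, 1, 0, 2, 1, 2, 0, 3, 2, 1, 0, 1, 2, 3, 1, 2, 3, 4, 3, 4, 2, 3, 0, 4, 5, 0, 2, 1, 5, 0, 3, 2, 3, 4, 3, 0, 1, 2, 1, 0, 4, 1, 3, 0, 2, 1, 0, 4, 2, 3, 5, 3, 1, 2, 3, 1, 0, 1, 0, 1, 2, 3, 1, 5, 2, 1, 4, 3, 1, 2, 3, 2, 1, 0, 2, 1, 2, 0, 3, 2, 1, 0, 1, 2, 3, 1, 2, 3, 4, 1, 2, 3, 2, 1, 0, 2, 1, 2, 0, 3, 2, 1, 0, 1, 2, 3, 1, 2, 3],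
    [1, 6, 1, 0, 1, 2, 3, 1, 2, 0, 1, 6, 2, 3, 2, 1, 5, 0, 2, 3, 1, 2, 3, 1, 0, 1, 0, 1, 2, 1, 3, 2, 5, 3, 1, 4, 3, 5, 1, 5, 0, 1, 0, 1, 2, 3, 4, 2],
    [1, 6, 3, 2, 1, 5, 0, 1, 2, 3, 2, 1, 6, 1, 2, 3, 2, 1, 4, 3, 1, 2, 3, 2, 1, 0, 2, 1, 2, 0, 3, 2, 1, 0, 1, 2, 3, 1, 2, 1, 2, 1, 0, 4, 1, 3, 2, 0, 1, 2, 0, 1, 3, 4, 1, 2, 0, 3, 5, 1, 2, 5, 0, 1, 5, 0, 1, 0, 1, 3, 1, 2, 3, 2, 1, 0, 2, 1, 2, 0, 3, 2, 1, 0, 1, 2, 3, 1, 2],
    [1, 6, 3, 1, 2, 3, 4, 1, 2, 3, 2, 1, 6, 4, 3, 2, 1, 3, 1, 2, 3, 2, 1, 0, 2, 1, 2, 0, 3, 2, 1, 0, 1, 2, 3, 1, 2, 4, 1, 2, 5, 1, 0, 1, 4, 5, 4, 2, 3, 1, 0, 2, 1, 4, 1, 4, 5, 0, 1, 5, 0, 3, 1, 0, 1, 3, 1, 2, 3, 5, 1, 4, 2, 3, 2, 5, 3, 5, 4, 5, 0, 4, 5, 1, 5, 4, 3, 2, 1, 2, 5, 3, 1, 2, 3, 1, 0, 1, 0, 1, 2, 3, 1, 5, 2, 1, 4, 1, 2, 3, 2, 1, 0, 2, 1, 2, 0, 3, 2, 1, 0, 1, 2, 3, 1, 2]]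

/-- the generators as words -/
def twoWords : List (List ℕ) := twoWords0 ++ twoWords1 ++ twoWords2 ++ twoWords3

/-- the certificate -/
def twoCert : Cert where
  p := 2
  n := 14
  ng := 19
  M := 105
  rels := twoRels
  eqs := twoEqs
  vecs := twoVecs
  gauge := twoGauge
  combs := twoCombs

end Cfsg.Agent.Lie.SuzukiMult
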