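import Cfsg.Agent.Lib.Lie.SuzukiMult.Defs
import Cfsg.Agent.Lib.Lie.SuzukiMult.GensData
import Cfsg.Agent.Lib.Lie.SuzukiMult.TwoData
import Cfsg.Agent.Lib.Lie.SuzukiMult.TwoShare0
import Cfsg.Agent.Lib.Lie.SuzukiMult.TwoShare1
import Cfsg.Agent.Lib.Lie.ConwayZeroMult.Pieces

/-!
The checks for the part at one prime (two) of the multiplier of the Suzuki group: the derivations and the combinations.
-/

set_option autoImplicit false
set_option maxRecDepth 100000
set_option Elab.async false

namespace Cfsg.Agent.Lie.SuzukiMult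

open CentralRewrite ConwayZeroMult

theorem two_series : seriesOK twoCert.p twoCert.n twoCert.M twoCert.rels = true := by decide +kernel

theorem two_eqs_len : twoCert.eqs.length = 121 := by decide +kernel

theorem two_pairs :
    (List.range twoCert.eqs.length).all (fun i => pairOK twoCert.rels (twoCert.eqs.getD i ([], [], []))) = true := by
  rw [two_eqs_len, List.all_eq_true]
  intro i hi
  rw [List.mem_range] at hi
  by_cases h0 : i < 82
  · exact List.all_eq_true.1 two_pairs0 i (List.mem_range'_1.2 ⟨by omega, by omega⟩)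
  by_cases h1 : i < 90
  · exact List.all_eq_true.1 two_pairs1 i (List.mem_range'_1.2 ⟨by omega, by omega⟩)
  by_cases h2 : i < 98
  · exact List.all_eq_true.1 two_pairs2 i (List.mem_range'_1.2 ⟨by omega, by omega⟩)
  by_cases h3 : i < 100
  · exact List.all_eq_true.1 two_pairs3 i (List.mem_range'_1.2 ⟨by omega, by omega⟩)
  by_cases h4 : i < 102
  · exact List.all_eq_true.1 two_pairs4 i (List.mem_range'_1.2 ⟨by omega, by omega⟩)
  by_cases h5 : i < 104
  · exact List.all_eq_true.1 two_pairs5 i (List.mem_range'_1.2 ⟨by omega, by omega⟩)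
  by_cases h6 : i < 106
  · exact List.all_eq_true.1 two_pairs6 i (List.mem_range'_1.2 ⟨by omega, by omega⟩)
  by_cases h7 : i < 109
  · exact List.all_eq_true.1 two_pairs7 i (List.mem_range'_1.2 ⟨by omega, by omega⟩)
  by_cases h8 : i < 112
  · exact List.all_eq_true.1 two_pairs8 i (List.mem_range'_1.2 ⟨by omega, by omega⟩)
  by_cases h9 : i < 115
  · exact List.all_eq_true.1 two_pairs9 i (List.mem_range'_1.2 ⟨by omega, by omega⟩)
  exact List.all_eq_true.1 two_pairs10 i (List.mem_range'_1.2 ⟨by omega, by omega⟩)

theorem two_vec : vecOK twoCert.p twoCert.rels.length twoCert.eqs twoCert.vecs = true := by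
  unfold vecOK
  rw [two_eqs_len, List.all_eq_true]
  intro i hi
  rw [List.mem_range] at hi
  by_cases h0 : i < 82
  · exact List.all_eq_true.1 two_vec0 i (List.mem_range'_1.2 ⟨by omega, by omega⟩)
  by_cases h1 : i < 90
  · exact List.all_eq_true.1 two_vec1 i (List.mem_range'_1.2 ⟨by omega, by omega⟩)
  by_cases h2 : i < 98
  · exact List.all_eq_true.1 two_vec2 i (List.mem_range'_1.2 ⟨by omega, by omega⟩)
  by_cases h3 : i < 100
  · exact List.all_eq_true.1 two_vec3 i (List.mem_range'_1.2 ⟨by omega, by omega⟩)
  by_cases h4 : i < 102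
  · exact List.all_eq_true.1 two_vec4 i (List.mem_range'_1.2 ⟨by omega, by omega⟩)
  by_cases h5 : i < 104
  · exact List.all_eq_true.1 two_vec5 i (List.mem_range'_1.2 ⟨by omega, by omega⟩)
  by_cases h6 : i < 106
  · exact List.all_eq_true.1 two_vec6 i (List.mem_range'_1.2 ⟨by omega, by omega⟩)
  by_cases h7 : i < 109
  · exact List.all_eq_true.1 two_vec7 i (List.mem_range'_1.2 ⟨by omega, by omega⟩)
  by_cases h8 : i < 112
  · exact List.all_eq_true.1 two_vec8 i (List.mem_range'_1.2 ⟨by omega, by omega⟩)
  by_cases h9 : i < 115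
  · exact List.all_eq_true.1 two_vec9 i (List.mem_range'_1.2 ⟨by omega, by omega⟩)
  exact List.all_eq_true.1 two_vec10 i (List.mem_range'_1.2 ⟨by omega, by omega⟩)

theorem two_kill0 : ((List.range' 0 21).all fun b =>
    killOK twoCert.p twoCert.rels.length twoCert.ng twoCert.rels twoCert.gauge twoCert.vecs twoCert.combs b) = true := by
  decide +kernel

theorem two_kill1 : ((List.range' 21 21).all fun b =>
    killOK twoCert.p twoCert.rels.length twoCert.ng twoCert.rels twoCert.gauge twoCert.vecs twoCert.combs b) = true := by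
  decide +kernel

theorem two_kill2 : ((List.range' 42 21).all fun b =>
    killOK twoCert.p twoCert.rels.length twoCert.ng twoCert.rels twoCert.gauge twoCert.vecs twoCert.combs b) = true := by
  decide +kernel

theorem two_kill3 : ((List.range' 63 21).all fun b =>
    killOK twoCert.p twoCert.rels.length twoCert.ng twoCert.rels twoCert.gauge twoCert.vecs twoCert.combs b) = true := by
  decide +kernel

theorem two_kill4 : ((List.range' 84 21).all fun b =>
    killOK twoCert.p twoCert.rels.length twoCert.ng twoCert.rels twoCert.gauge twoCert.vecs twoCert.combs b) = true := by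
  decide +kernel

theorem two_valid : twoCert.Valid where
  series := two_series
  pairs := two_pairs
  vec := two_vec
  veclen := by decide +kernel
  letters := by decide +kernel
  gaugeOK := by decide +kernel
  nng := by decide +kernel
  kill := fun b hb => by
    change b < 105 at hb
    obtain ⟨j, hj, h1, h2⟩ : ∃ j < 5, 21 * j ≤ b ∧ b < 21 * j + 21 := ⟨b / 21, by omega, by omega, by omega⟩
    interval_cases j
    · exact List.all_eq_true.1 two_kill0 b (List.mem_range'_1.2 ⟨by omega, by omega⟩)
    · exact List.all_eq_true.1 two_kill1 b (List.mem_range'_1.2 ⟨by omega, by omega⟩)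
    · exact List.all_eq_true.1 two_kill2 b (List.mem_range'_1.2 ⟨by omega, by omega⟩)
    · exact List.all_eq_true.1 two_kill3 b (List.mem_range'_1.2 ⟨by omega, by omega⟩)
    · exact List.all_eq_true.1 two_kill4 b (List.mem_range'_1.2 ⟨by omega, by omega⟩)

end Cfsg.Agent.Lie.SuzukiMult
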