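import Cfsg.Agent.Lib.Lie.SuzukiMult.Cover
import Cfsg.Agent.Lib.Lie.SuzukiMult.TwoCheck
import Cfsg.Agent.Lib.Lie.SuzukiMult.TwoMats
import Cfsg.Agent.Lib.Lie.SuzukiMult.ThreeCheck
import Cfsg.Agent.Lib.Lie.SuzukiMult.ThreeMats
import Cfsg.Agent.Lib.Lie.SuzukiMult.FiveCheck
import Cfsg.Agent.Lib.Lie.SuzukiMult.FiveMats
import Cfsg.Agent.Lib.Lie.CentralLocal
import Cfsg.Agent.Lib.Lie.CentralStage

/-!
The sixfold cover of the Suzuki group has trivial multiplier, so that of the group itself is cyclic of order six.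
-/

set_option autoImplicit false
set_option maxRecDepth 100000

namespace Cfsg.Agent.Lie.SuzukiMult

open Cfsg Cfsg.Agent.Spor CentralRewrite ConwayZeroMult
open scoped commutatorElement

theorem stem_trivial {g : ℕ → ↥Co0} (hg : Acts suzW g)
    (hN : Nat.card (Subgroup.closure (g '' Set.Ico 0 7)) = 2690072985600) {Γ : Type} [Group Γ] [Finite Γ]
    {σ : Γ →* ↥(Subgroup.closure (g '' Set.Ico 0 7))} (hσ : Cfsg.IsStemExtension σ) : σ.ker = ⊥ := by
  haveI := co0_finite
  have hH : ∀ j < suzW.length, g j ∈ Subgroup.closure (g '' Set.Ico 0 7) := fun j hj =>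
    Subgroup.subset_closure ⟨j, ⟨Nat.zero_le j, lt_of_lt_of_eq hj (by decide +kernel)⟩, rfl⟩
  have hno : ∀ q, q.Prime → ∀ z : σ.ker, z ^ q = 1 → z = 1 := by
    intro q hq z hz
    by_cases hsm : q = 2 ∨ q = 3 ∨ q = 5
    · by_contra hne
      obtain ⟨Δ, _, _, τ, hτ, hcard⟩ := CentralLocal.exists_stem_of_prime hσ hq hz hne
      rcases hsm with rfl | rfl | rfl
      · exact no_kernel_sub two_valid hq hg _ hH hN two_mats two_len two_members two_rels two_chain two_size
          two_index hτ hcard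
      · exact no_kernel_sub three_valid hq hg _ hH hN three_mats three_len three_members three_rels three_chain
          three_size three_index hτ hcard
      · exact no_kernel_sub five_valid hq hg _ hH hN five_mats five_len five_members five_rels five_chain five_size
          five_index hτ hcard
    refine CentralTable.ker_no_torsion hσ hq (fun h => ?_) z hz
    rw [hN, show (2690072985600 : ℕ) = 2 ^ 14 * 3 ^ 8 * 5 ^ 2 * 7 * 11 * 13 by norm_num] at h
    have hdvd : q ∣ 2 ^ 14 * 3 ^ 8 * 5 ^ 2 * 7 * 11 * 13 := (dvd_pow_self q two_ne_zero).trans h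
    simp only [hq.dvd_mul] at hdvd
    have key : ∀ p : ℕ, p.Prime → q ∣ p → q = p := fun p hp e => (Nat.prime_dvd_prime_iff_eq hq hp).1 e
    rcases hdvd with ((((e | e) | e) | e) | e) | e
    · exact hsm (Or.inl (key 2 Nat.prime_two (hq.dvd_of_dvd_pow e)))
    · exact hsm (Or.inr (Or.inl (key 3 Nat.prime_three (hq.dvd_of_dvd_pow e))))
    · exact hsm (Or.inr (Or.inr (key 5 Nat.prime_five (hq.dvd_of_dvd_pow e))))
    all_goals
      obtain rfl := key _ (by norm_num) e
      norm_num at h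
  rw [Subgroup.eq_bot_iff_forall]
  intro k hk
  by_contra hne
  have hne' : (⟨k, hk⟩ : σ.ker) ≠ 1 := fun e => hne (congrArg Subtype.val e)
  have hpos : orderOf (⟨k, hk⟩ : σ.ker) ≠ 1 := fun e => hne' (orderOf_eq_one_iff.1 e)
  obtain ⟨q, hq, hd⟩ := Nat.exists_prime_and_dvd hpos
  have hord : orderOf ((⟨k, hk⟩ : σ.ker) ^ (orderOf (⟨k, hk⟩ : σ.ker) / q)) = q :=
    orderOf_pow_orderOf_div (orderOf_pos _).ne' hd
  have h1 := hno q hq _ (hord ▸ pow_orderOf_eq_one _)
  rw [h1, orderOf_one] at hord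
  exact hq.one_lt.ne hord

/-- The statement on the group of the definitions. -/
theorem multiplier : Cfsg.HasCyclicSchurMultiplier Cfsg.Spor.Suz 6 := by
  haveI := co0_finite
  haveI : Finite Cfsg.Spor.Suz := SuzCert.order.1
  obtain ⟨g, hg, hN, π, hπ, h6, hcyc⟩ := exists_cover
  have hperf : commutator ↥(Subgroup.closure (g '' Set.Ico 0 7)) = ⊤ := CoverUniversal.perfect_of_stem commutator_suz hπ
  refine CoverUniversal.hasSchur_of commutator_suz
    ⟨↥(Subgroup.closure (g '' Set.Ico 0 7)), inferInstance, inferInstance, π, hπ, ⟨?_⟩⟩ ?_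
  · have := (zmodCyclicMulEquiv hcyc).symm
    rw [h6] at this
    exact this
  intro Γ _ _ σ hσ
  obtain ⟨D, _, _, ψ, φ, hD, hψ, hcomm, hc⟩ := Solv.exists_common_cover (Group.isPerfect_def.2 commutator_suz)
    (Group.isPerfect_def.2 hperf) π hπ.1 hπ.2.1 σ hσ.1 hσ.2.1
  have hψs : Cfsg.IsStemExtension ψ := ⟨hψ, fun x hx => hc (by
    rw [MonoidHom.mem_ker] at hx
    rw [MonoidHom.mem_ker, MonoidHom.comp_apply, hx, map_one]), by
    rw [Group.IsPerfect.commutator_eq_top]; exact le_top⟩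
  have hDle : Nat.card D ≤ Nat.card ↥(Subgroup.closure (g '' Set.Ico 0 7)) :=
    Nat.card_le_card_of_injective ψ ((MonoidHom.ker_eq_bot_iff ψ).1 (stem_trivial hg hN hψs))
  have hφ : Function.Surjective φ := by
    rw [← MonoidHom.range_eq_top, ← top_le_iff, ← CoverUniversal.perfect_of_stem commutator_suz hσ, commutator_def,
      Subgroup.commutator_le]
    intro a _ b _
    obtain ⟨x, hx⟩ := (hπ.1.comp hψ) (σ a)
    obtain ⟨y, hy⟩ := (hπ.1.comp hψ) (σ b)
    have e : ∀ d, σ (φ d) = π (ψ d) := fun d => (DFunLike.congr_fun hcomm d).symm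
    obtain ⟨z, hz, rfl⟩ := CentralTable.exists_central hσ.2.1 (x := a) (y := φ x) (by rw [e]; exact hx.symm)
    obtain ⟨w, hw, rfl⟩ := CentralTable.exists_central hσ.2.1 (x := b) (y := φ y) (by rw [e]; exact hy.symm)
    refine ⟨⁅x, y⁆, ?_⟩
    rw [map_commutatorElement, commutatorElement_def, commutatorElement_def, mul_inv_rev, mul_inv_rev]
    symm
    calc φ x * z * (φ y * w) * (z⁻¹ * (φ x)⁻¹) * (w⁻¹ * (φ y)⁻¹)
        = φ x * (z * (φ y * w) * z⁻¹) * (φ x)⁻¹ * (w⁻¹ * (φ y)⁻¹) := by group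
      _ = φ x * (φ y * w) * (φ x)⁻¹ * (w⁻¹ * (φ y)⁻¹) := by rw [hz, mul_inv_cancel_right]
      _ = φ x * φ y * (w * (φ x)⁻¹ * w⁻¹) * (φ y)⁻¹ := by group
      _ = φ x * φ y * (φ x)⁻¹ * (φ y)⁻¹ := by rw [hw, mul_inv_cancel_right]
  have hΓ := (Nat.card_le_card_of_surjective φ hφ).trans hDle
  rw [← Subgroup.card_mul_index σ.ker, Subgroup.index_ker, MonoidHom.range_eq_top.2 hσ.1, Subgroup.card_top,
    show Nat.card Cfsg.Spor.Suz = 448345497600 from SuzCert.order.2.1, hN] at hΓ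
  rw [show Nat.card (Multiplicative (ZMod 6)) = 6 by simp]
  omega

end Cfsg.Agent.Lie.SuzukiMult
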